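import Mathlib
import Cfsg.Agent.Classical.SL
import Cfsg.Agent.Frobenius.UniqueSubgroup

/-! Elements and subgroups of `SL₂` of order prime to the characteristic. -/

set_option autoImplicit false
set_option linter.unusedVariables false

open Matrix
open scoped MatrixGroups

namespace Cfsg.Lib.Classical.SLTwoTori

universe u

variable {F : Type u} [Field F]

/-- The extension of scalars to an algebraic closure. -/
noncomputable def ext (g : SL(2, F)) : Matrix (Fin 2) (Fin 2) (AlgebraicClosure F) :=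
  (g : Matrix (Fin 2) (Fin 2) F).map (algebraMap F _)

theorem ext_mul (g h : SL(2, F)) : ext (g * h) = ext g * ext h := by
  simp [ext, Matrix.map_mul]

theorem ext_one : ext (1 : SL(2, F)) = 1 := by simp [ext]

/-- A commuting set has a common eigenvector over the algebraic closure. -/
theorem exists_eigen (A : Subgroup SL(2, F)) (hA : ∀ a ∈ A, ∀ b ∈ A, a * b = b * a) :
    ∃ v : Fin 2 → AlgebraicClosure F, v ≠ 0 ∧ ∀ a ∈ A, ∃ c : AlgebraicClosure F, ext a *ᵥ v = c • v := by
  by_cases hs : ∀ a ∈ A, ∃ c : AlgebraicClosure F, ext a = c • (1 : Matrix (Fin 2) (Fin 2) _)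
  · refine ⟨Pi.single 0 1, fun h => one_ne_zero (α := AlgebraicClosure F) (by simpa using congrFun h 0), fun a ha => ?_⟩
    obtain ⟨c, hc⟩ := hs a ha
    exact ⟨c, by rw [hc, Matrix.smul_mulVec, Matrix.one_mulVec]⟩
  push Not at hs
  obtain ⟨z, hz, hzs⟩ := hs
  set Z : Module.End (AlgebraicClosure F) (Fin 2 → AlgebraicClosure F) := Matrix.toLin' (ext z)
  obtain ⟨μ, hμ⟩ := Module.End.exists_eigenvalue Z
  obtain ⟨v, hv⟩ := hμ.exists_hasEigenvector
  refine ⟨v, hv.2, fun a ha => ?_⟩
  have hne : Module.End.eigenspace Z μ ≠ ⊤ := by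
    intro h
    refine hzs μ ?_
    apply Matrix.toLin'.injective
    refine LinearMap.ext fun x => ?_
    have := Module.End.mem_eigenspace_iff.mp (h ▸ Submodule.mem_top (x := x) : x ∈ Module.End.eigenspace Z μ)
    rw [show Matrix.toLin' (ext z) x = μ • x from this, Matrix.toLin'_apply, Matrix.smul_mulVec, Matrix.one_mulVec]
  have hdim : Module.finrank (AlgebraicClosure F) (Module.End.eigenspace Z μ) ≤ 1 := by
    have := Submodule.finrank_lt hne
    simp at this
    omega
  have hmem : ext a *ᵥ v ∈ Module.End.eigenspace Z μ := by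
    rw [Module.End.mem_eigenspace_iff]
    change ext z *ᵥ (ext a *ᵥ v) = μ • (ext a *ᵥ v)
    rw [Matrix.mulVec_mulVec, ← ext_mul, hA z hz a ha, ext_mul, ← Matrix.mulVec_mulVec]
    have hv1 := Module.End.mem_eigenspace_iff.mp hv.1
    change ext z *ᵥ v = μ • v at hv1
    rw [hv1, Matrix.mulVec_smul]
  obtain ⟨w, hw⟩ := finrank_le_one_iff.mp hdim
  obtain ⟨c₁, hc₁⟩ := hw ⟨v, hv.1⟩
  obtain ⟨c₂, hc₂⟩ := hw ⟨_, hmem⟩
  have h1 : c₁ • (w : Fin 2 → AlgebraicClosure F) = v := congrArg Subtype.val hc₁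
  have h2 : c₂ • (w : Fin 2 → AlgebraicClosure F) = ext a *ᵥ v := congrArg Subtype.val hc₂
  have hc0 : c₁ ≠ 0 := fun h => hv.2 (by rw [← h1, h, zero_smul])
  exact ⟨c₂ / c₁, by rw [← h2]; conv_rhs => rw [← h1, smul_smul, div_mul_cancel₀ _ hc0]⟩

theorem eq_one_of_fixed (p : ℕ) [Fact p.Prime] [CharP F p] {g : SL(2, F)} {v : Fin 2 → AlgebraicClosure F}
    (hv : v ≠ 0) (hg : ext g *ᵥ v = v) (hc : Nat.Coprime (orderOf g) p) : g = 1 := by
  have hdet : (ext g - 1).det = 0 := by
    refine Matrix.exists_mulVec_eq_zero_iff.mp ⟨v, hv, ?_⟩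
    rw [Matrix.sub_mulVec, hg, Matrix.one_mulVec, sub_self]
  set W : Matrix (Fin 2) (Fin 2) F := (g : Matrix (Fin 2) (Fin 2) F) with hW
  have hd : W.det = 1 := g.2
  have hd' : (W - 1).det = 0 := by
    apply (algebraMap F (AlgebraicClosure F)).injective
    rw [map_zero, RingHom.map_det, ← hdet]
    congr 1
    simp [ext, hW, Matrix.map_sub]
  rw [Matrix.det_fin_two] at hd hd'
  simp only [Matrix.sub_apply, Matrix.one_apply_eq, Matrix.one_apply_ne (show (0 : Fin 2) ≠ 1 by decide),
    Matrix.one_apply_ne (show (1 : Fin 2) ≠ 0 by decide), sub_zero] at hd'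
  have htr : W 0 0 + W 1 1 = 2 := by linear_combination hd - hd'
  have hnil : (W - 1) * (W - 1) = 0 := by
    ext i j
    fin_cases i <;> fin_cases j <;>
      simp [Matrix.mul_apply, Fin.sum_univ_two, Matrix.sub_apply]
    · linear_combination (W 0 0) * htr - hd + (0 : F) * htr - htr + htr - hd * 0
    · linear_combination W 0 1 * htr
    · linear_combination W 1 0 * htr
    · linear_combination (W 1 1) * htr - hd
  have hp2 := (Fact.out : p.Prime).two_le
  have hpow : g ^ p = 1 := by
    apply Subtype.ext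
    rw [Matrix.SpecialLinearGroup.coe_pow, Matrix.SpecialLinearGroup.coe_one, ← hW,
      show W = 1 + (W - 1) by abel, add_pow_char_of_commute p (Commute.one_left _), one_pow,
      show p = 2 + (p - 2) by omega, pow_add, pow_two, hnil, zero_mul, add_zero]
  exact orderOf_eq_one_iff.mp (Nat.eq_one_of_dvd_coprimes hc dvd_rfl (orderOf_dvd_of_pow_eq_one hpow))

theorem exists_char (p : ℕ) [Fact p.Prime] [CharP F p] [Finite F] (A : Subgroup SL(2, F))
    (hA : ∀ a ∈ A, ∀ b ∈ A, a * b = b * a) (hp : ∀ a ∈ A, Nat.Coprime (orderOf a) p) :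
    ∃ (v : Fin 2 → AlgebraicClosure F) (f : A →* AlgebraicClosure F), v ≠ 0 ∧ Function.Injective f ∧
      ∀ a : A, ext a.1 *ᵥ v = f a • v := by
  obtain ⟨v, hv, hev⟩ := exists_eigen A hA
  choose c hc using hev
  let f : A →* AlgebraicClosure F :=
    { toFun := fun a => c a.1 a.2
      map_one' := by
        have := hc 1 A.one_mem
        rw [ext_one, Matrix.one_mulVec] at this
        exact (smul_left_injective _ hv (this.symm.trans (one_smul _ v).symm) :)
      map_mul' := fun a b => by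
        have := hc (a.1 * b.1) (A.mul_mem a.2 b.2)
        rw [ext_mul, ← Matrix.mulVec_mulVec, hc _ b.2, Matrix.mulVec_smul, hc _ a.2, smul_smul] at this
        rw [mul_comm (c a.1 a.2)]
        exact (smul_left_injective _ hv this.symm :) }
  refine ⟨v, f, hv, fun a b hab => ?_, fun a => hc a.1 a.2⟩
  have h1 : f (a * b⁻¹) = 1 := by
    rw [map_mul, hab, ← map_mul, mul_inv_cancel, map_one]
  have := hc (a * b⁻¹).1 (a * b⁻¹).2
  rw [show c (a * b⁻¹).1 (a * b⁻¹).2 = 1 from h1, one_smul] at this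
  exact mul_inv_eq_one.mp (Subtype.ext (eq_one_of_fixed p hv this (hp _ (a * b⁻¹).2)))

theorem isCyclic_of_comm (p : ℕ) [Fact p.Prime] [CharP F p] [Finite F] (A : Subgroup SL(2, F))
    (hA : ∀ a ∈ A, ∀ b ∈ A, a * b = b * a) (hp : ∀ a ∈ A, Nat.Coprime (orderOf a) p) : IsCyclic A := by
  obtain ⟨v, f, hv, hf, -⟩ := exists_char p A hA hp
  exact isCyclic_of_injective_ringHom f hf

theorem neg_one_sq : (-1 : SL(2, F)) * -1 = 1 := by simp

/-- In odd characteristic `-1` is the only involution. -/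
theorem eq_neg_one (p : ℕ) [Fact p.Prime] [CharP F p] [Finite F] (hp2 : p ≠ 2) {g : SL(2, F)} (h1 : g ≠ 1)
    (h2 : g * g = 1) : g = -1 := by
  haveI := Fact.mk Nat.prime_two
  have h21 : (2 : F) ≠ 0 := by
    intro h
    exact hp2 ((Nat.prime_dvd_prime_iff_eq Fact.out Nat.prime_two).mp
      ((CharP.cast_eq_zero_iff F p 2).mp (by exact_mod_cast h)))
  have hneg : (-1 : SL(2, F)) ≠ 1 := by
    intro h
    have := congrArg (fun m : SL(2, F) => (m : Matrix (Fin 2) (Fin 2) F) 0 0) h
    simp at this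
    exact h21 (by linear_combination -this)
  let A : Subgroup SL(2, F) := Subgroup.closure {g, -1}
  have hA : ∀ a ∈ A, ∀ b ∈ A, a * b = b * a := by
    haveI := Subgroup.isMulCommutative_closure (k := ({g, -1} : Set SL(2, F))) (by
      rintro a (rfl | rfl) b (rfl | rfl) <;> simp)
    intro a ha b hb
    exact congrArg Subtype.val (mul_comm' (⟨a, ha⟩ : A) ⟨b, hb⟩)
  have hA2 : ∀ a ∈ A, a * a = 1 := by
    intro a ha
    induction ha using Subgroup.closure_induction with
    | mem x hx =>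
      rcases hx with rfl | rfl
      · exact h2
      · exact neg_one_sq
    | one => exact one_mul 1
    | mul x y hx hy ihx ihy =>
      rw [mul_assoc, ← mul_assoc y, hA y hy x hx, mul_assoc x y, ← mul_assoc, ihx, one_mul, ihy]
    | inv x _ ih => rw [← _root_.mul_inv_rev, ih, inv_one]
  have hcop : ∀ a ∈ A, Nat.Coprime (orderOf a) p := fun a ha =>
    Nat.Coprime.of_dvd_left (orderOf_dvd_of_pow_eq_one (n := 2) (by rw [pow_two]; exact hA2 a ha))
      ((Nat.coprime_primes Nat.prime_two Fact.out).mpr (Ne.symm hp2))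
  obtain ⟨v, f, hv, hf, -⟩ := exists_char p A hA hcop
  have hval : ∀ a : A, f a = 1 ∨ f a = -1 := fun a =>
    mul_self_eq_one_iff.mp (by rw [← map_mul, show a * a = 1 from Subtype.ext (hA2 a.1 a.2), map_one])
  have hg : g ∈ A := Subgroup.subset_closure (by simp)
  have hn : (-1 : SL(2, F)) ∈ A := Subgroup.subset_closure (by simp)
  have e1 : f ⟨g, hg⟩ = -1 := (hval _).resolve_left fun h => h1 (congrArg Subtype.val (hf (h.trans f.map_one.symm)))
  have e2 : f ⟨-1, hn⟩ = -1 := (hval _).resolve_left fun h => hneg (congrArg Subtype.val (hf (h.trans f.map_one.symm)))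
  exact congrArg Subtype.val (hf (e1.trans e2.symm))

theorem order_dvd (p : ℕ) [Fact p.Prime] [CharP F p] [Fintype F] {g : SL(2, F)}
    (hg : Nat.Coprime (orderOf g) p) :
    orderOf g ∣ Fintype.card F - 1 ∨ orderOf g ∣ Fintype.card F + 1 := by
  obtain ⟨v, f, hv, hf, hfv⟩ := exists_char p (Subgroup.zpowers g)
    (fun a ha b hb => by
      obtain ⟨i, rfl⟩ := ha
      obtain ⟨j, rfl⟩ := hb
      exact zpow_mul_comm g i j)
    (fun a ha => Nat.Coprime.of_dvd_left (orderOf_dvd_of_mem_zpowers ha) hg)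
  set gA : Subgroup.zpowers g := ⟨g, Subgroup.mem_zpowers g⟩
  set l := f gA with hl
  have hl0 : l ≠ 0 := fun h => zero_ne_one (α := AlgebraicClosure F)
    (by rw [← f.map_one, ← mul_inv_cancel gA, map_mul, ← hl, h, zero_mul])
  have hord : orderOf l = orderOf g := by
    rw [hl, orderOf_injective f hf, ← Subgroup.orderOf_coe]
  set W : Matrix (Fin 2) (Fin 2) F := (g : Matrix (Fin 2) (Fin 2) F) with hW
  have hdet : (ext g - Matrix.scalar (Fin 2) l).det = 0 := by
    refine Matrix.exists_mulVec_eq_zero_iff.mp ⟨v, hv, ?_⟩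
    rw [Matrix.sub_mulVec, hfv gA, sub_eq_zero]
    funext i
    rw [Matrix.scalar_apply, Matrix.mulVec_diagonal]
    rfl
  set t : F := W 0 0 + W 1 1
  have hchar : l * l - algebraMap F _ t * l + 1 = 0 := by
    have hd : W.det = 1 := g.2
    rw [Matrix.det_fin_two] at hd
    have hd' := congrArg (algebraMap F (AlgebraicClosure F)) hd
    simp only [map_sub, map_mul, map_one] at hd'
    rw [Matrix.det_fin_two] at hdet
    simp [ext, ← hW, Matrix.scalar_apply] at hdet
    simp only [t, map_add]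
    linear_combination hdet - hd'
  have hq : 0 < Fintype.card F := Fintype.card_pos
  have hfrob : (l ^ Fintype.card F - l) * (l ^ Fintype.card F - l⁻¹) = 0 := by
    obtain ⟨e, he⟩ := FiniteField.card F p
    haveI : ExpChar (AlgebraicClosure F) p := ExpChar.prime Fact.out
    have h := congrArg (fun z : AlgebraicClosure F => z ^ Fintype.card F) hchar
    simp only [he.2] at h ⊢
    rw [add_pow_char_pow, sub_pow_char_pow, one_pow, mul_pow, mul_pow, ← map_pow (algebraMap F (AlgebraicClosure F)), ← he.2,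
      FiniteField.pow_card, zero_pow (by omega)] at h
    rw [← he.2]
    field_simp
    linear_combination l * h - l ^ Fintype.card F * hchar
  rcases mul_eq_zero.mp hfrob with h | h
  · left
    rw [← hord]
    apply orderOf_dvd_of_pow_eq_one
    apply mul_right_cancel₀ hl0
    rw [← pow_succ, Nat.sub_add_cancel hq, one_mul]
    exact sub_eq_zero.mp h
  · right
    rw [← hord]
    apply orderOf_dvd_of_pow_eq_one
    rw [pow_succ, sub_eq_zero.mp h, inv_mul_cancel₀ hl0]

theorem unique_sub (p : ℕ) [Fact p.Prime] [CharP F p] [Finite F] {r : ℕ} [Fact r.Prime] (hr : r ≠ p)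
    (R : Subgroup SL(2, F)) (hR : IsPGroup r R) :
    IsCyclic R ∨ (r = 2 ∧ ∃ n : ℕ, Nonempty (R ≃* QuaternionGroup (2 ^ n))) := by
  refine Cfsg.Lib.UniqueSub.isCyclic_or_quaternion hR fun x y hx hy => ?_
  have hcop : ∀ a : R, Nat.Coprime (orderOf a.1) p := by
    intro a
    obtain ⟨k, hk⟩ := IsPGroup.iff_orderOf.mp hR a
    rw [Subgroup.orderOf_coe, hk]
    exact Nat.Coprime.pow_left k ((Nat.coprime_primes Fact.out Fact.out).mpr hr)
  haveI : Nontrivial R := ⟨⟨x, 1, fun h => (Fact.out : r.Prime).ne_one (by rw [← hx, h, orderOf_one])⟩⟩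
  haveI := hR.center_nontrivial
  obtain ⟨k, hk⟩ := IsPGroup.iff_card.mp (hR.to_subgroup (Subgroup.center R))
  obtain ⟨z, hz⟩ := exists_prime_orderOf_dvd_card' (G := Subgroup.center R) r (by
    rcases Nat.eq_zero_or_pos k with h | h
    · rw [h, pow_zero] at hk; exact absurd hk (Nat.ne_of_gt Finite.one_lt_card)
    · exact hk ▸ dvd_pow_self r (by omega))
  have key : ∀ w : R, orderOf w = r → Subgroup.zpowers (z : R) = Subgroup.zpowers w := by
    intro w hw
    let A : Subgroup R := Subgroup.closure {w, (z : R)}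
    have hA : ∀ a ∈ A, ∀ b ∈ A, a * b = b * a := by
      haveI := Subgroup.isMulCommutative_closure (k := ({w, (z : R)} : Set R)) (by
        have hc := fun g => Subgroup.mem_center_iff.mp z.2 g
        rintro a (rfl | rfl) b (rfl | rfl)
        · rfl
        · exact hc _
        · exact (hc _).symm
        · rfl)
      intro a ha b hb
      exact congrArg Subtype.val (mul_comm' (⟨a, ha⟩ : A) ⟨b, hb⟩)
    obtain ⟨v, f, hv, hf, -⟩ := exists_char p (A.map R.subtype)
      (by rintro _ ⟨a, ha, rfl⟩ _ ⟨b, hb, rfl⟩; rw [← map_mul, hA a ha b hb, map_mul])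
      (by rintro _ ⟨a, -, rfl⟩; exact hcop a)
    let g : A →* AlgebraicClosure F :=
      f.comp (Subgroup.equivMapOfInjective A R.subtype R.subtype_injective).toMonoidHom
    have hg : Function.Injective g := hf.comp (MulEquiv.injective _)
    have hwA : w ∈ A := Subgroup.subset_closure (by simp)
    have hzA : (z : R) ∈ A := Subgroup.subset_closure (by simp)
    have hz' : orderOf (z : R) = r := by rw [Subgroup.orderOf_coe, hz]
    have hprim : IsPrimitiveRoot (g ⟨z, hzA⟩) r := by
      have := IsPrimitiveRoot.orderOf (g ⟨z, hzA⟩)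
      rwa [orderOf_injective g hg, ← Subgroup.orderOf_coe, hz'] at this
    obtain ⟨i, -, hi⟩ := hprim.eq_pow_of_pow_eq_one (ξ := g ⟨w, hwA⟩)
      (by rw [← map_pow, show (⟨w, hwA⟩ : A) ^ r = 1 from
        Subtype.ext (by rw [SubmonoidClass.coe_pow, ← hw]; exact pow_orderOf_eq_one w), map_one])
    rw [← map_pow] at hi
    have hwi : (z : R) ^ i = w := congrArg Subtype.val (hg hi)
    refine (Subgroup.eq_of_le_of_card_ge ?_ ?_).symm
    · rw [Subgroup.zpowers_le, ← hwi]
      exact Subgroup.pow_mem _ (Subgroup.mem_zpowers _) i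
    · rw [Nat.card_zpowers, Nat.card_zpowers, hz', hw]
  rw [← key x hx, key y hy]
  exact Subgroup.mem_zpowers y

theorem exists_quaternion_pair [Fintype F] (h2 : (2 : F) ≠ 0) :
    ∃ i j : SL(2, F), i * j ≠ j * i ∧ IsPGroup 2 (Subgroup.closure {i, j}) := by
  obtain ⟨a, b, hab⟩ : ∃ a b : F, a ^ 2 + b ^ 2 = -1 := by
    obtain ⟨p, hp⟩ := CharP.exists F
    haveI : NeZero p := ⟨(CharP.char_is_prime F p).ne_zero⟩
    obtain ⟨a, b, hab⟩ := CharP.sq_add_sq F p (-1)
    exact ⟨a, b, by simpa using hab⟩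
  let i : SL(2, F) := ⟨!![0, 1; -1, 0], by simp [Matrix.det_fin_two]⟩
  let j : SL(2, F) := ⟨!![a, b; b, -a], by simp [Matrix.det_fin_two]; linear_combination -hab⟩
  have hI : (i : Matrix (Fin 2) (Fin 2) F) = !![0, 1; -1, 0] := rfl
  have hJ : (j : Matrix (Fin 2) (Fin 2) F) = !![a, b; b, -a] := rfl
  have hm : ∀ x : SL(2, F), ((-1 : SL(2, F)) * x : SL(2, F)) = -x := fun x => by simp
  have hii : i * i = -1 := by
    apply Subtype.ext
    rw [Matrix.SpecialLinearGroup.coe_mul, hI, Matrix.SpecialLinearGroup.coe_neg, Matrix.SpecialLinearGroup.coe_one]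
    ext r s
    fin_cases r <;> fin_cases s <;> simp [Matrix.mul_apply, Fin.sum_univ_two]
  have hjj : j * j = -1 := by
    apply Subtype.ext
    rw [Matrix.SpecialLinearGroup.coe_mul, hJ, Matrix.SpecialLinearGroup.coe_neg, Matrix.SpecialLinearGroup.coe_one]
    ext r s
    fin_cases r <;> fin_cases s <;> simp [Matrix.mul_apply, Fin.sum_univ_two] <;>
      first | linear_combination hab | ring
  have hji : j * i = -1 * (i * j) := by
    rw [hm]
    apply Subtype.ext
    rw [Matrix.SpecialLinearGroup.coe_neg, Matrix.SpecialLinearGroup.coe_mul, Matrix.SpecialLinearGroup.coe_mul, hI, hJ]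
    ext r s
    fin_cases r <;> fin_cases s <;> simp [Matrix.mul_apply, Fin.sum_univ_two]
  have hne : i * j ≠ j * i := by
    intro h
    have h' := congrArg (fun m : SL(2, F) => (m : Matrix (Fin 2) (Fin 2) F)) h
    simp only [Matrix.SpecialLinearGroup.coe_mul, hI, hJ] at h'
    have h0 := congrFun (congrFun h' 0) 0
    have h1 := congrFun (congrFun h' 0) 1
    simp [Matrix.mul_apply, Fin.sum_univ_two] at h0 h1
    have hb0 : b = 0 := (mul_eq_zero.mp (show 2 * b = 0 by linear_combination h0)).resolve_left h2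
    have ha0 : a = 0 := (mul_eq_zero.mp (show 2 * a = 0 by linear_combination -h1)).resolve_left h2
    simp [ha0, hb0] at hab
  let Z : Subgroup SL(2, F) := Subgroup.zpowers (-1)
  haveI : Z.Normal := ⟨fun n hn g => by
    obtain ⟨k, rfl⟩ := hn
    have hc : Commute g ((-1 : SL(2, F)) ^ k) := Commute.zpow_right (by simp [commute_iff_eq]) k
    rw [hc.eq, mul_inv_cancel_right]
    exact ⟨k, rfl⟩⟩
  refine ⟨i, j, hne, ?_⟩
  have h4 : ∀ x ∈ Subgroup.closure {i, j}, x * x ∈ Z := by
    let π := QuotientGroup.mk' Z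
    have hm1 : π (-1) = 1 := (QuotientGroup.eq_one_iff _).mpr (Subgroup.mem_zpowers _)
    have hc : Commute (π i) (π j) := by
      show π i * π j = π j * π i
      rw [← map_mul, ← map_mul, hji, map_mul π (-1) (i * j), hm1, one_mul]
    haveI : IsMulCommutative (Subgroup.closure ({π i, π j} : Set (SL(2, F) ⧸ Z))) :=
      Subgroup.isMulCommutative_closure (by rintro x (rfl | rfl) y (rfl | rfl) <;> first | rfl | exact hc | exact hc.symm)
    intro x hx
    rw [← QuotientGroup.eq_one_iff (N := Z)]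
    change π (x * x) = 1
    have hx' : π x ∈ Subgroup.closure ({π i, π j} : Set (SL(2, F) ⧸ Z)) := by
      have := Subgroup.mem_map_of_mem π hx
      rwa [MonoidHom.map_closure, Set.image_pair] at this
    rw [map_mul]
    clear hx
    generalize π x = w at hx' ⊢
    induction hx' using Subgroup.closure_induction with
    | mem y hy =>
      rcases hy with rfl | rfl
      · rw [← map_mul, hii, hm1]
      · rw [← map_mul, hjj, hm1]
    | one => exact one_mul 1
    | mul y z hy hz ihy ihz =>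
      have hyz : y * z = z * y := congrArg Subtype.val (mul_comm' (⟨y, hy⟩ : Subgroup.closure _) ⟨z, hz⟩)
      rw [mul_assoc, ← mul_assoc z, ← hyz, mul_assoc y z, ← mul_assoc, ihy, one_mul, ihz]
    | inv y _ ih => rw [← _root_.mul_inv_rev, ih, inv_one]
  intro x
  refine ⟨2, Subtype.ext ?_⟩
  obtain ⟨k, hk⟩ := h4 x.1 x.2
  simp only at hk
  rw [SubmonoidClass.coe_pow, OneMemClass.coe_one, show (2 : ℕ) ^ 2 = 2 + 2 from rfl, pow_add, pow_two, ← hk,
    ← (Commute.refl (-1 : SL(2, F))).mul_zpow, neg_one_sq, _root_.one_zpow]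

theorem sylow_two_quaternion (p : ℕ) [Fact p.Prime] [CharP F p] [Fintype F] (hp2 : p ≠ 2)
    (P : Sylow 2 SL(2, F)) :
    ∃ k : ℕ, 1 ≤ k ∧ Nonempty ((P : Subgroup SL(2, F)) ≃* QuaternionGroup (2 ^ k)) := by
  haveI := Fact.mk Nat.prime_two
  have h21 : (2 : F) ≠ 0 := by
    intro h
    exact hp2 ((Nat.prime_dvd_prime_iff_eq Fact.out Nat.prime_two).mp
      ((CharP.cast_eq_zero_iff F p 2).mp (by exact_mod_cast h)))
  have hnc : ¬ ∀ a b : (P : Subgroup SL(2, F)), a * b = b * a := by
    intro hcomm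
    obtain ⟨i, j, hne, hQ⟩ := exists_quaternion_pair (F := F) h21
    obtain ⟨Q, hQ'⟩ := hQ.exists_le_sylow
    obtain ⟨g, hg⟩ := MulAction.exists_smul_eq SL(2, F) Q P
    have hm : ∀ x ∈ ({i, j} : Set SL(2, F)), g * x * g⁻¹ ∈ (P : Subgroup SL(2, F)) := by
      intro x hx
      rw [← hg, Sylow.coe_subgroup_smul]
      exact ⟨x, hQ' (Subgroup.subset_closure hx), rfl⟩
    have := congrArg Subtype.val (hcomm ⟨_, hm i (by simp)⟩ ⟨_, hm j (by simp)⟩)
    simp only [MulMemClass.coe_mul] at this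
    apply hne
    have e := congrArg (fun z => g⁻¹ * z * g) this
    group at e
    simpa using e
  rcases unique_sub p (Ne.symm hp2) (P : Subgroup SL(2, F)) P.isPGroup' with h | ⟨-, n, ⟨e⟩⟩
  · exact absurd (fun a b => mul_comm' a b) hnc
  · refine ⟨n, Nat.one_le_iff_ne_zero.mpr fun hn => hnc fun a b => e.injective ?_, ⟨e⟩⟩
    subst hn
    rw [map_mul, map_mul]
    generalize e a = x
    generalize e b = y
    revert x y
    decide

theorem card_SL2 [Fintype F] :
    Nat.card SL(2, F) = Fintype.card F * (Fintype.card F ^ 2 - 1) := by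
  have h := Cfsg.Lib.Classical.card_SL_mul_eq_prod (F := F) (n := 2) (by norm_num)
  have hq := Fintype.one_lt_card (α := F)
  apply Nat.eq_of_mul_eq_mul_left (show 0 < Fintype.card F - 1 by omega)
  rw [h, Fin.prod_univ_two]
  obtain ⟨m, hm⟩ : ∃ m, Fintype.card F = m + 1 := ⟨_, (Nat.sub_add_cancel hq.le).symm⟩
  rw [hm]
  simp [Nat.pow_two, Nat.add_mul, Nat.mul_add]
  ring

theorem sylow_two_PSL_isKleinFour [Fintype F] {q : ℕ} (hF : Fintype.card F = q)
    (hq : q % 8 = 3 ∨ q % 8 = 5) (P : Sylow 2 (Matrix.ProjectiveSpecialLinearGroup (Fin 2) F)) :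
    IsKleinFour (P : Subgroup (Matrix.ProjectiveSpecialLinearGroup (Fin 2) F)) := by
  classical
  haveI := Fact.mk Nat.prime_two
  obtain ⟨p, hp⟩ := CharP.exists F
  haveI := Fact.mk (CharP.char_is_prime F p)
  have hp2 : p ≠ 2 := by
    rintro rfl
    obtain ⟨e, -, he⟩ := FiniteField.card F 2
    have : 2 ∣ q := hF ▸ he ▸ dvd_pow_self 2 e.pos.ne'
    omega
  obtain ⟨m, hm, hm'⟩ : ∃ m, Odd m ∧ q * (q ^ 2 - 1) = 8 * m := by
    obtain ⟨s, hs⟩ : ∃ s, q = 8 * s + 3 ∨ q = 8 * s + 5 := ⟨q / 8, by omega⟩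
    rcases hs with rfl | rfl
    · exact ⟨(8 * s + 3) * (8 * s ^ 2 + 6 * s + 1), by simp [parity_simps, Nat.even_pow],
        by zify [show 1 ≤ (8 * s + 3) ^ 2 from Nat.one_le_pow _ _ (by omega)]; ring⟩
    · exact ⟨(8 * s + 5) * (8 * s ^ 2 + 10 * s + 3), by simp [parity_simps, Nat.even_pow],
        by zify [show 1 ≤ (8 * s + 5) ^ 2 from Nat.one_le_pow _ _ (by omega)]; ring⟩
  obtain ⟨S⟩ : Nonempty (Sylow 2 SL(2, F)) := inferInstance
  have hS8 : Nat.card S = 8 := by
    rw [S.card_eq_multiplicity, card_SL2, hF, hm', show (8 : ℕ) = 2 ^ 3 from rfl,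
      Nat.factorization_mul (by norm_num) (by intro h0; rw [h0] at hm; exact Nat.not_odd_zero hm),
      Nat.Prime.factorization_pow Nat.prime_two]
    simp [Nat.factorization_eq_zero_of_not_dvd (show ¬ 2 ∣ m from fun h => by
      rw [Nat.odd_iff] at hm; omega)]
  obtain ⟨k, hk, ⟨e⟩⟩ := sylow_two_quaternion p hp2 S
  have hk1 : k = 1 := by
    have h2 := Nat.card_congr e.toEquiv
    rw [hS8, Nat.card_eq_fintype_card, QuaternionGroup.card] at h2
    have : 2 ^ k = 2 ^ 1 := by omega
    exact Nat.pow_right_injective le_rfl this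
  subst hk1
  set Zc := Subgroup.center SL(2, F)
  let π : SL(2, F) →* Matrix.ProjectiveSpecialLinearGroup (Fin 2) F := QuotientGroup.mk' Zc
  have hπ : Function.Surjective π := QuotientGroup.mk'_surjective _
  have hZ : Nat.card Zc = 2 := by
    rw [Cfsg.Lib.Classical.card_center_SL, Nat.card_eq_fintype_card, hF, Fintype.card_fin]
    exact Nat.gcd_eq_left (by omega)
  have hcard : Nat.card (Matrix.ProjectiveSpecialLinearGroup (Fin 2) F) = 4 * m := by
    have h := Subgroup.card_eq_card_quotient_mul_card_subgroup Zc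
    rw [card_SL2, hF, hm', hZ] at h
    change 8 * m = Nat.card (Matrix.ProjectiveSpecialLinearGroup (Fin 2) F) * 2 at h
    omega
  have hP4 : Nat.card P = 4 := by
    rw [P.card_eq_multiplicity, hcard, show (4 : ℕ) = 2 ^ 2 from rfl,
      Nat.factorization_mul (by norm_num) (by intro h0; rw [h0] at hm; exact Nat.not_odd_zero hm),
      Nat.Prime.factorization_pow Nat.prime_two]
    simp [Nat.factorization_eq_zero_of_not_dvd (show ¬ 2 ∣ m from fun h => by
      rw [Nat.odd_iff] at hm; omega)]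
  refine ⟨hP4, ?_⟩
  obtain ⟨Q, hQ⟩ := (S.isPGroup'.map π).exists_le_sylow
  have hQeq : (Q : Subgroup (Matrix.ProjectiveSpecialLinearGroup (Fin 2) F)) = (S : Subgroup SL(2, F)).map π := by
    refine (Subgroup.eq_of_le_of_card_ge hQ ?_).symm
    rw [Q.card_eq_multiplicity, ← P.card_eq_multiplicity, hP4]
    have hker : ((S : Subgroup SL(2, F)).map π).comap π ≤ (S : Subgroup SL(2, F)) ⊔ Zc := by
      rw [Subgroup.comap_map_eq, QuotientGroup.ker_mk']
    have h1 := Subgroup.card_map_dvd (S : Subgroup SL(2, F)) π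
    have h2 : (S : Subgroup SL(2, F)).relIndex π.ker * 1 = (S : Subgroup SL(2, F)).relIndex π.ker := mul_one _
    let ψ : (S : Subgroup SL(2, F)) →* (S : Subgroup SL(2, F)).map π := π.subgroupMap _
    have h3 := ψ.ker.card_eq_card_quotient_mul_card_subgroup
    have h4 : Nat.card ψ.ker ≤ 2 := by
      refine le_of_le_of_eq ?_ hZ
      refine Nat.card_le_card_of_injective (fun x => (⟨x.1.1, ?_⟩ : Zc)) (fun a b h => ?_)
      · have h0 : π x.1.1 = 1 := congrArg Subtype.val x.2
        exact (QuotientGroup.eq_one_iff _).mp h0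
      · exact Subtype.ext (Subtype.ext (congrArg Subtype.val h :))
    have h5 : Nat.card ((S : Subgroup SL(2, F)) ⧸ ψ.ker) = Nat.card ((S : Subgroup SL(2, F)).map π) :=
      Nat.card_congr (QuotientGroup.quotientKerEquivOfSurjective ψ (π.subgroupMap_surjective _)).toEquiv
    rw [h5] at h3
    have h6 : Nat.card S = 8 := hS8
    have h7 : Nat.card (S : Subgroup SL(2, F)) = 8 := hS8
    rw [h7] at h3
    rcases Nat.lt_or_ge (Nat.card ((S : Subgroup SL(2, F)).map π)) 4 with h | h
    · nlinarith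
    · exact h
  have hsq : ∀ x : (P : Subgroup (Matrix.ProjectiveSpecialLinearGroup (Fin 2) F)), x ^ 2 = 1 := by
    intro x
    obtain ⟨g, hg⟩ := MulAction.exists_smul_eq (Matrix.ProjectiveSpecialLinearGroup (Fin 2) F) Q P
    obtain ⟨y, hy, hyx⟩ : (x : Matrix.ProjectiveSpecialLinearGroup (Fin 2) F) ∈
        (Q : Subgroup (Matrix.ProjectiveSpecialLinearGroup (Fin 2) F)).map (MulAut.conj g).toMonoidHom := by
      have he : (P : Subgroup (Matrix.ProjectiveSpecialLinearGroup (Fin 2) F)) = _ :=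
        (congrArg Sylow.toSubgroup hg).symm.trans Sylow.coe_subgroup_smul
      exact SetLike.ext_iff.mp he _ |>.mp x.2
    rw [hQeq] at hy
    obtain ⟨s, hs, rfl⟩ := hy
    have hs4 : (⟨s, hs⟩ : (S : Subgroup SL(2, F))) ^ 4 = 1 := by
      apply e.injective
      rw [map_pow, map_one]
      generalize e ⟨s, hs⟩ = z
      revert z
      decide
    have hs4' : (s * s) * (s * s) = 1 := by
      have := congrArg Subtype.val hs4
      rw [SubmonoidClass.coe_pow, OneMemClass.coe_one] at this
      rw [← this]; simp only [pow_succ, pow_zero, one_mul, mul_assoc]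
    have hπs : π (s * s) = 1 := by
      refine (QuotientGroup.eq_one_iff _).mpr ?_
      by_cases h : s * s = 1
      · rw [h]; exact one_mem _
      · rw [eq_neg_one p hp2 h hs4', Subgroup.mem_center_iff]
        intro z; simp
    apply Subtype.ext
    rw [SubmonoidClass.coe_pow, OneMemClass.coe_one, ← hyx, ← map_pow, pow_two, ← map_mul, hπs, map_one]
  refine Nat.dvd_antisymm (Monoid.exponent_dvd_of_forall_pow_eq_one hsq) ?_
  obtain ⟨x, hx⟩ := exists_prime_orderOf_dvd_card' (G := (P : Subgroup (Matrix.ProjectiveSpecialLinearGroup (Fin 2) F))) 2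
    ⟨2, hP4⟩
  have := Monoid.order_dvd_exponent x
  rwa [hx] at this

end Cfsg.Lib.Classical.SLTwoTori
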