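import Mathlib

/-! Subgroups of the symmetric group of index at most the degree. -/

set_option autoImplicit false

open Equiv Equiv.Perm
open scoped Pointwise

namespace Cfsg.Lib.Classical.SymIndex

universe u v

variable {Ω : Type u} [Fintype Ω] [DecidableEq Ω]

theorem center_perm_eq_bot (h3 : 3 ≤ Fintype.card Ω) : Subgroup.center (Perm Ω) = ⊥ := by
  rw [Subgroup.eq_bot_iff_forall]
  intro g hg
  by_contra hne
  obtain ⟨a, ha⟩ : ∃ a, g a ≠ a := by
    by_contra h
    push Not at h
    exact hne (Equiv.ext h)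
  obtain ⟨c, -, hc⟩ : ∃ c ∈ (Finset.univ : Finset Ω), c ∉ ({a, g a} : Finset Ω) :=
    Finset.exists_mem_notMem_of_card_lt_card (by
      have := Finset.card_le_two (a := a) (b := g a)
      rw [Finset.card_univ]; omega)
  simp only [Finset.mem_insert, Finset.mem_singleton, not_or] at hc
  have := congrArg (fun p : Perm Ω => p a) (Subgroup.mem_center_iff.mp hg (swap (g a) c))
  simp only [Perm.mul_apply, swap_apply_left, swap_apply_of_ne_of_ne (Ne.symm ha) (Ne.symm hc.1)] at this
  exact hc.2 this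

theorem eq_alt_or_top_of_alt_le [Nontrivial Ω] {H : Subgroup (Perm Ω)} (h : alternatingGroup Ω ≤ H) :
    H = alternatingGroup Ω ∨ H = ⊤ := by
  have hd : H.index ∣ 2 := alternatingGroup.index_eq_two (α := Ω) ▸ Subgroup.index_dvd_of_le h
  rcases (Nat.dvd_prime Nat.prime_two).mp hd with h1 | h1
  · exact Or.inr (Subgroup.index_eq_one.mp h1)
  · exact Or.inl (Equiv.Perm.eq_alternatingGroup_of_index_eq_two h1)

/-- A subgroup of the symmetric group not containing the alternating group is core free. -/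
theorem normalCore_eq_bot (h5 : 5 ≤ Fintype.card Ω) {H : Subgroup (Perm Ω)} (hH : H ≠ ⊤)
    (hA : H ≠ alternatingGroup Ω) : H.normalCore = ⊥ := by
  haveI : Nontrivial Ω := Fintype.one_lt_card_iff_nontrivial.mp (by omega)
  haveI := alternatingGroup.isSimpleGroup (α := Ω) (by rw [Nat.card_eq_fintype_card]; exact h5)
  rcases Subgroup.Normal.eq_bot_or_eq_top
      (inferInstance : (H.normalCore.subgroupOf (alternatingGroup Ω)).Normal) with h | h
  · rw [Subgroup.subgroupOf_eq_bot] at h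
    rw [eq_bot_iff, ← center_perm_eq_bot (Ω := Ω) (by omega)]
    intro x hx
    rw [Subgroup.mem_center_iff]
    intro g
    have hc : g * x * g⁻¹ * x⁻¹ ∈ H.normalCore ⊓ alternatingGroup Ω := by
      refine ⟨H.normalCore.mul_mem (Subgroup.Normal.conj_mem inferInstance x hx g) (H.normalCore.inv_mem hx), ?_⟩
      show g * x * g⁻¹ * x⁻¹ ∈ alternatingGroup Ω
      rw [mem_alternatingGroup, map_mul, map_mul, map_mul, map_inv, map_inv, mul_comm (sign g) (sign x)]
      group
    rw [h.eq_bot, Subgroup.mem_bot, mul_inv_eq_one, mul_inv_eq_iff_eq_mul] at hc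
    exact hc
  · rw [Subgroup.subgroupOf_eq_top] at h
    rcases eq_alt_or_top_of_alt_le (h.trans (Subgroup.normalCore_le H)) with h | h
    · exact absurd h hA
    · exact absurd h hH

theorem toPermHom_injective {G : Type v} [Group G] {H : Subgroup G} (hc : H.normalCore = ⊥) :
    Function.Injective (MulAction.toPermHom G (G ⧸ H)) := by
  rw [← MonoidHom.ker_eq_bot_iff, ← Subgroup.normalCore_eq_ker]
  exact hc

theorem index_ge (h5 : 5 ≤ Fintype.card Ω) {H : Subgroup (Perm Ω)} (hH : H ≠ ⊤)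
    (hA : H ≠ alternatingGroup Ω) : Fintype.card Ω ≤ H.index := by
  have hinj := toPermHom_injective (normalCore_eq_bot h5 hH hA)
  have h := Nat.card_le_card_of_injective _ hinj
  rw [Nat.card_perm, Nat.card_perm, Nat.card_eq_fintype_card (α := Ω)] at h
  change (Fintype.card Ω).factorial ≤ H.index.factorial at h
  by_contra hlt
  push Not at hlt
  exact absurd h (not_le.mpr ((Nat.factorial_lt (Nat.pos_of_ne_zero Subgroup.index_ne_zero_of_finite)).mpr hlt))

theorem exists_equiv (h5 : 5 ≤ Fintype.card Ω) {H : Subgroup (Perm Ω)} (hH : H.index = Fintype.card Ω) :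
    ∃ (φ : Perm Ω ≃* Perm Ω) (p : Ω), ∀ g, g ∈ H ↔ φ g p = p := by
  have hne : H ≠ ⊤ := fun h => by rw [h, Subgroup.index_top] at hH; omega
  have hA : H ≠ alternatingGroup Ω := fun h => by
    haveI : Nontrivial Ω := Fintype.one_lt_card_iff_nontrivial.mp (by omega)
    rw [h, alternatingGroup.index_eq_two] at hH; omega
  have hinj := toPermHom_injective (normalCore_eq_bot h5 hne hA)
  obtain ⟨e⟩ : Nonempty (Perm Ω ⧸ H ≃ Ω) :=
    ⟨(Finite.equivFinOfCardEq (n := Fintype.card Ω) hH).trans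
      (Finite.equivFinOfCardEq (n := Fintype.card Ω) Nat.card_eq_fintype_card).symm⟩
  let f : Perm Ω →* Perm Ω := e.permCongrHom.toMonoidHom.comp (MulAction.toPermHom _ _)
  have hf : Function.Bijective f :=
    Finite.injective_iff_bijective.mp (e.permCongrHom.injective.comp hinj)
  refine ⟨MulEquiv.ofBijective f hf, e ((1 : Perm Ω) : Perm Ω ⧸ H), fun g => ?_⟩
  simp only [MulEquiv.ofBijective_apply, f, MonoidHom.coe_comp, Function.comp_apply,
    MulEquiv.coe_toMonoidHom]
  rw [Equiv.permCongrHom, MulEquiv.coe_mk, Equiv.permCongr_apply, Equiv.symm_apply_apply, e.injective.eq_iff]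
  show g ∈ H ↔ g • ((1 : Perm Ω) : Perm Ω ⧸ H) = _
  rw [MulAction.Quotient.smul_coe, smul_eq_mul, mul_one, QuotientGroup.eq, mul_one, inv_mem_iff]

theorem swap_mul_pow_six {s t : Perm Ω} (hs : s.IsSwap) (ht : t.IsSwap) : (s * t) ^ 6 = 1 := by
  obtain ⟨a, b, hab, rfl⟩ := hs
  obtain ⟨c, d, hcd, rfl⟩ := ht
  have h3 : ∀ {x y z : Ω}, x ≠ y → x ≠ z → y ≠ z → (swap x y * swap x z) ^ 6 = 1 := by
    intro x y z h1 h2 h3
    have := (isThreeCycle_swap_mul_swap_same h1 h2 h3).orderOf
    rw [show 6 = 3 * 2 from rfl, pow_mul, ← this, pow_orderOf_eq_one, one_pow]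
  by_cases h1 : a = c
  · subst h1
    by_cases h2 : b = d
    · subst h2; simp
    · exact h3 hab hcd h2
  by_cases h2 : a = d
  · subst h2
    rw [swap_comm c a]
    by_cases h4 : b = c
    · subst h4; simp
    · exact h3 hab hcd.symm h4
  by_cases h4 : b = c
  · subst h4
    rw [swap_comm a b]
    exact h3 hab.symm hcd h2
  by_cases h5 : b = d
  · subst h5
    rw [swap_comm a b, swap_comm c b]
    exact h3 hab.symm hcd.symm h1
  have hd : Disjoint (swap a b) (swap c d) := by
    intro x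
    by_cases hxa : x = a
    · exact Or.inr (by subst hxa; exact swap_apply_of_ne_of_ne h1 h2)
    by_cases hxb : x = b
    · exact Or.inr (by subst hxb; exact swap_apply_of_ne_of_ne h4 h5)
    exact Or.inl (swap_apply_of_ne_of_ne hxa hxb)
  rw [hd.commute.mul_pow, show 6 = 2 * 3 from rfl, pow_mul, pow_mul, pow_two, pow_two, swap_mul_self,
    swap_mul_self]
  simp

theorem exists_five (σ : Perm Ω) (hσ : ∀ x, σ (σ x) = x) {a b c d e : Ω} (hab : σ a = b) (hcd : σ c = d)
    (he : σ e = e) (h : [a, b, c, d, e].Nodup) : ∃ g : Perm Ω, (σ * (g * σ * g⁻¹)) ^ 6 ≠ 1 := by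
  simp only [List.nodup_cons, List.mem_cons, List.not_mem_nil, or_false, not_or, List.nodup_nil,
    and_true, not_false_iff] at h
  obtain ⟨⟨h1, h2, h3, h4⟩, ⟨h5, h6, h7⟩, ⟨h8, h9⟩, h10⟩ := h
  refine ⟨swap a b * swap b c * swap c d * swap d e, fun hh => ?_⟩
  have hba : σ b = a := by rw [← hab, hσ]
  have hdc : σ d = c := by rw [← hcd, hσ]
  have := congrArg (fun p : Perm Ω => p a) hh
  simp [pow_succ, Perm.mul_apply, swap_apply_def, hab, hba, hcd, hdc, he, *, Ne.symm h1, Ne.symm h2,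
    Ne.symm h3, Ne.symm h4, Ne.symm h5, Ne.symm h6, Ne.symm h7, Ne.symm h8, Ne.symm h9, Ne.symm h10] at this

theorem exists_eight (σ : Perm Ω) (hσ : ∀ x, σ (σ x) = x) {a b c d e f h i : Ω} (hab : σ a = b)
    (hcd : σ c = d) (hef : σ e = f) (hhi : σ h = i) (hn : [a, b, c, d, e, f, h, i].Nodup) :
    ∃ g : Perm Ω, (σ * (g * σ * g⁻¹)) ^ 6 ≠ 1 := by
  simp only [List.nodup_cons, List.mem_cons, List.not_mem_nil, or_false, not_or, List.nodup_nil,
    and_true, not_false_iff] at hn
  obtain ⟨⟨a1, a2, a3, a4, a5, a6, a7⟩, ⟨b1, b2, b3, b4, b5, b6⟩, ⟨c1, c2, c3, c4, c5⟩,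
    ⟨d1, d2, d3, d4⟩, ⟨e1, e2, e3⟩, ⟨f1, f2⟩, g1⟩ := hn
  refine ⟨swap a b * swap b c * swap c d * swap d e * swap e f * swap f h * swap h i, fun hh => ?_⟩
  have hba : σ b = a := by rw [← hab, hσ]
  have hdc : σ d = c := by rw [← hcd, hσ]
  have hfe : σ f = e := by rw [← hef, hσ]
  have hih : σ i = h := by rw [← hhi, hσ]
  have := congrArg (fun p : Perm Ω => p b) hh
  simp [pow_succ, Perm.mul_apply, swap_apply_def, hab, hba, hcd, hdc, hef, hfe, hhi, hih, *,
    Ne.symm a1, Ne.symm a2, Ne.symm a3, Ne.symm a4, Ne.symm a5, Ne.symm a6, Ne.symm a7,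
    Ne.symm b1, Ne.symm b2, Ne.symm b3, Ne.symm b4, Ne.symm b5, Ne.symm b6,
    Ne.symm c1, Ne.symm c2, Ne.symm c3, Ne.symm c4, Ne.symm c5,
    Ne.symm d1, Ne.symm d2, Ne.symm d3, Ne.symm d4,
    Ne.symm e1, Ne.symm e2, Ne.symm e3, Ne.symm f1, Ne.symm f2, Ne.symm g1] at this

/-- An involution whose conjugates behave like transpositions is a transposition, or `n = 6` and it has
no fixed points. -/
theorem swap_or_six {σ : Perm Ω} (hσ : orderOf σ = 2) (hsix : ∀ g : Perm Ω, (σ * (g * σ * g⁻¹)) ^ 6 = 1)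
    (h5 : 5 ≤ Fintype.card Ω) : σ.IsSwap ∨ (Fintype.card Ω = 6 ∧ σ.support.card = 6) := by
  have hinv : ∀ x, σ (σ x) = x := fun x => by
    have := pow_orderOf_eq_one σ
    rw [hσ, pow_two] at this
    exact congrArg (fun p : Perm Ω => p x) this
  have hne : σ ≠ 1 := fun h => by rw [h, orderOf_one] at hσ; omega
  obtain ⟨a, ha⟩ : ∃ a, σ a ≠ a := by
    by_contra hh
    push Not at hh
    exact hne (Equiv.ext hh)
  by_cases hsw : σ = swap a (σ a)
  · exact Or.inl (by rw [hsw]; exact ⟨a, σ a, Ne.symm ha, rfl⟩)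
  obtain ⟨c, hc⟩ : ∃ c, σ c ≠ swap a (σ a) c := by
    by_contra hh
    push Not at hh
    exact hsw (Equiv.ext hh)
  have hca : c ≠ a := by rintro rfl; simp at hc
  have hcb : c ≠ σ a := by rintro rfl; simp [hinv] at hc
  rw [swap_apply_of_ne_of_ne hca hcb] at hc
  have key : ∀ {x y : Ω}, x ≠ y → σ x ≠ σ y := fun h e => h (σ.injective e)
  have hda : σ c ≠ a := fun e => hcb (by rw [← e, hinv])
  have hdb : σ c ≠ σ a := key hca
  by_cases hfix : ∃ e, σ e = e
  · obtain ⟨e, he⟩ := hfix
    exfalso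
    obtain ⟨g, hg⟩ := exists_five σ hinv rfl rfl he (a := a) (c := c) (by
      have : e ≠ a := fun h => ha (h ▸ he)
      have : e ≠ c := fun h => hc (h ▸ he)
      have : e ≠ σ a := fun h => ha (by rw [h, hinv] at he; exact he.symm)
      have : e ≠ σ c := fun h => hc (by rw [h, hinv] at he; exact he.symm)
      simp [Ne.symm ha, Ne.symm hca, Ne.symm hda, Ne.symm hc, Ne.symm hcb, Ne.symm hdb, Ne.symm ‹e ≠ a›,
        Ne.symm ‹e ≠ c›, Ne.symm ‹e ≠ σ a›, Ne.symm ‹e ≠ σ c›])
    exact hg (hsix g)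
  push Not at hfix
  have hsupp : σ.support.card = Fintype.card Ω := by
    rw [← Finset.card_univ]
    congr 1
    ext x; simp [hfix x]
  by_cases h6 : Fintype.card Ω = 6
  · exact Or.inr ⟨h6, by omega⟩
  exfalso
  obtain ⟨e, -, he⟩ : ∃ e ∈ (Finset.univ : Finset Ω), e ∉ ({a, σ a, c, σ c} : Finset Ω) :=
    Finset.exists_mem_notMem_of_card_lt_card (by
      have := Finset.card_le_four (a := a) (b := σ a) (c := c) (d := σ c)
      rw [Finset.card_univ]; omega)
  simp only [Finset.mem_insert, Finset.mem_singleton, not_or] at he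
  obtain ⟨ea, eb, ec, ed⟩ := he
  have fa : σ e ≠ a := fun h => eb (by rw [← h, hinv])
  have fc : σ e ≠ c := fun h => ed (by rw [← h, hinv])
  have h6le : 6 ≤ Fintype.card Ω := by
    have hn : [a, σ a, c, σ c, e, σ e].Nodup := by
      simp [Ne.symm ha, Ne.symm hca, Ne.symm hda, Ne.symm hc, Ne.symm hcb, Ne.symm hdb, Ne.symm ea, Ne.symm eb,
        Ne.symm ec, Ne.symm ed, Ne.symm fa, Ne.symm fc, Ne.symm (key ea), Ne.symm (key ec), Ne.symm (hfix e)]
    simpa using hn.length_le_card
  obtain ⟨h, -, hh⟩ : ∃ h ∈ (Finset.univ : Finset Ω), h ∉ ({a, σ a, c, σ c, e, σ e} : Finset Ω) :=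
    Finset.exists_mem_notMem_of_card_lt_card (by
      have := Finset.card_le_six (a := a) (b := σ a) (c := c) (d := σ c) (e := e) (f := σ e)
      rw [Finset.card_univ]; omega)
  simp only [Finset.mem_insert, Finset.mem_singleton, not_or] at hh
  obtain ⟨ga, gb, gc, gd, ge, gf⟩ := hh
  have ia : σ h ≠ a := fun k => gb (by rw [← k, hinv])
  have ic : σ h ≠ c := fun k => gd (by rw [← k, hinv])
  have ie : σ h ≠ e := fun k => gf (by rw [← k, hinv])
  obtain ⟨g, hg⟩ := exists_eight σ hinv rfl rfl rfl rfl (a := a) (c := c) (e := e) (h := h) (by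
    simp [Ne.symm ha, Ne.symm hca, Ne.symm hda, Ne.symm hc, Ne.symm hcb, Ne.symm hdb, Ne.symm ea, Ne.symm eb,
      Ne.symm ec, Ne.symm ed, Ne.symm fa, Ne.symm fc, Ne.symm (key ea), Ne.symm (key ec), Ne.symm (hfix e),
      Ne.symm ga, Ne.symm gb, Ne.symm gc, Ne.symm gd, Ne.symm ge, Ne.symm gf, Ne.symm ia, Ne.symm ic,
      Ne.symm ie, Ne.symm (key ga), Ne.symm (key gc), Ne.symm (key ge), Ne.symm (hfix h)])
  exact hg (hsix g)

theorem conj_isSwap {s : Perm Ω} (hs : s.IsSwap) (g : Perm Ω) : (g * s * g⁻¹).IsSwap := by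
  rw [← card_support_eq_two] at hs ⊢
  rw [card_support_conj]; exact hs

theorem map_isSwap_or (φ : Perm Ω ≃* Perm Ω) (h5 : 5 ≤ Fintype.card Ω) {s : Perm Ω} (hs : s.IsSwap) :
    (φ s).IsSwap ∨ (Fintype.card Ω = 6 ∧ (φ s).support.card = 6) := by
  refine swap_or_six (by rw [MulEquiv.orderOf_eq]; exact hs.orderOf) (fun g => ?_) h5
  have h := swap_mul_pow_six hs (conj_isSwap hs (φ.symm g))
  have := congrArg φ h
  simpa [map_pow, map_mul] using this

/-- An automorphism preserving transpositions pulls point stabilisers back to point stabilisers. -/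
theorem exists_point (φ : Perm Ω ≃* Perm Ω) (h5 : 5 ≤ Fintype.card Ω)
    (hsw : ∀ s : Perm Ω, s.IsSwap → (φ.symm s).IsSwap) (p : Ω) :
    ∃ c : Ω, ∀ g, φ g p = p → g c = c := by
  have hcard : ∀ a : {a : Ω // a ≠ p}, (φ.symm (swap p a.1)).support.card = 2 := fun a =>
    card_support_eq_two.mpr (hsw _ ⟨p, a.1, a.2.symm, rfl⟩)
  let S : {a : Ω // a ≠ p} → Finset Ω := fun a => (φ.symm (swap p a.1)).support
  have hSinj : Function.Injective S := by
    intro a b hab
    obtain ⟨x, y, hxy, hx⟩ := hsw _ ⟨p, a.1, a.2.symm, rfl⟩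
    obtain ⟨u, v, huv, hu⟩ := hsw _ ⟨p, b.1, b.2.symm, rfl⟩
    simp only [S, hx, hu, support_swap hxy, support_swap huv] at hab
    have hx' : x = u ∨ x = v := by
      have : x ∈ ({u, v} : Finset Ω) := hab ▸ Finset.mem_insert_self x {y}
      simpa using this
    have hy' : y = u ∨ y = v := by
      have : y ∈ ({u, v} : Finset Ω) := hab ▸ Finset.mem_insert_of_mem (Finset.mem_singleton_self y)
      simpa using this
    have hsame : swap x y = swap u v := by
      rcases hx' with rfl | rfl <;> rcases hy' with rfl | rfl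
      · exact absurd rfl hxy
      · rfl
      · exact swap_comm _ _
      · exact absurd rfl hxy
    have : swap p a.1 = swap p b.1 := φ.symm.injective (by rw [hx, hu, hsame])
    have := congrArg (fun q : Perm Ω => q p) this
    exact Subtype.ext (by simpa using this)
  have hmeet : ∀ a b : {a : Ω // a ≠ p}, a ≠ b → (S a ∩ S b).Nonempty := by
    intro a b hab
    rw [Finset.nonempty_iff_ne_empty]
    intro he
    have hd : Disjoint (φ.symm (swap p a.1)) (φ.symm (swap p b.1)) :=
      disjoint_iff_disjoint_support.mpr (Finset.disjoint_iff_inter_eq_empty.mpr he)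
    have hc : Commute (swap p a.1) (swap p b.1) := by simpa using hd.commute.map φ.toMonoidHom
    have := congrArg (fun q : Perm Ω => q p) hc.eq
    simp only [Perm.mul_apply, swap_apply_left, swap_apply_of_ne_of_ne a.2 (fun h => hab (Subtype.ext h)),
      swap_apply_of_ne_of_ne b.2 (fun h => hab (Subtype.ext h.symm))] at this
    exact hab (Subtype.ext this.symm)
  have hn : 4 ≤ Fintype.card {a : Ω // a ≠ p} := by
    rw [Fintype.card_subtype_compl, Fintype.card_subtype_eq]; omega
  obtain ⟨a₁, a₂, h12⟩ := Fintype.exists_pair_of_one_lt_card (α := {a : Ω // a ≠ p}) (by omega)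
  obtain ⟨c, hc⟩ := hmeet a₁ a₂ h12
  rw [Finset.mem_inter] at hc
  have htwo : ∀ {T : Finset Ω} {x y : Ω}, T.card = 2 → x ∈ T → y ∈ T → x ≠ y → T = {x, y} := by
    intro T x y hT hx hy hxy
    refine (Finset.eq_of_subset_of_card_le ?_ ?_).symm
    · simp [Finset.insert_subset_iff, hx, hy]
    · rw [hT, Finset.card_pair hxy]
  obtain ⟨u, hu, huc⟩ : ∃ u ∈ S a₁, u ≠ c := Finset.exists_mem_ne (by rw [hcard]; omega) c
  obtain ⟨v, hv, hvc⟩ : ∃ v ∈ S a₂, v ≠ c := Finset.exists_mem_ne (by rw [hcard]; omega) c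
  have e1 : S a₁ = {c, u} := htwo (hcard _) hc.1 hu huc.symm
  have e2 : S a₂ = {c, v} := htwo (hcard _) hc.2 hv hvc.symm
  have huv : u ≠ v := by
    rintro rfl; exact h12 (hSinj (e1.trans e2.symm))
  have hall : ∀ x, c ∈ S x := by
    by_contra hall
    push Not at hall
    obtain ⟨x, hx⟩ := hall
    have hx1 : x ≠ a₁ := by rintro rfl; exact hx hc.1
    have hx2 : x ≠ a₂ := by rintro rfl; exact hx hc.2
    have mem_of : ∀ {T : Finset Ω} {s t : Ω}, (T ∩ {s, t}).Nonempty → s ∈ T ∨ t ∈ T := by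
      intro T s t ⟨z, hz⟩
      simp only [Finset.mem_inter, Finset.mem_insert, Finset.mem_singleton] at hz
      rcases hz with ⟨hz, rfl | rfl⟩
      · exact Or.inl hz
      · exact Or.inr hz
    have hxu : u ∈ S x := (mem_of (e1 ▸ hmeet x a₁ hx1)).resolve_left hx
    have hxv : v ∈ S x := (mem_of (e2 ▸ hmeet x a₂ hx2)).resolve_left hx
    have e3 : S x = {u, v} := htwo (hcard _) hxu hxv huv
    obtain ⟨y, -, hy⟩ : ∃ y ∈ (Finset.univ : Finset {a : Ω // a ≠ p}), y ∉ ({a₁, a₂, x} : Finset _) :=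
      Finset.exists_mem_notMem_of_card_lt_card (by
        have := Finset.card_le_three (a := a₁) (b := a₂) (c := x)
        rw [Finset.card_univ]; omega)
    simp only [Finset.mem_insert, Finset.mem_singleton, not_or] at hy
    have m1 := mem_of (e1 ▸ hmeet y a₁ hy.1)
    have m2 := mem_of (e2 ▸ hmeet y a₂ hy.2.1)
    have m3 := mem_of (e3 ▸ hmeet y x hy.2.2)
    by_cases hcy : c ∈ S y
    · rcases m3 with m | m
      · exact hy.1 (hSinj ((htwo (hcard _) hcy m huc.symm).trans e1.symm))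
      · exact hy.2.1 (hSinj ((htwo (hcard _) hcy m hvc.symm).trans e2.symm))
    · exact hy.2.2 (hSinj ((htwo (hcard _) (m1.resolve_left hcy) (m2.resolve_left hcy) huv).trans e3.symm))
  refine ⟨c, fun g hg => ?_⟩
  have hmem : ∀ x, g c ∈ S x := by
    intro x
    let y : {a : Ω // a ≠ p} := ⟨(φ g).symm x.1, fun h => x.2 (by
      have h' := congrArg (φ g) h
      rwa [hg, Equiv.apply_symm_apply] at h')⟩
    have hconj : g * φ.symm (swap p y.1) * g⁻¹ = φ.symm (swap p x.1) := by
      apply φ.injective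
      rw [map_mul, map_mul, map_inv, φ.apply_symm_apply, φ.apply_symm_apply, ← swap_apply_apply, hg,
        Equiv.apply_symm_apply]
    show g c ∈ (φ.symm (swap p x.1)).support
    rw [← hconj, support_conj, Finset.mem_map]
    exact ⟨c, hall y, rfl⟩
  have h1 := hmem a₁
  have h2 := hmem a₂
  rw [e1] at h1
  rw [e2] at h2
  simp only [Finset.mem_insert, Finset.mem_singleton] at h1 h2
  rcases h1 with h | h
  · exact h
  · rcases h2 with h' | h'
    · exact h'
    · exact absurd (h.symm.trans h') huv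

theorem stabilizer_of_fix {H : Subgroup (Perm Ω)} (hH : H.index = Fintype.card Ω) {c : Ω}
    (hc : ∀ g ∈ H, g c = c) : H = MulAction.stabilizer (Perm Ω) c := by
  haveI : MulAction.IsPretransitive (Perm Ω) Ω := inferInstance
  refine Subgroup.eq_of_le_of_card_ge (fun g hg => hc g hg) ?_
  have h1 := H.card_mul_index
  have h2 := (MulAction.stabilizer (Perm Ω) c).card_mul_index
  rw [MulAction.index_stabilizer_of_transitive, Nat.card_eq_fintype_card (α := Ω)] at h2
  rw [hH] at h1
  exact (Nat.eq_of_mul_eq_mul_right (Fintype.card_pos_iff.mpr ⟨c⟩) (h2.trans h1.symm)).le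

/-- Subgroups of index `n` of the symmetric group of degree `n ≠ 6` are point stabilisers. -/
theorem eq_stabilizer (h6 : Fintype.card Ω ≠ 6) {H : Subgroup (Perm Ω)} (hH : H.index = Fintype.card Ω) :
    ∃ c : Ω, H = MulAction.stabilizer (Perm Ω) c := by
  by_cases h5 : 5 ≤ Fintype.card Ω
  · obtain ⟨φ, p, hφ⟩ := exists_equiv h5 hH
    have hsw : ∀ s : Perm Ω, s.IsSwap → (φ.symm s).IsSwap := fun s hs =>
      (map_isSwap_or φ.symm h5 hs).resolve_right fun h => h6 h.1
    obtain ⟨c, hc⟩ := exists_point φ h5 hsw p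
    exact ⟨c, stabilizer_of_fix hH fun g hg => hc g ((hφ g).mp hg)⟩
  have hpos : 0 < Fintype.card Ω := hH ▸ Nat.pos_of_ne_zero Subgroup.index_ne_zero_of_finite
  haveI : Nonempty Ω := Fintype.card_pos_iff.mp hpos
  have hHcard : Nat.card H * Fintype.card Ω = (Fintype.card Ω).factorial := by
    rw [← hH, Subgroup.card_mul_index, Nat.card_perm, Nat.card_eq_fintype_card, hH]
  obtain ⟨c⟩ := ‹Nonempty Ω›
  obtain h | h | h : Fintype.card Ω ≤ 2 ∨ Fintype.card Ω = 3 ∨ Fintype.card Ω = 4 := by omega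
  · refine ⟨c, stabilizer_of_fix hH fun g hg => ?_⟩
    have : Nat.card H = 1 := by
      interval_cases hn : Fintype.card Ω <;> simp [Nat.factorial] at hHcard ⊢ <;> omega
    rw [Subgroup.card_eq_one] at this
    rw [this, Subgroup.mem_bot] at hg
    subst hg; rfl
  · have hc2 : Nat.card H = 2 := by rw [h] at hHcard; simp [Nat.factorial] at hHcard; omega
    haveI := Fact.mk Nat.prime_two
    obtain ⟨g, hg⟩ := exists_prime_orderOf_dvd_card' (G := H) 2 (by rw [hc2])
    have hg' : orderOf (g : Perm Ω) = 2 := by rw [Subgroup.orderOf_coe]; exact hg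
    obtain ⟨x, hx⟩ : ∃ x, (g : Perm Ω) x = x := by
      by_contra hh
      push Not at hh
      have h2 := two_dvd_card_support (σ := (g : Perm Ω)) (by rw [← hg', pow_orderOf_eq_one])
      have : (g : Perm Ω).support = Finset.univ := by ext y; simp [hh y]
      rw [this, Finset.card_univ, h] at h2
      omega
    refine ⟨x, stabilizer_of_fix hH fun k hk => ?_⟩
    have hz : Subgroup.zpowers g = ⊤ :=
      Subgroup.eq_top_of_card_eq _ (by rw [Nat.card_zpowers, hg, hc2])
    obtain ⟨j, hj⟩ := (hz ▸ Subgroup.mem_top (⟨k, hk⟩ : H) : (⟨k, hk⟩ : H) ∈ Subgroup.zpowers g)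
    have := congrArg Subtype.val hj
    rw [SubgroupClass.coe_zpow] at this
    rw [← show (g : Perm Ω) ^ j = k from this]
    exact Equiv.Perm.zpow_apply_eq_self_of_apply_eq_self hx j
  · have hc6 : Nat.card H = 6 := by rw [h] at hHcard; simp [Nat.factorial] at hHcard; omega
    haveI := Fact.mk Nat.prime_three
    obtain ⟨g, hg⟩ := exists_prime_orderOf_dvd_card' (G := H) 3 (by rw [hc6]; norm_num)
    have hg' : orderOf (g : Perm Ω) = 3 := by rw [Subgroup.orderOf_coe]; exact hg
    have hs3 : (g : Perm Ω).support.card = 3 := by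
      obtain ⟨k, hk⟩ := cycleType_prime_order (σ := (g : Perm Ω)) (by rw [hg']; exact Nat.prime_three)
      have hsum := sum_cycleType (g : Perm Ω)
      have hle := Finset.card_le_univ (g : Perm Ω).support
      rw [hk, hg', Multiset.sum_replicate, smul_eq_mul] at hsum
      rw [h] at hle
      omega
    obtain ⟨x, hx⟩ : ∃ x, (g : Perm Ω).supportᶜ = {x} := Finset.card_eq_one.mp (by
      rw [Finset.card_compl, hs3, h])
    refine ⟨x, stabilizer_of_fix hH fun k hk => ?_⟩
    have hidx : (Subgroup.zpowers g).index = 2 := by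
      have := (Subgroup.zpowers g).card_mul_index
      rw [Nat.card_zpowers, hg, hc6] at this; omega
    haveI : (Subgroup.zpowers g).Normal := Subgroup.normal_of_index_eq_two hidx
    obtain ⟨j, hj⟩ := (Subgroup.Normal.conj_mem ‹(Subgroup.zpowers g).Normal› g (Subgroup.mem_zpowers g)
      (⟨k, hk⟩ : H)⁻¹ : _ ∈ Subgroup.zpowers g)
    have hj' := congrArg Subtype.val hj
    simp only [SubgroupClass.coe_zpow, Subgroup.coe_mul, Subgroup.coe_inv, inv_inv] at hj'
    have hxg : (g : Perm Ω) x = x := by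
      have : x ∈ (g : Perm Ω).supportᶜ := hx ▸ Finset.mem_singleton_self x
      simpa using this
    have hfix : (g : Perm Ω) (k x) = k x := by
      have e := congrArg (fun q : Perm Ω => k (q x)) hj'
      simp only [Perm.mul_apply, Equiv.Perm.zpow_apply_eq_self_of_apply_eq_self hxg] at e
      simpa using e.symm
    have : k x ∈ (g : Perm Ω).supportᶜ := by simpa using hfix
    rw [hx, Finset.mem_singleton] at this
    exact this

theorem index_ge' (h4 : Fintype.card Ω ≠ 4) {H : Subgroup (Perm Ω)} (hH : H ≠ ⊤)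
    (hA : H ≠ alternatingGroup Ω) : Fintype.card Ω ≤ H.index := by
  by_cases h5 : 5 ≤ Fintype.card Ω
  · exact index_ge h5 hH hA
  have h1 : H.index ≠ 1 := fun h => hH (Subgroup.index_eq_one.mp h)
  have h0 : H.index ≠ 0 := Subgroup.index_ne_zero_of_finite
  by_contra hlt
  have h3 : Fintype.card Ω = 3 := by omega
  haveI : Nontrivial Ω := Fintype.one_lt_card_iff_nontrivial.mp (by omega)
  exact hA (Equiv.Perm.eq_alternatingGroup_of_index_eq_two (by omega))

end Cfsg.Lib.Classical.SymIndex
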