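import Mathlib
import Cfsg.Agent.Classical.SL
import Cfsg.Agent.Classical.Misc.SLTwoTori
import Cfsg.Agent.Classical.Misc.SymIndex

/-! Small linear groups as permutation groups. -/

set_option autoImplicit false
set_option linter.style.haveILetI false

namespace Cfsg.Lib.Classical.SmallPSL

open Equiv Matrix
open scoped LinearAlgebra.Projectivization MatrixGroups

universe u

theorem perm_iso {G : Type u} [Group G] {Ω : Type*} [Finite Ω] {n : ℕ} (hΩ : Nat.card Ω = n) (f : G →* Perm Ω)
    (hf : Function.Injective f) (hG : Nat.card G = Nat.factorial n) : Nonempty (G ≃* Perm (Fin n)) := by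
  let e : Ω ≃ Fin n := Finite.equivFinOfCardEq hΩ
  let g : G →* Perm (Fin n) := e.permCongrHom.toMonoidHom.comp f
  have hg : Function.Injective g := e.permCongrHom.injective.comp hf
  haveI : Finite G := Finite.of_injective _ hg
  exact ⟨MulEquiv.ofBijective g ((Nat.bijective_iff_injective_and_card g).mpr
    ⟨hg, by rw [hG, Nat.card_perm, Nat.card_fin]⟩)⟩

theorem alt_iso {G : Type u} [Group G] {Ω : Type*} [Finite Ω] {n : ℕ} (hΩ : Nat.card Ω = n) (f : G →* Perm Ω)
    (hf : Function.Injective f) (hG : 2 * Nat.card G = Nat.factorial n) :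
    Nonempty (G ≃* alternatingGroup (Fin n)) := by
  let e : Ω ≃ Fin n := Finite.equivFinOfCardEq hΩ
  let g : G →* Perm (Fin n) := e.permCongrHom.toMonoidHom.comp f
  have hg : Function.Injective g := e.permCongrHom.injective.comp hf
  have hidx : g.range.index = 2 := by
    have h1 := g.range.card_mul_index
    rw [Nat.card_congr (MonoidHom.ofInjective hg).toEquiv.symm, Nat.card_perm, Nat.card_fin, ← hG,
      mul_comm 2 (Nat.card G)] at h1
    refine Nat.eq_of_mul_eq_mul_left ?_ h1
    have := n.factorial_pos
    omega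
  rw [← Equiv.Perm.eq_alternatingGroup_of_index_eq_two hidx]
  exact ⟨MonoidHom.ofInjective hg⟩

variable {F : Type u} [Field F] [Fintype F]

theorem card_line {q : ℕ} (hF : Fintype.card F = q) : Nat.card (ℙ F (Fin 2 → F)) = q + 1 := by
  rw [Projectivization.card_of_finrank_two F (Fin 2 → F) (by simp), Nat.card_eq_fintype_card, hF]

theorem card_psl {q : ℕ} (hF : Fintype.card F = q) :
    Nat.gcd 2 (q - 1) * Nat.card (ProjectiveSpecialLinearGroup (Fin 2) F) = q * (q ^ 2 - 1) := by
  have h := Cfsg.Lib.Classical.gcd_mul_card_PSL (ι := Fin 2) (F := F)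
  rw [Fintype.card_fin, Nat.card_eq_fintype_card (α := F), hF, Cfsg.Lib.Classical.SLTwoTori.card_SL2, hF] at h
  exact h

theorem psl_injective : Function.Injective (MulAction.toPermHom (ProjectiveSpecialLinearGroup (Fin 2) F)
    (ℙ F (Fin 2 → F))) := MulAction.toPerm_injective

theorem psl_four (hF : Fintype.card F = 4) :
    Nonempty (ProjectiveSpecialLinearGroup (Fin 2) F ≃* alternatingGroup (Fin 5)) := by
  have h := card_psl hF
  norm_num at h
  exact alt_iso (card_line hF) _ psl_injective (by rw [Nat.factorial]; norm_num [Nat.factorial]; omega)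

theorem psl_three (hF : Fintype.card F = 3) :
    Nonempty (ProjectiveSpecialLinearGroup (Fin 2) F ≃* alternatingGroup (Fin 4)) := by
  have h := card_psl hF
  norm_num at h
  exact alt_iso (card_line hF) _ psl_injective (by norm_num [Nat.factorial]; omega)

theorem sl_two (hF : Fintype.card F = 2) : Nonempty (SpecialLinearGroup (Fin 2) F ≃* Perm (Fin 3)) := by
  refine perm_iso (card_line hF) (MulAction.toPermHom _ _) ?_ (by rw [Cfsg.Lib.Classical.SLTwoTori.card_SL2, hF]; rfl)
  rw [← MonoidHom.ker_eq_bot_iff, Projectivization.SL_mulAction_ker, ← Subgroup.card_eq_one,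
    Cfsg.Lib.Classical.card_center_SL, Nat.card_eq_fintype_card, hF]
  rfl

theorem pgl_injective : Function.Injective (MulAction.toPermHom (ProjGenLinGroup (Fin 2) F)
    (ℙ F (Fin 2 → F))) := by
  rw [injective_iff_map_eq_one]
  intro x hx
  induction x using ProjGenLinGroup.induction_on with | mk g => ?_
  rw [ProjGenLinGroup.mk_eq_one, GeneralLinearGroup.center_eq_range_scalar]
  obtain ⟨a, ha⟩ := (Matrix.toLin' (g : Matrix (Fin 2) (Fin 2) F)).exists_eq_smul_id_of_forall_notLinearIndependent
    fun v => by
      by_cases hv : v = 0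
      · simp [hv, linearIndependent_fin2]
      · have h := congrArg (fun σ : Perm (ℙ F (Fin 2 → F)) => σ (Projectivization.mk F v hv)) hx
        simp only [MulAction.toPermHom_apply, MulAction.toPerm_apply, Perm.one_apply,
          Projectivization.PGL.mk_smul_mk, Projectivization.mk_eq_mk_iff'] at h
        obtain ⟨r, hr⟩ := h
        rw [LinearIndependent.pair_iff' hv]
        push Not
        refine ⟨r, ?_⟩
        rw [Matrix.toLin'_apply]
        exact hr
  have hg : (g : Matrix (Fin 2) (Fin 2) F) = a • 1 := Matrix.toLin'.injective (by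
    rw [ha, map_smul, Matrix.toLin'_one]; rfl)
  have ha0 : a ≠ 0 := fun h => g.ne_zero (by rw [hg, h, zero_smul])
  refine ⟨Units.mk0 a ha0, Units.ext ?_⟩
  show Matrix.scalar (Fin 2) a = (g : Matrix (Fin 2) (Fin 2) F)
  rw [hg, Matrix.scalar_apply, ← Matrix.smul_one_eq_diagonal]

theorem psl_five (hF : Fintype.card F = 5) :
    Nonempty (ProjectiveSpecialLinearGroup (Fin 2) F ≃* alternatingGroup (Fin 5)) := by
  classical
  haveI : Fintype (ℙ F (Fin 2 → F)) := Fintype.ofFinite _
  have h6 : Fintype.card (ℙ F (Fin 2 → F)) = 6 := by rw [← Nat.card_eq_fintype_card, card_line hF]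
  let f := MulAction.toPermHom (ProjGenLinGroup (Fin 2) F) (ℙ F (Fin 2 → F))
  have hpgl : Nat.card f.range = 120 := by
    rw [Nat.card_congr (MonoidHom.ofInjective (f := f) pgl_injective).toEquiv.symm, Cfsg.Lib.Classical.card_PGL,
      Cfsg.Lib.Classical.SLTwoTori.card_SL2, hF]
    rfl
  have hidx : f.range.index = Fintype.card (ℙ F (Fin 2 → F)) := by
    have h1 := f.range.card_mul_index
    rw [hpgl, Nat.card_perm, Nat.card_eq_fintype_card (α := ℙ F (Fin 2 → F)), h6] at h1
    rw [h6]
    norm_num [Nat.factorial] at h1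
    omega
  obtain ⟨φ, p, hφ⟩ := SymIndex.exists_equiv (by omega) hidx
  let j : ProjectiveSpecialLinearGroup (Fin 2) F →* Perm {x : ℙ F (Fin 2 → F) // x ≠ p} :=
    { toFun := fun g => (φ (f (ProjectiveSpecialLinearGroup.toPGL g))).subtypePerm fun x => by
        have hp := (hφ _).mp ⟨ProjectiveSpecialLinearGroup.toPGL g, rfl⟩
        conv_lhs => rw [← hp]
        exact (φ (f _)).injective.ne_iff
      map_one' := Perm.ext fun x => by simp
      map_mul' := fun a b => Perm.ext fun x => Subtype.ext (by simp only [map_mul]; rfl) }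
  have hj : Function.Injective j := by
    rw [injective_iff_map_eq_one]
    intro g hg
    have hone : φ (f (ProjectiveSpecialLinearGroup.toPGL g)) = 1 := Perm.ext fun x => by
      by_cases hx : x = p
      · subst hx; exact (hφ _).mp ⟨_, rfl⟩
      · exact congrArg Subtype.val (congrArg (fun σ : Perm {x : ℙ F (Fin 2 → F) // x ≠ p} => σ ⟨x, hx⟩) hg)
    exact ProjectiveSpecialLinearGroup.toPGL_injective (pgl_injective
      (by rw [map_one, map_one]; exact φ.injective (hone.trans (map_one φ).symm)))
  have h := card_psl hF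
  norm_num at h
  refine alt_iso (n := 5) ?_ j hj (by norm_num [Nat.factorial]; omega)
  rw [Nat.card_eq_fintype_card, Fintype.card_subtype_compl, Fintype.card_subtype_eq, h6]

end Cfsg.Lib.Classical.SmallPSL
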