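import Mathlib
import Cfsg.Agent.Classical.Misc.SmallPSL

/-! `PSL₂(9) ≅ A₆`, through the action on ten points. -/

set_option autoImplicit false
set_option linter.unusedSimpArgs false
set_option linter.style.haveILetI false

namespace Cfsg.Lib.Classical.PSLNine

open Equiv Matrix
open scoped LinearAlgebra.Projectivization MatrixGroups

/-- Canonical half of a bipartition of six points. -/
def canon (t : Finset (Fin 6)) : Finset (Fin 6) := if 0 ∈ t then t else tᶜ

theorem canon_compl (t : Finset (Fin 6)) : canon tᶜ = canon t := by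
  by_cases h : 0 ∈ t <;> simp [canon, h]

theorem canon_eq (t : Finset (Fin 6)) : canon t = t ∨ canon t = tᶜ := by
  by_cases h : 0 ∈ t <;> simp [canon, h]

/-- The ten bipartitions `3|3`. -/
abbrev Part : Type := {s : Finset (Fin 6) // s.card = 3 ∧ 0 ∈ s}

/-- The action on bipartitions. -/
def act (σ : Perm (Fin 6)) (s : Part) : Part :=
  ⟨canon (s.1.map σ.toEmbedding), by
    rcases canon_eq (s.1.map σ.toEmbedding) with h | h
    · rw [h, Finset.card_map, s.2.1]
    · rw [h, Finset.card_compl, Finset.card_map, s.2.1, Fintype.card_fin],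
  by
    by_cases h : (0 : Fin 6) ∈ s.1.map σ.toEmbedding
    · rw [canon, if_pos h]; exact h
    · rw [canon, if_neg h]; exact Finset.mem_compl.mpr h⟩

theorem act_one (s : Part) : act 1 s = s := by
  refine Subtype.ext ?_
  show canon _ = s.1
  rw [show s.1.map (1 : Perm (Fin 6)).toEmbedding = s.1 by ext; simp [Perm.one_def], canon, if_pos s.2.2]

theorem act_mul (σ τ : Perm (Fin 6)) (s : Part) : act (σ * τ) s = act σ (act τ s) := by
  refine Subtype.ext ?_
  show canon _ = canon ((canon (s.1.map τ.toEmbedding)).map σ.toEmbedding)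
  have hmul : s.1.map (σ * τ).toEmbedding = (s.1.map τ.toEmbedding).map σ.toEmbedding := by
    rw [Finset.map_map]; rfl
  rcases canon_eq (s.1.map τ.toEmbedding) with h | h
  · rw [h, hmul]
  · have hc : ((s.1.map τ.toEmbedding)ᶜ).map σ.toEmbedding = ((s.1.map τ.toEmbedding).map σ.toEmbedding)ᶜ := by
      ext x
      simp
    rw [h, hc, canon_compl, hmul]

/-- The representation on bipartitions. -/
def φ : Perm (Fin 6) →* Perm Part where
  toFun σ :=
    { toFun := act σ
      invFun := act σ⁻¹
      left_inv := fun s => by rw [← act_mul, inv_mul_cancel, act_one]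
      right_inv := fun s => by rw [← act_mul, mul_inv_cancel, act_one] }
  map_one' := Equiv.ext act_one
  map_mul' σ τ := Equiv.ext (act_mul σ τ)

/-- The labelling of the line by bipartitions. -/
def lab : Option (ZMod 3 × ZMod 3) → Finset (Fin 6)
  | none => {0, 1, 2}
  | some (a, b) =>
    match a.val, b.val with
    | 0, 0 => {0, 1, 3} | 0, 1 => {0, 4, 5} | 0, _ => {0, 2, 3}
    | 1, 0 => {0, 1, 4} | 1, 1 => {0, 3, 5} | 1, _ => {0, 2, 4}
    | _, 0 => {0, 1, 5} | _, 1 => {0, 3, 4} | _, _ => {0, 2, 5}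

theorem lab_ok : ∀ x, (lab x).card = 3 ∧ 0 ∈ lab x := by decide

/-- The labelling. -/
def label (x : Option (ZMod 3 × ZMod 3)) : Part := ⟨lab x, lab_ok x⟩

theorem label_bij : Function.Bijective label :=
  ⟨fun x y h => (by decide : ∀ x y, lab x = lab y → x = y) x y (congrArg Subtype.val h),
    fun s => by
      obtain ⟨x, hx⟩ := (by decide : ∀ t : Finset (Fin 6), t.card = 3 ∧ 0 ∈ t → ∃ x, lab x = t) s.1 s.2
      exact ⟨x, Subtype.ext hx⟩⟩

/-- Translation by one. -/
def move1 : Option (ZMod 3 × ZMod 3) → Option (ZMod 3 × ZMod 3) := Option.map fun p => (p.1 + 1, p.2)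

/-- Translation by the fourth root of unity. -/
def moveI : Option (ZMod 3 × ZMod 3) → Option (ZMod 3 × ZMod 3) := Option.map fun p => (p.1, p.2 + 1)

/-- The map `x ↦ -1/x`. -/
def moveW : Option (ZMod 3 × ZMod 3) → Option (ZMod 3 × ZMod 3)
  | none => some (0, 0)
  | some (a, b) => if a = 0 ∧ b = 0 then none else some (-a * (a * a + b * b), b * (a * a + b * b))

theorem witnesses :
    (∃ s : Perm (Fin 6), s ∈ alternatingGroup (Fin 6) ∧ ∀ x, act s (label x) = label (move1 x)) ∧
    (∃ s : Perm (Fin 6), s ∈ alternatingGroup (Fin 6) ∧ ∀ x, act s (label x) = label (moveI x)) ∧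
    (∃ s : Perm (Fin 6), s ∈ alternatingGroup (Fin 6) ∧ ∀ x, act s (label x) = label (moveW x)) :=
  ⟨⟨swap 3 4 * swap 4 5, Perm.mem_alternatingGroup.mpr (by decide), by decide⟩,
    ⟨swap 0 1 * swap 1 2, Perm.mem_alternatingGroup.mpr (by decide), by decide⟩,
    ⟨swap 2 3 * swap 4 5, Perm.mem_alternatingGroup.mpr (by decide), by decide⟩⟩

theorem phi_injective : Function.Injective (φ.comp (alternatingGroup (Fin 6)).subtype) := by
  rw [← MonoidHom.ker_eq_bot_iff]
  haveI : IsSimpleGroup (alternatingGroup (Fin 6)) := alternatingGroup.isSimpleGroup (by simp)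
  refine ((φ.comp (alternatingGroup (Fin 6)).subtype).normal_ker.eq_bot_or_eq_top).resolve_right fun h => ?_
  have hmem : (⟨swap 2 3 * swap 4 5, Perm.mem_alternatingGroup.mpr (by decide)⟩ : alternatingGroup (Fin 6)) ∈
      (φ.comp (alternatingGroup (Fin 6)).subtype).ker := h ▸ Subgroup.mem_top _
  have h2 : act (swap 2 3 * swap 4 5) (label none) = label none :=
    congrArg (fun π : Perm Part => π (label none)) hmem
  exact absurd (congrArg Subtype.val h2) (by decide)

theorem norm_zero : ∀ a b : ZMod 3, a * a + b * b = 0 → a = 0 ∧ b = 0 := by decide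

theorem norm_sq : ∀ a b : ZMod 3, ¬(a = 0 ∧ b = 0) → (a * a + b * b) * (a * a + b * b) = 1 := by decide

universe u

theorem psl_nine {F : Type u} [Field F] [Fintype F] (hF : Fintype.card F = 9) :
    Nonempty (ProjectiveSpecialLinearGroup (Fin 2) F ≃* alternatingGroup (Fin 6)) := by
  classical
  haveI : Fact (Nat.Prime 3) := ⟨by norm_num⟩
  haveI : CharP F 3 := by
    obtain ⟨p, hp⟩ := CharP.exists F
    haveI : Fact p.Prime := ⟨CharP.char_is_prime F p⟩
    obtain ⟨k, hk, hk'⟩ := FiniteField.card F p
    have h3 : p ∣ 3 ^ 2 := ⟨p ^ ((k : ℕ) - 1), by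
      rw [show (3 : ℕ) ^ 2 = Fintype.card F by rw [hF]; norm_num, hk', ← pow_succ', Nat.sub_add_cancel k.pos]⟩
    rw [← (Nat.prime_dvd_prime_iff_eq hk (by norm_num)).mp (hk.dvd_of_dvd_pow h3)]
    exact hp
  obtain ⟨i, hi⟩ : ∃ i : F, i * i = -1 := by
    obtain ⟨i, hi⟩ := FiniteField.isSquare_neg_one_iff.mpr (show Fintype.card F % 4 ≠ 3 by omega)
    exact ⟨i, hi.symm⟩
  let c : ZMod 3 →+* F := ZMod.castHom (dvd_refl 3) F
  have hcinj : Function.Injective c := c.injective
  let el : ZMod 3 × ZMod 3 → F := fun p => c p.1 + c p.2 * i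
  have hnorm : ∀ a b : ZMod 3, el (a, b) * el (a, -b) = c (a * a + b * b) := fun a b => by
    simp only [el, map_neg, map_add, map_mul]
    linear_combination -(c b * c b) * hi
  have hel0 : ∀ a b : ZMod 3, el (a, b) = 0 → a = 0 ∧ b = 0 := fun a b h => by
    have h2 : c (a * a + b * b) = 0 := by rw [← hnorm, h, zero_mul]
    rw [map_eq_zero_iff c hcinj] at h2
    exact norm_zero a b h2
  have helbij : Function.Bijective el := by
    refine (Fintype.bijective_iff_injective_and_card el).mpr ⟨fun p r h => ?_, by simp [hF]⟩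
    obtain ⟨h1, h2⟩ := hel0 (p.1 - r.1) (p.2 - r.2) (by
      simp only [el, map_sub] at h ⊢
      linear_combination h)
    exact Prod.ext (sub_eq_zero.mp h1) (sub_eq_zero.mp h2)
  let pt : Option (ZMod 3 × ZMod 3) → ℙ F (Fin 2 → F) := fun o => match o with
    | none => Projectivization.mk F ![1, 0] (fun h => by simpa using congrFun h 0)
    | some p => Projectivization.mk F ![el p, 1] (fun h => by simpa using congrFun h 1)
  have hptinj : Function.Injective pt := by
    intro x y h
    match x, y with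
    | none, none => rfl
    | none, some p =>
      obtain ⟨a, ha⟩ := (Projectivization.mk_eq_mk_iff' F _ _ _ _).mp h
      have h0 := congrFun ha 0
      have h1 := congrFun ha 1
      simp at h0 h1
      exact absurd (by rw [← h0, h1, zero_mul] : (0 : F) = 1) zero_ne_one
    | some p, none =>
      obtain ⟨a, ha⟩ := (Projectivization.mk_eq_mk_iff' F _ _ _ _).mp h
      have h1 := congrFun ha 1
      simp at h1
    | some p, some r =>
      obtain ⟨a, ha⟩ := (Projectivization.mk_eq_mk_iff' F _ _ _ _).mp h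
      have h0 := congrFun ha 0
      have h1 := congrFun ha 1
      simp at h0 h1
      rw [h1, one_mul] at h0
      exact congrArg some (helbij.1 h0.symm)
  have hptbij : Function.Bijective pt := by
    refine (Nat.bijective_iff_injective_and_card pt).mpr ⟨hptinj, ?_⟩
    rw [Cfsg.Lib.Classical.SmallPSL.card_line hF]
    simp
  let e : Part ≃ ℙ F (Fin 2 → F) := (Equiv.ofBijective label label_bij).symm.trans (Equiv.ofBijective pt hptbij)
  have he : ∀ x, e (label x) = pt x := fun x => by
    simp only [e, Equiv.trans_apply, Equiv.ofBijective_symm_apply_apply]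
    rfl
  let Φ : alternatingGroup (Fin 6) →* Perm (ℙ F (Fin 2 → F)) :=
    e.permCongrHom.toMonoidHom.comp (φ.comp (alternatingGroup (Fin 6)).subtype)
  have hΦ : Function.Injective Φ := e.permCongrHom.injective.comp phi_injective
  let Ψ := MulAction.toPermHom (SpecialLinearGroup (Fin 2) F) (ℙ F (Fin 2 → F))
  have key : ∀ (g : SpecialLinearGroup (Fin 2) F) (mv : Option (ZMod 3 × ZMod 3) → Option (ZMod 3 × ZMod 3)),
      (∃ s : Perm (Fin 6), s ∈ alternatingGroup (Fin 6) ∧ ∀ x, act s (label x) = label (mv x)) →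
      (∀ x, g • pt x = pt (mv x)) → g ∈ Φ.range.comap Ψ := by
    rintro g mv ⟨s, hs, hsx⟩ hg
    refine ⟨⟨s, hs⟩, Equiv.ext fun P => ?_⟩
    obtain ⟨x, rfl⟩ := hptbij.2 P
    show e (act s (e.symm (pt x))) = g • pt x
    rw [show e.symm (pt x) = label x by rw [← he, Equiv.symm_apply_apply], hsx, he, hg]
  have mk_eq : ∀ (g : SpecialLinearGroup (Fin 2) F) (v w : Fin 2 → F) (hv : v ≠ 0) (hw : w ≠ 0) (t : F),
      t • w = (g : Matrix (Fin 2) (Fin 2) F) *ᵥ v → g • Projectivization.mk F v hv = Projectivization.mk F w hw :=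
    fun g v w hv hw t h => (Projectivization.mk_eq_mk_iff' F _ _ _ _).mpr ⟨t, h⟩
  let E : F → SpecialLinearGroup (Fin 2) F := fun t => ⟨!![1, t; 0, 1], by simp [Matrix.det_fin_two]⟩
  let W : SpecialLinearGroup (Fin 2) F := ⟨!![0, -1; 1, 0], by simp [Matrix.det_fin_two]⟩
  have hEc : ∀ t, (E t : Matrix (Fin 2) (Fin 2) F) = !![1, t; 0, 1] := fun _ => rfl
  have hWc : (W : Matrix (Fin 2) (Fin 2) F) = !![0, -1; 1, 0] := rfl
  set N := Φ.range.comap Ψ
  have h1 : E 1 ∈ N := key _ move1 witnesses.1 fun x => by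
    match x with
    | none => exact mk_eq _ _ _ _ _ 1 (by ext j; fin_cases j <;> simp [E, Matrix.mulVec, dotProduct, Fin.sum_univ_two])
    | some (a, b) =>
      exact mk_eq _ _ _ _ _ 1 (by
        ext j; fin_cases j <;> simp [E, el, Matrix.mulVec, dotProduct, Fin.sum_univ_two] <;> ring)
  have hI : E i ∈ N := key _ moveI witnesses.2.1 fun x => by
    match x with
    | none => exact mk_eq _ _ _ _ _ 1 (by ext j; fin_cases j <;> simp [E, Matrix.mulVec, dotProduct, Fin.sum_univ_two])
    | some (a, b) =>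
      exact mk_eq _ _ _ _ _ 1 (by
        ext j; fin_cases j <;> simp [E, el, Matrix.mulVec, dotProduct, Fin.sum_univ_two] <;> ring)
  have hW : W ∈ N := key _ moveW witnesses.2.2 fun x => by
    match x with
    | none => exact mk_eq _ _ _ _ _ 1 (by ext j; fin_cases j <;> simp [W, el, Matrix.mulVec, dotProduct, Fin.sum_univ_two])
    | some (a, b) =>
      by_cases hz : a = 0 ∧ b = 0
      · obtain ⟨rfl, rfl⟩ := hz
        exact mk_eq _ _ _ _ _ (-1) (by ext j; fin_cases j <;> simp [W, el, Matrix.mulVec, dotProduct, Fin.sum_univ_two])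
      · simp only [moveW, if_neg hz]
        refine mk_eq _ _ _ _ _ (el (a, b)) ?_
        have hsq : c (a * a + b * b) * c (a * a + b * b) = 1 := by
          rw [← map_mul, norm_sq a b hz,
            map_one]
        have hn := hnorm a b
        ext j
        fin_cases j <;> simp [W, el, Matrix.mulVec, dotProduct, Fin.sum_univ_two] at hn hsq ⊢
        linear_combination (-(c a * c a + c b * c b)) * hn - hsq
  have hE : ∀ t, E t ∈ N := by
    let T : AddSubgroup F :=
      { carrier := {t | E t ∈ N}
        zero_mem' := by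
          show E 0 ∈ N
          rw [show E 0 = 1 from Subtype.ext (Matrix.one_fin_two).symm]
          exact N.one_mem
        add_mem' := fun {s t} hs ht => by
          show E (s + t) ∈ N
          rw [show E (s + t) = E s * E t from Subtype.ext (by
            ext j k; fin_cases j <;> fin_cases k <;> simp [hEc, Matrix.SpecialLinearGroup.coe_mul, add_comm])]
          exact N.mul_mem hs ht
        neg_mem' := fun {s} hs => by
          show E (-s) ∈ N
          rw [show E (-s) = (E s)⁻¹ from Subtype.ext (by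
            ext j k; fin_cases j <;> fin_cases k <;> simp [hEc, Matrix.SpecialLinearGroup.coe_inv, Matrix.adjugate_fin_two])]
          exact N.inv_mem hs }
    intro t
    obtain ⟨⟨a, b⟩, rfl⟩ := helbij.2 t
    refine T.add_mem ?_ ?_
    · obtain ⟨n, rfl⟩ : ∃ n : ℕ, (n : ZMod 3) = a := ⟨a.val, ZMod.natCast_zmod_val a⟩
      rw [map_natCast, ← nsmul_one]
      exact T.nsmul_mem h1 n
    · obtain ⟨n, rfl⟩ : ∃ n : ℕ, (n : ZMod 3) = b := ⟨b.val, ZMod.natCast_zmod_val b⟩
      rw [map_natCast, ← nsmul_eq_mul]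
      exact T.nsmul_mem hI n
  have htop : N = ⊤ := by
    apply Cfsg.Lib.Classical.eq_top_of_transvection_mem
    intro j k hjk t
    fin_cases j <;> fin_cases k <;> first | exact absurd rfl hjk | skip
    · convert hE t using 1
      refine Subtype.ext ?_
      ext r s
      fin_cases r <;> fin_cases s <;> simp [E, Matrix.SpecialLinearGroup.transvection, Matrix.transvection, Matrix.single]
    · convert N.mul_mem (N.mul_mem hW (hE (-t))) (N.inv_mem hW) using 1
      refine Subtype.ext ?_
      ext r s
      fin_cases r <;> fin_cases s <;>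
        simp [hEc, hWc, Matrix.SpecialLinearGroup.coe_mul, Matrix.SpecialLinearGroup.transvection, Matrix.transvection, Matrix.single,
          Matrix.SpecialLinearGroup.coe_inv, Matrix.adjugate_fin_two]
  let Θ := MulAction.toPermHom (ProjectiveSpecialLinearGroup (Fin 2) F) (ℙ F (Fin 2 → F))
  have hle : Θ.range ≤ Φ.range := by
    rintro _ ⟨g, rfl⟩
    obtain ⟨g, rfl⟩ := QuotientGroup.mk_surjective g
    exact (htop ▸ Subgroup.mem_top g : g ∈ N)
  have hcards : Nat.card Φ.range ≤ Nat.card Θ.range := by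
    rw [← Nat.card_congr (MonoidHom.ofInjective hΦ).toEquiv,
      ← Nat.card_congr (MonoidHom.ofInjective Cfsg.Lib.Classical.SmallPSL.psl_injective).toEquiv]
    have h1 := Cfsg.Lib.Classical.SmallPSL.card_psl hF
    have h2 : 2 * Nat.card (alternatingGroup (Fin 6)) = Nat.card (Perm (Fin 6)) := by
      rw [← Subgroup.card_mul_index (alternatingGroup (Fin 6)), mul_comm, alternatingGroup.index_eq_two]
    rw [Nat.card_perm, Nat.card_fin] at h2
    norm_num [Nat.factorial, -Nat.card_eq_fintype_card, -Perm.mem_alternatingGroup] at h1 h2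
    omega
  exact ⟨(MonoidHom.ofInjective Cfsg.Lib.Classical.SmallPSL.psl_injective).trans
    ((MulEquiv.subgroupCongr (Subgroup.eq_of_le_of_card_ge hle hcards)).trans (MonoidHom.ofInjective hΦ).symm)⟩

end Cfsg.Lib.Classical.PSLNine
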