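import Mathlib

/-! Recognition of the alternating group of degree five and of dihedral groups. -/

set_option autoImplicit false
set_option linter.unusedSectionVars false
set_option linter.style.haveILetI false

namespace Cfsg.Lib.Classical.SixtyGroup

open Equiv Equiv.Perm MulAction

variable {G : Type*} [Group G] [Finite G]

theorem iso_alt_five (hs : IsSimpleGroup G) (hG : Nat.card G = 60) :
    Nonempty (G ≃* alternatingGroup (Fin 5)) := by
  classical
  haveI := Fact.mk (show Nat.Prime 5 by norm_num)
  obtain ⟨P⟩ : Nonempty (Sylow 5 G) := inferInstance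
  have hP : Nat.card (P : Subgroup G) = 5 := by
    rw [P.card_eq_multiplicity, hG, show (60 : ℕ) = 5 ^ 1 * 12 from rfl,
      Nat.factorization_mul (by norm_num) (by norm_num), Nat.Prime.factorization_pow (by norm_num)]
    simp [Nat.factorization_eq_zero_of_not_dvd (show ¬ 5 ∣ 12 by norm_num)]
  have hn : Nat.card (Sylow 5 G) = 6 := by
    have h1 : Nat.card (Sylow 5 G) % 5 = 1 := card_sylow_modEq_one 5 G
    have h2 : Nat.card (Sylow 5 G) ∣ 12 := by
      refine P.card_dvd_index.trans ?_
      have := (P : Subgroup G).index_mul_card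
      rw [hP, hG] at this
      exact ⟨1, by omega⟩
    have h3 : Nat.card (Sylow 5 G) ≠ 1 := by
      intro h
      haveI : Subsingleton (Sylow 5 G) := (Nat.card_eq_one_iff_unique.mp h).1
      rcases hs.eq_bot_or_eq_top_of_normal _ P.normal_of_subsingleton with e | e
      · rw [e, Subgroup.card_bot] at hP; omega
      · rw [e, Subgroup.card_top, hG] at hP; omega
    have hle := Nat.le_of_dvd (by norm_num) h2
    obtain ⟨c, hc⟩ := h2
    interval_cases hN : Nat.card (Sylow 5 G) <;> omega
  let α := Sylow 5 G
  haveI : Fintype α := Fintype.ofFinite α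
  have hα : Fintype.card α = 6 := by rw [← Nat.card_eq_fintype_card]; exact hn
  let ψ : G →* Perm α := MulAction.toPermHom G α
  have hψ : Function.Injective ψ := by
    rw [← MonoidHom.ker_eq_bot_iff]
    refine (hs.eq_bot_or_eq_top_of_normal _ inferInstance).resolve_right fun h => ?_
    haveI : Nontrivial α := Fintype.one_lt_card_iff_nontrivial.mp (by omega)
    obtain ⟨Q, hQ⟩ := exists_ne P
    obtain ⟨g, hg⟩ := MulAction.exists_smul_eq G P Q
    have h1 : g ∈ ψ.ker := h ▸ Subgroup.mem_top g
    have h2 := congrArg (fun s : Perm α => s P) (MonoidHom.mem_ker.mp h1)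
    exact hQ (hg ▸ by simpa [ψ] using h2)
  have halt : ∀ g, ψ g ∈ alternatingGroup α := by
    rcases hs.eq_bot_or_eq_top_of_normal (sign.comp ψ).ker inferInstance with h | h
    · exfalso
      have := Nat.card_le_card_of_injective _ ((MonoidHom.ker_eq_bot_iff _).mp h)
      rw [hG, Nat.card_eq_fintype_card, show Fintype.card ℤˣ = 2 from rfl] at this
      omega
    · exact fun g => mem_alternatingGroup.mpr (MonoidHom.mem_ker.mp (h ▸ Subgroup.mem_top g : g ∈ (sign.comp ψ).ker))
  haveI : Nontrivial α := Fintype.one_lt_card_iff_nontrivial.mp (by omega)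
  haveI : IsSimpleGroup (alternatingGroup α) := alternatingGroup.isSimpleGroup (by simp [hα])
  have hA : Nat.card (alternatingGroup α) = 360 := by
    rw [nat_card_alternatingGroup, Nat.card_eq_fintype_card, hα]; decide
  let ι : G →* alternatingGroup α := ψ.codRestrict _ halt
  have hι : Function.Injective ι := fun a b e => hψ (congrArg Subtype.val e)
  set K := ι.range with hKdef
  have hKc : Nat.card K = 60 := by rw [← hG]; exact (Nat.card_congr (MonoidHom.ofInjective hι).toEquiv).symm
  have hidx : K.index = 6 := by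
    have := K.card_mul_index
    rw [hKc, hA] at this
    omega
  set β := alternatingGroup α ⧸ K
  haveI : Fintype β := Fintype.ofFinite β
  have hβ : Fintype.card β = 6 := by rw [← Nat.card_eq_fintype_card, ← hidx]; rfl
  set φ := MulAction.toPermHom (alternatingGroup α) β
  have hφ : Function.Injective φ := by
    rw [← MonoidHom.ker_eq_bot_iff]
    rcases IsSimpleGroup.eq_bot_or_eq_top_of_normal _ (MonoidHom.normal_ker φ) with h' | h'
    · exact h'
    · exfalso
      rw [← K.normalCore_eq_ker] at h'
      have : K = ⊤ := top_le_iff.1 (h'.ge.trans K.normalCore_le)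
      rw [this, Subgroup.index_top] at hidx
      omega
  have hrange : φ.range = alternatingGroup β := by
    apply eq_alternatingGroup_of_index_eq_two
    have h1 := φ.range.card_mul_index
    rw [← Nat.card_congr (MonoidHom.ofInjective hφ).toEquiv, hA, Nat.card_perm, Nat.card_eq_fintype_card, hβ,
      show (6 : ℕ).factorial = 720 by decide] at h1
    omega
  let b₀ : β := ((1 : alternatingGroup α) : β)
  have hfix : ∀ k : K, φ (k : alternatingGroup α) b₀ = b₀ := fun k => by
    show ((k : alternatingGroup α)) • b₀ = b₀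
    show (((k : alternatingGroup α) * 1 : alternatingGroup α) : β) = _
    rw [mul_one]
    exact (QuotientGroup.eq).2 (by simpa using k.2)
  let γ := {b : β // b ≠ b₀}
  have hγ : Fintype.card γ = 5 := by rw [Fintype.card_subtype_compl, hβ, Fintype.card_subtype_eq]
  have hres : ∀ (k : K) (b : β), φ (k : alternatingGroup α) b ≠ b₀ ↔ b ≠ b₀ := fun k b =>
    not_congr ⟨fun e => (φ (k : alternatingGroup α)).injective (e.trans (hfix k).symm), fun e => e ▸ hfix k⟩
  let f : K →* Perm γ :=
    MonoidHom.mk' (fun k => (φ (k : alternatingGroup α)).subtypePerm (hres k))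
      fun u v => Equiv.ext fun b => Subtype.ext (by simp [map_mul])
  have hfof : ∀ k : K, ofSubtype (f k) = φ (k : alternatingGroup α) := fun k =>
    ofSubtype_subtypePerm (hres k) (fun b hb hb0 => hb (hb0 ▸ hfix k))
  have hfalt : ∀ k : K, f k ∈ alternatingGroup γ := fun k => by
    have : φ (k : alternatingGroup α) ∈ alternatingGroup β := hrange ▸ ⟨_, rfl⟩
    rw [mem_alternatingGroup] at this ⊢
    rwa [← hfof, sign_ofSubtype] at this
  let f' : K →* alternatingGroup γ := f.codRestrict _ hfalt
  have hf' : Function.Injective f' := fun u v e => by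
    have e' : f u = f v := congrArg Subtype.val e
    exact Subtype.ext (hφ (by rw [← hfof u, ← hfof v, e']))
  haveI : Nontrivial γ := Fintype.one_lt_card_iff_nontrivial.1 (by omega)
  have hbij : Function.Bijective f' := (Nat.bijective_iff_injective_and_card f').2 ⟨hf', by
    rw [hKc, nat_card_alternatingGroup, Nat.card_eq_fintype_card, hγ]; decide⟩
  exact ⟨(MonoidHom.ofInjective hι).trans ((MulEquiv.ofBijective f' hbij).trans
    (Equiv.altCongrHom (Fintype.equivFinOfCardEq hγ)))⟩

omit [Finite G] in
/-- An element of prime order `p` outside a normal subgroup of index prime to `p` does not exist. -/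
theorem mem_of_prime_pow (N : Subgroup G) [N.Normal] [N.FiniteIndex] {p : ℕ} (hp : p.Prime)
    (h : ¬ p ∣ N.index) {x : G} (hx : x ^ p = 1) : x ∈ N := by
  rw [← QuotientGroup.eq_one_iff, ← orderOf_eq_one_iff]
  have h1 : orderOf (x : G ⧸ N) ∣ p := orderOf_dvd_of_pow_eq_one (by
    rw [← QuotientGroup.mk_pow, hx, QuotientGroup.mk_one])
  rcases (Nat.dvd_prime hp).mp h1 with e | e
  · exact e
  · exact absurd (e ▸ orderOf_dvd_natCard (x : G ⧸ N)) h

/-- A subgroup of index prime to `p` containing a `p`-Sylow of a group: counting the prime order elements. -/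
theorem count_le (N : Subgroup G) {p k : ℕ} [Fact p.Prime] (hk : k ≤ Nat.card (Sylow p G))
    (hP : ∀ P : Sylow p G, Nat.card (P : Subgroup G) = p) (hN : ∀ x : G, x ^ p = 1 → x ∈ N) :
    k * (p - 1) + 1 ≤ Nat.card {x : N // x.1 ^ p = 1} := by
  classical
  haveI : Fintype (Sylow p G) := Fintype.ofFinite _
  haveI := Fintype.ofFinite G
  let f : Option (Σ P : Sylow p G, {x : (P : Subgroup G) // x ≠ 1}) → {x : N // x.1 ^ p = 1} := fun o =>
    o.elim ⟨1, one_pow p⟩ fun a =>
      have h : (a.2.1 : G) ^ p = 1 := by
        have := pow_card_eq_one' (x := a.2.1)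
        rw [hP a.1] at this
        exact congrArg Subtype.val this
      ⟨⟨a.2.1, hN _ h⟩, h⟩
  have hf : Function.Injective f := by
    rintro (_ | ⟨P, x, hx⟩) (_ | ⟨Q, y, hy⟩) e
    · rfl
    · have e' : (y : G) = 1 := (congrArg (fun z : {x : N // x.1 ^ p = 1} => (z.1 : G)) e).symm
      exact absurd (Subtype.ext e') hy
    · have e' : (x : G) = 1 := congrArg (fun z : {x : N // x.1 ^ p = 1} => (z.1 : G)) e
      exact absurd (Subtype.ext e') hx
    · have e' : (x : G) = y := congrArg (fun z : {x : N // x.1 ^ p = 1} => (z.1 : G)) e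
      have hgen : ∀ (R : Sylow p G) (z : (R : Subgroup G)), z ≠ 1 → (R : Subgroup G) = Subgroup.zpowers (z : G) := by
        intro R z hz
        refine (Subgroup.eq_of_le_of_card_ge (Subgroup.zpowers_le.mpr z.2) ?_).symm
        rw [hP R, Nat.card_zpowers]
        refine le_of_eq (orderOf_eq_prime ?_ fun h => hz (Subtype.ext h)).symm
        have := pow_card_eq_one' (x := z)
        rw [hP R] at this
        exact congrArg Subtype.val this
      have hPQ : P = Q := Sylow.ext (by rw [hgen P x hx, hgen Q y hy, e'])
      subst hPQ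
      obtain rfl : x = y := Subtype.ext e'
      rfl
  refine le_trans ?_ (Nat.card_le_card_of_injective f hf)
  rw [Finite.card_option, Nat.card_sigma]
  have hone : ∀ P : Sylow p G, Nat.card {x : (P : Subgroup G) // x ≠ 1} = p - 1 := fun P => by
    rw [Nat.card_eq_fintype_card, Fintype.card_subtype_compl, Fintype.card_subtype_eq,
      ← Nat.card_eq_fintype_card, hP]
  simp only [hone, Finset.sum_const, Finset.card_univ, smul_eq_mul, ← Nat.card_eq_fintype_card]
  have := Nat.mul_le_mul_right (p - 1) hk
  omega

theorem sylow_card_of {p m : ℕ} [Fact p.Prime] (h : Nat.card G = p * m) (hm : ¬ p ∣ m) (P : Sylow p G) :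
    Nat.card (P : Subgroup G) = p := by
  have hm0 : m ≠ 0 := fun h0 => hm (h0 ▸ dvd_zero p)
  rw [P.card_eq_multiplicity, h, ← pow_one p, Nat.factorization_mul (pow_ne_zero _ (Fact.out : p.Prime).ne_zero) hm0,
    Nat.Prime.factorization_pow Fact.out, pow_one]
  simp [Nat.factorization_eq_zero_of_not_dvd hm]

/-- A group of order sixty without normal subgroups of order two, three, four or five is simple. -/
theorem simple_of_sixty (hG : Nat.card G = 60)
    (h : ∀ N : Subgroup G, N.Normal → Nat.card N ∈ ({2, 3, 4, 5} : Finset ℕ) → False) : IsSimpleGroup G := by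
  classical
  haveI : Nontrivial G := Finite.one_lt_card_iff_nontrivial.mp (by omega)
  haveI := Fact.mk (show Nat.Prime 5 by norm_num)
  haveI := Fact.mk (show Nat.Prime 3 by norm_num)
  haveI := Fact.mk Nat.prime_two
  have h5 := fun P => sylow_card_of (p := 5) (m := 12) (G := G) (by omega) (by norm_num) P
  have h3 := fun P => sylow_card_of (p := 3) (m := 20) (G := G) (by omega) (by norm_num) P
  have hn5 : 6 ≤ Nat.card (Sylow 5 G) := by
    obtain ⟨P⟩ : Nonempty (Sylow 5 G) := inferInstance
    have h1 : Nat.card (Sylow 5 G) % 5 = 1 := card_sylow_modEq_one 5 G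
    by_contra hlt
    have h2 : Nat.card (Sylow 5 G) = 1 := by omega
    haveI : Subsingleton (Sylow 5 G) := (Nat.card_eq_one_iff_unique.mp h2).1
    exact h _ P.normal_of_subsingleton (by simp [h5 P])
  have hn3 : 4 ≤ Nat.card (Sylow 3 G) := by
    obtain ⟨P⟩ : Nonempty (Sylow 3 G) := inferInstance
    have h1 : Nat.card (Sylow 3 G) % 3 = 1 := card_sylow_modEq_one 3 G
    by_contra hlt
    have h2 : Nat.card (Sylow 3 G) = 1 := by omega
    haveI : Subsingleton (Sylow 3 G) := (Nat.card_eq_one_iff_unique.mp h2).1
    exact h _ P.normal_of_subsingleton (by simp [h3 P])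
  refine ⟨fun N hN => ?_⟩
  haveI := hN
  have hd : Nat.card N ∣ 60 := hG ▸ Subgroup.card_subgroup_dvd_card N
  have hmul := N.card_mul_index
  rw [hG] at hmul
  have hch : ∀ (p : ℕ) (_ : Fact p.Prime) (R : Sylow p N), Subsingleton (Sylow p N) →
      ((R : Subgroup N).map N.subtype).Normal := fun p _ R _ => by
    haveI := R.characteristic_of_subsingleton
    infer_instance
  by_cases h5d : 5 ∣ Nat.card N
  · right
    have hni : ¬ 5 ∣ N.index := fun h' => by
      have h25 := Nat.mul_dvd_mul h5d h'
      rw [hmul] at h25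
      norm_num at h25
    have hc := count_le N (k := 6) hn5 h5 fun x hx => mem_of_prime_pow N (by norm_num) hni hx
    have hle := Nat.card_le_card_of_injective (Subtype.val : {x : N // x.1 ^ 5 = 1} → N) Subtype.val_injective
    have hN30 : 25 ≤ Nat.card N := by omega
    rw [← Subgroup.card_eq_iff_eq_top, hG]
    rcases eq_or_ne (Nat.card N) 60 with e | e
    · exact e
    exfalso
    have hN : Nat.card N = 30 := by
      have := Nat.le_of_dvd (by norm_num) hd
      obtain ⟨c, hc'⟩ := hd
      rcases Nat.lt_or_ge c 3 with h2 | h2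
      · interval_cases c <;> omega
      · exfalso
        have := Nat.mul_le_mul_left (Nat.card N) h2
        omega
    have hni3 : ¬ 3 ∣ N.index := by
      rw [hN] at hmul
      omega
    have hc3 := count_le N (k := 4) hn3 h3 fun x hx => mem_of_prime_pow N (by norm_num) hni3 hx
    haveI := Fintype.ofFinite N
    have hdis : Nat.card {x : N // x.1 ^ 5 = 1} + Nat.card {x : N // x.1 ^ 3 = 1} ≤ Nat.card N + 1 := by
      simp only [Nat.card_eq_fintype_card, Fintype.card_subtype]
      have hu := Finset.card_union_add_card_inter (Finset.univ.filter fun x : N => x.1 ^ 5 = 1)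
        (Finset.univ.filter fun x : N => x.1 ^ 3 = 1)
      have hi : ((Finset.univ.filter fun x : N => x.1 ^ 5 = 1) ∩ (Finset.univ.filter fun x : N => x.1 ^ 3 = 1)).card ≤ 1 := by
        refine Finset.card_le_one.mpr fun x hx y hy => ?_
        have one : ∀ z : N, z.1 ^ 5 = 1 → z.1 ^ 3 = 1 → z.1 = 1 := fun z e5 e3 => by
          have e6 : z.1 ^ 6 = 1 := by rw [show (6 : ℕ) = 3 * 2 from rfl, pow_mul, e3, one_pow]
          calc z.1 = z.1 ^ 5 * z.1 := by rw [e5, one_mul]
            _ = 1 := by rw [← pow_succ, e6]
        simp only [Finset.mem_inter, Finset.mem_filter, Finset.mem_univ, true_and] at hx hy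
        exact Subtype.ext ((one x hx.1 hx.2).trans (one y hy.1 hy.2).symm)
      have := Finset.card_le_univ ((Finset.univ.filter fun x : N => x.1 ^ 5 = 1) ∪
        (Finset.univ.filter fun x : N => x.1 ^ 3 = 1))
      omega
    -- the Sylow 3-subgroup of `N` is unique unless there are ten of them
    obtain ⟨R⟩ : Nonempty (Sylow 3 N) := inferInstance
    have hR := sylow_card_of (p := 3) (m := 10) (G := N) (by omega) (by norm_num) R
    have hn : Nat.card (Sylow 3 N) % 3 = 1 := card_sylow_modEq_one 3 N
    have hnd : Nat.card (Sylow 3 N) ∣ 10 := by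
      refine R.card_dvd_index.trans ?_
      have := (R : Subgroup N).index_mul_card
      rw [hR, hN] at this
      exact ⟨1, by omega⟩
    have h10 : Nat.card (Sylow 3 N) = 1 ∨ Nat.card (Sylow 3 N) = 10 := by
      have := Nat.le_of_dvd (by norm_num) hnd
      obtain ⟨c, hc⟩ := hnd
      interval_cases hz : Nat.card (Sylow 3 N) <;> omega
    rcases h10 with e1 | e10
    · haveI := (Nat.card_eq_one_iff_unique.mp e1).1
      refine h _ (hch 3 inferInstance R inferInstance) ?_
      rw [Subgroup.card_map_of_injective N.subtype_injective, hR]; simp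
    · have hc' := count_le (G := N) ⊤ (p := 3) (k := 10) e10.ge
        (fun S => sylow_card_of (p := 3) (m := 10) (G := N) (by omega) (by norm_num) S) (fun _ _ => Subgroup.mem_top _)
      have heq : Nat.card {x : (⊤ : Subgroup N) // x.1 ^ 3 = 1} = Nat.card {x : N // x.1 ^ 3 = 1} :=
        Nat.card_congr (Subgroup.topEquiv.toEquiv.subtypeEquiv fun x => by
          show x.1 ^ 3 = 1 ↔ ((x.1 : N) : G) ^ 3 = 1
          rw [← Subgroup.coe_pow]; exact Subtype.ext_iff)
      omega
  · left
    have h12 : Nat.card N ∣ 12 := by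
      have hcop : Nat.Coprime (Nat.card N) 5 :=
        ((Nat.Prime.coprime_iff_not_dvd (by norm_num)).mpr h5d).symm
      exact hcop.dvd_of_dvd_mul_left (show Nat.card N ∣ 5 * 12 from hd)
    rw [← Subgroup.card_eq_one]
    by_contra hne
    have hcase : ∀ m, Nat.card N = m → m ∈ ({2, 3, 4, 5} : Finset ℕ) → False := fun m e hm => h N hN (e ▸ hm)
    have hle := Nat.le_of_dvd (by norm_num) h12
    have hpos : 0 < Nat.card N := Nat.card_pos
    have hcases : Nat.card N ∈ ({2, 3, 4} : Finset ℕ) ∨ Nat.card N = 6 ∨ Nat.card N = 12 := by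
      obtain ⟨c, hc⟩ := h12
      interval_cases hz : Nat.card N <;> first | (exfalso; omega) | simp
    rcases hcases with h' | h' | h'
    · exact h N hN (Finset.mem_of_subset (by simp [Finset.subset_iff]) h')
    · obtain ⟨R⟩ : Nonempty (Sylow 3 N) := inferInstance
      have hR := sylow_card_of (p := 3) (m := 2) (G := N) (by omega) (by norm_num) R
      have hn : Nat.card (Sylow 3 N) % 3 = 1 := card_sylow_modEq_one 3 N
      have hnd : Nat.card (Sylow 3 N) ∣ 2 := by
        refine R.card_dvd_index.trans ?_
        have := (R : Subgroup N).index_mul_card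
        rw [hR, h'] at this
        exact ⟨1, by omega⟩
      have := Nat.le_of_dvd (by norm_num) hnd
      haveI := (Nat.card_eq_one_iff_unique.mp (show Nat.card (Sylow 3 N) = 1 by omega)).1
      refine h _ (hch 3 inferInstance R inferInstance) ?_
      rw [Subgroup.card_map_of_injective N.subtype_injective, hR]; simp
    · have hni3 : ¬ 3 ∣ N.index := by rw [h'] at hmul; omega
      have hc3 := count_le N (k := 4) hn3 h3 fun x hx => mem_of_prime_pow N (by norm_num) hni3 hx
      -- the Sylow 2-subgroup of `N` fills the complement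
      obtain ⟨S⟩ : Nonempty (Sylow 2 N) := inferInstance
      have hS : Nat.card (S : Subgroup N) = 4 := by
        rw [S.card_eq_multiplicity, h', show (12 : ℕ) = 2 ^ 2 * 3 from rfl,
          Nat.factorization_mul (by norm_num) (by norm_num), Nat.Prime.factorization_pow Nat.prime_two]
        simp [Nat.factorization_eq_zero_of_not_dvd (show ¬ 2 ∣ 3 by norm_num)]
      haveI := Fintype.ofFinite N
      have hsub : Subsingleton (Sylow 2 N) := by
        have key : ∀ T : Sylow 2 N, Nat.card (T : Subgroup N) = 4 := fun T => by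
          rw [T.card_eq_multiplicity, ← S.card_eq_multiplicity, hS]
        set A : Finset N := Finset.univ.filter fun x : N => x.1 ^ 3 = 1 with hA
        have hAc : 9 ≤ A.card := by
          rw [Nat.card_eq_fintype_card, Fintype.card_subtype] at hc3; exact hc3
        refine ⟨fun T T' => Sylow.ext (SetLike.ext fun x => ?_)⟩
        have inc : ∀ T : Sylow 2 N, ∀ y, y ∈ (T : Subgroup N) ↔ (y = 1 ∨ y ∉ A) := by
          intro T
          set B : Finset N := Finset.univ.filter fun y => y ∈ (T : Subgroup N)
          have hB : B.card = 4 := by rw [← key T, Nat.card_eq_fintype_card, Fintype.card_subtype]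
          have hBsub : B ⊆ Finset.univ.filter fun y => y = 1 ∨ y ∉ A := by
            intro y hy
            simp only [B, Finset.mem_filter, Finset.mem_univ, true_and, hA] at hy ⊢
            by_cases h1 : y.1 ^ 3 = 1
            · left
              have h4 : (⟨y, hy⟩ : (T : Subgroup N)) ^ 4 = 1 := by
                have := pow_card_eq_one' (x := (⟨y, hy⟩ : (T : Subgroup N)))
                rwa [key T] at this
              have h4' : y.1 ^ 4 = 1 := congrArg (fun z : (T : Subgroup N) => ((z : N) : G)) h4
              refine Subtype.ext ?_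
              rw [pow_succ, h1, one_mul] at h4'
              exact h4'
            · exact Or.inr h1
          have hle : (Finset.univ.filter fun y : N => y = 1 ∨ y ∉ A).card ≤ 4 := by
            have h1A : (1 : N) ∈ A := by simp [hA]
            have : (Finset.univ.filter fun y : N => y = 1 ∨ y ∉ A) = insert 1 Aᶜ := by
              ext y; simp
            rw [this, Finset.card_insert_of_notMem (by simpa using h1A), Finset.card_compl,
              ← Nat.card_eq_fintype_card, h']
            omega
          have heq := Finset.eq_of_subset_of_card_le hBsub (by omega)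
          intro y
          have := Finset.ext_iff.mp heq y
          simpa [B] using this
        rw [inc T, inc T']
      refine h _ (hch 2 inferInstance S hsub) ?_
      rw [Subgroup.card_map_of_injective N.subtype_injective, hS]; simp

omit [Finite G] in
/-- A cyclic subgroup of index two inverted by an involution outside. -/
theorem dihedral_iso [Finite G] (C : Subgroup G) (hC : IsCyclic C) {n : ℕ} (hn : Nat.card C = n)
    (hidx : C.index = 2) (hout : ∀ g : G, g ∉ C → g * g = 1) : Nonempty (G ≃* DihedralGroup n) := by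
  obtain ⟨⟨c, hc⟩, hgen⟩ := hC.exists_generator
  haveI : NeZero n := ⟨hn ▸ Nat.card_pos.ne'⟩
  have hord : orderOf c = n := by
    rw [← hn, ← Nat.card_zpowers]
    congr 1
    have : Subgroup.zpowers c = C := le_antisymm (Subgroup.zpowers_le.mpr hc) fun x hx => by
      obtain ⟨k, hk⟩ := hgen ⟨x, hx⟩
      exact ⟨k, congrArg Subtype.val hk⟩
    rw [this]
  obtain ⟨w, hw⟩ : ∃ w, w ∉ C := by
    by_contra hall
    push Not at hall
    rw [show C = ⊤ from (Subgroup.eq_top_iff' C).mpr hall, Subgroup.index_top] at hidx
    omega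
  have hinv : ∀ k : ℤ, w * c ^ k = c ^ (-k) * w := fun k => by
    have hnot : w * c ^ k ∉ C := fun h => hw (by simpa using C.mul_mem h (C.inv_mem (C.zpow_mem hc k)))
    have h1 := hout _ hnot
    have hww : w⁻¹ = w := inv_eq_of_mul_eq_one_left (hout w hw)
    rw [mul_eq_one_iff_eq_inv, _root_.mul_inv_rev, hww, ← _root_.zpow_neg] at h1
    exact h1
  let f : DihedralGroup n → G := fun
    | .r i => c ^ (i.val : ℤ)
    | .sr i => w * c ^ (i.val : ℤ)
  have hmod : ∀ a b : ℤ, ((a : ZMod n) = (b : ZMod n)) → c ^ a = c ^ b := fun a b e => by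
    rw [zpow_eq_zpow_iff_modEq, hord]
    exact (ZMod.intCast_eq_intCast_iff _ _ _).mp e
  have hmul : ∀ x y, f (x * y) = f x * f y := by
    rintro (i | i) (j | j)
    · show c ^ ((i + j).val : ℤ) = _
      rw [← _root_.zpow_add]; exact hmod _ _ (by simp)
    · show w * c ^ ((j - i).val : ℤ) = c ^ (i.val : ℤ) * (w * c ^ (j.val : ℤ))
      have e := hinv (-(i.val : ℤ))
      rw [neg_neg] at e
      rw [← mul_assoc, ← e, mul_assoc, ← _root_.zpow_add]
      exact congrArg (w * ·) (hmod _ _ (by simp; ring))
    · show w * c ^ ((i + j).val : ℤ) = w * c ^ (i.val : ℤ) * c ^ (j.val : ℤ)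
      rw [mul_assoc, ← _root_.zpow_add]
      exact congrArg (w * ·) (hmod _ _ (by simp))
    · show c ^ ((j - i).val : ℤ) = w * c ^ (i.val : ℤ) * (w * c ^ (j.val : ℤ))
      rw [hinv, mul_assoc, ← mul_assoc w w, hout w hw, one_mul, ← _root_.zpow_add]
      exact hmod _ _ (by simp; ring)
  have hsurj : Function.Surjective (MonoidHom.mk' f hmul) := by
    intro x
    have key : ∀ y ∈ C, ∃ i : ZMod n, c ^ (i.val : ℤ) = y := fun y hy => by
      obtain ⟨k, hk⟩ := hgen ⟨y, hy⟩
      exact ⟨(k : ZMod n), (hmod _ k (by simp)).trans (congrArg Subtype.val hk)⟩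
    by_cases hx : x ∈ C
    · obtain ⟨i, hi⟩ := key x hx; exact ⟨.r i, hi⟩
    · have : w⁻¹ * x ∈ C := by
        rcases Subgroup.mul_mem_iff_of_index_two hidx (a := w⁻¹) (b := x) with h
        exact h.mpr (by simp [hw, hx])
      obtain ⟨i, hi⟩ := key _ this
      exact ⟨.sr i, by show w * c ^ (i.val : ℤ) = x; rw [hi, mul_inv_cancel_left]⟩
  refine ⟨(MulEquiv.ofBijective _ ((Nat.bijective_iff_surjective_and_card _).mpr ⟨hsurj, ?_⟩)).symm⟩
  rw [DihedralGroup.nat_card, ← C.card_mul_index, hidx, hn, mul_comm]

end Cfsg.Lib.Classical.SixtyGroup
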