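import Mathlib
import Cfsg.Agent.Classical.Misc.SLTwoTori

/-! Elements of order four of `SL₂` and four-groups of `PSL₂`. -/

set_option autoImplicit false
set_option linter.unusedSimpArgs false
set_option linter.unusedSectionVars false
set_option linter.style.haveILetI false
set_option linter.flexible false

namespace Cfsg.Lib.Classical.PSLFour

open Matrix
open scoped MatrixGroups

universe u

variable {F : Type u} [Field F]

/-- A matrix of determinant one. -/
def sl (a b c d : F) (h : a * d - b * c = 1) : SL(2, F) := ⟨!![a, b; c, d], by rw [Matrix.det_fin_two_of, h]⟩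

theorem sl_val (a b c d : F) (h : a * d - b * c = 1) :
    (sl a b c d h).1 0 0 = a ∧ (sl a b c d h).1 0 1 = b ∧ (sl a b c d h).1 1 0 = c ∧ (sl a b c d h).1 1 1 = d := by
  simp [sl]

theorem sl00 (a b c d : F) (h : a * d - b * c = 1) : (sl a b c d h).1 0 0 = a := (sl_val a b c d h).1
theorem sl01 (a b c d : F) (h : a * d - b * c = 1) : (sl a b c d h).1 0 1 = b := (sl_val a b c d h).2.1
theorem sl10 (a b c d : F) (h : a * d - b * c = 1) : (sl a b c d h).1 1 0 = c := (sl_val a b c d h).2.2.1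
theorem sl11 (a b c d : F) (h : a * d - b * c = 1) : (sl a b c d h).1 1 1 = d := (sl_val a b c d h).2.2.2

theorem ext_four {g h : SL(2, F)} (h00 : g.1 0 0 = h.1 0 0) (h01 : g.1 0 1 = h.1 0 1) (h10 : g.1 1 0 = h.1 1 0)
    (h11 : g.1 1 1 = h.1 1 1) : g = h := by
  refine Subtype.ext ?_
  ext i j
  fin_cases i <;> fin_cases j <;> assumption

theorem det_eq_one (g : SL(2, F)) : g.1 0 0 * g.1 1 1 - g.1 0 1 * g.1 1 0 = 1 := by
  have h := g.2
  rwa [Matrix.det_fin_two] at h

theorem val_mul (g h : SL(2, F)) (i j : Fin 2) :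
    (g * h).1 i j = g.1 i 0 * h.1 0 j + g.1 i 1 * h.1 1 j := by
  rw [Matrix.SpecialLinearGroup.coe_mul, Matrix.mul_apply, Fin.sum_univ_two]

theorem val_neg (g : SL(2, F)) (i j : Fin 2) : (-g).1 i j = - g.1 i j := rfl

theorem val_one : (1 : SL(2, F)).1 0 0 = 1 ∧ (1 : SL(2, F)).1 0 1 = 0 ∧ (1 : SL(2, F)).1 1 0 = 0 ∧
    (1 : SL(2, F)).1 1 1 = 1 := by simp

theorem sq_iff (g : SL(2, F)) : g * g = -1 ↔ g.1 1 1 = -g.1 0 0 := by
  have hd := det_eq_one g
  obtain ⟨e00, e01, e10, e11⟩ := val_one (F := F)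
  constructor
  · intro h
    have h0 := congrArg (fun x : SL(2, F) => x.1 0 1) h
    have h1 := congrArg (fun x : SL(2, F) => x.1 1 0) h
    have h2 := congrArg (fun x : SL(2, F) => x.1 0 0) h
    simp only [val_mul, val_neg, e00, e01, e10] at h0 h1 h2
    by_cases hb : g.1 0 1 = 0
    · by_cases hc : g.1 1 0 = 0
      · have ha : g.1 0 0 * g.1 1 1 = 1 := by linear_combination hd + g.1 0 1 * hc
        have : g.1 0 0 * (g.1 0 0 + g.1 1 1) = 0 := by linear_combination h2 - g.1 0 1 * hc + ha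
        rcases mul_eq_zero.mp this with e | e
        · rw [e, zero_mul] at ha; exact absurd ha zero_ne_one
        · exact eq_neg_of_add_eq_zero_right e
      · have : g.1 1 0 * (g.1 0 0 + g.1 1 1) = 0 := by linear_combination h1
        exact eq_neg_of_add_eq_zero_right ((mul_eq_zero.mp this).resolve_left hc)
    · have : g.1 0 1 * (g.1 0 0 + g.1 1 1) = 0 := by linear_combination h0
      exact eq_neg_of_add_eq_zero_right ((mul_eq_zero.mp this).resolve_left hb)
  · intro h
    rw [h] at hd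
    refine ext_four ?_ ?_ ?_ ?_ <;> simp only [val_mul, val_neg, h, e00, e01, e10, e11]
    · linear_combination -hd
    · ring
    · ring
    · linear_combination -hd

/-- The standard element of order four. -/
def J : SL(2, F) := sl 0 1 (-1) 0 (by ring)

theorem J_sq : (J : SL(2, F)) * J = -1 := (sq_iff _).mpr (by simp [J, sl00, sl01, sl10, sl11])

/-- The centraliser of `J`. -/
def C : Subgroup SL(2, F) := Subgroup.centralizer {J}

theorem mem_C {x : SL(2, F)} : x ∈ C ↔ x.1 1 1 = x.1 0 0 ∧ x.1 1 0 = -x.1 0 1 := by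
  rw [C, Subgroup.mem_centralizer_singleton_iff]
  constructor
  · intro h
    have h0 := congrArg (fun y : SL(2, F) => y.1 0 0) h
    have h1 := congrArg (fun y : SL(2, F) => y.1 0 1) h
    simp [val_mul, J, sl00, sl01, sl10, sl11] at h0 h1
    exact ⟨by linear_combination -h1, by linear_combination -h0⟩
  · rintro ⟨h0, h1⟩
    refine ext_four ?_ ?_ ?_ ?_ <;> simp [val_mul, J, sl00, sl01, sl10, sl11, h0, h1]

theorem C_comm {x y : SL(2, F)} (hx : x ∈ C) (hy : y ∈ C) : x * y = y * x := by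
  obtain ⟨h0, h1⟩ := mem_C.mp hx
  obtain ⟨h2, h3⟩ := mem_C.mp hy
  refine ext_four ?_ ?_ ?_ ?_ <;> simp only [val_mul, h0, h1, h2, h3] <;> ring

theorem conj_J_iff {x y : SL(2, F)} : x * J * x⁻¹ = y * J * y⁻¹ ↔ x⁻¹ * y ∈ C := by
  rw [C, Subgroup.mem_centralizer_singleton_iff]
  constructor
  · intro h
    calc x⁻¹ * y * J = x⁻¹ * (y * J * y⁻¹) * y := by group
      _ = x⁻¹ * (x * J * x⁻¹) * y := by rw [h]
      _ = J * (x⁻¹ * y) := by group
  · intro h
    calc x * J * x⁻¹ = x * (J * (x⁻¹ * y)) * y⁻¹ := by group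
      _ = x * (x⁻¹ * y * J) * y⁻¹ := by rw [h]
      _ = y * J * y⁻¹ := by group

theorem exists_sum_sq [Fintype F] (hodd : Odd (Fintype.card F)) (t : F) : ∃ a b : F, a ^ 2 + b ^ 2 = t := by
  obtain ⟨a, b, h⟩ := FiniteField.exists_root_sum_quadratic (f := (Polynomial.X : Polynomial F) ^ 2)
    (g := (Polynomial.X : Polynomial F) ^ 2 - Polynomial.C t) (Polynomial.degree_X_pow 2)
    (Polynomial.degree_X_pow_sub_C (by norm_num) t) (Nat.odd_iff.mp hodd)
  simp only [Polynomial.eval_sub, Polynomial.eval_pow, Polynomial.eval_X, Polynomial.eval_C] at h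
  exact ⟨a, b, by linear_combination h⟩

theorem two_ne [Fintype F] (hodd : Odd (Fintype.card F)) : (2 : F) ≠ 0 := Ring.two_ne_zero fun h => by
  have := FiniteField.even_card_of_char_two h
  rw [Nat.odd_iff] at hodd
  omega

theorem conj_to_J [Fintype F] (hodd : Odd (Fintype.card F)) {g : SL(2, F)} (hg : g * g = -1) :
    ∃ x, x * J * x⁻¹ = g := by
  have ht := (sq_iff g).mp hg
  have hd := det_eq_one g
  rw [ht] at hd
  set a := g.1 0 0
  set b := g.1 0 1
  set c := g.1 1 0
  obtain ⟨x, y, hxy⟩ : ∃ x y : F, c * x ^ 2 - 2 * a * x * y - b * y ^ 2 = -1 := by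
    by_cases hc : c = 0
    · have ha : a ≠ 0 := by
        intro h0
        rw [h0, hc] at hd
        simp at hd
      exact ⟨(1 - b) / (2 * a), 1, by have := two_ne hodd; rw [hc]; field_simp; ring⟩
    · obtain ⟨X, y, h⟩ := exists_sum_sq hodd (-c)
      refine ⟨X / c + a * y / c, y, ?_⟩
      field_simp
      linear_combination h + y ^ 2 * hd
  refine ⟨sl x (-(a * x + b * y)) y (-(c * x - a * y)) (by linear_combination -hxy), ?_⟩
  rw [mul_inv_eq_iff_eq_mul]
  refine ext_four ?_ ?_ ?_ ?_ <;> simp [val_mul, J, sl00, sl01, sl10, sl11, ht, a, b, c]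
  · linear_combination (-x) * hd
  · ring
  · linear_combination (-y) * hd

/-- The elements squaring to `-1`. -/
def S : Set SL(2, F) := {g | g * g = -1}

theorem conj_mem_S (x : SL(2, F)) {g : SL(2, F)} (hg : g * g = -1) : x * g * x⁻¹ * (x * g * x⁻¹) = -1 := by
  calc x * g * x⁻¹ * (x * g * x⁻¹) = x * (g * g) * x⁻¹ := by group
    _ = -1 := by rw [hg]; simp

theorem card_S_mul [Fintype F] (hodd : Odd (Fintype.card F)) :
    Nat.card ↥(S : Set SL(2, F)) * Nat.card ↥(C : Subgroup SL(2, F)) = Nat.card SL(2, F) := by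
  rw [← Nat.card_prod]
  choose r hr using fun g : ↥(S : Set SL(2, F)) => conj_to_J hodd g.2
  refine Nat.card_congr (Equiv.ofBijective (fun p => r p.1 * p.2) ⟨?_, ?_⟩)
  · rintro ⟨g, c⟩ ⟨g', c'⟩ h
    simp only at h
    have hg : g = g' := by
      refine Subtype.ext ?_
      rw [← hr g, ← hr g', conj_J_iff]
      have : (r g)⁻¹ * r g' = c * (c' : SL(2, F))⁻¹ := by
        calc (r g)⁻¹ * r g' = (r g)⁻¹ * (r g' * c') * (c' : SL(2, F))⁻¹ := by group
          _ = (r g)⁻¹ * (r g * c) * (c' : SL(2, F))⁻¹ := by rw [h]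
          _ = c * (c' : SL(2, F))⁻¹ := by group
      rw [this]
      exact mul_mem c.2 (inv_mem c'.2)
    subst hg
    exact Prod.ext rfl (Subtype.ext (mul_left_cancel h))
  · intro x
    refine ⟨⟨⟨x * J * x⁻¹, conj_mem_S x J_sq⟩, ⟨(r ⟨x * J * x⁻¹, conj_mem_S x J_sq⟩)⁻¹ * x, ?_⟩⟩, ?_⟩
    · exact conj_J_iff.mp (hr ⟨x * J * x⁻¹, conj_mem_S x J_sq⟩)
    · exact mul_inv_cancel_left _ _

theorem card_mul_eq [Fintype F] [DecidableEq F] (k : F) :
    Nat.card {p : F × F // p.1 * p.2 = k} = if k = 0 then 2 * Fintype.card F - 1 else Fintype.card F - 1 := by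
  split_ifs with h
  · subst h
    rw [Nat.card_eq_fintype_card, Fintype.card_subtype]
    have he : (Finset.univ.filter fun p : F × F => p.1 * p.2 = 0) =
        ({0} : Finset F) ×ˢ Finset.univ ∪ (Finset.univ.erase 0) ×ˢ ({0} : Finset F) := by
      ext ⟨x, y⟩
      by_cases hx : x = 0 <;> simp [hx, eq_comm]
    rw [he, Finset.card_union_of_disjoint]
    · simp
      have := Fintype.card_pos (α := F)
      omega
    · rw [Finset.disjoint_left]
      rintro ⟨x, y⟩ h1 h2
      simp only [Finset.mem_product, Finset.mem_singleton, Finset.mem_erase] at h1 h2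
      exact h2.1.1 h1.1
  · rw [← Fintype.card_units, Nat.card_eq_fintype_card]
    refine Fintype.card_congr
      { toFun := fun p => Units.mk0 p.1.1 (fun h0 => h (by rw [← p.2, h0, zero_mul]))
        invFun := fun x => ⟨((x : F), k / x), mul_div_cancel₀ k x.ne_zero⟩
        left_inv := fun p => Subtype.ext (Prod.ext rfl (by
          have h0 : p.1.1 ≠ 0 := fun h0 => h (by rw [← p.2, h0, zero_mul])
          simp only [Units.val_mk0]
          rw [div_eq_iff h0, mul_comm]
          exact p.2.symm))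
        right_inv := fun x => Units.ext rfl }

theorem card_S [Fintype F] :
    Nat.card ↥(S : Set SL(2, F)) =
      Fintype.card F * (Fintype.card F - 1) + Fintype.card F * Nat.card {a : F // a ^ 2 = -1} := by
  classical
  have he : ↥(S : Set SL(2, F)) ≃ Σ a : F, {p : F × F // p.1 * p.2 = -1 - a ^ 2} :=
    { toFun := fun g => ⟨g.1.1 0 0, ⟨(g.1.1 0 1, g.1.1 1 0), by
        have hd := det_eq_one g.1
        rw [(sq_iff g.1).mp g.2] at hd
        linear_combination -hd⟩⟩
      invFun := fun p => ⟨sl p.1 p.2.1.1 p.2.1.2 (-p.1) (by linear_combination -p.2.2),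
        (sq_iff _).mpr (by simp [sl00, sl01, sl10, sl11])⟩
      left_inv := fun g => Subtype.ext (ext_four (by simp [sl00, sl01, sl10, sl11]) (by simp [sl00, sl01, sl10, sl11]) (by simp [sl00, sl01, sl10, sl11])
        (by simp [sl00, sl01, sl10, sl11, (sq_iff g.1).mp g.2]))
      right_inv := fun p => by
        obtain ⟨a, ⟨⟨x, y⟩, hp⟩⟩ := p
        exact Sigma.subtype_ext (by simp [sl00]) (by simp [sl01, sl10]) }
  rw [Nat.card_congr he, Nat.card_sigma, Finset.sum_congr rfl (fun a _ => card_mul_eq (-1 - a ^ 2))]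
  have hq : 1 ≤ Fintype.card F := Fintype.card_pos
  have hsplit : ∀ a : F, (if -1 - a ^ 2 = 0 then 2 * Fintype.card F - 1 else Fintype.card F - 1) =
      (Fintype.card F - 1) + if a ^ 2 = -1 then Fintype.card F else 0 := fun a => by
    by_cases h : a ^ 2 = -1
    · rw [if_pos (by rw [h]; ring), if_pos h]; omega
    · rw [if_neg (fun h' => h (by linear_combination -h')), if_neg h, add_zero]
  rw [Finset.sum_congr rfl (fun a _ => hsplit a), Finset.sum_add_distrib, Finset.sum_const, Finset.card_univ,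
    smul_eq_mul, ← Finset.sum_filter, Finset.sum_const, smul_eq_mul, Nat.card_eq_fintype_card,
    Fintype.card_subtype, mul_comm _ (Fintype.card F)]

theorem card_C [Fintype F] (hodd : Odd (Fintype.card F)) :
    (Fintype.card F % 4 = 1 → Nat.card ↥(C : Subgroup SL(2, F)) = Fintype.card F - 1) ∧
      (Fintype.card F % 4 = 3 → Nat.card ↥(C : Subgroup SL(2, F)) = Fintype.card F + 1) := by
  classical
  have h := card_S_mul hodd
  rw [SLTwoTori.card_SL2, card_S] at h
  set q := Fintype.card F with hq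
  have hq3 : 3 ≤ q := by
    have := Fintype.one_lt_card (α := F)
    rw [Nat.odd_iff] at hodd
    omega
  have hsq : q ^ 2 - 1 = (q + 1) * (q - 1) := by
    have h' := Nat.sq_sub_sq q 1
    rwa [one_pow] at h'
  rw [hsq] at h
  constructor <;> intro hm
  · have h1 : IsSquare (-1 : F) := FiniteField.isSquare_neg_one_iff.mpr (by omega)
    obtain ⟨i, hi⟩ := h1
    have hi0 : i ≠ 0 := fun h0 => by rw [h0, mul_zero] at hi; exact one_ne_zero (neg_eq_zero.mp hi)
    have hne : i ≠ -i := fun h0 => hi0 ((mul_eq_zero.mp (by linear_combination h0 : 2 * i = 0)).resolve_left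
      (two_ne hodd))
    have he : Nat.card {a : F // a ^ 2 = -1} = 2 := by
      rw [Nat.card_eq_fintype_card, Fintype.card_subtype,
        show (Finset.univ.filter fun a : F => a ^ 2 = -1) = {i, -i} from ?_, Finset.card_pair hne]
      ext a
      simp only [Finset.mem_filter, Finset.mem_univ, true_and, Finset.mem_insert, Finset.mem_singleton]
      rw [← sq_eq_sq_iff_eq_or_eq_neg, show i ^ 2 = -1 by rw [hi]; ring]
    rw [he, ← mul_add, show q - 1 + 2 = q + 1 by omega, mul_assoc] at h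
    exact Nat.eq_of_mul_eq_mul_left (show 0 < q + 1 by omega) (Nat.eq_of_mul_eq_mul_left (by omega) h)
  · have he : Nat.card {a : F // a ^ 2 = -1} = 0 := by
      rw [Nat.card_eq_zero]
      refine Or.inl ⟨fun a => ?_⟩
      have h1 : IsSquare (-1 : F) := ⟨a.1, by rw [← pow_two]; exact a.2.symm⟩
      have := FiniteField.isSquare_neg_one_iff.mp h1
      omega
    rw [he, mul_zero, add_zero, mul_assoc, mul_comm (q + 1) (q - 1)] at h
    exact Nat.eq_of_mul_eq_mul_left (show 0 < q - 1 by omega) (Nat.eq_of_mul_eq_mul_left (by omega) h)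

theorem eq_or_neg [Fintype F] (hodd : Odd (Fintype.card F)) {g : SL(2, F)} (h : g * g = 1) : g = 1 ∨ g = -1 := by
  obtain ⟨p, hp⟩ := CharP.exists F
  haveI := Fact.mk (CharP.char_is_prime F p)
  have hp2 : p ≠ 2 := by
    rintro rfl
    exact two_ne hodd (by exact_mod_cast CharP.cast_eq_zero F 2)
  by_cases h1 : g = 1
  · exact Or.inl h1
  · exact Or.inr (SLTwoTori.eq_neg_one p hp2 h1 h)

theorem neg_one_ne [Fintype F] (hodd : Odd (Fintype.card F)) : (-1 : SL(2, F)) ≠ 1 := fun h => by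
  have := congrArg (fun x : SL(2, F) => x.1 0 0) h
  simp at this
  exact two_ne hodd (by linear_combination -this)

theorem neg_ne [Fintype F] (hodd : Odd (Fintype.card F)) (g : SL(2, F)) : -g ≠ g := fun h =>
  neg_one_ne hodd (mul_right_cancel (b := g) (by rw [neg_one_mul, one_mul, h]))

/-- An element inverting the centraliser of `J`. -/
theorem exists_anti [Fintype F] (hodd : Odd (Fintype.card F)) :
    ∃ h : SL(2, F), h * h = -1 ∧ J * h = -(h * J) ∧ ∀ c ∈ C, h * c = c⁻¹ * h := by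
  obtain ⟨a, b, hab⟩ := exists_sum_sq hodd (-1 : F)
  refine ⟨sl a b b (-a) (by linear_combination -hab), (sq_iff _).mpr (by simp [sl00, sl01, sl10, sl11]), ?_, fun c hc => ?_⟩
  · refine ext_four ?_ ?_ ?_ ?_ <;> simp [val_mul, val_neg, J, sl00, sl01, sl10, sl11]
  · obtain ⟨h0, h1⟩ := mem_C.mp hc
    rw [eq_inv_mul_iff_mul_eq]
    have hd := det_eq_one c
    rw [h0, h1] at hd
    refine ext_four ?_ ?_ ?_ ?_ <;> simp [val_mul, sl00, sl01, sl10, sl11, h0, h1]
    · linear_combination a * hd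
    · linear_combination b * hd
    · linear_combination b * hd
    · linear_combination (-a) * hd

/-- Anticommuting pairs of elements squaring to `-1`. -/
def IsPair (g h : SL(2, F)) : Prop := g * g = -1 ∧ h * h = -1 ∧ g * h = -(h * g)

theorem IsPair.conj {g h : SL(2, F)} (hp : IsPair g h) (x : SL(2, F)) : IsPair (x * g * x⁻¹) (x * h * x⁻¹) := by
  refine ⟨conj_mem_S x hp.1, conj_mem_S x hp.2.1, ?_⟩
  calc x * g * x⁻¹ * (x * h * x⁻¹) = x * (g * h) * x⁻¹ := by group
    _ = -(x * (h * g) * x⁻¹) := by rw [hp.2.2]; simp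
    _ = -(x * h * x⁻¹ * (x * g * x⁻¹)) := by group

theorem IsPair.symm {g h : SL(2, F)} (hp : IsPair g h) : IsPair h g := by
  refine ⟨hp.2.1, hp.1, ?_⟩
  rw [hp.2.2, neg_neg]

theorem IsPair.next {g h : SL(2, F)} (hp : IsPair g h) : IsPair h (g * h) := by
  refine ⟨hp.2.1, ?_, ?_⟩
  · calc g * h * (g * h) = g * (h * g) * h := by group
      _ = -(g * g * (h * h)) := by
        rw [show h * g = -(g * h) by rw [hp.2.2, neg_neg]]
        simp [mul_assoc]
      _ = -1 := by rw [hp.1, hp.2.1]; simp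
  · rw [← mul_assoc, show h * g = -(g * h) by rw [hp.2.2, neg_neg]]
    simp [mul_assoc]

theorem pair_J_iff [Fintype F] (hodd : Odd (Fintype.card F)) {h₀ h : SL(2, F)} (hh₀ : IsPair J h₀) :
    IsPair J h ↔ ∃ c ∈ C, h = c * h₀ := by
  constructor
  · intro hp
    refine ⟨h * h₀⁻¹, ?_, by group⟩
    rw [C, Subgroup.mem_centralizer_singleton_iff]
    have h1 : h₀⁻¹ * J = -(J * h₀⁻¹) := by
      rw [show h₀⁻¹ = -h₀ from inv_eq_of_mul_eq_one_left (by rw [neg_mul, hh₀.2.1, neg_neg])]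
      simp [hh₀.2.2]
    calc h * h₀⁻¹ * J = h * (h₀⁻¹ * J) := by group
      _ = -(h * J) * h₀⁻¹ := by rw [h1]; simp [mul_assoc]
      _ = J * (h * h₀⁻¹) := by rw [← hp.2.2]; group
  · rintro ⟨c, hc, rfl⟩
    refine ⟨J_sq, ?_, ?_⟩
    · rw [sq_iff]
      obtain ⟨h0, h1⟩ := mem_C.mp hc
      have e := congrArg (fun y : SL(2, F) => y.1 0 1) hh₀.2.2
      have e' := (sq_iff h₀).mp hh₀.2.1
      simp [val_mul, val_neg, J, sl00, sl01, sl10, sl11] at e ⊢
      rw [h0, h1, e']
      have e2 := congrArg (fun y : SL(2, F) => y.1 0 0) hh₀.2.2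
      simp [val_mul, val_neg, J, sl00, sl01, sl10, sl11] at e2
      rw [e2]
      ring
    · have hcJ : c * J = J * c := Subgroup.mem_centralizer_singleton_iff.mp hc
      calc J * (c * h₀) = c * (J * h₀) := by rw [← mul_assoc, ← hcJ, mul_assoc]
        _ = -(c * h₀ * J) := by rw [hh₀.2.2]; simp [mul_assoc]

theorem card_pairs [Fintype F] (hodd : Odd (Fintype.card F)) :
    Nat.card {p : SL(2, F) × SL(2, F) // IsPair p.1 p.2} = Nat.card SL(2, F) := by
  obtain ⟨h₀, hh, hJh, -⟩ := exists_anti (F := F) hodd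
  have hp₀ : IsPair J h₀ := ⟨J_sq, hh, hJh⟩
  rw [← card_S_mul hodd, ← Nat.card_prod]
  choose r hr using fun g : ↥(S : Set SL(2, F)) => conj_to_J hodd g.2
  have hk : ∀ (g : ↥(S : Set SL(2, F))) (c : ↥(C : Subgroup SL(2, F))),
      IsPair g.1 (r g * (c * h₀) * (r g)⁻¹) := fun g c => by
    have h := ((pair_J_iff hodd hp₀).mpr ⟨c, c.2, rfl⟩).conj (r g)
    rwa [hr] at h
  symm
  refine Nat.card_congr (Equiv.ofBijective
    (fun p => ⟨(p.1.1, r p.1 * (p.2 * h₀) * (r p.1)⁻¹), hk p.1 p.2⟩) ⟨?_, ?_⟩)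
  · rintro ⟨g, c⟩ ⟨g', c'⟩ h
    simp only [Subtype.mk.injEq, Prod.mk.injEq] at h
    obtain rfl : g = g' := Subtype.ext h.1
    refine Prod.ext rfl (Subtype.ext ?_)
    exact mul_right_cancel (mul_left_cancel (mul_right_cancel h.2))
  · rintro ⟨⟨g, h⟩, hp⟩
    have h1 : (r ⟨g, hp.1⟩)⁻¹ * g * r ⟨g, hp.1⟩ = J := by
      have e := hr ⟨g, hp.1⟩
      simp only at e
      calc _ = (r ⟨g, hp.1⟩)⁻¹ * (r ⟨g, hp.1⟩ * J * (r ⟨g, hp.1⟩)⁻¹) * r ⟨g, hp.1⟩ := by rw [e]
        _ = J := by group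
    have h2 := hp.conj (r ⟨g, hp.1⟩)⁻¹
    rw [inv_inv, h1] at h2
    obtain ⟨c, hc, he⟩ := (pair_J_iff hodd hp₀).mp h2
    refine ⟨(⟨g, hp.1⟩, ⟨c, hc⟩), Subtype.ext (Prod.ext rfl ?_)⟩
    simp only
    rw [← he]
    group

theorem swap_pair [Fintype F] {g h : SL(2, F)} (hp : IsPair g h) {s : F} (hs : s * s = 2) (h2 : (2 : F) ≠ 0) :
    ∃ x : SL(2, F), x * g * x⁻¹ = h ∧ x * h * x⁻¹ = g := by
  have hs0 : s ≠ 0 := fun h0 => h2 (by rw [← hs, h0, mul_zero])
  have t1 := (sq_iff g).mp hp.1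
  have t2 := (sq_iff h).mp hp.2.1
  have d1 := det_eq_one g
  have d2 := det_eq_one h
  have e0 := congrArg (fun y : SL(2, F) => y.1 0 0) hp.2.2
  simp only [val_mul, val_neg] at e0
  rw [t1] at d1
  rw [t2] at d2
  refine ⟨sl ((g.1 0 0 + h.1 0 0) / s) ((g.1 0 1 + h.1 0 1) / s) ((g.1 1 0 + h.1 1 0) / s)
    ((g.1 1 1 + h.1 1 1) / s) ?_, ?_, ?_⟩
  · rw [t1, t2]
    field_simp
    linear_combination d1 + d2 - e0 - hs
  all_goals
    rw [mul_inv_eq_iff_eq_mul]
    refine ext_four ?_ ?_ ?_ ?_ <;> simp only [val_mul, sl00, sl01, sl10, sl11, t1, t2] <;> field_simp <;> grind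

theorem exists_nonsquare_C [Fintype F] (hodd : Odd (Fintype.card F)) :
    ∃ c₀ ∈ (C : Subgroup SL(2, F)), (∀ d ∈ (C : Subgroup SL(2, F)), d * d ≠ c₀) := by
  classical
  have hm : (-1 : SL(2, F)) ∈ C := mem_C.mpr ⟨by simp, by simp⟩
  by_contra hcon
  push Not at hcon
  let sqm : ↥(C : Subgroup SL(2, F)) → ↥(C : Subgroup SL(2, F)) := fun d => d * d
  have hsurj : Function.Surjective sqm := fun c => by
    obtain ⟨d, hd, he⟩ := hcon c c.2
    exact ⟨⟨d, hd⟩, Subtype.ext he⟩
  have := (Finite.injective_iff_surjective.mpr hsurj) (a₁ := ⟨-1, hm⟩) (a₂ := 1) (Subtype.ext (by simp [sqm]))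
  exact neg_one_ne hodd (congrArg Subtype.val this)

theorem square_class [Fintype F] (hodd : Odd (Fintype.card F)) {c₀ : SL(2, F)} (hc₀ : c₀ ∈ C)
    (hsq : ∀ d ∈ (C : Subgroup SL(2, F)), d * d ≠ c₀) {c : SL(2, F)} (hc : c ∈ C) :
    ∃ d ∈ (C : Subgroup SL(2, F)), c = d * d ∨ c = d * d * c₀ := by
  classical
  let f : ↥(C : Subgroup SL(2, F)) →* ↥(C : Subgroup SL(2, F)) :=
    MonoidHom.mk' (fun d => d * d) fun a b => Subtype.ext (by
      simp only [Subgroup.coe_mul]
      rw [mul_assoc, mul_assoc, ← mul_assoc (b : SL(2, F)) (a : SL(2, F)), C_comm b.2 a.2, mul_assoc])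
  have hker : Nat.card f.ker ≤ 2 := by
    have hsub : ∀ d : f.ker, (d.1.1 : SL(2, F)) = 1 ∨ (d.1.1 : SL(2, F)) = -1 := fun d =>
      eq_or_neg hodd (congrArg Subtype.val d.2)
    refine le_trans (Nat.card_le_card_of_injective (fun d : f.ker => decide (d.1.1 = 1))
      (fun a b hab => ?_)) (by simp)
    have hab' : (a.1.1 = 1 ↔ b.1.1 = 1) := decide_eq_decide.mp hab
    refine Subtype.ext (Subtype.ext ?_)
    rcases hsub a with ha | ha <;> rcases hsub b with hb | hb
    · rw [ha, hb]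
    · rw [ha, hab'.mp ha]
    · rw [hb, hab'.mpr hb]
    · rw [ha, hb]
  let g : ↥(C : Subgroup SL(2, F)) := ⟨c₀, hc₀⟩
  have hg : g ∉ f.range := fun ⟨d, hd⟩ => hsq d d.2 (congrArg Subtype.val hd)
  have hidx : f.range.index ≤ 2 := by
    have h := Subgroup.card_mul_index f.range
    have h' := Subgroup.card_mul_index f.ker
    rw [Subgroup.index_ker] at h'
    by_contra hlt
    have h1 : Nat.card f.range * 3 ≤ Nat.card f.range * f.range.index := Nat.mul_le_mul_left _ (by omega)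
    have h2 : Nat.card f.ker * Nat.card f.range ≤ 2 * Nat.card f.range := Nat.mul_le_mul_right _ hker
    have : 0 < Nat.card f.range := Nat.card_pos
    omega
  have h2 : f.range.index = 2 := by
    have h0 : f.range.index ≠ 0 := Subgroup.index_ne_zero_of_finite
    have h1 : f.range.index ≠ 1 := fun h => hg (by rw [Subgroup.index_eq_one.mp h]; trivial)
    omega
  by_cases hin : (⟨c, hc⟩ : ↥(C : Subgroup SL(2, F))) ∈ f.range
  · obtain ⟨d, hd⟩ := hin
    exact ⟨d, d.2, Or.inl (congrArg Subtype.val hd).symm⟩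
  · have : (⟨c, hc⟩ : ↥(C : Subgroup SL(2, F))) * g⁻¹ ∈ f.range := by
      rw [Subgroup.mul_mem_iff_of_index_two h2]
      simp [hin, hg]
    obtain ⟨d, hd⟩ := this
    refine ⟨d, d.2, Or.inr ?_⟩
    have e : (d : SL(2, F)) * d = c * c₀⁻¹ := congrArg Subtype.val hd
    rw [e, inv_mul_cancel_right]

end Cfsg.Lib.Classical.PSLFour
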