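import Mathlib
import Cfsg.Agent.Classical.Misc.PSLFourGroups

/-! Four-groups of `PSL₂` in odd characteristic. -/

set_option autoImplicit false
set_option linter.unusedSimpArgs false
set_option linter.unusedSectionVars false
set_option linter.style.haveILetI false
set_option linter.flexible false

namespace Cfsg.Lib.Classical.PSLFour

open Matrix
open scoped MatrixGroups

universe u

variable {F : Type u} [Field F]

local notation "PSL₂" F => Matrix.ProjectiveSpecialLinearGroup (Fin 2) F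

/-- The projection. -/
abbrev π : SL(2, F) →* PSL₂ F := QuotientGroup.mk' (Subgroup.center SL(2, F))

theorem π_eq_iff {x y : SL(2, F)} : π x = π y ↔ y = x ∨ y = -x := by
  rw [QuotientGroup.mk'_apply, QuotientGroup.mk'_apply, QuotientGroup.eq,
    Matrix.SpecialLinearGroup.mem_center_iff]
  constructor
  · rintro ⟨r, hr, he⟩
    have hr' : r ^ 2 = 1 := by simpa using hr
    rcases sq_eq_one_iff.mp hr' with rfl | rfl
    · left
      have : x⁻¹ * y = 1 := Subtype.ext (by rw [← he]; simp)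
      exact (inv_mul_eq_one.mp this).symm
    · right
      have : x⁻¹ * y = -1 := Subtype.ext (by rw [← he]; ext i j; fin_cases i <;> fin_cases j <;> simp)
      rw [inv_mul_eq_iff_eq_mul] at this
      rw [this, mul_neg_one]
  · rintro (rfl | rfl)
    · exact ⟨1, by simp, by simp⟩
    · exact ⟨-1, by simp, by ext i j; fin_cases i <;> fin_cases j <;> simp⟩

theorem π_neg (x : SL(2, F)) : π (-x) = π x := (π_eq_iff.mpr (Or.inr rfl)).symm

theorem π_one_iff {x : SL(2, F)} : π x = 1 ↔ x = 1 ∨ x = -1 := by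
  rw [← (π (F := F)).map_one, eq_comm]
  exact π_eq_iff

theorem π_conj (x g : SL(2, F)) : π x * π g * (π x)⁻¹ = π (x * g * x⁻¹) := by
  rw [← map_inv, ← map_mul, ← map_mul]

theorem four_closed {G : Type*} [Group G] {a b : G} (ha : a * a = 1) (hb : b * b = 1) (hab : a * b = b * a)
    (x : G) : x ∈ Subgroup.closure ({a, b} : Set G) ↔ x = 1 ∨ x = a ∨ x = b ∨ x = a * b := by
  have e1 : ∀ y : G, a * (a * y) = y := fun y => by rw [← mul_assoc, ha, one_mul]
  have e2 : ∀ y : G, b * (b * y) = y := fun y => by rw [← mul_assoc, hb, one_mul]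
  have e3 : ∀ y : G, b * (a * y) = a * (b * y) := fun y => by rw [← mul_assoc, ← hab, mul_assoc]
  constructor
  · intro hx
    induction hx using Subgroup.closure_induction with
    | mem y hy =>
      rcases hy with rfl | rfl
      · exact Or.inr (Or.inl rfl)
      · exact Or.inr (Or.inr (Or.inl rfl))
    | one => exact Or.inl rfl
    | mul y z _ _ hy hz =>
      rcases hy with rfl | rfl | rfl | rfl <;> rcases hz with rfl | rfl | rfl | rfl <;>
        simp [mul_assoc, ha, hb, e1, e2, e3, ← hab]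
    | inv y _ hy =>
      rcases hy with rfl | rfl | rfl | rfl
      · exact Or.inl inv_one
      · exact Or.inr (Or.inl (inv_eq_of_mul_eq_one_right ha))
      · exact Or.inr (Or.inr (Or.inl (inv_eq_of_mul_eq_one_right hb)))
      · exact Or.inr (Or.inr (Or.inr (inv_eq_of_mul_eq_one_right (by simp [mul_assoc, e1, e2, e3, hb, ha]))))
  · have ha' : a ∈ Subgroup.closure ({a, b} : Set G) := Subgroup.subset_closure (Set.mem_insert _ _)
    have hb' : b ∈ Subgroup.closure ({a, b} : Set G) :=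
      Subgroup.subset_closure (Set.mem_insert_of_mem _ rfl)
    rintro (rfl | rfl | rfl | rfl)
    exacts [one_mem _, ha', hb', mul_mem ha' hb']

theorem four_klein {G : Type*} [Group G] {a b : G} (ha : a * a = 1) (hb : b * b = 1) (hab : a * b = b * a)
    (ha1 : a ≠ 1) (hb1 : b ≠ 1) (hne : a ≠ b) : IsKleinFour (Subgroup.closure ({a, b} : Set G)) := by
  classical
  have hmem := four_closed ha hb hab
  have hne' : a * b ≠ 1 := fun h => hne (by rw [← mul_right_inj a, ha, h])
  have hset : ((Subgroup.closure ({a, b} : Set G)) : Set G) = ↑({1, a, b, a * b} : Finset G) := by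
    ext x
    simp [hmem]
  refine ⟨?_, ?_⟩
  · rw [← SetLike.coe_sort_coe, hset, Nat.card_coe_set_eq, Set.ncard_coe_finset,
      Finset.card_insert_of_notMem, Finset.card_insert_of_notMem, Finset.card_pair]
    · intro h; exact ha1 (by simpa using h)
    · simp only [Finset.mem_insert, Finset.mem_singleton, not_or]
      exact ⟨hne, fun h => hb1 (by simpa using h)⟩
    · simp only [Finset.mem_insert, Finset.mem_singleton, not_or]
      exact ⟨ha1.symm, hb1.symm, hne'.symm⟩
  · refine (Nat.prime_two.eq_one_or_self_of_dvd _ ?_).resolve_left ?_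
    · rw [Monoid.exponent_dvd_iff_forall_pow_eq_one]
      rintro ⟨x, hx⟩
      apply Subtype.ext
      rw [SubmonoidClass.coe_pow, pow_two, OneMemClass.coe_one]
      rcases (hmem x).mp hx with rfl | rfl | rfl | rfl
      · exact mul_one _
      · exact ha
      · exact hb
      · calc a * b * (a * b) = a * (b * a) * b := by group
          _ = a * a * (b * b) := by rw [← hab]; group
          _ = 1 := by rw [ha, hb, mul_one]
    · intro h1
      have := Monoid.pow_exponent_eq_one (⟨a, (hmem a).mpr (Or.inr (Or.inl rfl))⟩ :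
        Subgroup.closure ({a, b} : Set G))
      rw [h1, pow_one] at this
      exact ha1 (congrArg Subtype.val this)

theorem klein_eq {G : Type*} [Group G] [Finite G] {V : Subgroup G} (hV : IsKleinFour V) {a b : G} (ha : a ∈ V) (hb : b ∈ V)
    (ha1 : a ≠ 1) (hb1 : b ≠ 1) (hne : a ≠ b) :
    a * a = 1 ∧ b * b = 1 ∧ a * b = b * a ∧ V = Subgroup.closure ({a, b} : Set G) := by
  have hm : ∀ x : V, x * x = 1 := fun x => IsKleinFour.mul_self x
  have ha2 : a * a = 1 := congrArg Subtype.val (hm ⟨a, ha⟩)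
  have hb2 : b * b = 1 := congrArg Subtype.val (hm ⟨b, hb⟩)
  have hab : a * b = b * a := by
    have h3 : a * b * (a * b) = 1 := congrArg Subtype.val (hm ⟨a * b, mul_mem ha hb⟩)
    calc a * b = a * (a * b * (a * b)) * b := by rw [h3, mul_one]
      _ = a * a * (b * a) * (b * b) := by group
      _ = b * a := by rw [ha2, hb2, one_mul, mul_one]
  refine ⟨ha2, hb2, hab, (Subgroup.eq_of_le_of_card_ge ?_ (le_of_eq ?_)).symm⟩
  · rw [Subgroup.closure_le]
    rintro x (rfl | rfl) <;> assumption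
  · rw [hV.card_four, (four_klein ha2 hb2 hab ha1 hb1 hne).card_four]

/-- Ordered pairs of distinct commuting involutions. -/
abbrev InvPair (G : Type*) [Group G] : Type _ :=
  {p : G × G // p.1 * p.1 = 1 ∧ p.2 * p.2 = 1 ∧ p.1 * p.2 = p.2 * p.1 ∧ p.1 ≠ 1 ∧ p.2 ≠ 1 ∧ p.1 ≠ p.2}

theorem card_invPair {G : Type*} [Group G] [Finite G] :
    Nat.card (InvPair G) = Nat.card {V : Subgroup G // IsKleinFour V} * 6 := by
  classical
  let f : InvPair G → {V : Subgroup G // IsKleinFour V} := fun t =>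
    ⟨Subgroup.closure {t.1.1, t.1.2}, four_klein t.2.1 t.2.2.1 t.2.2.2.1 t.2.2.2.2.1 t.2.2.2.2.2.1 t.2.2.2.2.2.2⟩
  haveI : Fintype {V : Subgroup G // IsKleinFour V} := Fintype.ofFinite _
  rw [Nat.card_congr (Equiv.sigmaFiberEquiv f).symm, Nat.card_sigma,
    Finset.sum_congr rfl (fun V _ => (?_ : _ = 6)), Finset.sum_const, Finset.card_univ, smul_eq_mul,
    Nat.card_eq_fintype_card]
  haveI := Fintype.ofFinite V.1
  have hc : Fintype.card V.1 = 4 := by rw [← Nat.card_eq_fintype_card]; exact V.2.card_four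
  have he : {t : InvPair G // f t = V} ≃ {p : V.1 × V.1 // p.1 ≠ 1 ∧ p.2 ≠ 1 ∧ p.1 ≠ p.2} :=
    { toFun := fun t => ⟨(⟨t.1.1.1, by
          have h : Subgroup.closure {t.1.1.1, t.1.1.2} = V.1 := congrArg Subtype.val t.2
          rw [← h]; exact Subgroup.subset_closure (Set.mem_insert _ _)⟩, ⟨t.1.1.2, by
          have h : Subgroup.closure {t.1.1.1, t.1.1.2} = V.1 := congrArg Subtype.val t.2
          rw [← h]; exact Subgroup.subset_closure (Set.mem_insert_of_mem _ rfl)⟩),
        fun h => t.1.2.2.2.2.1 (congrArg Subtype.val h), fun h => t.1.2.2.2.2.2.1 (congrArg Subtype.val h),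
        fun h => t.1.2.2.2.2.2.2 (congrArg Subtype.val h)⟩
      invFun := fun p =>
        have k := klein_eq V.2 p.1.1.2 p.1.2.2 (fun h => p.2.1 (Subtype.ext h)) (fun h => p.2.2.1 (Subtype.ext h))
          (fun h => p.2.2.2 (Subtype.ext h))
        ⟨⟨((p.1.1 : G), (p.1.2 : G)), k.1, k.2.1, k.2.2.1, fun h => p.2.1 (Subtype.ext h),
          fun h => p.2.2.1 (Subtype.ext h), fun h => p.2.2.2 (Subtype.ext h)⟩, Subtype.ext k.2.2.2.symm⟩
      left_inv := fun _ => rfl
      right_inv := fun _ => rfl }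
  rw [Nat.card_congr he, Nat.card_eq_fintype_card, Fintype.card_subtype,
    show (Finset.univ.filter fun p : V.1 × V.1 => p.1 ≠ 1 ∧ p.2 ≠ 1 ∧ p.1 ≠ p.2) =
      ((Finset.univ : Finset V.1).erase 1).offDiag from by ext ⟨a, b⟩; simp [Finset.mem_offDiag],
    Finset.offDiag_card, Finset.card_erase_of_mem (Finset.mem_univ _), Finset.card_univ, hc]

/-- The four-group of a pair. -/
def Vof (g h : SL(2, F)) : Subgroup (PSL₂ F) := Subgroup.closure ({π g, π h} : Set (PSL₂ F))

theorem Vof_map (x g h : SL(2, F)) :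
    (Vof g h).map (MulAut.conj (π x)).toMonoidHom = Vof (x * g * x⁻¹) (x * h * x⁻¹) := by
  rw [Vof, Vof, MonoidHom.map_closure, Set.image_pair]
  congr 1

theorem Vof_comm (g h : SL(2, F)) : Vof g h = Vof h g := by rw [Vof, Vof, Set.pair_comm]

section odd

variable [Fintype F] (hodd : Odd (Fintype.card F))
include hodd

theorem pair_facts {g h : SL(2, F)} (hp : IsPair g h) :
    π g * π g = 1 ∧ π h * π h = 1 ∧ π g * π h = π h * π g ∧ π g ≠ 1 ∧ π h ≠ 1 ∧ π g ≠ π h := by
  have h1 : ∀ x : SL(2, F), x * x = -1 → π x * π x = 1 ∧ π x ≠ 1 := fun x hx => by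
    refine ⟨by rw [← map_mul, hx, π_one_iff]; exact Or.inr rfl, fun h0 => ?_⟩
    rcases π_one_iff.mp h0 with rfl | rfl
    · exact neg_one_ne hodd (by simpa using hx.symm)
    · exact neg_one_ne hodd (by simpa using hx.symm)
  refine ⟨(h1 g hp.1).1, (h1 h hp.2.1).1, ?_, (h1 g hp.1).2, (h1 h hp.2.1).2, fun h0 => ?_⟩
  · rw [← map_mul, ← map_mul, hp.2.2, π_neg]
  · have e := hp.2.2
    rcases π_eq_iff.mp h0 with rfl | rfl
    · rw [hp.1, neg_neg] at e; exact neg_one_ne hodd e
    · rw [mul_neg, neg_mul, hp.1, neg_neg] at e; exact neg_one_ne hodd e.symm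

theorem mem_Vof {g h : SL(2, F)} (hp : IsPair g h) (x : PSL₂ F) :
    x ∈ Vof g h ↔ x = 1 ∨ x = π g ∨ x = π h ∨ x = π (g * h) := by
  obtain ⟨a, b, c, -, -, -⟩ := pair_facts hodd hp
  rw [map_mul]
  exact four_closed a b c x

theorem Vof_klein {g h : SL(2, F)} (hp : IsPair g h) : IsKleinFour (Vof g h) := by
  obtain ⟨a, b, c, d, e, f⟩ := pair_facts hodd hp
  exact four_klein a b c d e f

theorem lift_pair {a b : PSL₂ F} (ha : a * a = 1) (hb : b * b = 1) (hab : a * b = b * a) (ha1 : a ≠ 1)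
    (hb1 : b ≠ 1) (hne : a ≠ b) : ∃ g h, π g = a ∧ π h = b ∧ IsPair g h := by
  obtain ⟨g, rfl⟩ := QuotientGroup.mk'_surjective _ a
  obtain ⟨h, rfl⟩ := QuotientGroup.mk'_surjective _ b
  have hsq : ∀ x : SL(2, F), π x * π x = 1 → π x ≠ 1 → x * x = -1 := fun x hx hx1 => by
    rw [← map_mul] at hx
    refine (π_one_iff.mp hx).resolve_left fun h1 => hx1 (π_one_iff.mpr (eq_or_neg hodd h1))
  have hg := hsq g ha ha1
  have hh := hsq h hb hb1
  refine ⟨g, h, rfl, rfl, hg, hh, ?_⟩
  have e : π (h * g) = π (g * h) := by rw [map_mul, map_mul, hab]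
  refine (π_eq_iff.mp e).resolve_left fun hc => hne ?_
  have h1 : g * h * (g * h) = 1 := by
    calc g * h * (g * h) = g * (h * g) * h := by group
      _ = g * g * (h * h) := by rw [← hc]; group
      _ = 1 := by rw [hg, hh, neg_mul_neg, mul_one]
  have h2 : π (g * h) = 1 := π_one_iff.mpr (eq_or_neg hodd h1)
  rw [map_mul] at h2
  calc π g = π g * (π h * π h) := by rw [hb, mul_one]
    _ = π h := by rw [← mul_assoc, h2, one_mul]

theorem exists_pair_of_klein {V : Subgroup (PSL₂ F)} (hV : IsKleinFour V) :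
    ∃ g h, IsPair g h ∧ V = Vof g h := by
  classical
  haveI : Fintype V := Fintype.ofFinite V
  have hc : (Finset.univ : Finset V).card = 4 := by rw [Finset.card_univ, ← Nat.card_eq_fintype_card, hV.card_four]
  obtain ⟨a, ha, b, hb, hne⟩ := Finset.one_lt_card.mp (show 1 < ((Finset.univ : Finset V).erase 1).card by
    rw [Finset.card_erase_of_mem (Finset.mem_univ _), hc]; norm_num)
  have ha1 : (a : PSL₂ F) ≠ 1 := fun h => (Finset.mem_erase.mp ha).1 (Subtype.ext h)
  have hb1 : (b : PSL₂ F) ≠ 1 := fun h => (Finset.mem_erase.mp hb).1 (Subtype.ext h)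
  have hne' : (a : PSL₂ F) ≠ b := fun h => hne (Subtype.ext h)
  obtain ⟨e1, e2, e3, e4⟩ := klein_eq hV a.2 b.2 ha1 hb1 hne'
  obtain ⟨g, h, hg, hh, hp⟩ := lift_pair hodd e1 e2 e3 ha1 hb1 hne'
  exact ⟨g, h, hp, by rw [Vof, hg, hh]; exact e4⟩

theorem card_four_groups :
    12 * Nat.card {V : Subgroup (PSL₂ F) // IsKleinFour V} = Nat.card (PSL₂ F) := by
  classical
  let T := {p : (PSL₂ F) × (PSL₂ F) // p.1 * p.1 = 1 ∧ p.2 * p.2 = 1 ∧ p.1 * p.2 = p.2 * p.1 ∧ p.1 ≠ 1 ∧
    p.2 ≠ 1 ∧ p.1 ≠ p.2}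
  choose lg lh hlg hlh hlp using fun t : T =>
    lift_pair hodd t.2.1 t.2.2.1 t.2.2.2.1 t.2.2.2.2.1 t.2.2.2.2.2.1 t.2.2.2.2.2.2
  let sgn : Bool → SL(2, F) → SL(2, F) := fun b x => if b then -x else x
  have hsgn : ∀ b x, π (sgn b x) = π x := fun b x => by
    cases b
    · rfl
    · exact π_neg x
  have hsgn' : ∀ b b' x, sgn b x = sgn b' x → b = b' := fun b b' x h => by
    cases b <;> cases b' <;> simp only [sgn, Bool.false_eq_true, if_false, if_true] at h ⊢
    · exact absurd h.symm (neg_ne hodd x)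
    · exact absurd h (neg_ne hodd x)
  have hpair : ∀ (t : T) (b c : Bool), IsPair (sgn b (lg t)) (sgn c (lh t)) := fun t b c => by
    obtain ⟨u1, u2, u3⟩ := hlp t
    cases b <;> cases c <;> refine ⟨?_, ?_, ?_⟩ <;> simp [sgn, u1, u2, u3]
  have h4 : Nat.card T * (2 * 2) = Nat.card SL(2, F) := by
    rw [← card_pairs hodd, show (2 * 2 : ℕ) = Nat.card (Bool × Bool) by simp, ← Nat.card_prod]
    refine Nat.card_congr (Equiv.ofBijective
      (fun p => ⟨(sgn p.2.1 (lg p.1), sgn p.2.2 (lh p.1)), hpair p.1 p.2.1 p.2.2⟩) ⟨?_, ?_⟩)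
    · rintro ⟨t, b, c⟩ ⟨t', b', c'⟩ h
      simp only [Subtype.mk.injEq, Prod.mk.injEq] at h
      obtain rfl : t = t' := by
        refine Subtype.ext (Prod.ext ?_ ?_)
        · rw [← hlg t, ← hlg t', ← hsgn b, h.1, hsgn]
        · rw [← hlh t, ← hlh t', ← hsgn c, h.2, hsgn]
      rw [hsgn' _ _ _ h.1, hsgn' _ _ _ h.2]
    · rintro ⟨⟨g, h⟩, hp⟩
      let t : T := ⟨(π g, π h), pair_facts hodd hp⟩
      have hb : ∃ b, sgn b (lg t) = g := by
        rcases π_eq_iff.mp (hlg t) with e | e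
        · exact ⟨false, by simp [sgn, e]⟩
        · exact ⟨true, by simp [sgn, e]⟩
      have hc : ∃ c, sgn c (lh t) = h := by
        rcases π_eq_iff.mp (hlh t) with e | e
        · exact ⟨false, by simp [sgn, e]⟩
        · exact ⟨true, by simp [sgn, e]⟩
      obtain ⟨b, hb⟩ := hb
      obtain ⟨c, hc⟩ := hc
      exact ⟨(t, b, c), Subtype.ext (Prod.ext hb hc)⟩
  have h6 : Nat.card T = Nat.card {V : Subgroup (PSL₂ F) // IsKleinFour V} * 6 := card_invPair
  have hcard := Subgroup.card_eq_card_quotient_mul_card_subgroup (Subgroup.center SL(2, F))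
  have hZ : Nat.card ↥(Subgroup.center SL(2, F)) = 2 := by
    rw [Cfsg.Lib.Classical.card_center_SL, Nat.card_eq_fintype_card, Fintype.card_fin]
    refine Nat.gcd_eq_left ?_
    rw [Nat.odd_iff] at hodd
    omega
  rw [hZ] at hcard
  change Nat.card SL(2, F) = Nat.card (PSL₂ F) * 2 at hcard
  rw [h6] at h4
  omega

/-- Every pair is conjugate to one of two standard pairs. -/
theorem pair_orbit {h₀ c₀ : SL(2, F)} (hp₀ : IsPair J h₀) (hinv : ∀ c ∈ C, h₀ * c = c⁻¹ * h₀) (hc₀ : c₀ ∈ C)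
    (hsq : ∀ d ∈ (C : Subgroup SL(2, F)), d * d ≠ c₀) {g h : SL(2, F)} (hp : IsPair g h) :
    ∃ x, x * g * x⁻¹ = J ∧ (x * h * x⁻¹ = h₀ ∨ x * h * x⁻¹ = c₀ * h₀) := by
  obtain ⟨x, hx⟩ := conj_to_J hodd hp.1
  have h1 : x⁻¹ * g * x = J := by rw [← hx]; group
  have h2 := hp.conj x⁻¹
  rw [inv_inv, h1] at h2
  obtain ⟨c, hc, he⟩ := (pair_J_iff hodd hp₀).mp h2
  obtain ⟨d, hd, hcd⟩ := square_class hodd hc₀ hsq hc
  have hdi : d⁻¹ ∈ C := inv_mem hd
  refine ⟨d⁻¹ * x⁻¹, ?_, ?_⟩
  · calc d⁻¹ * x⁻¹ * g * (d⁻¹ * x⁻¹)⁻¹ = d⁻¹ * (x⁻¹ * g * x) * d := by group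
      _ = J := by rw [h1, Subgroup.mem_centralizer_singleton_iff.mp hdi]; group
  · have e : d⁻¹ * x⁻¹ * h * (d⁻¹ * x⁻¹)⁻¹ = d⁻¹ * c * d⁻¹ * h₀ := by
      calc d⁻¹ * x⁻¹ * h * (d⁻¹ * x⁻¹)⁻¹ = d⁻¹ * (x⁻¹ * h * x) * d := by group
        _ = d⁻¹ * c * (h₀ * d) := by rw [he]; group
        _ = d⁻¹ * c * d⁻¹ * h₀ := by rw [hinv d hd]; group
    rw [e]
    rcases hcd with rfl | rfl
    · left; group
    · right
      rw [mul_assoc d d c₀, inv_mul_cancel_left, C_comm hd hc₀, mul_inv_cancel_right]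

theorem square_two_of_swap {x : SL(2, F)} {h₀ : SL(2, F)} (hp₀ : IsPair J h₀) (h1 : x * J * x⁻¹ = h₀)
    (h2 : x * h₀ * x⁻¹ = J) : IsSquare (2 : F) := by
  rw [mul_inv_eq_iff_eq_mul] at h1 h2
  have ht := (sq_iff h₀).mp hp₀.2.1
  have e := congrArg (fun y : SL(2, F) => y.1 0 0) hp₀.2.2
  have hd := det_eq_one h₀
  have hx := det_eq_one x
  simp only [val_mul, val_neg, J, sl00, sl01, sl10, sl11] at e
  have a0 := congrArg (fun y : SL(2, F) => y.1 0 0) h1
  have a1 := congrArg (fun y : SL(2, F) => y.1 0 1) h1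
  have b0 := congrArg (fun y : SL(2, F) => y.1 0 0) h2
  have b1 := congrArg (fun y : SL(2, F) => y.1 0 1) h2
  simp only [val_mul, J, sl00, sl01, sl10, sl11] at a0 a1 b0 b1
  rw [ht] at hd b1
  set a := h₀.1 0 0
  set b := h₀.1 0 1
  set p := x.1 0 0
  set r := x.1 0 1
  have hbc : h₀.1 1 0 = b := by linear_combination e
  rw [hbc] at hd b0
  have hs : x.1 1 0 = p * a + r * b := by linear_combination -b0
  have htt : x.1 1 1 = p * b - r * a := by linear_combination -b1
  rw [hs, htt] at hx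
  rw [hs] at a0
  rw [htt] at a1
  by_cases ha : a = 0
  · have hp0 : 2 * p = 0 := by rw [ha] at a1 hd; linear_combination a1 - p * hd
    have hp0' : p = 0 := (mul_eq_zero.mp hp0).resolve_left (two_ne hodd)
    rw [ha, hp0'] at hx
    rw [ha] at hd
    have hr : r ≠ 0 := fun h => by rw [h] at hx; simp at hx
    have hb : b = -1 / r ^ 2 := by
      field_simp
      linear_combination -hx
    rw [hb] at hd
    field_simp at hd
    refine ⟨r + 1 / r, ?_⟩
    field_simp
    grind
  · have hp0 : p ≠ 0 := by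
      intro h
      rw [h] at a0 a1 hx
      have : r * a = 0 := by grind
      grind
    refine ⟨a / p, ?_⟩
    field_simp
    grind

theorem classes :
    (¬ IsSquare (2 : F) → ∀ V W : Subgroup (PSL₂ F), IsKleinFour V → IsKleinFour W →
      ∃ g : PSL₂ F, W = V.map (MulAut.conj g).toMonoidHom) ∧
    (IsSquare (2 : F) → ∃ V₁ V₂ : Subgroup (PSL₂ F), IsKleinFour V₁ ∧ IsKleinFour V₂ ∧
      (¬ ∃ g : PSL₂ F, V₂ = V₁.map (MulAut.conj g).toMonoidHom) ∧
      ∀ W : Subgroup (PSL₂ F), IsKleinFour W → (∃ g : PSL₂ F, W = V₁.map (MulAut.conj g).toMonoidHom) ∨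
        (∃ g : PSL₂ F, W = V₂.map (MulAut.conj g).toMonoidHom)) := by
  obtain ⟨h₀, hh, hJh, hinv⟩ := exists_anti (F := F) hodd
  have hp₀ : IsPair J h₀ := ⟨J_sq, hh, hJh⟩
  obtain ⟨c₀, hc₀, hsq⟩ := exists_nonsquare_C (F := F) hodd
  have hp₁ : IsPair J (c₀ * h₀) := (pair_J_iff hodd hp₀).mpr ⟨c₀, hc₀, rfl⟩
  have hall : ∀ W : Subgroup (PSL₂ F), IsKleinFour W →
      (∃ g : PSL₂ F, W = (Vof J h₀).map (MulAut.conj g).toMonoidHom) ∨
        (∃ g : PSL₂ F, W = (Vof J (c₀ * h₀)).map (MulAut.conj g).toMonoidHom) := by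
    intro W hW
    obtain ⟨g, h, hp, rfl⟩ := exists_pair_of_klein hodd hW
    obtain ⟨x, hx1, hx2⟩ := pair_orbit hodd hp₀ hinv hc₀ hsq hp
    have hg : g = x⁻¹ * J * (x⁻¹)⁻¹ := by rw [← hx1]; group
    rcases hx2 with hx2 | hx2
    · left
      refine ⟨π x⁻¹, ?_⟩
      rw [Vof_map, ← hg, ← hx2]
      congr 1
      group
    · right
      refine ⟨π x⁻¹, ?_⟩
      rw [Vof_map, ← hg, ← hx2]
      congr 1
      group
  have hcomp : ∀ (V : Subgroup (PSL₂ F)) (g h : PSL₂ F),
      (V.map (MulAut.conj g).toMonoidHom).map (MulAut.conj h).toMonoidHom =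
        V.map (MulAut.conj (h * g)).toMonoidHom := fun V g h => by
    rw [Subgroup.map_map]
    congr 1
    ext x
    simp [MulAut.conj_apply, mul_assoc]
  refine ⟨fun h2 => ?_, fun h2 => ⟨_, _, Vof_klein hodd hp₀, Vof_klein hodd hp₁, ?_, hall⟩⟩
  · obtain ⟨x, hx1, hx2⟩ := pair_orbit hodd hp₀ hinv hc₀ hsq hp₀.symm
    have hx2' := hx2.resolve_left fun h => h2 (square_two_of_swap hodd hp₀ h hx1)
    have hmerge : Vof J (c₀ * h₀) = (Vof J h₀).map (MulAut.conj (π x)).toMonoidHom := by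
      rw [Vof_comm J h₀, Vof_map, hx1, hx2']
    intro V W hV hW
    have one : ∀ V : Subgroup (PSL₂ F), IsKleinFour V →
        ∃ g : PSL₂ F, V = (Vof J h₀).map (MulAut.conj g).toMonoidHom := by
      intro V hV
      rcases hall V hV with h | ⟨g, hg⟩
      · exact h
      · exact ⟨g * π x, by rw [hg, hmerge, hcomp]⟩
    obtain ⟨g, rfl⟩ := one V hV
    obtain ⟨g', rfl⟩ := one W hW
    exact ⟨g' * g⁻¹, by rw [hcomp, inv_mul_cancel_right]⟩
  · rintro ⟨z, hz⟩
    obtain ⟨s, hs⟩ := h2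
    obtain ⟨x, rfl⟩ := QuotientGroup.mk'_surjective _ z
    rw [show (QuotientGroup.mk' _ x : PSL₂ F) = π x from rfl, Vof_map] at hz
    set k := c₀ * h₀
    have hp' := hp₀.conj x
    obtain ⟨u1, hu1a, hu1b⟩ := swap_pair hp₁ hs.symm (two_ne hodd)
    obtain ⟨u2, hu2a, hu2b⟩ := swap_pair hp₁.next hs.symm (two_ne hodd)
    set U1 := fun y : PSL₂ F => π u1 * y * (π u1)⁻¹
    set U2 := fun y : PSL₂ F => π u2 * y * (π u2)⁻¹
    have m1 : ∀ y w, U1 (y * w) = U1 y * U1 w := fun y w => by simp [U1, mul_assoc]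
    have m2 : ∀ y w, U2 (y * w) = U2 y * U2 w := fun y w => by simp [U2, mul_assoc]
    obtain ⟨fJ, fk, fc, -, -, -⟩ := pair_facts hodd hp₁
    set A := π (J : SL(2, F))
    set B := π k
    have a1 : U1 A = B := by simp only [U1, A, B, π_conj, hu1a]
    have b1 : U1 B = A := by simp only [U1, A, B, π_conj, hu1b]
    have c1 : U1 (A * B) = A * B := by rw [m1, a1, b1, fc]
    have b2 : U2 B = A * B := by simp only [U2, A, B, π_conj, hu2a, map_mul]
    have c2 : U2 (A * B) = B := by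
      simp only [U2, A, B, ← map_mul (π (F := F)), π_conj, hu2b]
    have a2 : U2 A = A := by
      have e : U2 A = U2 (A * B) * U2 B := by rw [← m2, mul_assoc, fk, mul_one]
      rw [e, c2, b2, fc, ← mul_assoc, fk, one_mul]
    have hmA : π (x * J * x⁻¹) ∈ Vof J k := by
      rw [hz]; exact Subgroup.subset_closure (Set.mem_insert _ _)
    have hmB : π (x * h₀ * x⁻¹) ∈ Vof J k := by
      rw [hz]; exact Subgroup.subset_closure (Set.mem_insert_of_mem _ rfl)
    obtain ⟨-, -, -, na, nb, nab⟩ := pair_facts hodd hp'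
    rw [mem_Vof hodd hp₁, map_mul π J k] at hmA hmB
    set P := π (x * J * x⁻¹) with hP
    set Q := π (x * h₀ * x⁻¹) with hQ
    obtain ⟨y, hyA, hyB⟩ : ∃ y : SL(2, F), π y * P * (π y)⁻¹ = A ∧ π y * Q * (π y)⁻¹ = B := by
      have hU : ∀ y z : SL(2, F), ∀ w : PSL₂ F,
          π (y * z) * w * (π (y * z))⁻¹ = π y * (π z * w * (π z)⁻¹) * (π y)⁻¹ := fun y z w => by
        rw [map_mul]; group
      rcases hmA with e | e | e | e
      · exact absurd e na
      · rcases hmB with e' | e' | e' | e'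
        · exact absurd e' nb
        · exact absurd (e.trans e'.symm) nab
        · exact ⟨1, by rw [map_one, one_mul, inv_one, mul_one]; exact e, by rw [map_one, one_mul, inv_one, mul_one]; exact e'⟩
        · exact ⟨u2, by rw [e]; exact a2, by rw [e']; exact c2⟩
      · rcases hmB with e' | e' | e' | e'
        · exact absurd e' nb
        · exact ⟨u1, by rw [e]; exact b1, by rw [e']; exact a1⟩
        · exact absurd (e.trans e'.symm) nab
        · refine ⟨u2 * u1, ?_, ?_⟩
          · rw [e, hU]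
            change U2 (U1 B) = A
            rw [b1, a2]
          · rw [e', hU]
            change U2 (U1 (A * B)) = B
            rw [c1, c2]
      · rcases hmB with e' | e' | e' | e'
        · exact absurd e' nb
        · refine ⟨u1 * u2, ?_, ?_⟩
          · rw [e, hU]
            change U1 (U2 (A * B)) = A
            rw [c2, b1]
          · rw [e', hU]
            change U1 (U2 A) = B
            rw [a2, a1]
        · refine ⟨u2 * (u1 * u2), ?_, ?_⟩
          · rw [e, hU, hU]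
            change U2 (U1 (U2 (A * B))) = A
            rw [c2, b1, a2]
          · rw [e', hU, hU]
            change U2 (U1 (U2 B)) = B
            rw [b2, c1, c2]
        · exact absurd (e.trans e'.symm) nab
    rw [hP, π_conj, eq_comm] at hyA
    rw [hQ, π_conj, eq_comm] at hyB
    set w := y * x
    have ew : ∀ g : SL(2, F), y * (x * g * x⁻¹) * y⁻¹ = w * g * w⁻¹ := fun g => by simp [w, mul_assoc]
    rw [ew] at hyA hyB
    obtain ⟨w', hwJ, hwk⟩ : ∃ w', w' * J * w'⁻¹ = J ∧ (w' * h₀ * w'⁻¹ = k ∨ w' * h₀ * w'⁻¹ = -k) := by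
      have hk' : k * J * k⁻¹ = -J := by
        rw [mul_inv_eq_iff_eq_mul, neg_mul, hp₁.2.2, neg_neg]
      rcases π_eq_iff.mp hyA with e | e
      · exact ⟨w, e, π_eq_iff.mp hyB⟩
      · refine ⟨k * w, ?_, ?_⟩
        · calc k * w * J * (k * w)⁻¹ = k * (w * J * w⁻¹) * k⁻¹ := by group
            _ = -(k * J * k⁻¹) := by rw [e]; simp
            _ = J := by rw [hk', neg_neg]
        · have e2 : k * w * h₀ * (k * w)⁻¹ = k * (w * h₀ * w⁻¹) * k⁻¹ := by group
          rcases π_eq_iff.mp hyB with e' | e'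
          · exact Or.inl (by rw [e2, e', mul_inv_cancel_right])
          · exact Or.inr (by rw [e2, e']; simp)
    obtain ⟨v, hvJ, hvk⟩ : ∃ v, v * J * v⁻¹ = J ∧ v * h₀ * v⁻¹ = k := by
      rcases hwk with e | e
      · exact ⟨w', hwJ, e⟩
      · refine ⟨J * w', ?_, ?_⟩
        · calc J * w' * J * (J * w')⁻¹ = J * (w' * J * w'⁻¹) * J⁻¹ := by group
            _ = J := by rw [hwJ, mul_inv_cancel_right]
        · calc J * w' * h₀ * (J * w')⁻¹ = J * (w' * h₀ * w'⁻¹) * J⁻¹ := by group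
            _ = k := by rw [e, mul_inv_eq_iff_eq_mul, mul_neg, hp₁.2.2, neg_neg]
    have hvC : v ∈ C := Subgroup.mem_centralizer_singleton_iff.mpr (mul_inv_eq_iff_eq_mul.mp hvJ)
    refine hsq v hvC (mul_right_cancel (b := h₀) ?_)
    rw [mul_assoc v v, show v * h₀ = h₀ * v⁻¹ by rw [hinv v⁻¹ (inv_mem hvC), inv_inv], ← mul_assoc]
    exact hvk

theorem sl_order_four (A : Subgroup SL(2, F)) (hA : Nat.card A = 4) :
    ∃ g : SL(2, F), g * g = -1 ∧ ∀ y, y ∈ A ↔ (y = 1 ∨ y = -1 ∨ y = g ∨ y = -g) := by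
  classical
  haveI : Fintype A := Fintype.ofFinite A
  have hc : (Finset.univ : Finset A).card = 4 := by rw [Finset.card_univ, ← Nat.card_eq_fintype_card, hA]
  obtain ⟨g, hg, hg1, hg2⟩ : ∃ g ∈ A, g ≠ 1 ∧ g ≠ -1 := by
    by_contra hcon
    push Not at hcon
    have hsub : (Finset.univ : Finset A).image Subtype.val ⊆ ({1, -1} : Finset SL(2, F)) := fun y hy => by
      obtain ⟨z, -, rfl⟩ := Finset.mem_image.mp hy
      by_cases h : (z : SL(2, F)) = 1
      · simp [h]
      · simp [hcon z z.2 h]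
    have := Finset.card_le_card hsub
    rw [Finset.card_image_of_injective _ Subtype.val_injective, hc,
      Finset.card_pair (fun h => neg_one_ne hodd h.symm)] at this
    omega
  have hord : g * g = -1 := by
    have h4 : g ^ 4 = 1 := by
      have h := congrArg Subtype.val (pow_card_eq_one' (x := (⟨g, hg⟩ : A)))
      rw [hA] at h
      exact h
    have h22 : g * g * (g * g) = 1 := by rw [← h4, pow_succ, pow_succ, pow_two]; group
    refine (eq_or_neg hodd h22).resolve_left fun h => ?_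
    rcases eq_or_neg hodd h with e | e
    · exact hg1 e
    · exact hg2 e
  have hm1 : (-1 : SL(2, F)) ∈ A := hord ▸ mul_mem hg hg
  have hset : ({1, -1, g, -g} : Finset SL(2, F)) = (Finset.univ : Finset A).image Subtype.val := by
    refine Finset.eq_of_subset_of_card_le ?_ (le_of_eq ?_)
    · intro y hy
      simp only [Finset.mem_insert, Finset.mem_singleton] at hy
      have hy' : y ∈ A := by
        rcases hy with rfl | rfl | rfl | rfl
        exacts [one_mem _, hm1, hg, by rw [← neg_one_mul]; exact mul_mem hm1 hg]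
      exact Finset.mem_image.mpr ⟨⟨y, hy'⟩, Finset.mem_univ _, rfl⟩
    · rw [Finset.card_image_of_injective _ Subtype.val_injective, hc, Finset.card_insert_of_notMem,
        Finset.card_insert_of_notMem, Finset.card_pair (fun h => neg_ne hodd g h.symm)]
      · simp only [Finset.mem_insert, Finset.mem_singleton, not_or]
        exact ⟨fun h => hg2 h.symm, fun h => hg1 (neg_inj.mp h).symm⟩
      · simp only [Finset.mem_insert, Finset.mem_singleton, not_or]
        exact ⟨fun h => neg_one_ne hodd h.symm, fun h => hg1 h.symm,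
          fun h => hg2 (by rw [h, neg_neg])⟩
  refine ⟨g, hord, fun y => ?_⟩
  have h := Finset.ext_iff.mp hset y
  simp only [Finset.mem_insert, Finset.mem_singleton, Finset.mem_image, Finset.mem_univ, true_and] at h
  rw [h]
  exact ⟨fun hy => ⟨⟨y, hy⟩, rfl⟩, fun ⟨z, hz⟩ => hz ▸ z.2⟩

theorem order_four_subgroups (A : Subgroup SL(2, F)) (hA : Nat.card A = 4) :
    (∀ B : Subgroup SL(2, F), Nat.card B = 4 → ∃ g : SL(2, F), B = A.map (MulAut.conj g).toMonoidHom) ∧
      Nat.card ↥(Subgroup.normalizer (A : Set SL(2, F))) = 2 * Nat.card ↥(C : Subgroup SL(2, F)) := by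
  classical
  obtain ⟨g, hg, hmem⟩ := sl_order_four hodd A hA
  obtain ⟨x, hx⟩ := conj_to_J hodd hg
  refine ⟨fun B hB => ?_, ?_⟩
  · obtain ⟨g', hg', hmem'⟩ := sl_order_four hodd B hB
    obtain ⟨x', hx'⟩ := conj_to_J hodd hg'
    refine ⟨x' * x⁻¹, ?_⟩
    have e : x' * x⁻¹ * g * (x' * x⁻¹)⁻¹ = g' := by rw [← hx, ← hx']; group
    have eg : (MulAut.conj (x' * x⁻¹)).toMonoidHom g = g' := e
    have eng : (MulAut.conj (x' * x⁻¹)).toMonoidHom (-g) = -g' := by
      show x' * x⁻¹ * (-g) * (x' * x⁻¹)⁻¹ = -g'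
      rw [mul_neg, neg_mul, e]
    ext y
    rw [hmem', Subgroup.mem_map]
    constructor
    · rintro (rfl | rfl | rfl | rfl)
      · exact ⟨1, one_mem _, map_one _⟩
      · exact ⟨-1, (hmem _).mpr (Or.inr (Or.inl rfl)), by simp [MulAut.conj_apply]⟩
      · exact ⟨g, (hmem _).mpr (Or.inr (Or.inr (Or.inl rfl))), eg⟩
      · exact ⟨-g, (hmem _).mpr (Or.inr (Or.inr (Or.inr rfl))), eng⟩
    · rintro ⟨z, hz, rfl⟩
      rcases (hmem z).mp hz with rfl | rfl | rfl | rfl
      · exact Or.inl (map_one _)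
      · exact Or.inr (Or.inl (by simp [MulAut.conj_apply]))
      · exact Or.inr (Or.inr (Or.inl eg))
      · exact Or.inr (Or.inr (Or.inr eng))
  · obtain ⟨h₀, hh, hJh, -⟩ := exists_anti (F := F) hodd
    have hN : ∀ y : SL(2, F), y ∈ Subgroup.normalizer (A : Set SL(2, F)) ↔
        (y * g * y⁻¹ = g ∨ y * g * y⁻¹ = -g) := by
      intro y
      constructor
      · intro hy
        have h1 := (hmem _).mp ((Subgroup.mem_normalizer_iff.mp hy g).mp
          ((hmem g).mpr (Or.inr (Or.inr (Or.inl rfl)))))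
        have hs := conj_mem_S y hg
        rcases h1 with e | e | e | e
        · rw [e, one_mul] at hs; exact absurd hs.symm (neg_one_ne hodd)
        · rw [e, neg_mul_neg, one_mul] at hs; exact absurd hs.symm (neg_one_ne hodd)
        · exact Or.inl e
        · exact Or.inr e
      · intro h
        refine Subgroup.mem_normalizer_fintype fun z hz => ?_
        rcases (hmem z).mp hz with rfl | rfl | rfl | rfl
        · rw [mul_one, mul_inv_cancel]; exact one_mem _
        · exact (hmem _).mpr (Or.inr (Or.inl (by simp)))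
        · exact (hmem _).mpr (Or.inr (Or.inr h))
        · refine (hmem _).mpr (Or.inr (Or.inr ?_))
          rcases h with e | e
          · exact Or.inr (by simp [e])
          · exact Or.inl (by simp [e])
    have hJ' : x⁻¹ * g * x = J := by rw [← hx]; group
    have hanti : h₀ * J * h₀⁻¹ = -J := by
      rw [mul_inv_eq_iff_eq_mul, neg_mul, hJh, neg_neg]
    rw [show 2 * Nat.card ↥(C : Subgroup SL(2, F)) = Nat.card (Bool × ↥(C : Subgroup SL(2, F))) by
      rw [Nat.card_prod]; simp]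
    symm
    have key : ∀ (b : Bool) (c : ↥(C : Subgroup SL(2, F))), (c : SL(2, F)) * (if b then h₀ else 1) * J *
        ((c : SL(2, F)) * (if b then h₀ else 1))⁻¹ = if b then -J else J := by
      intro b c
      have hc : (c : SL(2, F)) * J * (c : SL(2, F))⁻¹ = J := by
        rw [mul_inv_eq_iff_eq_mul]; exact Subgroup.mem_centralizer_singleton_iff.mp c.2
      cases b
      · simpa using hc
      · calc (c : SL(2, F)) * h₀ * J * ((c : SL(2, F)) * h₀)⁻¹ = (c : SL(2, F)) * (h₀ * J * h₀⁻¹) * (c : SL(2, F))⁻¹ := by group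
          _ = -((c : SL(2, F)) * J * (c : SL(2, F))⁻¹) := by rw [hanti]; simp
          _ = -J := by rw [hc]
    refine Nat.card_congr (Equiv.ofBijective
      (fun p : Bool × ↥(C : Subgroup SL(2, F)) => ⟨x * ((p.2 : SL(2, F)) * (if p.1 then h₀ else 1)) * x⁻¹, (hN _).mpr ?_⟩) ⟨?_, ?_⟩)
    · have e : ∀ w : SL(2, F), x * w * x⁻¹ * g * (x * w * x⁻¹)⁻¹ = x * (w * J * w⁻¹) * x⁻¹ := fun w => by
        rw [← hJ']; group
      rw [e, key]
      cases p.1
      · exact Or.inl (by simp [hx])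
      · exact Or.inr (by simp [hx])
    · rintro ⟨b, c⟩ ⟨b', c'⟩ h
      have h' := mul_left_cancel (mul_right_cancel (Subtype.mk.inj h))
      have hb : (if b then -J else J) = (if b' then -J else (J : SL(2, F))) := by rw [← key b c, ← key b' c', h']
      have hne : -(J : SL(2, F)) ≠ J := neg_ne hodd J
      obtain rfl : b = b' := by
        cases b <;> cases b'
        · rfl
        · exact absurd hb.symm hne
        · exact absurd hb hne
        · rfl
      exact Prod.ext rfl (Subtype.ext (mul_right_cancel h'))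
    · rintro ⟨y, hy⟩
      have hy' : (x⁻¹ * y * x) * J * (x⁻¹ * y * x)⁻¹ = x⁻¹ * (y * g * y⁻¹) * x := by rw [← hJ']; group
      rcases (hN y).mp hy with e | e
      · refine ⟨(false, ⟨x⁻¹ * y * x, Subgroup.mem_centralizer_singleton_iff.mpr (mul_inv_eq_iff_eq_mul.mp ?_)⟩),
          Subtype.ext ?_⟩
        · rw [hy', e, hJ']
        · simp [mul_assoc]
      · refine ⟨(true, ⟨x⁻¹ * y * x * h₀⁻¹, Subgroup.mem_centralizer_singleton_iff.mpr
          (mul_inv_eq_iff_eq_mul.mp ?_)⟩), Subtype.ext ?_⟩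
        · have h0' : h₀⁻¹ * J * h₀ = -J := by
            rw [mul_assoc, hJh]; simp
          calc x⁻¹ * y * x * h₀⁻¹ * J * (x⁻¹ * y * x * h₀⁻¹)⁻¹
              = (x⁻¹ * y * x) * (h₀⁻¹ * J * h₀) * (x⁻¹ * y * x)⁻¹ := by group
            _ = -((x⁻¹ * y * x) * J * (x⁻¹ * y * x)⁻¹) := by rw [h0']; simp
            _ = J := by rw [hy', e, mul_neg, neg_mul, neg_neg, hJ']
        · simp [mul_assoc]

theorem involutions_conj (a b : PSL₂ F) (ha : orderOf a = 2) (hb : orderOf b = 2) : IsConj a b := by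
  have key : ∀ y : PSL₂ F, orderOf y = 2 → ∃ x : SL(2, F), π (x * J * x⁻¹) = y := by
    intro y hy
    have h1 := pow_orderOf_eq_one y
    rw [hy] at h1
    have h2 : y ≠ 1 := fun h => by rw [h, orderOf_one] at hy; omega
    obtain ⟨g, rfl⟩ := QuotientGroup.mk'_surjective _ y
    rw [pow_two, ← map_mul, π_one_iff] at h1
    have hg : g * g = -1 := h1.resolve_left fun h => h2 (π_one_iff.mpr (eq_or_neg hodd h))
    obtain ⟨x, hx⟩ := conj_to_J hodd hg
    exact ⟨x, by rw [hx]⟩
  obtain ⟨x, rfl⟩ := key a ha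
  obtain ⟨y, rfl⟩ := key b hb
  exact isConj_iff.mpr ⟨π (y * x⁻¹), by rw [π_conj]; congr 1; group⟩

end odd

end Cfsg.Lib.Classical.PSLFour
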