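import Mathlib
import Cfsg.Agent.Classical.Misc.SixtyGroup
import Cfsg.Agent.Classical.Misc.SmallPSL

/-!
Finite groups acting on a line so that a non-trivial element has one fixed point (order `p`) or two.
Counting fixed points gives Dickson's list of finite subgroups of `PGL₂`.
-/

set_option autoImplicit false
set_option linter.unusedSectionVars false
set_option linter.style.haveILetI false

namespace Cfsg.Lib.Classical.SharpGeom

open MulAction

/-- A free invariant finite set has size divisible by the order of the group. -/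
theorem free_dvd {H Y : Type*} [Group H] [Finite H] (f : H →* Equiv.Perm Y) (s : Set Y) (hs : s.Finite)
    (hinv : ∀ h : H, ∀ y ∈ s, f h y ∈ s) (hfree : ∀ h : H, ∀ y ∈ s, f h y = y → h = 1) :
    Nat.card H ∣ s.ncard := by
  letI : MulAction H s :=
    { smul := fun h y => ⟨f h y.1, hinv h y.1 y.2⟩
      one_smul := fun y => Subtype.ext (by show f 1 y.1 = y.1; simp)
      mul_smul := fun a b y => Subtype.ext (by show f (a * b) y.1 = f a (f b y.1); simp) }
  haveI : Finite s := hs.to_subtype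
  have h : ∀ b : s, stabilizer H b = ⊥ := fun b => by
    rw [Subgroup.eq_bot_iff_forall]
    intro g hg
    exact hfree g b.1 b.2 (congrArg Subtype.val (mem_stabilizer_iff.mp hg))
  rw [← Nat.card_coe_set_eq, Nat.card_congr (selfEquivOrbitsQuotientProd h), Nat.card_prod]
  exact dvd_mul_left _ _

/-- The fixed point axioms. -/
structure Geom (G : Type*) (X : Type*) [Group G] [MulAction G X] (p : ℕ) : Prop where
  three : ∀ g : G, ∀ x y z : X, g • x = x → g • y = y → g • z = z → x ≠ y → x ≠ z → y ≠ z → g = 1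
  exists_fixed : ∀ g : G, ∃ x : X, g • x = x
  unip_one : ∀ g : G, g ^ p = 1 → ∀ x y : X, g • x = x → g • y = y → x ≠ y → g = 1
  semi_two : ∀ g : G, g ^ p ≠ 1 → ∀ x : X, g • x = x → ∃ y, y ≠ x ∧ g • y = y
  unip_comm : ∀ (x : X) (g h : G), g • x = x → h • x = x → g ^ p = 1 → h ^ p = 1 → g * h = h * g
  stab_gen : ∀ x : X, ∃ s : G, s • x = x ∧ ∀ g : G, g • x = x → ∃ i : ℕ, (g * s ^ i) ^ p = 1

variable {G : Type*} {X : Type*} [Group G] [MulAction G X] {p : ℕ} (M : Geom G X p)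
include M

namespace Geom

/-- The unipotent elements at a point. -/
def unip (x : X) : Subgroup G where
  carrier := {g | g • x = x ∧ g ^ p = 1}
  one_mem' := ⟨one_smul G x, one_pow p⟩
  mul_mem' {a b} ha hb := by
    refine ⟨by rw [mul_smul, hb.1, ha.1], ?_⟩
    rw [(show Commute a b from M.unip_comm x a b ha.1 hb.1 ha.2 hb.2).mul_pow, ha.2, hb.2, one_mul]
  inv_mem' {a} ha := ⟨by rw [inv_smul_eq_iff, ha.1], by rw [inv_pow, ha.2, inv_one]⟩

theorem mem_unip {x : X} {g : G} : g ∈ M.unip x ↔ g • x = x ∧ g ^ p = 1 := Iff.rfl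

theorem unip_le (x : X) : M.unip x ≤ stabilizer G x := fun _ hg => mem_stabilizer_iff.mpr hg.1

theorem unip_conj {x : X} {g : G} (h : G) (hg : g ∈ M.unip x) : h * g * h⁻¹ ∈ M.unip (h • x) :=
  ⟨by rw [mul_smul, mul_smul, inv_smul_smul, hg.1], by rw [conj_pow, hg.2, mul_one, mul_inv_cancel]⟩

theorem eq_of_two {g : G} (hg : g ≠ 1) {x y z : X} (hx : g • x = x) (hy : g • y = y) (hxy : x ≠ y)
    (hz : g • z = z) : z = x ∨ z = y := by
  by_contra hc
  push Not at hc
  exact hg (M.three g x y z hx hy hz hxy (Ne.symm hc.1) (Ne.symm hc.2))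

theorem eq_of_unip {g : G} (hg : g ≠ 1) (hp : g ^ p = 1) {x z : X} (hx : g • x = x) (hz : g • z = z) :
    z = x := by
  by_contra hc
  exact hg (M.unip_one g hp x z hx hz (Ne.symm hc))

theorem pow_smul_fixed {g : G} {x : X} (hx : g • x = x) (m : ℕ) : g ^ m • x = x := by
  induction m with
  | zero => simp
  | succ m ih => rw [pow_succ, mul_smul, hx, ih]

theorem pow_p_of_pow {g : G} {k : ℕ} (h : g ^ p ^ k = 1) : g ^ p = 1 := by
  by_contra hg
  obtain ⟨x, hx⟩ := M.exists_fixed g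
  obtain ⟨y, hy, hgy⟩ := M.semi_two g hg x hx
  have : ∀ k, g ^ p ^ k = 1 → False := by
    intro k
    induction k with
    | zero => intro h; simp at h; exact hg (by rw [h, one_pow])
    | succ k ih =>
      intro h
      refine ih (M.unip_one _ ?_ x y (M.pow_smul_fixed hx _) (M.pow_smul_fixed hgy _) (Ne.symm hy))
      rw [← pow_mul, ← pow_succ, h]
  exact this k h

theorem two_point_trivial {x y : X} (hxy : x ≠ y) {g : G} (hu : g ∈ M.unip x) (hy : g • y = y) : g = 1 :=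
  M.unip_one g hu.2 x y hu.1 hy hxy

theorem two_point_cyclic (x y : X) (hxy : x ≠ y) : IsCyclic ↥(stabilizer G x ⊓ stabilizer G y) := by
  obtain ⟨s, hs, hgen⟩ := M.stab_gen x
  set S := stabilizer G x
  set U : Subgroup S := (M.unip x).subgroupOf S
  haveI : U.Normal := ⟨fun u hu g => by
    have := M.unip_conj (g : G) (Subgroup.mem_subgroupOf.mp hu)
    rwa [mem_stabilizer_iff.mp g.2] at this⟩
  let π : ↥(S ⊓ stabilizer G y) →* S ⧸ U := (QuotientGroup.mk' U).comp (Subgroup.inclusion inf_le_left)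
  have hinj : Function.Injective π := by
    rw [← MonoidHom.ker_eq_bot_iff, Subgroup.eq_bot_iff_forall]
    rintro ⟨g, hgx, hgy⟩ hg
    have : (⟨g, hgx⟩ : S) ∈ U := (QuotientGroup.eq_one_iff _).mp hg
    exact Subtype.ext (M.two_point_trivial hxy (Subgroup.mem_subgroupOf.mp this) hgy)
  haveI : IsCyclic (S ⧸ U) := ⟨⟨QuotientGroup.mk ⟨s, hs⟩, fun q => by
    obtain ⟨g, rfl⟩ := QuotientGroup.mk_surjective q
    obtain ⟨i, hi⟩ := hgen g.1 g.2
    refine ⟨-(i : ℤ), ?_⟩
    show (QuotientGroup.mk (⟨s, hs⟩ : S) : S ⧸ U) ^ (-(i : ℤ)) = QuotientGroup.mk g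
    rw [← QuotientGroup.mk_zpow, QuotientGroup.eq, Subgroup.mem_subgroupOf]
    have hc : ((((⟨s, hs⟩ : S) ^ (-(i : ℤ)))⁻¹ * g : S) : G) = s ^ i * g.1 := by
      simp [_root_.zpow_neg]
    rw [hc]
    have := M.unip_conj (s ^ i) (show g.1 * s ^ i ∈ M.unip x from
      ⟨by rw [mul_smul, M.pow_smul_fixed hs, g.2], hi⟩)
    rw [M.pow_smul_fixed hs] at this
    convert this using 1
    group⟩⟩
  exact isCyclic_of_injective π hinj

theorem stab_structure (x : X) :
    stabilizer G x = M.unip x ∨ ∃ y, y ≠ x ∧ (∃ k, k ∈ stabilizer G x ⊓ stabilizer G y ∧ k ≠ 1) ∧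
      ∀ g ∈ stabilizer G x, ∃ u ∈ M.unip x, u⁻¹ * g ∈ stabilizer G x ⊓ stabilizer G y := by
  obtain ⟨s, hs, hgen⟩ := M.stab_gen x
  by_cases hsp : s ^ p = 1
  · left
    refine le_antisymm (fun g hg => ?_) (M.unip_le x)
    obtain ⟨i, hi⟩ := hgen g (mem_stabilizer_iff.mp hg)
    have hsU : s ^ i ∈ M.unip x := pow_mem (show s ∈ M.unip x from ⟨hs, hsp⟩) i
    have h : g * s ^ i ∈ M.unip x :=
      ⟨by rw [mul_smul, M.pow_smul_fixed hs, mem_stabilizer_iff.mp hg], hi⟩
    simpa using mul_mem h (inv_mem hsU)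
  · right
    obtain ⟨y, hy, hsy⟩ := M.semi_two s hsp x hs
    have hsC : s ∈ stabilizer G x ⊓ stabilizer G y := ⟨hs, hsy⟩
    refine ⟨y, hy, ⟨s, hsC, fun h => hsp (by rw [h, one_pow])⟩, fun g hg => ?_⟩
    obtain ⟨i, hi⟩ := hgen g (mem_stabilizer_iff.mp hg)
    refine ⟨g * s ^ i, ⟨by rw [mul_smul, M.pow_smul_fixed hs, mem_stabilizer_iff.mp hg], hi⟩, ?_⟩
    rw [_root_.mul_inv_rev, inv_mul_cancel_right]
    exact inv_mem (pow_mem hsC i)

theorem card_stab [Finite G] {x y : X} (hxy : y ≠ x)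
    (h : ∀ g ∈ stabilizer G x, ∃ u ∈ M.unip x, u⁻¹ * g ∈ stabilizer G x ⊓ stabilizer G y) :
    Nat.card (stabilizer G x) = Nat.card (M.unip x) * Nat.card ↥(stabilizer G x ⊓ stabilizer G y) := by
  rw [← Nat.card_prod]
  symm
  refine Nat.card_eq_of_bijective
    (fun a : ↥(M.unip x) × ↥(stabilizer G x ⊓ stabilizer G y) =>
      (⟨(a.1 : G) * a.2, mul_mem (M.unip_le x a.1.2) a.2.2.1⟩ : stabilizer G x)) ⟨?_, ?_⟩
  · rintro ⟨u, k⟩ ⟨v, l⟩ e
    have e' : (u : G) * k = v * l := congrArg Subtype.val e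
    have h1 : ((v : G)⁻¹ * u) • y = y := by
      rw [show (v : G)⁻¹ * u = l * (k : G)⁻¹ by rw [eq_mul_inv_iff_mul_eq, mul_assoc, e', inv_mul_cancel_left]]
      exact mem_stabilizer_iff.mp (mul_mem l.2.2 (inv_mem k.2.2))
    have h2 := M.two_point_trivial (Ne.symm hxy) (mul_mem (inv_mem v.2) u.2) h1
    obtain rfl : v = u := Subtype.ext (inv_mul_eq_one.mp h2)
    obtain rfl : k = l := Subtype.ext (mul_left_cancel e')
    rfl
  · rintro ⟨g, hg⟩
    obtain ⟨u, hu, hk⟩ := h g hg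
    exact ⟨(⟨u, hu⟩, ⟨_, hk⟩), Subtype.ext (mul_inv_cancel_left u g)⟩

theorem eq_one_of_comm {x y : X} (hxy : y ≠ x) {u k : G} (hu : u ∈ M.unip x)
    (hk : k ∈ stabilizer G x ⊓ stabilizer G y) (hk1 : k ≠ 1) (hc : u * k = k * u) : u = 1 := by
  have e : k • u • y = u • y := by rw [← mul_smul, ← hc, mul_smul, mem_stabilizer_iff.mp hk.2]
  rcases M.eq_of_two hk1 hk.1 hk.2 (Ne.symm hxy) e with h | h
  · exact absurd (by rw [← inv_smul_smul u y, h, inv_smul_eq_iff, hu.1]) hxy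
  · exact M.two_point_trivial (Ne.symm hxy) hu h

theorem card_dvd_pred [Finite G] {x y : X} (hxy : y ≠ x) :
    Nat.card ↥(stabilizer G x ⊓ stabilizer G y) ∣ Nat.card (M.unip x) - 1 := by
  have h : ((M.unip x : Set G) \ {1}).ncard = Nat.card (M.unip x) - 1 := by
    rw [Set.ncard_diff (by simp [one_mem]), Set.ncard_singleton, ← Nat.card_coe_set_eq]
    rfl
  rw [← h]
  refine free_dvd ((MulAut.toPerm G).comp ((MulAut.conj : G →* MulAut G).comp (Subgroup.subtype _))) _
    (Set.toFinite _) ?_ ?_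
  · rintro ⟨k, hk⟩ u ⟨hu, hu1⟩
    refine ⟨?_, fun h => hu1 ?_⟩
    · have := M.unip_conj k hu
      rwa [mem_stabilizer_iff.mp hk.1] at this
    · exact conj_eq_one_iff.mp (show k * u * k⁻¹ = 1 from h)
  · rintro ⟨k, hk⟩ u ⟨hu, hu1⟩ h
    by_contra hk1
    refine hu1 (M.eq_one_of_comm hxy hu hk (fun e => hk1 (Subtype.ext e)) ?_)
    have h' : k * u * k⁻¹ = u := h
    rw [mul_inv_eq_iff_eq_mul] at h'
    exact h'.symm

theorem second_point [Finite G] {x y : X} (hxy : y ≠ x)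
    (h : ∀ g ∈ stabilizer G x, ∃ u ∈ M.unip x, u⁻¹ * g ∈ stabilizer G x ⊓ stabilizer G y)
    {z : X} (hz : z ≠ x) {g : G} (hg : g ≠ 1) (hgx : g • x = x) (hgz : g • z = z) :
    ∃ v ∈ M.unip x, v • y = z := by
  obtain ⟨u, hu, hk⟩ := h g hgx
  set k := u⁻¹ * g with hkdef
  have hk1 : k ≠ 1 := fun h0 => by
    rw [hkdef, inv_mul_eq_one] at h0
    exact hg (M.two_point_trivial (Ne.symm hz) (h0 ▸ hu) hgz)
  let φ : M.unip x → M.unip x := fun v => ⟨(v : G) * (k * (v : G)⁻¹ * k⁻¹), by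
    refine mul_mem v.2 ?_
    have := M.unip_conj k (inv_mem v.2)
    rwa [mem_stabilizer_iff.mp hk.1] at this⟩
  have hφ : Function.Injective φ := by
    intro a b e
    have e' : (a : G) * (k * (a : G)⁻¹ * k⁻¹) = b * (k * (b : G)⁻¹ * k⁻¹) := congrArg Subtype.val e
    simp only [← mul_assoc, mul_left_inj] at e'
    have hc : (b : G)⁻¹ * a * k = k * ((b : G)⁻¹ * a) := by
      have := congrArg (fun t => (b : G)⁻¹ * t * a) e'
      simpa [mul_assoc] using this
    exact (Subtype.ext (inv_mul_eq_one.mp (M.eq_one_of_comm hxy (mul_mem (inv_mem b.2) a.2) hk hk1 hc))).symm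
  obtain ⟨⟨v, hv⟩, hv'⟩ := (Finite.injective_iff_surjective.mp hφ) ⟨u, hu⟩
  have hv'' : v * (k * v⁻¹ * k⁻¹) = u := congrArg Subtype.val hv'
  refine ⟨v, hv, ?_⟩
  have hgeq : g = v * k * v⁻¹ := by
    rw [show g = u * k by rw [hkdef, mul_inv_cancel_left], ← hv'']
    group
  have hvy : g • v • y = v • y := by
    rw [hgeq, mul_smul, mul_smul, inv_smul_smul, mem_stabilizer_iff.mp hk.2]
  rcases M.eq_of_two hg hgx hgz (Ne.symm hz) hvy with e | e
  · exact absurd (by rw [← inv_smul_smul v y, e, inv_smul_eq_iff, hv.1]) hxy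
  · exact e

theorem isSylow [Finite G] [Fact p.Prime] (x : X) (hx : M.unip x ≠ ⊥) :
    ∃ S : Sylow p G, (S : Subgroup G) = M.unip x := by
  have hU : IsPGroup p (M.unip x) := fun u => ⟨1, Subtype.ext (by simpa using u.2.2)⟩
  obtain ⟨S, hS⟩ := hU.exists_le_sylow
  refine ⟨S, le_antisymm ?_ hS⟩
  obtain ⟨⟨u, hu⟩, hu1⟩ : ∃ u : M.unip x, u ≠ 1 := by
    haveI := (Subgroup.nontrivial_iff_ne_bot _).mpr hx
    exact exists_ne 1
  haveI : Nontrivial (S : Subgroup G) := ⟨⟨⟨u, hS hu⟩, 1, fun h => hu1 (Subtype.ext (congrArg (fun t : (S : Subgroup G) => (t : G)) h))⟩⟩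
  haveI := S.2.center_nontrivial
  obtain ⟨⟨⟨z, hz⟩, hzc⟩, hz1⟩ := exists_ne (1 : Subgroup.center (S : Subgroup G))
  have hz1' : z ≠ 1 := fun h => hz1 (Subtype.ext (Subtype.ext h))
  have hall : ∀ g ∈ (S : Subgroup G), g ^ p = 1 := fun g hg => by
    obtain ⟨k, hk⟩ := S.2 ⟨g, hg⟩
    exact M.pow_p_of_pow (k := k) (congrArg Subtype.val hk)
  obtain ⟨y, hy⟩ := M.exists_fixed z
  have hfix : ∀ g ∈ (S : Subgroup G), g • y = y := fun g hg => by
    refine M.eq_of_unip hz1' (hall z hz) hy ?_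
    have hc : g * z = z * g := congrArg Subtype.val (Subgroup.mem_center_iff.mp hzc ⟨g, hg⟩)
    rw [← mul_smul, ← hc, mul_smul, hy]
  have hyx : y = x := M.eq_of_unip (fun h => hu1 (Subtype.ext h)) hu.2 hu.1 (hfix u (hS hu))
  intro g hg
  exact ⟨hyx ▸ hfix g hg, hall g hg⟩

theorem wild_conj [Finite G] [Fact p.Prime] {x y : X} (hx : M.unip x ≠ ⊥) (hy : M.unip y ≠ ⊥) :
    y ∈ orbit G x := by
  obtain ⟨S, hS⟩ := M.isSylow x hx
  obtain ⟨T, hT⟩ := M.isSylow y hy
  obtain ⟨g, hg⟩ := MulAction.exists_smul_eq G S T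
  refine ⟨g, ?_⟩
  obtain ⟨⟨u, hu⟩, hu1⟩ : ∃ u : M.unip x, u ≠ 1 := by
    haveI := (Subgroup.nontrivial_iff_ne_bot _).mpr hx
    exact exists_ne 1
  have h1 := M.unip_conj g hu
  have h2 : g * u * g⁻¹ ∈ M.unip y := by
    rw [← hT, ← hg, Sylow.coe_subgroup_smul]
    exact ⟨u, hS ▸ hu, rfl⟩
  exact (M.eq_of_unip (fun h => hu1 (Subtype.ext (conj_eq_one_iff.mp h))) h2.2 h2.1 h1.1)

theorem finite_pts [Finite G] : {x : X | ∃ g : G, g ≠ 1 ∧ g • x = x}.Finite := by
  have h : {x : X | ∃ g : G, g ≠ 1 ∧ g • x = x} ⊆ ⋃ g ∈ {g : G | g ≠ 1}, {x : X | g • x = x} := by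
    rintro x ⟨g, hg, hx⟩
    exact Set.mem_biUnion hg hx
  refine Set.Finite.subset (Set.Finite.biUnion (Set.toFinite _) fun g hg => ?_) h
  obtain ⟨x, hx⟩ := M.exists_fixed g
  by_cases hy : ∃ y, y ≠ x ∧ g • y = y
  · obtain ⟨y, hyx, hgy⟩ := hy
    exact (Set.toFinite {x, y}).subset fun z hz => M.eq_of_two hg hx hgy (Ne.symm hyx) hz
  · exact (Set.toFinite {x}).subset fun z hz => by
      by_contra hne
      exact hy ⟨z, hne, hz⟩

/-- The weight of a point. -/
noncomputable def weight (x : X) : ℕ := Nat.card (stabilizer G x) + Nat.card (M.unip x) - 2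

theorem weight_smul [Finite G] (g : G) (x : X) : M.weight (g • x) = M.weight x := by
  have h1 : Nat.card (stabilizer G (g • x)) = Nat.card (stabilizer G x) := by
    rw [stabilizer_smul_eq_stabilizer_map_conj]
    exact Subgroup.card_map_of_injective (MulAut.conj g).injective
  have h2 : Nat.card (M.unip (g • x)) = Nat.card (M.unip x) := by
    refine Nat.card_congr ⟨fun u => ⟨g⁻¹ * u * g, ?_⟩, fun u => ⟨g * u * g⁻¹, M.unip_conj g u.2⟩,
      fun u => Subtype.ext ?_, fun u => Subtype.ext ?_⟩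
    · have := M.unip_conj g⁻¹ u.2
      rwa [inv_smul_smul, inv_inv] at this
    · show g * (g⁻¹ * (u : G) * g) * g⁻¹ = u; group
    · show g⁻¹ * (g * (u : G) * g⁻¹) * g = u; group
  rw [weight, weight, h1, h2]

open scoped _root_.Classical in
theorem count [Finite G] [Fact p.Prime] :
    ∑ x ∈ M.finite_pts.toFinset, M.weight x = 2 * (Nat.card G - 1) := by
  haveI := Fintype.ofFinite G
  set T := M.finite_pts.toFinset with hT
  set E := (Finset.univ : Finset G).erase 1 with hE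
  have hw : ∀ x, M.weight x = (E.filter fun g => g • x = x).card +
      (E.filter fun g => g • x = x ∧ g ^ p = 1).card := by
    intro x
    have e1 : Nat.card (stabilizer G x) = (E.filter fun g => g • x = x).card + 1 := by
      rw [hE, Finset.filter_erase, Finset.card_erase_of_mem (by simp), Nat.sub_add_cancel
        (Finset.card_pos.mpr ⟨1, by simp⟩), ← Fintype.card_subtype, ← Nat.card_eq_fintype_card]
      exact Nat.card_congr (Equiv.subtypeEquivRight fun g => Iff.rfl)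
    have e2 : Nat.card (M.unip x) = (E.filter fun g => g • x = x ∧ g ^ p = 1).card + 1 := by
      rw [hE, Finset.filter_erase, Finset.card_erase_of_mem (by simp), Nat.sub_add_cancel
        (Finset.card_pos.mpr ⟨1, by simp⟩), ← Fintype.card_subtype, ← Nat.card_eq_fintype_card]
      exact Nat.card_congr (Equiv.subtypeEquivRight fun g => Iff.rfl)
    rw [weight, e1, e2]
    omega
  simp only [hw, Finset.card_filter, Finset.sum_add_distrib]
  rw [Finset.sum_comm, Finset.sum_comm (s := T), ← Finset.sum_add_distrib,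
    Finset.sum_congr rfl (g := fun _ => 2) ?_]
  · rw [Finset.sum_const, hE, Finset.card_erase_of_mem (Finset.mem_univ _), Finset.card_univ,
      ← Nat.card_eq_fintype_card, smul_eq_mul, mul_comm]
  intro g hg
  have hg1 : g ≠ 1 := Finset.ne_of_mem_erase hg
  have hmem : ∀ z : X, g • z = z → z ∈ T := fun z hz => by
    rw [hT, Set.Finite.mem_toFinset]; exact ⟨g, hg1, hz⟩
  rw [← Finset.card_filter, ← Finset.card_filter]
  obtain ⟨x, hx⟩ := M.exists_fixed g
  by_cases hp : g ^ p = 1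
  · have hf : T.filter (fun z => g • z = z) = {x} := by
      ext z
      simp only [Finset.mem_filter, Finset.mem_singleton]
      exact ⟨fun h => M.eq_of_unip hg1 hp hx h.2, fun h => h ▸ ⟨hmem x hx, hx⟩⟩
    have hf2 : T.filter (fun z => g • z = z ∧ g ^ p = 1) = {x} := by
      rw [← hf]; exact Finset.filter_congr fun z _ => by simp [hp]
    rw [hf, hf2]
    rfl
  · obtain ⟨y, hy, hgy⟩ := M.semi_two g hp x hx
    have hf : T.filter (fun z => g • z = z) = {x, y} := by
      ext z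
      simp only [Finset.mem_filter, Finset.mem_insert, Finset.mem_singleton]
      refine ⟨fun h => M.eq_of_two hg1 hx hgy (Ne.symm hy) h.2, ?_⟩
      rintro (rfl | rfl)
      · exact ⟨hmem _ hx, hx⟩
      · exact ⟨hmem _ hgy, hgy⟩
    have hf2 : T.filter (fun z => g • z = z ∧ g ^ p = 1) = ∅ :=
      Finset.filter_eq_empty_iff.mpr fun z _ h => hp h.2
    rw [hf, hf2, Finset.card_pair (Ne.symm hy), Finset.card_empty]

omit M in
theorem orbit_finite [Finite G] (x : X) : (orbit G x).Finite := Set.finite_range _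

theorem orbit_sum [Finite G] (x : X) :
    (∑ y ∈ (orbit_finite (G := G) x).toFinset, M.weight y) = (orbit G x).ncard * M.weight x := by
  rw [Finset.sum_congr rfl (g := fun _ => M.weight x) ?_, Finset.sum_const, smul_eq_mul,
    ← Set.ncard_eq_toFinset_card (orbit G x) (orbit_finite (G := G) x)]
  intro y hy
  rw [Set.Finite.mem_toFinset] at hy
  obtain ⟨g, rfl⟩ := hy
  exact M.weight_smul g x

omit M in
theorem orbit_card [Finite G] (x : X) : (orbit G x).ncard * Nat.card (stabilizer G x) = Nat.card G := by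
  rw [← index_stabilizer, Subgroup.index_mul_card]

theorem pts_smul {x : X} (hx : ∃ g : G, g ≠ 1 ∧ g • x = x) (h : G) :
    ∃ g : G, g ≠ 1 ∧ g • (h • x) = h • x := by
  obtain ⟨g, hg, hgx⟩ := hx
  exact ⟨h * g * h⁻¹, fun e => hg (conj_eq_one_iff.mp e), by rw [mul_smul, mul_smul, inv_smul_smul, hgx]⟩

/-- Removing an orbit from an invariant set of special points. -/
theorem peel [Finite G] (T : Finset X) (hinv : ∀ g : G, ∀ y ∈ T, g • y ∈ T) {x : X} (hx : x ∈ T) :
    ∃ T' : Finset X, (∀ g : G, ∀ y ∈ T', g • y ∈ T') ∧ (∀ y, y ∈ T' ↔ y ∈ T ∧ y ∉ orbit G x) ∧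
      ∑ y ∈ T, M.weight y = (orbit G x).ncard * M.weight x + ∑ y ∈ T', M.weight y := by
  classical
  refine ⟨T \ (orbit_finite (G := G) x).toFinset, ?_, fun y => by simp, ?_⟩
  · intro g y hy
    simp only [Finset.mem_sdiff, Set.Finite.mem_toFinset] at hy ⊢
    refine ⟨hinv g y hy.1, fun h => hy.2 ?_⟩
    obtain ⟨k, hk⟩ := h
    exact ⟨g⁻¹ * k, by show (g⁻¹ * k) • x = y; rw [mul_smul]; exact inv_smul_eq_iff.mpr hk⟩
  · rw [← M.orbit_sum x, add_comm, Finset.sum_sdiff]
    intro y hy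
    rw [Set.Finite.mem_toFinset] at hy
    obtain ⟨g, rfl⟩ := hy
    exact hinv g x hx

end Geom

end Cfsg.Lib.Classical.SharpGeom
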