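import Mathlib
import Cfsg.Agent.Classical.Misc.SharpGeom

/-! The list of finite groups satisfying the fixed point axioms. -/

set_option autoImplicit false
set_option linter.unusedSectionVars false
set_option linter.style.haveILetI false

namespace Cfsg.Lib.Classical.SharpGeom

open MulAction

/-- The possible structures. -/
inductive Outcome (G : Type*) (X : Type*) [Group G] [MulAction G X] (p : ℕ) : Prop
  /-- Two points fixed by all. -/
  | cyclic (x y : X) (hxy : x ≠ y) (h : ∀ g : G, g • x = x ∧ g • y = y)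
  /-- One point fixed by all and an element of order `p`. -/
  | borel (x : X) (h : ∀ g : G, g • x = x) (hp : ∃ u : G, u ≠ 1 ∧ u ^ p = 1)
  /-- Dihedral. -/
  | dihedral (x y : X) (hxy : x ≠ y) (n : ℕ) (hn : Nat.card ↥(stabilizer G x ⊓ stabilizer G y) = n)
      (h : Nonempty (G ≃* DihedralGroup n))
  /-- Tetrahedral. -/
  | altFour (h : Nonempty (G ≃* alternatingGroup (Fin 4)))
  /-- Octahedral. -/
  | symFour (h : Nonempty (G ≃* Equiv.Perm (Fin 4)))
  /-- Icosahedral. -/
  | altFive (h : Nonempty (G ≃* alternatingGroup (Fin 5))) (hp : ∀ g : G, g ^ p = 1 → g = 1 ∨ p = 3)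
  /-- Linear fractional. -/
  | lie (x y : X) (hxy : y ≠ x) (U : Subgroup G) (hU : ∀ g, g ∈ U ↔ g • x = x ∧ g ^ p = 1)
      (hP : 3 ≤ Nat.card U) (d : ℕ) (hd : d = 1 ∨ d = 2)
      (hc : Nat.card ↥(stabilizer G x ⊓ stabilizer G y) * d = Nat.card U - 1)
      (horb : orbit G x = insert x ((fun u : G => u • y) '' (U : Set G)))
      (hG : Nat.card G * d = (Nat.card U + 1) * Nat.card U * (Nat.card U - 1))

variable {G : Type*} {X : Type*} [Group G] [MulAction G X] {p : ℕ} (M : Geom G X p)
include M

namespace Geom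

theorem dihedral_of_two [Finite G] {x : X} (hx : (orbit G x).ncard = 2) : Outcome G X p := by
  obtain ⟨a, b, hab, hO⟩ := Set.ncard_eq_two.mp hx
  have hxO : x ∈ orbit G x := mem_orbit_self x
  obtain ⟨y, hy, hO'⟩ : ∃ y, y ≠ x ∧ orbit G x = {x, y} := by
    rw [hO] at hxO
    rcases hxO with rfl | h
    · exact ⟨b, Ne.symm hab, hO⟩
    · rw [Set.mem_singleton_iff] at h
      exact ⟨a, h ▸ hab, by rw [hO, h, Set.pair_comm]⟩
  have hidx : (stabilizer G x).index = 2 := by rw [index_stabilizer, hx]
  have hmove : ∀ g : G, g • x = x → g • y = y := fun g hg => by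
    have h : g • y ∈ orbit G x := by
      have : y ∈ orbit G x := by rw [hO']; simp
      obtain ⟨k, hk⟩ := this
      exact ⟨g * k, by show (g * k) • x = g • y; rw [mul_smul]; exact congrArg (g • ·) hk⟩
    rw [hO'] at h
    rcases h with e | e
    · exact absurd (smul_left_cancel g (e.trans hg.symm)) hy
    · exact e
  have hS : stabilizer G x ⊓ stabilizer G y = stabilizer G x :=
    inf_eq_left.mpr fun g hg => mem_stabilizer_iff.mpr (hmove g hg)
  have hC : IsCyclic (stabilizer G x) := by
    have := M.two_point_cyclic x y (Ne.symm hy)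
    rwa [hS] at this
  refine Outcome.dihedral x y (Ne.symm hy) _ rfl ?_
  rw [hS]
  refine SixtyGroup.dihedral_iso _ hC rfl hidx fun g hg => ?_
  have hgx : g • x = y := by
    have h : g • x ∈ orbit G x := mem_orbit x g
    rw [hO'] at h
    rcases h with e | e
    · exact absurd (mem_stabilizer_iff.mpr e) hg
    · exact e
  have hgy : g • y = x := by
    have h : g • y ∈ orbit G x := ⟨g * g, by show (g * g) • x = g • y; rw [mul_smul, hgx]⟩
    rw [hO'] at h
    rcases h with e | e
    · exact e
    · exact absurd (smul_left_cancel g (hgx.trans e.symm)) (Ne.symm hy)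
  obtain ⟨z, hz⟩ := M.exists_fixed g
  have hzx : z ≠ x := fun e => hg (mem_stabilizer_iff.mpr (e ▸ hz))
  have hzy : z ≠ y := fun e => hy (by rw [e, hgy] at hz; exact hz.symm)
  exact M.three (g * g) x y z (by rw [mul_smul, hgx, hgy]) (by rw [mul_smul, hgy, hgx]) (by rw [mul_smul, hz, hz])
    (Ne.symm hy) (Ne.symm hzx) (Ne.symm hzy)

theorem alt_four [Finite G] {x : X} (hx : (orbit G x).ncard = 4) (hG : Nat.card G = 12) :
    Nonempty (G ≃* alternatingGroup (Fin 4)) := by
  haveI : Finite (orbit G x) := (orbit_finite (G := G) x).to_subtype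
  refine SmallPSL.alt_iso (Ω := orbit G x) (n := 4) (by rw [Nat.card_coe_set_eq, hx])
    (MulAction.toPermHom G (orbit G x)) ?_ (by rw [hG]; rfl)
  rw [← MonoidHom.ker_eq_bot_iff, Subgroup.eq_bot_iff_forall]
  intro g hg
  have hfix : ∀ z ∈ orbit G x, g • z = z := fun z hz => by
    have := congrArg (fun s : Equiv.Perm (orbit G x) => ((s ⟨z, hz⟩ : orbit G x) : X)) (MonoidHom.mem_ker.mp hg)
    exact this
  obtain ⟨a, b, c, ha, hb, hc, hab, hac, hbc⟩ := (Set.two_lt_ncard_iff (orbit_finite (G := G) x)).mp (by omega)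
  exact M.three g a b c (hfix a ha) (hfix b hb) (hfix c hc) hab hac hbc

theorem sym_four [Finite G] {x : X} (hx : (orbit G x).ncard = 8) (hG : Nat.card G = 24) :
    Nonempty (G ≃* Equiv.Perm (Fin 4)) := by
  classical
  haveI := Fact.mk Nat.prime_three
  have hst : Nat.card (stabilizer G x) = 3 := by
    have := orbit_card (G := G) x
    rw [hx, hG] at this
    omega
  obtain ⟨Q, hQ⟩ : ∃ Q : Sylow 3 G, (Q : Subgroup G) = stabilizer G x := by
    obtain ⟨P⟩ : Nonempty (Sylow 3 G) := inferInstance
    have hP := SixtyGroup.sylow_card_of (p := 3) (m := 8) (G := G) (by omega) (by norm_num) P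
    refine ⟨Sylow.ofCard (stabilizer G x) ?_, rfl⟩
    rw [hst, ← P.card_eq_multiplicity, hP]
  obtain ⟨q, hq, hq1⟩ : ∃ q, q ∈ stabilizer G x ∧ q ≠ 1 := by
    by_contra h
    push Not at h
    rw [(Subgroup.eq_bot_iff_forall _).mpr h, Subgroup.card_bot] at hst
    omega
  have hqx := mem_stabilizer_iff.mp hq
  have hq3 : q ^ 3 = 1 := by
    have := pow_card_eq_one' (x := (⟨q, hq⟩ : stabilizer G x))
    rw [hst] at this
    exact congrArg Subtype.val this
  have hgen : ∀ g ∈ stabilizer G x, ∃ i : ℕ, g = q ^ i := fun g hg => by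
    have hz : Subgroup.zpowers q = stabilizer G x := by
      refine Subgroup.eq_of_le_of_card_ge (Subgroup.zpowers_le.mpr hq) ?_
      rw [hst, Nat.card_zpowers, orderOf_eq_prime hq3 hq1]
    rw [← hz, ← mem_powers_iff_mem_zpowers] at hg
    obtain ⟨i, hi⟩ := hg
    exact ⟨i, hi.symm⟩
  have hswap : ∀ k ∈ Subgroup.normalizer (stabilizer G x : Set G), q • (k • x) = k • x := fun k hk => by
    have h : k⁻¹ * q * k ∈ stabilizer G x := (Subgroup.mem_normalizer_iff''.mp hk q).mp hq
    have := mem_stabilizer_iff.mp h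
    rw [mul_smul, mul_smul, inv_smul_eq_iff] at this
    exact this
  have hn : Nat.card (Sylow 3 G) = 4 := by
    have h1 : Nat.card (Sylow 3 G) % 3 = 1 := card_sylow_modEq_one 3 G
    have h2 : Nat.card (Sylow 3 G) ∣ 8 := by
      refine Q.card_dvd_index.trans ?_
      have := (Q : Subgroup G).index_mul_card
      rw [hQ, hst, hG] at this
      rw [hQ]
      exact ⟨1, by omega⟩
    have h3 : Nat.card (Sylow 3 G) ≠ 1 := fun h => by
      haveI : Subsingleton (Sylow 3 G) := (Nat.card_eq_one_iff_unique.mp h).1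
      haveI hnor : (Q : Subgroup G).Normal := Q.normal_of_subsingleton
      have htop : ∀ k : G, q • (k • x) = k • x := fun k => hswap k (by
        rw [← hQ, Subgroup.normalizer_eq_top_iff.mpr hnor]; trivial)
      obtain ⟨a, b, c, ha, hb, hc, hab, hac, hbc⟩ := (Set.two_lt_ncard_iff (orbit_finite (G := G) x)).mp (by omega)
      obtain ⟨ka, rfl⟩ := ha
      obtain ⟨kb, rfl⟩ := hb
      obtain ⟨kc, rfl⟩ := hc
      exact hq1 (M.three q _ _ _ (htop ka) (htop kb) (htop kc) hab hac hbc)
    have hle := Nat.le_of_dvd (by norm_num) h2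
    obtain ⟨c, hc⟩ := h2
    interval_cases hN : Nat.card (Sylow 3 G) <;> omega
  refine SmallPSL.perm_iso (Ω := Sylow 3 G) (n := 4) hn (MulAction.toPermHom G (Sylow 3 G)) ?_ (by rw [hG]; rfl)
  set φ := MulAction.toPermHom G (Sylow 3 G)
  rw [← MonoidHom.ker_eq_bot_iff, Subgroup.eq_bot_iff_forall]
  intro k hk
  have hnorm : ∀ j ∈ φ.ker, ∀ S : Sylow 3 G, j ∈ Subgroup.normalizer ((S : Subgroup G) : Set G) := fun j hj S => by
    have := congrArg (fun s : Equiv.Perm (Sylow 3 G) => s S) (MonoidHom.mem_ker.mp hj)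
    exact Sylow.smul_eq_iff_mem_normalizer.mp this
  -- a kernel element fixing `x` is trivial
  have hfixx : ∀ j ∈ φ.ker, j • x = x → j = 1 := by
    intro j hj hjx
    obtain ⟨i, rfl⟩ := hgen j (mem_stabilizer_iff.mpr hjx)
    by_contra hne
    have hall : ∀ S : Sylow 3 G, q ^ i ∈ (S : Subgroup G) := fun S => by
      have hp : IsPGroup 3 (Subgroup.zpowers (q ^ i)) := fun z => ⟨1, by
        obtain ⟨m, hm⟩ := z.2
        refine Subtype.ext ?_
        rw [SubmonoidClass.coe_pow, ← hm, ← zpow_natCast, ← _root_.zpow_mul, mul_comm, _root_.zpow_mul,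
          zpow_natCast, pow_one, ← pow_mul, mul_comm, pow_mul, hq3, one_pow, _root_.one_zpow]
        rfl⟩
      exact (hp.inf_normalizer_sylow S).le ⟨Subgroup.mem_zpowers _, hnorm _ hj S⟩ |>.2
    have heq : ∀ S : Sylow 3 G, (S : Subgroup G) = Subgroup.zpowers (q ^ i) := fun S => by
      refine (Subgroup.eq_of_le_of_card_ge (Subgroup.zpowers_le.mpr (hall S)) ?_).symm
      rw [SixtyGroup.sylow_card_of (p := 3) (m := 8) (G := G) (by omega) (by norm_num) S, Nat.card_zpowers,
        orderOf_eq_prime (by rw [← pow_mul, mul_comm, pow_mul, hq3, one_pow]) hne]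
    have : Subsingleton (Sylow 3 G) := ⟨fun S T => Sylow.ext ((heq S).trans (heq T).symm)⟩
    have := Nat.card_eq_one_iff_unique.mpr ⟨this, inferInstance⟩
    omega
  by_contra hk1
  have hkx : k • x ≠ x := fun e => hk1 (hfixx k hk e)
  -- `q` centralises `k`
  have hc : q * k = k * q := by
    have hw : q * k * q⁻¹ * k⁻¹ ∈ φ.ker :=
      mul_mem (φ.normal_ker.conj_mem k hk q) (inv_mem hk)
    have hstab : q * k * q⁻¹ * k⁻¹ ∈ stabilizer G x := by
      have h := (Subgroup.mem_normalizer_iff.mp (hQ ▸ hnorm k hk Q) q⁻¹).mp (inv_mem hq)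
      rw [show q * k * q⁻¹ * k⁻¹ = q * (k * q⁻¹ * k⁻¹) by group]
      exact mul_mem hq h
    have h1 := hfixx _ hw (mem_stabilizer_iff.mp hstab)
    rw [mul_inv_eq_one, mul_inv_eq_iff_eq_mul] at h1
    exact h1
  have hqk : q • (k • x) = k • x := by rw [← mul_smul, hc, mul_smul, hqx]
  obtain ⟨z, hz⟩ := M.exists_fixed k
  have hzx : z ≠ x := fun e => hkx (e ▸ hz)
  have hzkx : z ≠ k • x := fun e => hkx (smul_left_cancel k (e ▸ hz))
  have hkqz : k • q • z = q • z := by rw [← mul_smul, ← hc, mul_smul, hz]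
  have hqz : q • z = z := by
    by_contra hne
    have hkq2 : k • q • q • z = q • q • z := by
      rw [← mul_smul, ← hc, mul_smul, hkqz]
    rcases M.eq_of_two hk1 hz hkqz (Ne.symm hne) hkq2 with e | e
    · refine hne ?_
      have h3 : q • q • q • z = z := by rw [← mul_smul, ← mul_smul, ← pow_three', hq3, one_smul]
      rw [e] at h3
      exact h3
    · exact hne (smul_left_cancel q e)
  exact hq1 (M.three q x (k • x) z hqx hqk hqz (Ne.symm hkx) (Ne.symm hzx) (Ne.symm hzkx))

theorem alt_five [Finite G] (hG : Nat.card G = 60)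
    (h : ∀ z : X, (∃ g : G, g ≠ 1 ∧ g • z = z) → 10 ≤ (orbit G z).ncard) :
    Nonempty (G ≃* alternatingGroup (Fin 5)) := by
  classical
  refine SixtyGroup.iso_alt_five (SixtyGroup.simple_of_sixty hG fun N hN hc => ?_) hG
  haveI := Fintype.ofFinite G
  simp only [Finset.mem_insert, Finset.mem_singleton] at hc
  obtain ⟨n, hn, hn1⟩ : ∃ n ∈ N, n ≠ 1 := by
    by_contra hall
    push Not at hall
    rw [(Subgroup.eq_bot_iff_forall N).mpr hall, Subgroup.card_bot] at hc
    omega
  have hfix : ∀ g : G, g ≠ 1 → ∃ x y : X, ∀ z, g • z = z → z = x ∨ z = y := fun g hg => by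
    obtain ⟨x, hx⟩ := M.exists_fixed g
    by_cases hp : g ^ p = 1
    · exact ⟨x, x, fun z hz => Or.inl (M.eq_of_unip hg hp hx hz)⟩
    · obtain ⟨y, hy, hgy⟩ := M.semi_two g hp x hx
      exact ⟨x, y, fun z hz => M.eq_of_two hg hx hgy (Ne.symm hy) hz⟩
  obtain ⟨z₀, hz₀⟩ := M.exists_fixed n
  haveI : Nonempty X := ⟨z₀⟩
  choose! fx fy hxy using hfix
  let E : Finset G := Finset.univ.filter fun g => g ∈ N ∧ g ≠ 1
  have hsub : orbit G z₀ ⊆ ↑(E.image fx ∪ E.image fy) := by
    rintro _ ⟨k, rfl⟩
    have hk : k * n * k⁻¹ ∈ N := hN.conj_mem n hn k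
    have hk1 : k * n * k⁻¹ ≠ 1 := fun e => hn1 (conj_eq_one_iff.mp e)
    have : (k * n * k⁻¹) • (k • z₀) = k • z₀ := by rw [mul_smul, mul_smul, inv_smul_smul, hz₀]
    have hE : k * n * k⁻¹ ∈ E := Finset.mem_filter.mpr ⟨Finset.mem_univ _, hk, hk1⟩
    simp only [Finset.coe_union, Set.mem_union, Finset.coe_image, Set.mem_image]
    rcases hxy _ hk1 _ this with e | e
    · exact Or.inl ⟨_, hE, e.symm⟩
    · exact Or.inr ⟨_, hE, e.symm⟩
  have hE : E.card + 1 = Nat.card N := by
    have e : (Finset.univ.filter fun g => g ∈ N) = insert 1 E := by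
      ext g
      simp only [E, Finset.mem_filter, Finset.mem_univ, true_and, Finset.mem_insert]
      by_cases hg : g = 1
      · simp [hg, one_mem]
      · simp [hg]
    rw [Nat.card_eq_fintype_card, Fintype.card_subtype, e, Finset.card_insert_of_notMem (by simp [E])]
  have h1 := Set.ncard_le_ncard hsub (Finset.finite_toSet _)
  rw [Set.ncard_coe_finset] at h1
  have h2 := Finset.card_union_le (E.image fx) (E.image fy)
  have h3 := Finset.card_image_le (s := E) (f := fx)
  have h4 := Finset.card_image_le (s := E) (f := fy)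
  have h5 := h z₀ ⟨n, hn1, hz₀⟩
  omega

theorem orbit_pts [Finite G] {x : X} : x ∈ M.finite_pts.toFinset ↔ ∃ g : G, g ≠ 1 ∧ g • x = x :=
  Set.Finite.mem_toFinset _

theorem two_le_stab [Finite G] {x : X} (hx : x ∈ M.finite_pts.toFinset) :
    2 ≤ Nat.card (stabilizer G x) := by
  obtain ⟨g, hg, hgx⟩ := M.orbit_pts.mp hx
  haveI : Nontrivial (stabilizer G x) :=
    ⟨⟨⟨g, hgx⟩, 1, fun e => hg (congrArg Subtype.val e)⟩⟩
  exact Finite.one_lt_card

theorem orbit_pos [Finite G] (x : X) : 0 < (orbit G x).ncard :=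
  (Set.ncard_pos (orbit_finite x)).mpr ⟨x, mem_orbit_self x⟩

theorem orbit_ncard_of_mem [Finite G] {x z : X} (h : z ∈ orbit G x) : (orbit G z).ncard = (orbit G x).ncard := by
  rw [orbit_eq_iff.mpr h]

theorem fix_of_orbit_one [Finite G] {x : X} (h : (orbit G x).ncard = 1) (g : G) : g • x = x := by
  obtain ⟨a, ha⟩ := Set.ncard_eq_one.mp h
  have h1 : g • x = a := Set.mem_singleton_iff.mp (ha ▸ mem_orbit x g)
  have h2 : x = a := Set.mem_singleton_iff.mp (ha ▸ mem_orbit_self x)
  rw [h1, ← h2]

theorem tame_contrib [Finite G] {x : X} (hx : M.unip x = ⊥) :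
    (orbit G x).ncard * M.weight x + (orbit G x).ncard = Nat.card G := by
  have h1 : 0 < Nat.card (stabilizer G x) := Nat.card_pos
  rw [weight, hx, Subgroup.card_bot, ← orbit_card (G := G) x, ← Nat.mul_add_one]
  congr 1
  omega

theorem wild_contrib [Finite G] (x : X) :
    (orbit G x).ncard * M.weight x + (orbit G x).ncard * 2 =
      Nat.card G + (orbit G x).ncard * Nat.card (M.unip x) := by
  have h1 : 0 < Nat.card (stabilizer G x) := Nat.card_pos
  have h2 : 0 < Nat.card (M.unip x) := Nat.card_pos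
  rw [weight, ← orbit_card (G := G) x, ← Nat.mul_add, ← Nat.mul_add]
  congr 1
  omega

theorem tame_case [Finite G] [Fact p.Prime] (hg : 2 ≤ Nat.card G) (htame : ∀ x, M.unip x = ⊥) :
    Outcome G X p := by
  classical
  have hsum := M.count
  set T := M.finite_pts.toFinset with hTdef
  have hinv : ∀ g : G, ∀ y ∈ T, g • y ∈ T := fun g y hy =>
    M.orbit_pts.mpr (M.pts_smul (M.orbit_pts.mp hy) g)
  obtain ⟨x1, h1⟩ : T.Nonempty := by
    rw [Finset.nonempty_iff_ne_empty]
    intro h
    rw [h, Finset.sum_empty] at hsum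
    omega
  obtain ⟨T1, hinv1, hmem1, hs1⟩ := M.peel T hinv h1
  obtain ⟨x2, h2⟩ : T1.Nonempty := by
    rw [Finset.nonempty_iff_ne_empty]
    intro h
    rw [h, Finset.sum_empty] at hs1
    have := M.tame_contrib (htame x1)
    have := M.orbit_pos x1
    omega
  obtain ⟨T2, hinv2, hmem2, hs2⟩ := M.peel T1 hinv1 h2
  have c1 := M.tame_contrib (htame x1)
  have c2 := M.tame_contrib (htame x2)
  have p1 := M.orbit_pos x1
  have p2 := M.orbit_pos x2
  have h2T := ((hmem1 x2).mp h2).1
  by_cases hT2 : T2 = ∅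
  · rw [hT2, Finset.sum_empty] at hs2
    have hne : x1 ≠ x2 := fun e => ((hmem1 x2).mp h2).2 (e ▸ mem_orbit_self x1)
    exact Outcome.cyclic x1 x2 hne fun g => ⟨M.fix_of_orbit_one (by omega) g, M.fix_of_orbit_one (by omega) g⟩
  obtain ⟨x3, h3⟩ := Finset.nonempty_iff_ne_empty.mpr hT2
  obtain ⟨T3, hinv3, hmem3, hs3⟩ := M.peel T2 hinv2 h3
  have c3 := M.tame_contrib (htame x3)
  have p3 := M.orbit_pos x3
  have h3T := ((hmem1 x3).mp ((hmem2 x3).mp h3).1).1
  have half : ∀ x ∈ T, 2 * (orbit G x).ncard ≤ Nat.card G := fun x hx => by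
    rw [← orbit_card (G := G) x, mul_comm]
    exact Nat.mul_le_mul_left _ (M.two_le_stab hx)
  have hT3 : T3 = ∅ := by
    rw [← Finset.not_nonempty_iff_eq_empty]
    rintro ⟨x4, h4⟩
    obtain ⟨T4, -, -, hs4⟩ := M.peel T3 hinv3 h4
    have := M.tame_contrib (htame x4)
    have := half x1 h1
    have := half x2 h2T
    have := half x3 h3T
    have := half x4 ((hmem1 x4).mp ((hmem2 x4).mp ((hmem3 x4).mp h4).1).1).1
    omega
  rw [hT3, Finset.sum_empty] at hs3
  have hasum : (orbit G x1).ncard + (orbit G x2).ncard + (orbit G x3).ncard = Nat.card G + 2 := by omega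
  have hcover : ∀ z ∈ T, z ∈ orbit G x1 ∨ z ∈ orbit G x2 ∨ z ∈ orbit G x3 := by
    intro z hz
    by_contra hc
    push Not at hc
    have : z ∈ T3 := (hmem3 z).mpr ⟨(hmem2 z).mpr ⟨(hmem1 z).mpr ⟨hz, hc.1⟩, hc.2.1⟩, hc.2.2⟩
    simp [hT3] at this
  clear hs1 hs2 hs3 c1 c2 c3 hinv1 hinv2 hinv3 hmem1 hmem2 hmem3 h2 h3 hT2 hT3 hsum
  -- ordering the three orbits
  have finish : ∀ y1 y2 y3 : X, y1 ∈ T → y2 ∈ T → y3 ∈ T →
      (∀ z ∈ T, z ∈ orbit G y1 ∨ z ∈ orbit G y2 ∨ z ∈ orbit G y3) →
      (orbit G y1).ncard + (orbit G y2).ncard + (orbit G y3).ncard = Nat.card G + 2 →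
      (orbit G y2).ncard ≤ (orbit G y1).ncard → (orbit G y3).ncard ≤ (orbit G y2).ncard → Outcome G X p := by
    intro y1 y2 y3 m1 m2 m3 hcov hs h21 h32
    have e1 := orbit_card (G := G) y1
    have e2 := orbit_card (G := G) y2
    have e3 := orbit_card (G := G) y3
    have n1 := M.two_le_stab m1
    have n2 := M.two_le_stab m2
    have n3 := M.two_le_stab m3
    have q3 := M.orbit_pos y3
    have q2 := M.orbit_pos y2
    have hy1 : Nat.card (stabilizer G y1) = 2 := by
      by_contra hne
      have : 3 * (orbit G y1).ncard ≤ Nat.card G := by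
        rw [← e1, mul_comm]; exact Nat.mul_le_mul_left _ (by omega)
      omega
    rw [hy1] at e1
    by_cases h22 : Nat.card (stabilizer G y2) = 2
    · rw [h22] at e2
      exact M.dihedral_of_two (x := y3) (by omega)
    have hy2 : Nat.card (stabilizer G y2) = 3 := by
      by_contra hne
      have : 4 * (orbit G y2).ncard ≤ Nat.card G := by
        rw [← e2, mul_comm]; exact Nat.mul_le_mul_left _ (by omega)
      omega
    rw [hy2] at e2
    have hn3 : Nat.card (stabilizer G y3) < 6 := by
      by_contra hge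
      have : 6 * (orbit G y3).ncard ≤ Nat.card G := by
        rw [← e3, mul_comm]; exact Nat.mul_le_mul_left _ (by omega)
      omega
    generalize hn : Nat.card (stabilizer G y3) = n at e3 hn3 n3
    interval_cases n
    · exfalso; omega
    · exact Outcome.altFour (M.alt_four (x := y2) (by omega) (by omega))
    · exact Outcome.symFour (M.sym_four (x := y2) (by omega) (by omega))
    · refine Outcome.altFive (M.alt_five (by omega) fun z hz => ?_) (fun g hgp => Or.inl (by
        obtain ⟨z, hz⟩ := M.exists_fixed g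
        exact (Subgroup.eq_bot_iff_forall _).mp (htame z) g ⟨hz, hgp⟩))
      rcases hcov z (M.orbit_pts.mpr hz) with h | h | h <;> rw [M.orbit_ncard_of_mem h] <;> omega
  rcases le_total (orbit G x2).ncard (orbit G x1).ncard with a | a <;>
    rcases le_total (orbit G x3).ncard (orbit G x2).ncard with b | b <;>
      rcases le_total (orbit G x3).ncard (orbit G x1).ncard with c | c
  all_goals first
    | exact finish x1 x2 x3 h1 h2T h3T hcover hasum (by omega) (by omega)
    | exact finish x1 x3 x2 h1 h3T h2T (fun z hz => by have := hcover z hz; tauto) (by omega) (by omega) (by omega)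
    | exact finish x2 x1 x3 h2T h1 h3T (fun z hz => by have := hcover z hz; tauto) (by omega) (by omega) (by omega)
    | exact finish x2 x3 x1 h2T h3T h1 (fun z hz => by have := hcover z hz; tauto) (by omega) (by omega) (by omega)
    | exact finish x3 x1 x2 h3T h1 h2T (fun z hz => by have := hcover z hz; tauto) (by omega) (by omega) (by omega)
    | exact finish x3 x2 x1 h3T h2T h1 (fun z hz => by have := hcover z hz; tauto) (by omega) (by omega) (by omega)

omit M in
theorem lie_arith {P c d r n j : ℤ} (hd : P - 1 = d * c) (hd1 : 1 ≤ d) (hc : 2 ≤ c) (hj : 1 ≤ j)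
    (hP : 3 ≤ P) (hr : r = 1 + P + j * (P * c)) (h : n * (r * (P - 2) + 2) = r * (P * c)) :
    d = 1 ∧ c = 2 ∧ P = 3 ∧ n * (1 + j) = 4 + 6 * j := by
  have hkey : n * (d * c + j * c * (d * c - 1)) = c * (2 + d * c + j * ((1 + d * c) * c)) := by
    have hPe : P = 1 + d * c := by linarith
    subst hPe hr
    have h' : (1 + d * c) * (n * (d * c + j * c * (d * c - 1))) =
        (1 + d * c) * (c * (2 + d * c + j * ((1 + d * c) * c))) := by linear_combination h
    exact mul_left_cancel₀ (by omega) h'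
  have hm : (n - c) * (d + j * (d * c - 1)) = 2 * (1 + j * c) := by
    have h' : c * ((n - c) * (d + j * (d * c - 1))) = c * (2 * (1 + j * c)) := by linear_combination hkey
    exact mul_left_cancel₀ (by omega) h'
  have hdc : c ≤ d * c := by nlinarith
  have hmpos : 1 ≤ n - c := by
    by_contra hle
    have : 0 ≤ d + j * (d * c - 1) := by nlinarith
    nlinarith
  set m := n - c with hmdef
  have hmj : (m * d - 2) * (1 + j * c) = m * j := by linear_combination hm
  have hmc : c ≤ m := by
    by_contra hlt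
    have hm1 : 1 ≤ m * d - 2 := by
      by_contra hle
      have : (m * d - 2) * (1 + j * c) ≤ 0 := mul_nonpos_of_nonpos_of_nonneg (by omega) (by positivity)
      nlinarith
    have h5 : (1 + j * c) ≤ (m * d - 2) * (1 + j * c) := le_mul_of_one_le_left (by positivity) hm1
    nlinarith
  have hd' : d = 1 := by
    by_contra hne
    have hd2 : 2 ≤ d := by omega
    have h6 : j * (2 * c) ≤ j * (d * c) := mul_le_mul_of_nonneg_left (by nlinarith) (by omega)
    have h5 : 2 * (d + j * (d * c - 1)) ≤ m * (d + j * (d * c - 1)) :=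
      mul_le_mul_of_nonneg_right (by omega) (by nlinarith)
    nlinarith
  subst hd'
  have hc2 : c = 2 := by
    by_contra hne
    have h3 : 3 ≤ c := by omega
    have h6 : j * 3 ≤ j * c := mul_le_mul_of_nonneg_left h3 (by omega)
    have h5 : 3 * (1 + j * (1 * c - 1)) ≤ m * (1 + j * (1 * c - 1)) :=
      mul_le_mul_of_nonneg_right (by omega) (by nlinarith)
    nlinarith
  subst hc2
  exact ⟨rfl, rfl, by linarith, by linear_combination hm⟩

theorem wild_case [Finite G] [Fact p.Prime] (hg : 2 ≤ Nat.card G) {x : X} (hx : M.unip x ≠ ⊥) :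
    Outcome G X p := by
  classical
  have hsum := M.count
  set T := M.finite_pts.toFinset with hTdef
  have hinv : ∀ g : G, ∀ y ∈ T, g • y ∈ T := fun g y hy =>
    M.orbit_pts.mpr (M.pts_smul (M.orbit_pts.mp hy) g)
  obtain ⟨⟨u, hu⟩, hu1⟩ : ∃ u : M.unip x, u ≠ 1 := by
    haveI := (Subgroup.nontrivial_iff_ne_bot _).mpr hx
    exact exists_ne 1
  have hu1' : u ≠ 1 := fun e => hu1 (Subtype.ext e)
  have hxT : x ∈ T := M.orbit_pts.mpr ⟨u, hu1', hu.1⟩
  have hP2 : 2 ≤ Nat.card (M.unip x) := by
    haveI := (Subgroup.nontrivial_iff_ne_bot _).mpr hx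
    exact Finite.one_lt_card
  obtain ⟨T1, hinv1, hmem1, hs1⟩ := M.peel T hinv hxT
  have cw := M.wild_contrib x
  have pa := M.orbit_pos x
  have hea := orbit_card (G := G) x
  by_cases ha1 : (orbit G x).ncard = 1
  · exact Outcome.borel x (M.fix_of_orbit_one ha1) ⟨u, hu1', hu.2⟩
  obtain ⟨x2, h2⟩ : T1.Nonempty := by
    rw [Finset.nonempty_iff_ne_empty]
    intro h
    rw [h, Finset.sum_empty] at hs1
    set a := (orbit G x).ncard
    set n := Nat.card (stabilizer G x)
    set P := Nat.card (M.unip x)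
    obtain ⟨c, hc⟩ : P ∣ n := Subgroup.card_dvd_of_le (M.unip_le x)
    have h2a : 2 ≤ a := by omega
    have hkey : a * n + 2 * a = a * P + 2 := by
      rw [hea]; omega
    have hn : P ≤ n := Nat.le_of_dvd Nat.card_pos ⟨c, hc⟩
    have := Nat.mul_le_mul_left a hn
    omega
  have h2T := ((hmem1 x2).mp h2).1
  have htame2 : ∀ z ∈ T1, M.unip z = ⊥ := fun z hz => by
    by_contra hne
    exact ((hmem1 z).mp hz).2 (M.wild_conj hx hne)
  obtain ⟨T2, hinv2, hmem2, hs2⟩ := M.peel T1 hinv1 h2
  have c2 := M.tame_contrib (htame2 x2 h2)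
  have e2 := orbit_card (G := G) x2
  have n2 := M.two_le_stab h2T
  have hT2 : T2 = ∅ := by
    rw [← Finset.not_nonempty_iff_eq_empty]
    rintro ⟨x3, h3⟩
    obtain ⟨T3, -, -, hs3⟩ := M.peel T2 hinv2 h3
    have h31 := ((hmem2 x3).mp h3).1
    have c3 := M.tame_contrib (htame2 x3 h31)
    have e3 := orbit_card (G := G) x3
    have n3 := M.two_le_stab ((hmem1 x3).mp h31).1
    have k2 : 2 * (orbit G x2).ncard ≤ Nat.card G := by rw [← e2, mul_comm]; exact Nat.mul_le_mul_left _ n2
    have k3 : 2 * (orbit G x3).ncard ≤ Nat.card G := by rw [← e3, mul_comm]; exact Nat.mul_le_mul_left _ n3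
    have hP : (orbit G x).ncard * 2 ≤ (orbit G x).ncard * Nat.card (M.unip x) := Nat.mul_le_mul_left _ hP2
    omega
  rw [hT2, Finset.sum_empty] at hs2
  -- the basic relation
  have hrel : (orbit G x2).ncard + (orbit G x).ncard * 2 = (orbit G x).ncard * Nat.card (M.unip x) + 2 := by omega
  have hcover : ∀ z ∈ T, z ∈ orbit G x ∨ z ∈ orbit G x2 := by
    intro z hz
    by_contra hc
    push Not at hc
    have : z ∈ T2 := (hmem2 z).mpr ⟨(hmem1 z).mpr ⟨hz, hc.1⟩, hc.2⟩
    simp [hT2] at this
  set a := (orbit G x).ncard with ha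
  set P := Nat.card (M.unip x) with hPdef
  set a2 := (orbit G x2).ncard with ha2
  set n := Nat.card (stabilizer G x2) with hndef
  have h2a : 2 ≤ a := by omega
  rcases M.stab_structure x with hst | ⟨y, hy, ⟨k, hk, hk1⟩, hdec⟩
  · rw [hst, ← hPdef] at hea
    rcases eq_or_lt_of_le hP2 with hP | hP3
    · exact M.dihedral_of_two (x := x2) (by rw [← ha2]; rw [← hP] at hrel; omega)
    · have h4 : a2 * 2 ≤ a * P := by
        rw [hea, ← e2]; exact Nat.mul_le_mul_left _ n2
      have hP4 : P = 3 := by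
        by_contra hne
        have := Nat.mul_le_mul_left a (show 4 ≤ P by omega)
        omega
      rw [hP4] at hrel hea
      have hn2 : n = 2 := by
        by_contra hne
        have := Nat.mul_le_mul_left a2 (show 3 ≤ n by omega)
        omega
      rw [hn2] at e2
      exact Outcome.altFour (M.alt_four (x := x) (by omega) (by omega))
  · have hcard := M.card_stab hy hdec
    set c := Nat.card ↥(stabilizer G x ⊓ stabilizer G y) with hcdef
    have hc2 : 2 ≤ c := by
      haveI : Nontrivial ↥(stabilizer G x ⊓ stabilizer G y) :=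
        ⟨⟨⟨k, hk⟩, 1, fun e => hk1 (congrArg Subtype.val e)⟩⟩
      exact Finite.one_lt_card
    rw [hcard, ← hPdef] at hea
    obtain ⟨d, hd⟩ : c ∣ P - 1 := M.card_dvd_pred hy
    have hP3 : 3 ≤ P := by
      have hd0 : d ≠ 0 := fun e => by rw [e, mul_zero] at hd; omega
      have := Nat.mul_le_mul hc2 (Nat.one_le_iff_ne_zero.mpr hd0)
      omega
    have hyT : y ∈ T := M.orbit_pts.mpr ⟨k, hk1, hk.2⟩
    have hyO : y ∈ orbit G x := by
      rcases hcover y hyT with h | h
      · exact h
      exfalso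
      have hsy : stabilizer G y = stabilizer G x ⊓ stabilizer G y := by
        refine le_antisymm (fun g hg => ?_) inf_le_right
        have hny : M.unip y = ⊥ := by
          by_contra hne
          exact ((hmem1 x2).mp h2).2 ((orbit_eq_iff.mpr (M.wild_conj hx hne)) ▸ mem_orbit_symm.mp h)
        rcases M.stab_structure y with hs' | ⟨z, hz, -, hdec'⟩
        · have : k ∈ M.unip y := hs' ▸ hk.2
          rw [hny, Subgroup.mem_bot] at this
          exact absurd this hk1
        · have hall : ∀ g ∈ stabilizer G y, g • z = z := fun g hg => by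
            obtain ⟨v, hv, hvg⟩ := hdec' g hg
            rw [hny, Subgroup.mem_bot] at hv
            rw [hv, inv_one, one_mul] at hvg
            exact hvg.2
          rcases M.eq_of_two hk1 hk.2 (hall k hk.2) (Ne.symm hz) hk.1 with e | e
          · exact absurd e.symm hy
          · exact ⟨mem_stabilizer_iff.mpr (e ▸ hall g hg), hg⟩
      have hey := orbit_card (G := G) y
      rw [hsy, ← hcdef, M.orbit_ncard_of_mem h, ← hea, ← ha2, ← mul_assoc] at hey
      have hey' : a2 = a * P := Nat.eq_of_mul_eq_mul_right (by omega) hey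
      omega
    -- the orbit of `y` under the unipotent subgroup
    set Uy := (fun v : G => v • y) '' (M.unip x : Set G) with hUy
    have hUyc : Uy.ncard = P := by
      rw [hUy, Set.ncard_image_of_injOn, ← Nat.card_coe_set_eq]
      · rfl
      intro v hv w hw e
      simp only at e
      have : (w⁻¹ * v) • y = y := by rw [mul_smul, e, inv_smul_smul]
      exact (inv_mul_eq_one.mp (M.two_point_trivial (Ne.symm hy) (mul_mem (inv_mem hw) hv) this)).symm
    have hxUy : x ∉ Uy := by
      rintro ⟨v, hv, e⟩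
      have e' : v • y = x := e
      exact hy (by rw [← inv_smul_smul v y, e', inv_smul_eq_iff, hv.1])
    have hUsub : insert x Uy ⊆ orbit G x := by
      rintro z (rfl | ⟨v, hv, rfl⟩)
      · exact mem_orbit_self _
      · obtain ⟨g, hg⟩ := hyO
        exact ⟨v * g, by show (v * g) • x = v • y; rw [mul_smul]; exact congrArg (v • ·) hg⟩
    have hsmulU : ∀ g ∈ stabilizer G x, ∀ z ∈ Uy, g • z ∈ Uy := by
      rintro g hg _ ⟨v, hv, rfl⟩
      obtain ⟨w, hw, hwk⟩ := hdec (g * v) (mul_mem hg (M.unip_le x hv))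
      refine ⟨w, hw, ?_⟩
      have h := mem_stabilizer_iff.mp hwk.2
      rw [mul_smul, inv_smul_eq_iff] at h
      show w • y = g • v • y
      rw [← mul_smul, h]
    set R := orbit G x \ insert x Uy with hR
    have hdvd : P * c ∣ R.ncard := by
      rw [hPdef, hcdef, ← hcard]
      refine free_dvd ((MulAction.toPermHom G X).comp (stabilizer G x).subtype) R
        ((orbit_finite x).subset Set.sdiff_subset) ?_ ?_
      · rintro ⟨g, hg⟩ z ⟨hz, hzn⟩
        refine ⟨?_, ?_⟩
        · obtain ⟨h, rfl⟩ := hz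
          exact ⟨g * h, mul_smul g h x⟩
        · intro hmem
          apply hzn
          rcases hmem with e | e
          · left
            exact smul_left_cancel g (e.trans (mem_stabilizer_iff.mp hg).symm)
          · right
            have := hsmulU g⁻¹ (inv_mem hg) _ e
            rwa [show ((MulAction.toPermHom G X).comp (stabilizer G x).subtype) ⟨g, hg⟩ z = g • z from rfl,
              inv_smul_smul] at this
      · rintro ⟨g, hg⟩ z ⟨-, hzn⟩ e
        by_contra hg1
        refine hzn (Or.inr ?_)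
        obtain ⟨v, hv, hvy⟩ := M.second_point hy hdec (fun e' => hzn (Or.inl e'))
          (fun e' => hg1 (Subtype.ext e')) hg e
        exact ⟨v, hv, hvy⟩
    obtain ⟨j, hj⟩ := hdvd
    have hRc : a = R.ncard + (P + 1) := by
      rw [hR, ha, ← Set.ncard_sdiff_add_ncard_of_subset hUsub (orbit_finite x),
        Set.ncard_insert_of_notMem hxUy ((orbit_finite x).subset fun z hz => hUsub (Or.inr hz)), hUyc]
    have hrelc : n * (a * (P - 2) + 2) = a * (P * c) := by
      rw [hea, ← e2, mul_comm a2]
      congr 1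
      rw [Nat.mul_sub]
      have := Nat.mul_le_mul_left a (show 2 ≤ P by omega)
      omega
    rcases Nat.eq_zero_or_pos j with hj0 | hj0
    · rw [hj0, mul_zero] at hj
      have hR0 : R = ∅ := (Set.ncard_eq_zero ((orbit_finite x).subset Set.sdiff_subset)).mp hj
      have horb : orbit G x = insert x Uy := le_antisymm (fun z hz => by
        by_contra hz'
        have : z ∈ R := ⟨hz, hz'⟩
        rw [hR0] at this
        exact this) hUsub
      rw [hj, zero_add] at hRc
      have hn' : n * (P - 1) = (P + 1) * c := by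
        apply Nat.eq_of_mul_eq_mul_left (show 0 < P by omega)
        have e : a * (P - 2) + 2 = P * (P - 1) := by
          obtain ⟨m, hm⟩ : ∃ m, P = m + 3 := ⟨P - 3, by omega⟩
          rw [hRc, hm, show m + 3 - 2 = m + 1 by omega, show m + 3 - 1 = m + 2 by omega]
          ring
        rw [e, hRc] at hrelc
        linarith
      have hnd : n * d = P + 1 := by
        apply Nat.eq_of_mul_eq_mul_right (show 0 < c by omega)
        rw [mul_assoc, mul_comm d c, ← hd, hn']
      have hd2 : d ∣ 2 := by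
        have e1 : d ∣ P - 1 := ⟨c, by rw [hd, mul_comm]⟩
        have e2' : d ∣ P + 1 := ⟨n, by rw [← hnd, mul_comm]⟩
        have := Nat.dvd_sub e2' e1
        rwa [show P + 1 - (P - 1) = 2 by omega] at this
      refine Outcome.lie x y hy (M.unip x) (fun g => Iff.rfl) hP3 d ((Nat.dvd_prime Nat.prime_two).mp hd2)
        hd.symm horb ?_
      rw [← hPdef, ← hea, hRc, hd]
      ring
    · have hPd : (P : ℤ) - 1 = d * c := by
        have : ((P - 1 : ℕ) : ℤ) = (c * d : ℕ) := congrArg _ hd
        push_cast [Nat.cast_sub (show 1 ≤ P by omega)] at this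
        linarith
      have hd1 : (1 : ℤ) ≤ d := by
        have : d ≠ 0 := fun e => by rw [e, mul_zero] at hd; omega
        omega
      have hr : (a : ℤ) = 1 + P + j * (P * c) := by
        rw [hRc, hj]; push_cast; ring
      have hrel' : (n : ℤ) * (a * ((P : ℤ) - 2) + 2) = a * (P * c) := by
        have : ((n * (a * (P - 2) + 2) : ℕ) : ℤ) = (a * (P * c) : ℕ) := congrArg _ hrelc
        push_cast [Nat.cast_sub (show 2 ≤ P by omega)] at this
        exact this
      obtain ⟨-, hc', hP', hn'⟩ := lie_arith hPd hd1 (by exact_mod_cast hc2) (by exact_mod_cast hj0)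
        (by exact_mod_cast hP3) hr hrel'
      have hj1 : j = 1 ∧ n = 5 := by
        have h6 : n * (1 + j) = 4 + 6 * j := by exact_mod_cast hn'
        have hlt : n < 6 := by
          by_contra hge
          have := Nat.mul_le_mul_right (1 + j) (show 6 ≤ n by omega)
          omega
        interval_cases n <;> omega
      have hc'' : c = 2 := by exact_mod_cast hc'
      have hP'' : P = 3 := by exact_mod_cast hP'
      have ha10 : a = 10 := by rw [hRc, hj, hj1.1, hP'', hc'']
      have hG60 : Nat.card G = 60 := by rw [← hea, ha10, hP'', hc'']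
      refine Outcome.altFive (M.alt_five hG60 fun z hz => ?_) (fun g hgp => Or.inr (by
        have h3 : orderOf (⟨u, hu⟩ : M.unip x) ∣ 3 := hP'' ▸ orderOf_dvd_natCard _
        rw [orderOf_eq_prime (Subtype.ext hu.2) hu1] at h3
        exact (Nat.prime_dvd_prime_iff_eq Fact.out Nat.prime_three).mp h3))
      rw [hj1.2] at e2
      rcases hcover z (M.orbit_pts.mpr hz) with h | h <;> rw [M.orbit_ncard_of_mem h] <;> omega

theorem classify [Finite G] [Fact p.Prime] (hg : 2 ≤ Nat.card G) : Outcome G X p := by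
  by_cases h : ∀ x, M.unip x = ⊥
  · exact M.tame_case hg h
  · push Not at h
    obtain ⟨x, hx⟩ := h
    exact M.wild_case hg hx

end Geom

end Cfsg.Lib.Classical.SharpGeom
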