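import Mathlib
import Cfsg.Agent.Classical.Misc.SharpClassify
import Cfsg.Agent.Classical.Misc.PSLFourGroupsMain

/-! Finite subgroups of `PSL₂` over an algebraically closed field satisfy the fixed point axioms. -/

set_option autoImplicit false
set_option linter.unusedSimpArgs false
set_option linter.unusedSectionVars false
set_option linter.style.haveILetI false
set_option linter.flexible false

namespace Cfsg.Lib.Classical.PSLGeom

open Matrix MulAction
open scoped MatrixGroups LinearAlgebra.Projectivization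
open Cfsg.Lib.Classical.PSLFour

universe u

variable {k : Type u} [Field k]

local notation "PSL₂" k => Matrix.ProjectiveSpecialLinearGroup (Fin 2) k

/-- The point at infinity. -/
def pinf : ℙ k (Fin 2 → k) := Projectivization.mk k ![1, 0] (fun h => one_ne_zero (congrFun h 0))

/-- The affine points. -/
def pfin (c : k) : ℙ k (Fin 2 → k) := Projectivization.mk k ![c, 1] (fun h => one_ne_zero (congrFun h 1))

theorem pfin_ne_pinf (c : k) : pfin c ≠ pinf := by
  rw [pfin, pinf, Ne, Projectivization.mk_eq_mk_iff']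
  rintro ⟨a, ha⟩
  have := congrFun ha 1
  simp at this

theorem pfin_injective : Function.Injective (pfin : k → ℙ k (Fin 2 → k)) := by
  intro c d h
  rw [pfin, pfin, Projectivization.mk_eq_mk_iff'] at h
  obtain ⟨a, ha⟩ := h
  have h0 := congrFun ha 0
  have h1 := congrFun ha 1
  simp at h0 h1
  rw [h1, one_mul] at h0
  exact h0.symm

theorem point_cases (z : ℙ k (Fin 2 → k)) : z = pinf ∨ ∃ c, z = pfin c := by
  induction z using Projectivization.ind with
  | _ v hv =>
    by_cases h1 : v 1 = 0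
    · left
      rw [pinf, Projectivization.mk_eq_mk_iff']
      refine ⟨v 0, ?_⟩
      funext i; fin_cases i <;> simp [h1]
    · right
      refine ⟨v 0 / v 1, ?_⟩
      rw [pfin, Projectivization.mk_eq_mk_iff']
      refine ⟨v 1, ?_⟩
      funext i; fin_cases i <;> simp; field_simp

theorem smul_mk_π (g : SL(2, k)) {v : Fin 2 → k} (hv : v ≠ 0) :
    ∃ h, π g • Projectivization.mk k v hv = Projectivization.mk k (g.1 *ᵥ v) h := by
  refine ⟨?_, ?_⟩
  · intro h
    apply hv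
    have e : (g⁻¹).1 *ᵥ (g.1 *ᵥ v) = v := by
      rw [Matrix.mulVec_mulVec, ← Matrix.SpecialLinearGroup.coe_mul, inv_mul_cancel,
        Matrix.SpecialLinearGroup.coe_one, Matrix.one_mulVec]
    rw [← e, h, Matrix.mulVec_zero]
  · rw [QuotientGroup.mk'_apply, Matrix.ProjectiveSpecialLinearGroup.smul_proj_mk]
    rfl

theorem smul_pinf (g : SL(2, k)) : π g • (pinf : ℙ k (Fin 2 → k)) = pinf ↔ g.1 1 0 = 0 := by
  obtain ⟨h, e⟩ := smul_mk_π g (v := ![1, 0]) (fun h => one_ne_zero (congrFun h 0))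
  rw [pinf, e, Projectivization.mk_eq_mk_iff']
  constructor
  · rintro ⟨a, ha⟩
    have := congrFun ha 1
    simp [Matrix.mulVec, dotProduct] at this
    exact this.symm
  · intro h0
    refine ⟨g.1 0 0, ?_⟩
    funext i; fin_cases i <;> simp [Matrix.mulVec, dotProduct, h0]

theorem smul_pfin {g : SL(2, k)} (h0 : g.1 1 0 = 0) (c : k) :
    π g • pfin c = pfin c ↔ g.1 0 0 * c + g.1 0 1 = g.1 1 1 * c := by
  obtain ⟨h, e⟩ := smul_mk_π g (v := ![c, 1]) (fun h => one_ne_zero (congrFun h 1))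
  rw [pfin, e, Projectivization.mk_eq_mk_iff']
  constructor
  · rintro ⟨a, ha⟩
    have e0 := congrFun ha 0
    have e1 := congrFun ha 1
    simp [Matrix.mulVec, dotProduct, h0] at e0 e1
    rw [e1] at e0
    exact e0.symm
  · intro hc
    refine ⟨g.1 1 1, ?_⟩
    funext i; fin_cases i <;> simp [Matrix.mulVec, dotProduct, h0, hc]

theorem exists_translate (x : ℙ k (Fin 2 → k)) : ∃ h : SL(2, k), π h • pinf = x := by
  rcases point_cases x with rfl | ⟨c, rfl⟩
  · exact ⟨1, by rw [map_one, one_smul]⟩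
  · refine ⟨sl c (-1) 1 0 (by ring), ?_⟩
    obtain ⟨h, e⟩ := smul_mk_π (sl c (-1) 1 0 (by ring)) (v := ![1, 0]) (fun h => one_ne_zero (congrFun h 0))
    rw [pinf, e, pfin, Projectivization.mk_eq_mk_iff']
    refine ⟨1, ?_⟩
    funext i; fin_cases i <;> simp [Matrix.mulVec, dotProduct, sl00, sl01, sl10, sl11]

/-- Moving a fixed point to infinity. -/
theorem normal_form {g : PSL₂ k} {x : ℙ k (Fin 2 → k)} (hx : g • x = x) {h : SL(2, k)} (hh : π h • pinf = x) :
    ∃ a : SL(2, k), a.1 1 0 = 0 ∧ π a = (π h)⁻¹ * g * π h := by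
  obtain ⟨a, ha⟩ := QuotientGroup.mk'_surjective (Subgroup.center SL(2, k)) ((π h)⁻¹ * g * π h)
  refine ⟨a, (smul_pinf a).mp ?_, ha⟩
  rw [ha, mul_smul, mul_smul, hh, hx, ← hh, inv_smul_smul]

variable (p : ℕ) [Fact p.Prime] [CharP k p]

theorem upper_pow {a : SL(2, k)} (h0 : a.1 1 0 = 0) (n : ℕ) :
    (a ^ n).1 1 0 = 0 ∧ (a ^ n).1 0 0 = a.1 0 0 ^ n ∧ (a ^ n).1 1 1 = a.1 1 1 ^ n := by
  induction n with
  | zero => simp
  | succ n ih =>
    obtain ⟨e0, e1, e2⟩ := ih
    simp [pow_succ, val_mul, h0, e0, e1, e2]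

theorem unip_pow {a : SL(2, k)} (h0 : a.1 1 0 = 0) (h1 : a.1 1 1 = a.1 0 0) (n : ℕ) :
    (a ^ (n + 1)).1 0 1 = ((n + 1 : ℕ) : k) * a.1 0 0 ^ n * a.1 0 1 := by
  induction n with
  | zero => simp
  | succ n ih =>
    obtain ⟨e0, e1, e2⟩ := upper_pow h0 (n + 1)
    rw [pow_succ a (n + 1), val_mul, ih, e1, h1]
    push_cast
    ring

theorem pow_p_iff {a : SL(2, k)} (h0 : a.1 1 0 = 0) : π a ^ p = 1 ↔ a.1 1 1 = a.1 0 0 := by
  have hd := det_eq_one a
  rw [h0, mul_zero, sub_zero] at hd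
  obtain ⟨e0, e1, e2⟩ := upper_pow h0 p
  have hp : p.Prime := Fact.out
  constructor
  · intro h
    rw [← map_pow, π_one_iff] at h
    have key : a.1 0 0 ^ p * a.1 0 0 ^ p = 1 := by
      rcases h with h | h
      · rw [← e1, h]; simp
      · rw [← e1, h]; simp [val_neg]
    have h2 : (a.1 0 0 * a.1 0 0 - 1) ^ p = 0 := by rw [sub_pow_char, mul_pow, key, one_pow, sub_self]
    have h3 : a.1 0 0 * a.1 0 0 = 1 := sub_eq_zero.mp (pow_eq_zero_iff hp.ne_zero |>.mp h2)
    linear_combination a.1 0 0 * hd - a.1 1 1 * h3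
  · intro h11
    obtain ⟨m, hm⟩ : ∃ m, p = m + 1 := ⟨p - 1, (Nat.succ_pred hp.ne_zero).symm⟩
    have hb : (a ^ p).1 0 1 = 0 := by
      rw [hm, unip_pow h0 h11, ← hm, CharP.cast_eq_zero, zero_mul, zero_mul]
    rw [h11] at hd e2
    rw [← map_pow, π_one_iff]
    have hsq : (a.1 0 0 ^ p) ^ 2 = 1 := by rw [← pow_mul, mul_comm, pow_mul, pow_two, hd, one_pow]
    rcases sq_eq_one_iff.mp hsq with e | e
    · left; refine ext_four ?_ ?_ ?_ ?_ <;> simp [e0, e1, e2, hb, e]
    · right; refine ext_four ?_ ?_ ?_ ?_ <;> simp [val_neg, e0, e1, e2, hb, e]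

theorem one_of_scalar {a : SL(2, k)} (h0 : a.1 1 0 = 0) (h1 : a.1 1 1 = a.1 0 0) (hb : a.1 0 1 = 0) : π a = 1 := by
  have hd := det_eq_one a
  rw [h0, h1, mul_zero, sub_zero, ← pow_two] at hd
  rw [π_one_iff]
  rcases sq_eq_one_iff.mp hd with e | e
  · left; refine ext_four ?_ ?_ ?_ ?_ <;> simp [h0, h1, hb, e]
  · right; refine ext_four ?_ ?_ ?_ ?_ <;> simp [val_neg, h0, h1, hb, e]

/-- The second point. -/
theorem translate_back {g : PSL₂ k} {h : SL(2, k)} {a : SL(2, k)} (ha : π a = (π h)⁻¹ * g * π h)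
    (y : ℙ k (Fin 2 → k)) : g • (π h • y) = π h • y ↔ π a • y = y := by
  rw [ha, mul_smul, mul_smul, inv_smul_eq_iff]

theorem pow_conj_iff {g : PSL₂ k} {h : SL(2, k)} {a : SL(2, k)} (ha : π a = (π h)⁻¹ * g * π h) (n : ℕ) :
    g ^ n = 1 ↔ π a ^ n = 1 := by
  have hg : g = π h * π a * (π h)⁻¹ := by rw [ha]; group
  rw [hg, conj_pow, conj_eq_one_iff]

theorem exists_fixed [IsAlgClosed k] (g : PSL₂ k) : ∃ x : ℙ k (Fin 2 → k), g • x = x := by
  obtain ⟨s, rfl⟩ := QuotientGroup.mk'_surjective (Subgroup.center SL(2, k)) g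
  by_cases h0 : s.1 1 0 = 0
  · exact ⟨pinf, (smul_pinf s).mpr h0⟩
  · obtain ⟨r, hr⟩ := IsAlgClosed.exists_root
      (Polynomial.C (s.1 1 0) * Polynomial.X ^ 2 + Polynomial.C (s.1 1 1 - s.1 0 0) * Polynomial.X + Polynomial.C (-s.1 0 1))
      (by rw [Polynomial.degree_quadratic h0]; decide)
    simp [Polynomial.IsRoot] at hr
    refine ⟨pfin r, ?_⟩
    obtain ⟨h, e⟩ := smul_mk_π s (v := ![r, 1]) (fun h => one_ne_zero (congrFun h 1))
    show π s • pfin r = pfin r
    rw [pfin, e, Projectivization.mk_eq_mk_iff']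
    refine ⟨s.1 1 0 * r + s.1 1 1, ?_⟩
    funext i; fin_cases i <;> simp [Matrix.mulVec, dotProduct]
    linear_combination hr

theorem geom [IsAlgClosed k] (G : Subgroup (PSL₂ k)) [Finite G] :
    SharpGeom.Geom G (ℙ k (Fin 2 → k)) p := by
  have hpw : ∀ (g : G) (n : ℕ), g ^ n = 1 ↔ (g : PSL₂ k) ^ n = 1 := fun g n => by
    rw [← Subgroup.coe_pow, OneMemClass.coe_eq_one]
  refine ⟨?_, fun g => exists_fixed g.1, ?_, ?_, ?_, ?_⟩
  · intro g x y z hx hy hz hxy hxz hyz
    obtain ⟨h, rfl⟩ := exists_translate x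
    obtain ⟨a, h0, ha⟩ := normal_form (g := (g : PSL₂ k)) hx rfl
    obtain ⟨y, rfl⟩ : ∃ y', y = π h • y' := ⟨(π h)⁻¹ • y, (smul_inv_smul _ _).symm⟩
    obtain ⟨z, rfl⟩ : ∃ z', z = π h • z' := ⟨(π h)⁻¹ • z, (smul_inv_smul _ _).symm⟩
    rcases point_cases y with rfl | ⟨c, rfl⟩
    · exact absurd rfl hxy
    rcases point_cases z with rfl | ⟨d, rfl⟩
    · exact absurd rfl hxz
    have e1 := (smul_pfin h0 c).mp ((translate_back ha _).mp hy)
    have e2 := (smul_pfin h0 d).mp ((translate_back ha _).mp hz)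
    have hcd : c - d ≠ 0 := sub_ne_zero.mpr fun e => hyz (by rw [e])
    have h11 : a.1 1 1 = a.1 0 0 := by
      have : (a.1 0 0 - a.1 1 1) * (c - d) = 0 := by linear_combination e1 - e2
      exact (sub_eq_zero.mp ((mul_eq_zero.mp this).resolve_right hcd)).symm
    have hb : a.1 0 1 = 0 := by linear_combination e1 + c * h11
    have h1 := one_of_scalar h0 h11 hb
    refine Subtype.ext ?_
    have := (pow_conj_iff ha 1).mpr (by rw [pow_one, h1])
    simpa using this
  · intro g hg x y hx hy hxy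
    obtain ⟨h, rfl⟩ := exists_translate x
    obtain ⟨a, h0, ha⟩ := normal_form (g := (g : PSL₂ k)) hx rfl
    have h11 := (pow_p_iff p h0).mp ((pow_conj_iff ha p).mp ((hpw g p).mp hg))
    obtain ⟨y, rfl⟩ : ∃ y', y = π h • y' := ⟨(π h)⁻¹ • y, (smul_inv_smul _ _).symm⟩
    rcases point_cases y with rfl | ⟨c, rfl⟩
    · exact absurd rfl hxy
    have e1 := (smul_pfin h0 c).mp ((translate_back ha _).mp hy)
    have hb : a.1 0 1 = 0 := by linear_combination e1 + c * h11
    refine Subtype.ext ?_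
    have := (pow_conj_iff ha 1).mpr (by rw [pow_one, one_of_scalar h0 h11 hb])
    simpa using this
  · intro g hg x hx
    obtain ⟨h, rfl⟩ := exists_translate x
    obtain ⟨a, h0, ha⟩ := normal_form (g := (g : PSL₂ k)) hx rfl
    have h11 : a.1 1 1 - a.1 0 0 ≠ 0 := sub_ne_zero.mpr fun e =>
      hg ((hpw g p).mpr ((pow_conj_iff ha p).mpr ((pow_p_iff p h0).mpr e)))
    refine ⟨π h • pfin (a.1 0 1 / (a.1 1 1 - a.1 0 0)), ?_, ?_⟩
    · intro e
      exact pfin_ne_pinf _ (smul_left_cancel _ e)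
    · refine (translate_back ha _).mpr ((smul_pfin h0 _).mpr ?_)
      field_simp
      ring
  · intro x g g' hx hx' hg hg'
    obtain ⟨h, rfl⟩ := exists_translate x
    obtain ⟨a, h0, ha⟩ := normal_form (g := (g : PSL₂ k)) hx rfl
    obtain ⟨b, g0, hb⟩ := normal_form (g := (g' : PSL₂ k)) hx' rfl
    have h11 := (pow_p_iff p h0).mp ((pow_conj_iff ha p).mp ((hpw g p).mp hg))
    have g11 := (pow_p_iff p g0).mp ((pow_conj_iff hb p).mp ((hpw g' p).mp hg'))
    have hc : a * b = b * a := by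
      refine ext_four ?_ ?_ ?_ ?_ <;> simp [val_mul, h0, g0, h11, g11] <;> ring
    refine Subtype.ext ?_
    have e : π a * π b = π b * π a := by rw [← map_mul, ← map_mul, hc]
    rw [ha, hb] at e
    have := congrArg (fun t => π h * t * (π h)⁻¹) e
    simpa [mul_assoc] using this
  · intro x
    obtain ⟨h, rfl⟩ := exists_translate x
    set S := stabilizer G (π h • (pinf : ℙ k (Fin 2 → k)))
    have hnf : ∀ g : S, ∃ a : SL(2, k), a.1 1 0 = 0 ∧ π a = (π h)⁻¹ * ((g : G) : PSL₂ k) * π h :=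
      fun g => normal_form g.2 rfl
    choose A hA0 hA using hnf
    have hchar : ∀ (a b : SL(2, k)), a.1 1 0 = 0 → π a = π b → a.1 0 0 * a.1 0 0 = b.1 0 0 * b.1 0 0 := by
      intro a b _ e
      rcases π_eq_iff.mp e with rfl | rfl <;> simp [val_neg]
    have hu : ∀ g : S, (A g).1 0 0 * (A g).1 0 0 ≠ 0 := fun g => by
      have hd := det_eq_one (A g)
      rw [hA0 g, mul_zero, sub_zero] at hd
      exact mul_ne_zero (left_ne_zero_of_mul_eq_one hd) (left_ne_zero_of_mul_eq_one hd)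
    let χ : S →* kˣ := MonoidHom.mk' (fun g => Units.mk0 _ (hu g)) fun g g' => Units.ext (by
      have e : π (A (g * g')) = π (A g * A g') := by
        rw [map_mul, hA, hA, hA]; push_cast; group
      simp only [Units.val_mul, Units.val_mk0]
      rw [hchar _ _ (hA0 _) e]
      simp [val_mul, hA0]
      ring)
    haveI : Finite χ.range := Finite.of_surjective χ.rangeRestrict χ.rangeRestrict_surjective
    haveI : IsCyclic χ.range := inferInstance
    obtain ⟨⟨ζ, s, hs⟩, hgen⟩ := IsCyclic.exists_monoid_generator (α := χ.range)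
    refine ⟨s.1, mem_stabilizer_iff.mp s.2, fun g hg => ?_⟩
    obtain ⟨i, hi⟩ := Submonoid.mem_powers_iff _ _ |>.mp (hgen ⟨χ (⟨g, hg⟩ : S)⁻¹, ⟨_, rfl⟩⟩)
    refine ⟨i, ?_⟩
    have hker : χ ((⟨g, hg⟩ : S) * s ^ i) = 1 := by
      have hi' := congrArg Subtype.val hi
      simp only [SubmonoidClass.coe_pow] at hi'
      rw [map_mul, map_pow, hs, hi', map_inv, mul_inv_cancel]
    set t : S := (⟨g, hg⟩ : S) * s ^ i with ht
    have h1 : (A t).1 0 0 * (A t).1 0 0 = 1 := congrArg Units.val hker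
    have hd := det_eq_one (A t)
    rw [hA0 t, mul_zero, sub_zero] at hd
    have h11 : (A t).1 1 1 = (A t).1 0 0 := by linear_combination (A t).1 0 0 * hd - (A t).1 1 1 * h1
    have := (hpw (t : G) p).mpr ((pow_conj_iff (hA t) p).mpr ((pow_p_iff p (hA0 t)).mpr h11))
    simpa [ht] using this

end Cfsg.Lib.Classical.PSLGeom
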