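import Mathlib
import Cfsg.Agent.Classical.Misc.PSLGeom

/-! `PSL₂(F)` inside `PSL₂` of the algebraic closure: fixed points and element orders. -/

set_option autoImplicit false
set_option linter.unusedSimpArgs false
set_option linter.unusedSectionVars false
set_option linter.style.haveILetI false
set_option linter.flexible false

namespace Cfsg.Lib.Classical.PSLEmbed

open Matrix MulAction
open scoped MatrixGroups LinearAlgebra.Projectivization
open Cfsg.Lib.Classical.PSLFour Cfsg.Lib.Classical.PSLGeom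

universe u v

variable {F : Type u} [Field F] {k : Type v} [Field k]

local notation "PSL₂" k => Matrix.ProjectiveSpecialLinearGroup (Fin 2) k

/-- The map on `SL₂` of a field embedding. -/
abbrev slMap (i : F →+* k) : SL(2, F) →* SL(2, k) := Matrix.SpecialLinearGroup.map i

theorem slMap_apply (i : F →+* k) (g : SL(2, F)) (a b : Fin 2) : (slMap i g).1 a b = i (g.1 a b) := rfl

theorem slMap_neg_one (i : F →+* k) : slMap i (-1) = -1 := by
  refine ext_four ?_ ?_ ?_ ?_ <;> simp [slMap_apply, val_neg]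

/-- The map on `PSL₂` of a field embedding. -/
def pslMap (i : F →+* k) : (PSL₂ F) →* PSL₂ k :=
  QuotientGroup.lift _ (π.comp (slMap i)) (fun g hg => by
    have h : π g = 1 := (QuotientGroup.eq_one_iff g).mpr hg
    rw [MonoidHom.mem_ker, MonoidHom.comp_apply, π_one_iff]
    rcases π_one_iff.mp h with rfl | rfl
    · exact Or.inl (map_one _)
    · exact Or.inr (slMap_neg_one i))

theorem pslMap_π (i : F →+* k) (g : SL(2, F)) : pslMap i (π g) = π (slMap i g) := rfl

theorem pslMap_injective (i : F →+* k) : Function.Injective (pslMap i) := by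
  rw [← MonoidHom.ker_eq_bot_iff, Subgroup.eq_bot_iff_forall]
  intro x hx
  obtain ⟨g, rfl⟩ := QuotientGroup.mk'_surjective (Subgroup.center SL(2, F)) x
  have hinj : Function.Injective (slMap i) := fun a b e =>
    ext_four (i.injective (congrFun (congrFun (congrArg Subtype.val e) 0) 0))
      (i.injective (congrFun (congrFun (congrArg Subtype.val e) 0) 1))
      (i.injective (congrFun (congrFun (congrArg Subtype.val e) 1) 0))
      (i.injective (congrFun (congrFun (congrArg Subtype.val e) 1) 1))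
  rw [MonoidHom.mem_ker] at hx
  change π (slMap i g) = 1 at hx
  show π g = 1
  rw [π_one_iff] at hx ⊢
  rcases hx with h | h
  · exact Or.inl (hinj (h.trans (map_one _).symm))
  · exact Or.inr (hinj (h.trans (slMap_neg_one i).symm))

/-- A rational point. -/
def Rational (i : F →+* k) (x : ℙ k (Fin 2 → k)) : Prop := x = pinf ∨ ∃ c : F, x = pfin (i c)

theorem smul_rational (i : F →+* k) (s : SL(2, F)) {x : ℙ k (Fin 2 → k)} (hx : Rational i x) :
    Rational i (π (slMap i s) • x) := by
  have key : ∀ v : Fin 2 → F, ∀ h : (fun j => i (v j)) ≠ 0,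
      Rational i (π (slMap i s) • Projectivization.mk k _ h) := fun v h => by
    obtain ⟨h', e⟩ := smul_mk_π (slMap i s) h
    rw [e]
    have hv : ∀ j, ((slMap i s).1 *ᵥ fun j => i (v j)) j = i ((s.1 *ᵥ v) j) := fun j => (RingHom.map_mulVec i s.1 v j).symm
    by_cases h1 : (s.1 *ᵥ v) 1 = 0
    · left
      rw [pinf, Projectivization.mk_eq_mk_iff']
      refine ⟨i ((s.1 *ᵥ v) 0), ?_⟩
      funext j; rw [hv]; fin_cases j <;> simp [h1]
    · right
      refine ⟨(s.1 *ᵥ v) 0 / (s.1 *ᵥ v) 1, ?_⟩
      rw [pfin, Projectivization.mk_eq_mk_iff']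
      refine ⟨i ((s.1 *ᵥ v) 1), ?_⟩
      have h1' : i ((s.1 *ᵥ v) 1) ≠ 0 := by rwa [map_ne_zero]
      funext j; rw [hv]
      generalize s.1 *ᵥ v = w at h1 h1' ⊢
      fin_cases j <;> simp [h1]; field_simp
  rcases hx with rfl | ⟨c, rfl⟩
  · have e : ![(1 : k), 0] = fun j => i (![1, 0] j) := by funext j; fin_cases j <;> simp
    have h : (fun j => i (![(1 : F), 0] j)) ≠ 0 := fun h => by simpa using congrFun h 0
    have := key ![1, 0] h
    simp only [pinf] at this ⊢
    convert this using 3
  · have e : ![i c, 1] = fun j => i (![c, 1] j) := by funext j; fin_cases j <;> simp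
    have h : (fun j => i (![c, 1] j)) ≠ 0 := fun h => by simpa using congrFun h 1
    have := key ![c, 1] h
    simp only [pfin] at this ⊢
    convert this using 3

variable (p : ℕ) [Fact p.Prime] [CharP k p]

theorem rational_of_unip (i : F →+* k) [Finite F] [IsAlgClosed k] {s : SL(2, F)}
    (hp : π (slMap i s) ^ p = 1) (h1 : π (slMap i s) ≠ 1) {x : ℙ k (Fin 2 → k)} (hx : π (slMap i s) • x = x) :
    Rational i x := by
  obtain ⟨y, hy, hyr⟩ : ∃ y, π (slMap i s) • y = y ∧ Rational i y := by
    by_cases h0 : s.1 1 0 = 0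
    · exact ⟨pinf, (smul_pinf _).mpr (by rw [slMap_apply, h0, map_zero]), Or.inl rfl⟩
    · obtain ⟨h, hh⟩ := exists_translate x
      obtain ⟨a, a0, ha⟩ := normal_form hx hh
      have e11 := (pow_p_iff p a0).mp ((pow_conj_iff ha p).mp hp)
      have hd := det_eq_one a
      rw [a0, mul_zero, sub_zero, e11] at hd
      have htr : ((slMap i s).1 0 0 + (slMap i s).1 1 1) ^ 2 = 4 := by
        have htrace : a.1.trace ^ 2 = (slMap i s).1.trace ^ 2 := by
          rw [← map_inv, ← map_mul, ← map_mul, π_eq_iff] at ha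
          have hc : (h⁻¹ * slMap i s * h : SL(2, k)).1.trace = (slMap i s).1.trace := by
            rw [Matrix.SpecialLinearGroup.coe_mul, Matrix.SpecialLinearGroup.coe_mul, Matrix.trace_mul_cycle,
              ← Matrix.SpecialLinearGroup.coe_mul, mul_inv_cancel, Matrix.SpecialLinearGroup.coe_one, one_mul]
          rcases ha with e | e
          · rw [← hc, e]
          · rw [← hc, e]; simp [Matrix.trace_fin_two, val_neg]; ring
        simp only [Matrix.trace_fin_two, e11] at htrace
        rw [← htrace]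
        linear_combination 4 * hd
      have hi : i ((s.1 0 0 + s.1 1 1) ^ 2) = i 4 := by
        rw [map_pow, map_add, map_ofNat]; exact htr
      have ht := i.injective hi
      have hsplit : (s.1 0 0 + s.1 1 1 - 2) * (s.1 0 0 + s.1 1 1 + 2) = 0 := by linear_combination ht
      obtain ⟨τ, hτ2, hτ⟩ : ∃ τ : F, τ * τ = 1 ∧ s.1 0 0 + s.1 1 1 = τ + τ := by
        rcases mul_eq_zero.mp hsplit with e | e
        · exact ⟨1, one_mul 1, by linear_combination e⟩
        · exact ⟨-1, by ring, by linear_combination e⟩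
      refine ⟨pfin (i ((τ - s.1 1 1) / s.1 1 0)), ?_, Or.inr ⟨_, rfl⟩⟩
      obtain ⟨h', e⟩ := smul_mk_π (slMap i s) (v := ![i ((τ - s.1 1 1) / s.1 1 0), 1]) (fun h => one_ne_zero (congrFun h 1))
      rw [pfin, e, Projectivization.mk_eq_mk_iff']
      refine ⟨i τ, ?_⟩
      have hd' := det_eq_one s
      have e0 : s.1 0 0 * ((τ - s.1 1 1) / s.1 1 0) + s.1 0 1 = τ * ((τ - s.1 1 1) / s.1 1 0) := by
        field_simp
        linear_combination τ * hτ - hd' + hτ2
      have e1 : s.1 1 0 * ((τ - s.1 1 1) / s.1 1 0) + s.1 1 1 = τ := by field_simp; ring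
      funext j
      fin_cases j
      · simp [Matrix.mulVec, dotProduct, slMap_apply]
        have := congrArg i e0
        simpa using this.symm
      · simp [Matrix.mulVec, dotProduct, slMap_apply]
        have := congrArg i e1
        simpa using this.symm
  haveI : Finite (pslMap i).range := Finite.of_surjective _ (pslMap i).rangeRestrict_surjective
  have M := geom p (pslMap i).range
  let g : (pslMap i).range := ⟨π (slMap i s), π s, rfl⟩
  have : x = y := M.eq_of_unip (g := g) (fun e => h1 (congrArg Subtype.val e)) (Subtype.ext hp) hy hx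
  exact this ▸ hyr

/-- A semisimple element is killed by `(q ± 1) / gcd (2, q - 1)`. -/
theorem semi_order [Fintype F] (i : F →+* k) {q : ℕ} (hF : Fintype.card F = q) [CharP F p] [IsAlgClosed k]
    (g : PSL₂ F) (hg : g = 1 ∨ g ^ p ≠ 1) :
    g ^ ((q + 1) / Nat.gcd 2 (q - 1)) = 1 ∨ g ^ ((q - 1) / Nat.gcd 2 (q - 1)) = 1 := by
  rcases hg with rfl | hg
  · exact Or.inl (one_pow _)
  have hq : q ≠ 0 := hF ▸ Fintype.card_ne_zero
  obtain ⟨n, -, hn⟩ := FiniteField.card F p
  rw [hF] at hn
  obtain ⟨s, rfl⟩ := QuotientGroup.mk'_surjective (Subgroup.center SL(2, F)) g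
  obtain ⟨x, hx⟩ := PSLGeom.exists_fixed (π (slMap i s))
  obtain ⟨h, hh⟩ := exists_translate x
  obtain ⟨a, a0, ha⟩ := normal_form hx hh
  have hne : a.1 1 1 ≠ a.1 0 0 := fun e => hg (pslMap_injective i (by
    rw [map_pow, map_one]; exact (pow_conj_iff ha p).mpr ((pow_p_iff p a0).mpr e)))
  have hd := det_eq_one a
  rw [a0, mul_zero, sub_zero] at hd
  -- the trace is rational up to sign
  have htrq : (a.1 0 0 + a.1 1 1) ^ q = a.1 0 0 + a.1 1 1 := by
    have key : ∃ c : F, a.1 0 0 + a.1 1 1 = i c := by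
      rw [← map_inv, ← map_mul, ← map_mul, π_eq_iff] at ha
      have hc : (h⁻¹ * slMap i s * h : SL(2, k)).1.trace = i (s.1.trace) := by
        rw [Matrix.SpecialLinearGroup.coe_mul, Matrix.SpecialLinearGroup.coe_mul, Matrix.trace_mul_cycle,
          ← Matrix.SpecialLinearGroup.coe_mul, mul_inv_cancel, Matrix.SpecialLinearGroup.coe_one, one_mul]
        simp [Matrix.trace_fin_two, slMap_apply]
      rcases ha with e | e
      · refine ⟨s.1.trace, ?_⟩
        rw [← hc, e, Matrix.trace_fin_two]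
      · refine ⟨-s.1.trace, ?_⟩
        rw [map_neg, ← hc, e, Matrix.trace_fin_two]; simp [val_neg]; ring
    obtain ⟨c, hc⟩ := key
    rw [hc, ← map_pow, ← hF, FiniteField.pow_card]
  have hadd : a.1 0 0 ^ q + a.1 1 1 ^ q = a.1 0 0 + a.1 1 1 := by
    rw [hn, ← add_pow_char_pow, ← hn]; exact htrq
  have hprod : a.1 0 0 ^ q * a.1 1 1 ^ q = 1 := by rw [← mul_pow, hd, one_pow]
  have hcases : a.1 0 0 ^ q = a.1 0 0 ∨ a.1 0 0 ^ q = a.1 1 1 := by
    have : (a.1 0 0 ^ q - a.1 0 0) * (a.1 0 0 ^ q - a.1 1 1) = 0 := by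
      linear_combination a.1 0 0 ^ q * hadd - hprod + hd
    rcases mul_eq_zero.mp this with e | e
    · exact Or.inl (sub_eq_zero.mp e)
    · exact Or.inr (sub_eq_zero.mp e)
  -- powers killing the diagonal
  have kill : ∀ m, a.1 0 0 ^ m * a.1 0 0 ^ m = 1 → π s ^ m = 1 := by
    intro m hm
    refine pslMap_injective i ?_
    rw [map_pow, map_one, pslMap_π, pow_conj_iff ha m, ← map_pow]
    obtain ⟨e0, e1, e2⟩ := upper_pow a0 m
    have e11 : (a ^ m).1 1 1 = (a ^ m).1 0 0 := by
      have hdm : a.1 0 0 ^ m * a.1 1 1 ^ m = 1 := by rw [← mul_pow, hd, one_pow]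
      rw [e1, e2]
      linear_combination a.1 0 0 ^ m * hdm - a.1 1 1 ^ m * hm
    -- it fixes infinity and the second point
    have hb : (a ^ m).1 0 1 = 0 := by
      have hfix : π a • pfin (a.1 0 1 / (a.1 1 1 - a.1 0 0)) = pfin (a.1 0 1 / (a.1 1 1 - a.1 0 0)) := by
        refine (smul_pfin a0 _).mpr ?_
        have : a.1 1 1 - a.1 0 0 ≠ 0 := sub_ne_zero.mpr hne
        field_simp
        ring
      have hfixm : π (a ^ m) • pfin (a.1 0 1 / (a.1 1 1 - a.1 0 0)) = pfin (a.1 0 1 / (a.1 1 1 - a.1 0 0)) := by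
        rw [map_pow]
        clear hm e0 e1 e2 e11
        induction m with
        | zero => simp
        | succ m ih => rw [pow_succ, mul_smul, hfix]; exact ih
      have := (smul_pfin e0 _).mp hfixm
      rw [e11] at this
      linear_combination this
    exact one_of_scalar e0 e11 hb
  have hd2 : Nat.gcd 2 (q - 1) = 1 ∨ Nat.gcd 2 (q - 1) = 2 :=
    (Nat.dvd_prime Nat.prime_two).mp (Nat.gcd_dvd_left 2 (q - 1))
  have hdd : Nat.gcd 2 (q - 1) ∣ q - 1 := Nat.gcd_dvd_right _ _
  rcases hcases with e | e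
  · right
    apply kill
    have h1 : a.1 0 0 ^ (q - 1) = 1 := by
      have h0 : a.1 0 0 ≠ 0 := left_ne_zero_of_mul_eq_one hd
      apply mul_right_cancel₀ h0
      rw [← pow_succ, Nat.sub_add_cancel (Nat.one_le_iff_ne_zero.mpr hq), e, one_mul]
    rcases hd2 with h | h
    · rw [h, Nat.div_one, h1, one_mul]
    · rw [h, ← pow_add, ← two_mul, Nat.mul_div_cancel' (h ▸ hdd), h1]
  · left
    apply kill
    have h1 : a.1 0 0 ^ (q + 1) = 1 := by rw [pow_succ, e, mul_comm, hd]
    rcases hd2 with h | h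
    · rw [h, Nat.div_one, h1, one_mul]
    · rw [h, ← pow_add, ← two_mul, Nat.mul_div_cancel' ?_, h1]
      have := h ▸ hdd
      omega

end Cfsg.Lib.Classical.PSLEmbed
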