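import Mathlib
import Cfsg.Agent.Classical.Misc.PSLEmbed
import Cfsg.Agent.Classical.Misc.SmallPSL

/-! The linear fractional case of Dickson's list: the orbit of a wild point is a subfield line. -/

set_option autoImplicit false
set_option linter.unusedSimpArgs false
set_option linter.unusedSectionVars false
set_option linter.style.haveILetI false
set_option linter.flexible false

namespace Cfsg.Lib.Classical.PSLLie

open Matrix MulAction
open scoped MatrixGroups LinearAlgebra.Projectivization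
open Cfsg.Lib.Classical.PSLFour Cfsg.Lib.Classical.PSLGeom Cfsg.Lib.Classical.PSLEmbed

universe u v

local notation "PSL₂" k => Matrix.ProjectiveSpecialLinearGroup (Fin 2) k

section proj

variable {K : Type u} [Field K] {k : Type v} [Field k]

theorem π_eq_of_proportional {a b : SL(2, k)} {ρ σ : k} (hρ : ρ ≠ 0) (h : ∀ i j, a.1 i j * ρ = b.1 i j * σ) :
    π a = π b := by
  have ha := det_eq_one a
  have hb := det_eq_one b
  have e : ρ * ρ = σ * σ := by
    linear_combination -ρ * ρ * ha + σ * σ * hb + (a.1 1 1 * ρ) * h 0 0 + (b.1 0 0 * σ) * h 1 1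
      - (a.1 1 0 * ρ) * h 0 1 - (b.1 0 1 * σ) * h 1 0
  rcases mul_self_eq_mul_self_iff.mp e with e' | e'
  · refine π_eq_iff.mpr (Or.inl (ext_four ?_ ?_ ?_ ?_)) <;>
      refine (mul_right_cancel₀ hρ ?_).symm <;> rw [h, e']
  · refine π_eq_iff.mpr (Or.inr (ext_four ?_ ?_ ?_ ?_)) <;>
      refine mul_right_cancel₀ hρ ?_ <;> rw [val_neg, neg_mul, h, e'] <;> ring

/-- `PGL₂` of a subfield inside `PSL₂` of an algebraically closed field. -/
theorem exists_proj [IsAlgClosed k] (j : K →+* k) :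
    ∃ χ : Matrix.ProjGenLinGroup (Fin 2) K →* PSL₂ k, Function.Injective χ ∧
      ∀ (g : GL (Fin 2) K) (a : SL(2, k)) (ρ : k), ρ ≠ 0 →
        (∀ r c, a.1 r c * ρ = j ((g : Matrix (Fin 2) (Fin 2) K) r c)) → χ (Matrix.ProjGenLinGroup.mk g) = π a := by
  have hex : ∀ g : GL (Fin 2) K, ∃ (a : SL(2, k)) (ρ : k), ρ ≠ 0 ∧
      ∀ r c, a.1 r c * ρ = j ((g : Matrix (Fin 2) (Fin 2) K) r c) := by
    intro g
    obtain ⟨ρ, hρ⟩ := IsAlgClosed.exists_eq_mul_self (j (g : Matrix (Fin 2) (Fin 2) K).det)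
    have hd : j (g : Matrix (Fin 2) (Fin 2) K).det ≠ 0 := by
      rw [map_ne_zero]; exact (Matrix.GeneralLinearGroup.det g).ne_zero
    have hρ0 : ρ ≠ 0 := fun e => hd (by rw [hρ, e, mul_zero])
    refine ⟨sl (j ((g : Matrix (Fin 2) (Fin 2) K) 0 0) / ρ) (j ((g : Matrix (Fin 2) (Fin 2) K) 0 1) / ρ)
      (j ((g : Matrix (Fin 2) (Fin 2) K) 1 0) / ρ) (j ((g : Matrix (Fin 2) (Fin 2) K) 1 1) / ρ) ?_, ρ, hρ0, ?_⟩
    · field_simp
      rw [← map_mul, ← map_mul, ← map_sub, ← Matrix.det_fin_two, hρ, pow_two]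
    · intro r c
      fin_cases r <;> fin_cases c <;> simp [sl00, sl01, sl10, sl11, hρ0]
  choose A R hR hA using hex
  have huniq : ∀ (g : GL (Fin 2) K) (a : SL(2, k)) (ρ : k), ρ ≠ 0 →
      (∀ r c, a.1 r c * ρ = j ((g : Matrix (Fin 2) (Fin 2) K) r c)) → π (A g) = π a := fun g a ρ _ h =>
    π_eq_of_proportional (hR g) fun r c => (hA g r c).trans (h r c).symm
  let χ₀ : GL (Fin 2) K →* PSL₂ k := MonoidHom.mk' (fun g => π (A g)) fun g g' => by
    rw [← map_mul]
    refine huniq (g * g') (A g * A g') (R g * R g') (mul_ne_zero (hR g) (hR g')) fun r c => ?_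
    rw [val_mul, Units.val_mul, Matrix.mul_apply, Fin.sum_univ_two, map_add, map_mul, map_mul, ← hA g r 0,
      ← hA g r 1, ← hA g' 0 c, ← hA g' 1 c]
    ring
  have hker : Subgroup.center (GL (Fin 2) K) = χ₀.ker := by
    ext g
    rw [MonoidHom.mem_ker, Matrix.GeneralLinearGroup.center_eq_range_scalar, MonoidHom.mem_range]
    show _ ↔ π (A g) = 1
    constructor
    · rintro ⟨u, rfl⟩
      rw [huniq _ 1 (j u) (by rw [map_ne_zero]; exact u.ne_zero) fun r c => by
        fin_cases r <;> fin_cases c <;> simp, map_one]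
    · intro h
      have h10 : (A g).1 1 0 = 0 ∧ (A g).1 0 1 = 0 ∧ (A g).1 0 0 = (A g).1 1 1 := by
        rcases π_one_iff.mp h with e | e <;> rw [e] <;> simp [val_neg]
      have hg10 : j ((g : Matrix (Fin 2) (Fin 2) K) 1 0) = 0 := by rw [← hA g, h10.1, zero_mul]
      have hg01 : j ((g : Matrix (Fin 2) (Fin 2) K) 0 1) = 0 := by rw [← hA g, h10.2.1, zero_mul]
      have hg00 : (g : Matrix (Fin 2) (Fin 2) K) 0 0 = (g : Matrix (Fin 2) (Fin 2) K) 1 1 :=
        j.injective (by rw [← hA g, ← hA g, h10.2.2])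
      rw [map_eq_zero] at hg10 hg01
      have hd : ((g : Matrix (Fin 2) (Fin 2) K)).det ≠ 0 := (Matrix.GeneralLinearGroup.det g).ne_zero
      rw [Matrix.det_fin_two, hg01, hg00] at hd
      refine ⟨Units.mk0 ((g : Matrix (Fin 2) (Fin 2) K) 1 1) (fun hz => hd (by rw [hz]; ring)), Units.ext ?_⟩
      ext r c
      fin_cases r <;> fin_cases c <;> simp [hg10, hg01, hg00]
  refine ⟨QuotientGroup.lift _ χ₀ hker.le, ?_, fun g a ρ hρ h => huniq g a ρ hρ h⟩
  refine (injective_iff_map_eq_one _).mpr fun x hx => ?_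
  obtain ⟨g, rfl⟩ := Matrix.ProjGenLinGroup.mk_surjective x
  have hg : g ∈ χ₀.ker := hx
  rw [← hker] at hg
  exact (QuotientGroup.eq_one_iff g).mpr hg

end proj

variable {F : Type u} [Field F] {k : Type v} [Field k]

/-- A rational frame. -/
theorem exists_frame [IsAlgClosed k] (i : F →+* k) {x y z : ℙ k (Fin 2 → k)} (hx : Rational i x) (hy : Rational i y)
    (hz : Rational i z) (hxy : x ≠ y) (hxz : x ≠ z) (hyz : y ≠ z) :
    ∃ h : SL(2, k), π h • pinf = x ∧ π h • pfin 0 = y ∧ π h • pfin 1 = z ∧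
      ∀ s : SL(2, F), ∀ r c, ∃ e : F, (h⁻¹ * slMap i s * h).1 r c = i e := by
  have hvec : ∀ w, Rational i w → ∃ v : Fin 2 → F, ∃ hv : (fun j => i (v j)) ≠ 0,
      w = Projectivization.mk k (fun j => i (v j)) hv := by
    rintro w (rfl | ⟨c, rfl⟩)
    · refine ⟨![1, 0], fun h => by simpa using congrFun h 0, ?_⟩
      simp only [pinf]
      congr 1
      funext j; fin_cases j <;> simp
    · refine ⟨![c, 1], fun h => by simpa using congrFun h 1, ?_⟩
      simp only [pfin]
      congr 1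
      funext j; fin_cases j <;> simp
  obtain ⟨vx, hvx, rfl⟩ := hvec x hx
  obtain ⟨vy, hvy, rfl⟩ := hvec y hy
  obtain ⟨vz, hvz, rfl⟩ := hvec z hz
  have hdet : ∀ (v w : Fin 2 → F) (hv : (fun j => i (v j)) ≠ 0) (hw : (fun j => i (w j)) ≠ 0),
      Projectivization.mk k _ hv ≠ Projectivization.mk k _ hw → v 0 * w 1 - w 0 * v 1 ≠ 0 := by
    intro v w hv hw hne h0
    apply hne
    rw [Projectivization.mk_eq_mk_iff']
    by_cases h1 : w 0 = 0
    · have h2 : w 1 ≠ 0 := fun h2 => hw (funext fun j => by fin_cases j <;> simp [h1, h2])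
      have hv0 : v 0 = 0 := by
        rw [h1, zero_mul, sub_zero] at h0
        exact (mul_eq_zero.mp h0).resolve_right h2
      refine ⟨i (v 1 / w 1), funext fun j => ?_⟩
      fin_cases j <;> simp [h1, hv0, h2]
    · refine ⟨i (v 0 / w 0), funext fun j => ?_⟩
      fin_cases j
      · simp [h1]
      · simp only [Fin.mk_one, Pi.smul_apply, smul_eq_mul, ← map_mul]
        congr 1
        field_simp
        linear_combination h0
  have d0 := hdet vx vy hvx hvy hxy
  have d1 := hdet vz vy hvz hvy (Ne.symm hyz)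
  have d2 := hdet vx vz hvx hvz hxz
  set D := vx 0 * vy 1 - vy 0 * vx 1 with hD
  set α := (vz 0 * vy 1 - vy 0 * vz 1) / D with hα
  set β := (vx 0 * vz 1 - vz 0 * vx 1) / D with hβ
  have hα0 : α ≠ 0 := div_ne_zero d1 d0
  have hβ0 : β ≠ 0 := div_ne_zero d2 d0
  obtain ⟨r, hr⟩ := IsAlgClosed.exists_eq_mul_self (i (α * β * D))
  have hr0 : r ≠ 0 := fun e => by
    rw [e, mul_zero, map_eq_zero] at hr
    exact mul_ne_zero (mul_ne_zero hα0 hβ0) d0 hr
  let h : SL(2, k) := sl (i (α * vx 0) / r) (i (β * vy 0) / r) (i (α * vx 1) / r) (i (β * vy 1) / r) (by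
    field_simp
    rw [← map_mul, ← map_mul, ← map_sub, pow_two, ← hr, hD]
    congr 1
    ring)
  refine ⟨h, ?_, ?_, ?_, ?_⟩
  · obtain ⟨h', e⟩ := smul_mk_π h (v := ![1, 0]) (fun h => one_ne_zero (congrFun h 0))
    rw [pinf, e, Projectivization.mk_eq_mk_iff']
    refine ⟨i α / r, funext fun j => ?_⟩
    fin_cases j <;> simp [h, Matrix.mulVec, dotProduct, sl00, sl01, sl10, sl11] <;> ring
  · obtain ⟨h', e⟩ := smul_mk_π h (v := ![0, 1]) (fun h => one_ne_zero (congrFun h 1))
    rw [pfin, e, Projectivization.mk_eq_mk_iff']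
    refine ⟨i β / r, funext fun j => ?_⟩
    fin_cases j <;> simp [h, Matrix.mulVec, dotProduct, sl00, sl01, sl10, sl11] <;> ring
  · obtain ⟨h', e⟩ := smul_mk_π h (v := ![1, 1]) (fun h => one_ne_zero (congrFun h 1))
    rw [pfin, e, Projectivization.mk_eq_mk_iff']
    have e0 : α * vx 0 + β * vy 0 = vz 0 := by
      rw [hα, hβ, div_mul_eq_mul_div, div_mul_eq_mul_div, ← add_div, eq_comm, eq_div_iff d0, hD]; ring
    have e1 : α * vx 1 + β * vy 1 = vz 1 := by
      rw [hα, hβ, div_mul_eq_mul_div, div_mul_eq_mul_div, ← add_div, eq_comm, eq_div_iff d0, hD]; ring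
    refine ⟨1 / r, funext fun j => ?_⟩
    have f0 := congrArg i e0
    have f1 := congrArg i e1
    simp only [map_add, map_mul] at f0 f1
    fin_cases j <;> simp [h, Matrix.mulVec, dotProduct, sl00, sl01, sl10, sl11] <;> field_simp
    · linear_combination -f0
    · linear_combination -f1
  · intro s
    let m : Matrix (Fin 2) (Fin 2) F := !![α * vx 0, β * vy 0; α * vx 1, β * vy 1]
    intro r' c'
    refine ⟨((m.adjugate * s.1 * m) r' c') / (α * β * D), ?_⟩
    have hh : h.1 = r⁻¹ • m.map i := by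
      ext a b
      fin_cases a <;> fin_cases b <;> simp [h, m, sl00, sl01, sl10, sl11] <;> ring
    have hadj : (m.map i).adjugate = m.adjugate.map i := (RingHom.map_adjugate i m).symm
    have hs : (slMap i s).1 = s.1.map i := rfl
    rw [Matrix.SpecialLinearGroup.coe_mul, Matrix.SpecialLinearGroup.coe_mul, Matrix.SpecialLinearGroup.coe_inv,
      hh, Matrix.adjugate_smul, hadj, hs, Fintype.card_fin, pow_one, Matrix.smul_mul, Matrix.smul_mul,
      Matrix.mul_smul, smul_smul, ← Matrix.map_mul, ← Matrix.map_mul, Matrix.smul_apply, Matrix.map_apply,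
      smul_eq_mul, map_div₀, hr]
    field_simp

variable (p : ℕ) [Fact p.Prime] [CharP k p]

/-- The translations by a set. -/
def trans (b : k) : SL(2, k) := sl 1 b 0 1 (by ring)

theorem trans_mul (a b : k) : trans a * trans b = trans (a + b) := by
  refine ext_four ?_ ?_ ?_ ?_ <;> simp [trans, val_mul, sl00, sl01, sl10, sl11]; ring

theorem trans_smul (b c : k) : π (trans b) • pfin c = pfin (c + b) := by
  obtain ⟨h, e⟩ := smul_mk_π (trans b) (v := ![c, 1]) (fun h => one_ne_zero (congrFun h 1))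
  rw [pfin, e, pfin, Projectivization.mk_eq_mk_iff']
  exact ⟨1, funext fun j => by fin_cases j <;> simp [trans, Matrix.mulVec, dotProduct, sl00, sl01, sl10, sl11]⟩

theorem anti_smul {a : SL(2, k)} (h00 : a.1 0 0 = 0) (h11 : a.1 1 1 = 0) {c : k} (hc : c ≠ 0) :
    π a • pfin c = pfin (a.1 0 1 / a.1 1 0 / c) := by
  have hd := det_eq_one a
  have h10 : a.1 1 0 ≠ 0 := fun e => by rw [e, h00] at hd; simp at hd
  obtain ⟨h, e⟩ := smul_mk_π a (v := ![c, 1]) (fun h => one_ne_zero (congrFun h 1))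
  rw [pfin, e, pfin, Projectivization.mk_eq_mk_iff']
  exact ⟨a.1 1 0 * c, funext fun j => by
    fin_cases j <;> simp [Matrix.mulVec, dotProduct, h00, h11]; field_simp⟩

theorem diag_smul {a : SL(2, k)} (h10 : a.1 1 0 = 0) (h01 : a.1 0 1 = 0) (c : k) :
    π a • pfin c = pfin (a.1 0 0 / a.1 1 1 * c) := by
  have hd := det_eq_one a
  have h11 : a.1 1 1 ≠ 0 := fun e => by rw [e, h10] at hd; simp at hd
  obtain ⟨h, e⟩ := smul_mk_π a (v := ![c, 1]) (fun h => one_ne_zero (congrFun h 1))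
  rw [pfin, e, pfin, Projectivization.mk_eq_mk_iff']
  exact ⟨a.1 1 1, funext fun j => by fin_cases j <;> simp [Matrix.mulVec, dotProduct, h10, h01]; field_simp⟩

include p in
/-- The normalised configuration: the groups with a subfield line as the orbit of infinity. -/
theorem normalized [IsAlgClosed k] [Finite F] (i : F →+* k) (G : Subgroup (PSL₂ k)) [Finite G]
    (hrat : ∀ g ∈ G, ∃ a : SL(2, k), π a = g ∧ ∀ r c, ∃ e : F, a.1 r c = i e)
    (A : Set k) (hA : ∀ b, b ∈ A ↔ π (trans b) ∈ G) (h1 : (1 : k) ∈ A) (hP : 3 ≤ A.ncard)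
    (hinv : ∀ g ∈ G, ∀ z : ℙ k (Fin 2 → k), (z = pinf ∨ ∃ b ∈ A, z = pfin b) →
      (g • z = pinf ∨ ∃ b ∈ A, g • z = pfin b))
    (hw : ∃ g ∈ G, g • (pinf : ℙ k (Fin 2 → k)) = pfin 0)
    (d : ℕ) (hd : d = 1 ∨ d = 2)
    (hc : Nat.card {g : G // (g : PSL₂ k) • (pinf : ℙ k (Fin 2 → k)) = pinf ∧ (g : PSL₂ k) • pfin 0 = pfin (0 : k)} * d =
      A.ncard - 1)
    (hG : Nat.card G * d = (A.ncard + 1) * A.ncard * (A.ncard - 1)) :
    ∃ (K : Type) (_ : Field K) (_ : Fintype K), (∃ φ : K →+* F, ∀ g ∈ G, ∃ (a : SL(2, k)) (ρ : k),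
        ρ ≠ 0 ∧ π a = g ∧ ∀ r c, ∃ y : K, a.1 r c * ρ = i (φ y)) ∧ Fintype.card K = A.ncard ∧
      ((d = 1 ∧ Nonempty (G ≃* Matrix.ProjGenLinGroup (Fin 2) K)) ∨
        (d = 2 ∧ Nonempty (G ≃* Matrix.ProjectiveSpecialLinearGroup (Fin 2) K))) := by
  classical
  have hAfin : A.Finite := Set.finite_of_ncard_pos (by omega)
  have h0 : (0 : k) ∈ A := (hA 0).mpr (by
    rw [show (trans (0 : k)) = 1 from by refine ext_four ?_ ?_ ?_ ?_ <;> simp [trans, sl00, sl01, sl10, sl11],
      map_one]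
    exact one_mem G)
  have hadd : ∀ a ∈ A, ∀ b ∈ A, a + b ∈ A := fun a ha b hb =>
    (hA _).mpr (by rw [← trans_mul, map_mul]; exact mul_mem ((hA a).mp ha) ((hA b).mp hb))
  have hneg : ∀ a ∈ A, -a ∈ A := fun a ha => (hA _).mpr (by
    have : trans (-a) = (trans a)⁻¹ := eq_inv_of_mul_eq_one_left (by
      rw [trans_mul, neg_add_cancel]; refine ext_four ?_ ?_ ?_ ?_ <;> simp [trans, sl00, sl01, sl10, sl11])
    rw [this, map_inv]; exact inv_mem ((hA a).mp ha))
  -- the swap
  obtain ⟨g, hg, hg0⟩ := hw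
  obtain ⟨b₀, hb₀, hgb₀⟩ : ∃ b ∈ A, g⁻¹ • (pinf : ℙ k (Fin 2 → k)) = pfin b := by
    rcases hinv g⁻¹ (inv_mem hg) pinf (Or.inl rfl) with h | h
    · exfalso
      rw [inv_smul_eq_iff, hg0] at h
      exact pfin_ne_pinf 0 h.symm
    · exact h
  have hwG : g * π (trans b₀) ∈ G := mul_mem hg ((hA b₀).mp hb₀)
  obtain ⟨w, hw'⟩ := QuotientGroup.mk'_surjective (Subgroup.center SL(2, k)) (g * π (trans b₀))
  have hwinf : π w • (pinf : ℙ k (Fin 2 → k)) = pfin 0 := by
    rw [hw', mul_smul, (smul_pinf _).mpr (by simp [trans, sl10]), hg0]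
  have hw0 : π w • pfin (0 : k) = pinf := by
    rw [hw', mul_smul, trans_smul, zero_add, ← hgb₀, smul_inv_smul]
  have hwG' : π w ∈ G := hw' ▸ hwG
  obtain ⟨hw00, hw11⟩ : w.1 0 0 = 0 ∧ w.1 1 1 = 0 := by
    constructor
    · obtain ⟨h, e⟩ := smul_mk_π w (v := ![1, 0]) (fun h => one_ne_zero (congrFun h 0))
      rw [pinf, e, pfin, Projectivization.mk_eq_mk_iff'] at hwinf
      obtain ⟨t, ht⟩ := hwinf
      simpa [Matrix.mulVec, dotProduct] using (congrFun ht 0).symm
    · obtain ⟨h, e⟩ := smul_mk_π w (v := ![0, 1]) (fun h => one_ne_zero (congrFun h 1))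
      rw [pfin, e, pinf, Projectivization.mk_eq_mk_iff'] at hw0
      obtain ⟨t, ht⟩ := hw0
      simpa [Matrix.mulVec, dotProduct] using (congrFun ht 1).symm
  set κ := w.1 0 1 / w.1 1 0 with hκ
  have hκ0 : κ ≠ 0 := by
    have hd := det_eq_one w
    rw [hw00, zero_mul, zero_sub] at hd
    exact div_ne_zero (fun e => by rw [e] at hd; simp at hd) (fun e => by rw [e] at hd; simp at hd)
  have hf : ∀ a ∈ A, a ≠ 0 → κ / a ∈ A := by
    intro a ha ha0
    have h := hinv _ hwG' (pfin a) (Or.inr ⟨a, ha, rfl⟩)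
    rw [anti_smul hw00 hw11 ha0] at h
    rcases h with h | ⟨b, hb, h⟩
    · exact absurd h (pfin_ne_pinf _)
    · exact pfin_injective h ▸ hb
  have hκA : κ ∈ A := by simpa using hf 1 h1 one_ne_zero
  -- Hua's identity
  have hua : ∀ a ∈ A, ∀ b ∈ A, b ≠ 0 → a * a / b ∈ A := by
    intro a ha b hb hb0
    rcases eq_or_ne a 0 with rfl | ha0
    · simpa using h0
    rcases eq_or_ne (a + b) 0 with hab | hab
    · rw [show b = -a by linear_combination hab, div_neg, mul_div_assoc, div_self ha0, mul_one]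
      exact hneg a ha
    have h2 : κ / a + -(κ / (a + b)) ∈ A := hadd _ (hf a ha ha0) _ (hneg _ (hf _ (hadd a ha b hb) hab))
    have e : κ / a + -(κ / (a + b)) = κ * b / (a * (a + b)) := by field_simp; ring
    rw [e] at h2
    have h3 := hadd _ (hf _ h2 (div_ne_zero (mul_ne_zero hκ0 hb0) (mul_ne_zero ha0 hab))) _ (hneg a ha)
    have e' : κ / (κ * b / (a * (a + b))) + -a = a * a / b := by field_simp; ring
    rwa [e'] at h3
  have hinv' : ∀ a ∈ A, a⁻¹ ∈ A := fun a ha => by
    rcases eq_or_ne a 0 with rfl | ha0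
    · rwa [_root_.inv_zero]
    · simpa using hua 1 h1 a ha ha0
  -- the diagonal elements
  let C := {g : G // (g : PSL₂ k) • (pinf : ℙ k (Fin 2 → k)) = pinf ∧ (g : PSL₂ k) • pfin 0 = pfin (0 : k)}
  have hrep : ∀ g : C, ∃ a : SL(2, k), π a = (g.1 : PSL₂ k) ∧ a.1 1 0 = 0 ∧ a.1 0 1 = 0 := by
    rintro ⟨g, e1, e2⟩
    obtain ⟨a, ha⟩ := QuotientGroup.mk'_surjective (Subgroup.center SL(2, k)) (g : PSL₂ k)
    rw [← ha] at e1 e2
    have a10 := (smul_pinf a).mp e1
    have := (smul_pfin a10 0).mp e2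
    exact ⟨a, ha, a10, by simpa using this⟩
  choose rep hrep1 hrep10 hrep01 using hrep
  let ν : C → k := fun g => (rep g).1 0 0 / (rep g).1 1 1
  have hνA : ∀ g : C, ν g ∈ A ∧ ν g ≠ 0 ∧ ∀ b ∈ A, ν g * b ∈ A := by
    intro g
    have hd := det_eq_one (rep g)
    rw [hrep10, mul_zero, sub_zero] at hd
    have key : ∀ b ∈ A, ν g * b ∈ A := fun b hb => by
      have h := hinv _ (hrep1 g ▸ g.1.2) (pfin b) (Or.inr ⟨b, hb, rfl⟩)
      rw [diag_smul (hrep10 g) (hrep01 g)] at h
      rcases h with h | ⟨c, hc, h⟩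
      · exact absurd h (pfin_ne_pinf _)
      · exact pfin_injective h ▸ hc
    refine ⟨by simpa using key 1 h1, ?_, key⟩
    exact div_ne_zero (left_ne_zero_of_mul_eq_one hd) (right_ne_zero_of_mul_eq_one hd)
  have hν_inj : Function.Injective ν := by
    intro g g' e
    refine Subtype.ext (Subtype.ext ?_)
    rw [← hrep1 g, ← hrep1 g']
    have hd := det_eq_one (rep g)
    have hd' := det_eq_one (rep g')
    rw [hrep10, mul_zero, sub_zero] at hd hd'
    refine π_eq_of_proportional (σ := (rep g).1 1 1) (right_ne_zero_of_mul_eq_one hd') fun r c => ?_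
    fin_cases r <;> fin_cases c <;> simp [hrep10, hrep01, mul_comm]
    have e2 : (rep g).1 0 0 / (rep g).1 1 1 = (rep g').1 0 0 / (rep g').1 1 1 := e
    rw [div_eq_div_iff (right_ne_zero_of_mul_eq_one hd) (right_ne_zero_of_mul_eq_one hd')] at e2
    linear_combination e2
  -- closure under products
  have hmul : ∀ a ∈ A, ∀ b ∈ A, a * b ∈ A := by
    intro a ha b hb
    rcases hd with rfl | rfl
    · rcases eq_or_ne a 0 with rfl | ha0
      · simpa using h0
      have hsub : Set.range ν ⊆ A \ {0} := by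
        rintro _ ⟨g, rfl⟩; exact ⟨(hνA g).1, (hνA g).2.1⟩
      have heq : Set.range ν = A \ {0} := by
        refine Set.eq_of_subset_of_ncard_le hsub ?_ (hAfin.subset Set.sdiff_subset)
        rw [Set.ncard_range_of_injective hν_inj, Set.ncard_diff_singleton_of_mem h0, ← hc, mul_one]
      obtain ⟨g, rfl⟩ : a ∈ Set.range ν := heq ▸ ⟨ha, ha0⟩
      exact (hνA g).2.2 b hb
    · have h2 : (2 : k) ≠ 0 := by
        intro h2
        have hP' : 2 ∣ A.ncard := by
          -- translations by one have order two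
          haveI : Finite {b // b ∈ A} := hAfin.to_subtype
          let AG : AddSubgroup k := { carrier := A, zero_mem' := h0, add_mem' := fun {a b} ha hb => hadd a ha b hb, neg_mem' := fun {a} => hneg a }
          haveI : Finite AG := hAfin.to_subtype
          have hone : addOrderOf (⟨1, h1⟩ : AG) = 2 := addOrderOf_eq_prime
            (Subtype.ext (by show (2 : ℕ) • (1 : k) = 0; rw [two_nsmul]; linear_combination h2))
            (fun e => one_ne_zero (congrArg Subtype.val e))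
          have := addOrderOf_dvd_natCard (⟨1, h1⟩ : AG)
          rw [hone] at this
          rwa [show Nat.card AG = A.ncard from Nat.card_coe_set_eq A] at this
        omega
      have hsq : ∀ x ∈ A, x * x ∈ A := fun x hx => by simpa using hua x hx 1 h1 one_ne_zero
      have hs : (a + b) * (a + b) + -(a * a) + -(b * b) ∈ A :=
        hadd _ (hadd _ (hsq _ (hadd a ha b hb)) _ (hneg _ (hsq a ha))) _ (hneg _ (hsq b hb))
      have hp2 : p ≠ 2 := fun e => h2 (by subst e; exact CharTwo.two_eq_zero)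
      obtain ⟨m, hm⟩ := (Fact.out : p.Prime).odd_of_ne_two hp2
      have hmul' : ∀ n : ℕ, (n : k) * ((a + b) * (a + b) + -(a * a) + -(b * b)) ∈ A := by
        intro n
        induction n with
        | zero => simpa using h0
        | succ n ih => rw [Nat.cast_succ, add_mul, one_mul]; exact hadd _ ih _ hs
      have hpk : ((2 * m + 1 : ℕ) : k) = 0 := by rw [← hm]; exact CharP.cast_eq_zero k p
      push_cast at hpk
      convert hmul' (m + 1) using 1
      push_cast
      linear_combination (-(a * b)) * hpk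
  let L : Subfield k :=
    { carrier := A, mul_mem' := fun {a b} ha hb => hmul a ha b hb, one_mem' := h1,
      add_mem' := fun {a b} ha hb => hadd a ha b hb, zero_mem' := h0, neg_mem' := fun {a} => hneg a, inv_mem' := hinv' }
  haveI : Finite L := hAfin.to_subtype
  haveI : Fintype L := Fintype.ofFinite L
  have hLc : Fintype.card L = A.ncard := by rw [← Nat.card_eq_fintype_card]; exact Nat.card_coe_set_eq A
  haveI : CharP L p := (RingHom.charP_iff L.subtype Subtype.val_injective p).mpr inferInstance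
  obtain ⟨n, -, hn⟩ := FiniteField.card L p
  let K := GaloisField p n
  haveI : Fintype K := Fintype.ofFinite K
  have hKc : Fintype.card K = Fintype.card L := by
    rw [← Nat.card_eq_fintype_card, GaloisField.card p n n.pos.ne', hn]
  let e : K ≃+* L := FiniteField.ringEquivOfCardEq hKc
  let j : K →+* k := L.subtype.comp e.toRingHom
  have hjA : ∀ x, x ∈ A ↔ ∃ y, j y = x := fun x =>
    ⟨fun hx => ⟨e.symm ⟨x, hx⟩, by simp [j]⟩, by rintro ⟨y, rfl⟩; exact (e y).2⟩
  have hratA : ∀ b ∈ A, ∃ e : F, b = i e := by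
    intro b hb
    obtain ⟨a, ha, hae⟩ := hrat _ ((hA b).mp hb)
    obtain ⟨e', he'⟩ := hae 0 1
    rcases π_eq_iff.mp ha with h | h
    · exact ⟨e', by rw [← he', ← h]; simp [trans, sl01]⟩
    · refine ⟨-e', ?_⟩
      have h' := congrArg (fun t : SL(2, k) => t.1 0 1) h
      simp [trans, sl01, val_neg] at h'
      rw [map_neg, ← he', h']
  choose φ hφ using fun y : K => hratA (j y) ((hjA _).mpr ⟨y, rfl⟩)
  let φ' : K →+* F :=
    RingHom.mk'
      { toFun := φ
        map_one' := i.injective (by rw [← hφ, map_one, map_one])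
        map_mul' := fun x y => i.injective (by rw [map_mul, ← hφ, ← hφ, ← hφ, map_mul]) }
      fun x y => i.injective (by
        show i (φ (x + y)) = i (φ x + φ y)
        rw [map_add, ← hφ, ← hφ, ← hφ, map_add])
  obtain ⟨χ, hχinj, hχ⟩ := exists_proj (k := k) j
  have hratG : G ≤ χ.range → ∀ g ∈ G, ∃ (a : SL(2, k)) (ρ : k),
      ρ ≠ 0 ∧ π a = g ∧ ∀ r c, ∃ y : K, a.1 r c * ρ = i (φ' y) := by
    intro hle g hg
    obtain ⟨x, hx⟩ := hle hg
    obtain ⟨g₀, rfl⟩ := Matrix.ProjGenLinGroup.mk_surjective x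
    obtain ⟨ρ, hρ⟩ := IsAlgClosed.exists_eq_mul_self (j (g₀ : Matrix (Fin 2) (Fin 2) K).det)
    have hd : j (g₀ : Matrix (Fin 2) (Fin 2) K).det ≠ 0 := by
      rw [map_ne_zero]; exact (Matrix.GeneralLinearGroup.det g₀).ne_zero
    have hρ0 : ρ ≠ 0 := fun e => hd (by rw [hρ, e, mul_zero])
    let a : SL(2, k) := sl (j ((g₀ : Matrix (Fin 2) (Fin 2) K) 0 0) / ρ) (j ((g₀ : Matrix (Fin 2) (Fin 2) K) 0 1) / ρ)
      (j ((g₀ : Matrix (Fin 2) (Fin 2) K) 1 0) / ρ) (j ((g₀ : Matrix (Fin 2) (Fin 2) K) 1 1) / ρ) (by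
        field_simp
        rw [← map_mul, ← map_mul, ← map_sub, ← Matrix.det_fin_two, hρ, pow_two])
    have ha : ∀ r c, a.1 r c * ρ = j ((g₀ : Matrix (Fin 2) (Fin 2) K) r c) := fun r c => by
      fin_cases r <;> fin_cases c <;> simp [a, sl00, sl01, sl10, sl11, hρ0]
    refine ⟨a, ρ, hρ0, (hχ g₀ a ρ hρ0 ha).symm.trans hx, fun r c =>
      ⟨(g₀ : Matrix (Fin 2) (Fin 2) K) r c, ?_⟩⟩
    rw [ha, hφ]
    rfl
  have hle : G ≤ χ.range := by
    have htr : ∀ b ∈ A, π (trans b) ∈ χ.range := fun b hb => by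
      obtain ⟨y, rfl⟩ := (hjA b).mp hb
      refine ⟨Matrix.ProjGenLinGroup.mk (Matrix.GeneralLinearGroup.mkOfDetNeZero !![1, y; 0, 1]
        (by simp [Matrix.det_fin_two])), hχ _ _ 1 one_ne_zero fun r c => ?_⟩
      fin_cases r <;> fin_cases c <;> simp [trans, sl00, sl01, sl10, sl11]
    have hwR : π w ∈ χ.range := by
      obtain ⟨y, hy⟩ := (hjA κ).mp hκA
      have hy0 : y ≠ 0 := fun e => hκ0 (by rw [← hy, e, map_zero])
      refine ⟨Matrix.ProjGenLinGroup.mk (Matrix.GeneralLinearGroup.mkOfDetNeZero !![0, y; 1, 0]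
        (by simp [Matrix.det_fin_two, hy0])), hχ _ _ (w.1 1 0)⁻¹ ?_ fun r c => ?_⟩
      · refine inv_ne_zero fun e => hκ0 (by rw [hκ, e, div_zero])
      · have h10 : w.1 1 0 ≠ 0 := fun e => hκ0 (by rw [hκ, e, div_zero])
        fin_cases r <;> fin_cases c <;> simp [hw00, hw11, hy, hκ, h10]; field_simp
    have hfix : ∀ x ∈ G, x • (pinf : ℙ k (Fin 2 → k)) = pinf → x ∈ χ.range := by
      intro x hx hxi
      obtain ⟨b, hb, hxb⟩ : ∃ b ∈ A, x • pfin (0 : k) = pfin b := by
        rcases hinv x hx (pfin 0) (Or.inr ⟨0, h0, rfl⟩) with h | h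
        · exact absurd (smul_left_cancel x (h.trans hxi.symm)) (pfin_ne_pinf 0)
        · exact h
      have hy : (π (trans b))⁻¹ * x ∈ G := mul_mem (inv_mem ((hA b).mp hb)) hx
      have hb0 : π (trans b) • pfin (0 : k) = pfin b := by rw [trans_smul, zero_add]
      let c : C := ⟨⟨_, hy⟩, by
        show ((π (trans b))⁻¹ * x) • (pinf : ℙ k (Fin 2 → k)) = pinf
        rw [mul_smul, hxi, inv_smul_eq_iff, (smul_pinf _).mpr (by simp [trans, sl10])], by
        show ((π (trans b))⁻¹ * x) • pfin (0 : k) = pfin 0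
        rw [mul_smul, hxb, inv_smul_eq_iff, hb0]⟩
      obtain ⟨y, hy'⟩ := (hjA (ν c)).mp (hνA c).1
      have hy0 : y ≠ 0 := fun e => (hνA c).2.1 (by rw [← hy', e, map_zero])
      have hcR : π (rep c) ∈ χ.range := by
        have hd' := det_eq_one (rep c)
        rw [hrep10, mul_zero, sub_zero] at hd'
        have h11 := right_ne_zero_of_mul_eq_one hd'
        refine ⟨Matrix.ProjGenLinGroup.mk (Matrix.GeneralLinearGroup.mkOfDetNeZero !![y, 0; 0, 1]
          (by simp [Matrix.det_fin_two, hy0])), hχ _ _ ((rep c).1 1 1)⁻¹ (inv_ne_zero h11) fun r s => ?_⟩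
        fin_cases r <;> fin_cases s <;> simp [hrep10, hrep01, hy', ν, h11]; field_simp
      have e : x = π (trans b) * π (rep c) := by
        rw [hrep1]; exact (mul_inv_cancel_left _ x).symm
      rw [e]; exact mul_mem (htr b hb) hcR
    intro x hx
    rcases hinv x hx pinf (Or.inl rfl) with h | ⟨b, hb, h⟩
    · exact hfix x hx h
    · have hy : (π w)⁻¹ * ((π (trans b))⁻¹ * x) ∈ G :=
        mul_mem (inv_mem hwG') (mul_mem (inv_mem ((hA b).mp hb)) hx)
      have hb0 : π (trans b) • pfin (0 : k) = pfin b := by rw [trans_smul, zero_add]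
      have := hfix _ hy (by rw [mul_smul, mul_smul, h, inv_smul_eq_iff, inv_smul_eq_iff, hwinf, hb0])
      rw [show x = π (trans b) * (π w * ((π w)⁻¹ * ((π (trans b))⁻¹ * x))) by group]
      exact mul_mem (htr b hb) (mul_mem hwR this)
  refine ⟨K, inferInstance, inferInstance, ⟨φ', hratG hle⟩, hKc.trans hLc, ?_⟩
  have hcardSL : Nat.card SL(2, K) = A.ncard * (A.ncard ^ 2 - 1) := by
    rw [SLTwoTori.card_SL2, hKc, hLc]
  rcases hd with rfl | rfl
  · refine Or.inl ⟨rfl, ?_⟩
    have hcard : Nat.card χ.range ≤ Nat.card G := by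
      rw [← Nat.card_congr (MonoidHom.ofInjective hχinj).toEquiv, Cfsg.Lib.Classical.card_PGL, hcardSL]
      rw [mul_one] at hG
      rw [hG, ← one_pow 2, Nat.sq_sub_sq, one_pow]
      exact le_of_eq (by ring)
    haveI : Finite (Matrix.ProjGenLinGroup (Fin 2) K) := Finite.of_surjective _ Matrix.ProjGenLinGroup.mk_surjective
    haveI : Finite χ.range := Finite.of_surjective _ χ.rangeRestrict_surjective
    exact ⟨(MulEquiv.subgroupCongr (Subgroup.eq_of_le_of_card_ge hle hcard)).trans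
      (MonoidHom.ofInjective hχinj).symm⟩
  · refine Or.inr ⟨rfl, ?_⟩
    have hle' : (pslMap j).range ≤ G := by
      have hgen : ((G.comap (π.comp (slMap j))) : Subgroup SL(2, K)) = ⊤ := by
        refine Cfsg.Lib.Classical.eq_top_of_transvection_mem _ fun r c hrc y => ?_
        rw [Subgroup.mem_comap, MonoidHom.comp_apply]
        fin_cases r <;> fin_cases c
        · exact absurd rfl hrc
        · convert (hA (j y)).mp ((hjA _).mpr ⟨y, rfl⟩) using 2
          refine ext_four ?_ ?_ ?_ ?_ <;> rw [slMap_apply] <;>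
            simp [trans, sl00, sl01, sl10, sl11, Matrix.SpecialLinearGroup.transvection,
              Matrix.transvection, Matrix.single]
        · obtain ⟨z, hz⟩ := (hjA κ).mp hκA
          have hb : j y * κ ∈ A := (hjA _).mpr ⟨y * z, by rw [map_mul, hz]⟩
          have hm := mul_mem (mul_mem hwG' ((hA _).mp hb)) (inv_mem hwG')
          rw [← map_inv, ← map_mul, ← map_mul] at hm
          convert hm using 2
          have hd := det_eq_one w
          rw [hw00, zero_mul, zero_sub] at hd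
          have h10 : w.1 1 0 ≠ 0 := fun e => by rw [e] at hd; simp at hd
          refine ext_four ?_ ?_ ?_ ?_ <;> rw [slMap_apply] <;>
            simp [trans, sl00, sl01, sl10, sl11, val_mul, Matrix.SpecialLinearGroup.transvection,
              Matrix.transvection, Matrix.single, Matrix.SpecialLinearGroup.coe_inv, Matrix.adjugate_fin_two,
              hw00, hw11, hκ] <;> (try field_simp) <;> grind
        · exact absurd rfl hrc
      rintro _ ⟨g, rfl⟩
      obtain ⟨s, rfl⟩ := QuotientGroup.mk'_surjective (Subgroup.center SL(2, K)) g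
      have : s ∈ G.comap (π.comp (slMap j)) := hgen ▸ Subgroup.mem_top s
      exact this
    have hcard : Nat.card G ≤ Nat.card (pslMap j).range := by
      rw [← Nat.card_congr (MonoidHom.ofInjective (pslMap_injective j)).toEquiv]
      have h := SmallPSL.card_psl (F := K) (q := A.ncard) (hKc.trans hLc)
      have hgcd : Nat.gcd 2 (A.ncard - 1) = 2 := Nat.gcd_eq_left ⟨_, (hc.symm.trans (mul_comm _ _))⟩
      rw [hgcd] at h
      have : A.ncard ^ 2 - 1 = (A.ncard + 1) * (A.ncard - 1) := by rw [← Nat.sq_sub_sq, one_pow]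
      rw [this, ← mul_assoc, mul_comm A.ncard] at h
      omega
    haveI : Finite (pslMap j).range := Finite.of_surjective _ (pslMap j).rangeRestrict_surjective
    exact ⟨((MonoidHom.ofInjective (pslMap_injective j)).trans
      (MulEquiv.subgroupCongr (Subgroup.eq_of_le_of_card_ge hle' hcard))).symm⟩

end Cfsg.Lib.Classical.PSLLie
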