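import Mathlib
import Cfsg.Agent.Classical.Misc.PSLEmbed

/-! The elements of `PSL₂(F)` rational over a subfield up to scalars. -/

set_option autoImplicit false
set_option linter.unusedSimpArgs false
set_option linter.unusedSectionVars false
set_option linter.style.haveILetI false
set_option linter.flexible false

namespace Cfsg.Lib.Classical.PSLRat

open Matrix MulAction
open scoped MatrixGroups LinearAlgebra.Projectivization
open Cfsg.Lib.Classical.PSLFour Cfsg.Lib.Classical.PSLEmbed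

universe u v w

local notation "PSL₂" k => Matrix.ProjectiveSpecialLinearGroup (Fin 2) k

variable {F : Type u} [Field F] {K : Type v} [Field K]

/-- The elements which are multiples of matrices over the subfield. -/
def rat (φ : K →+* F) : Subgroup (PSL₂ F) where
  carrier := {g | ∃ (s : SL(2, F)) (ρ : F), ρ ≠ 0 ∧ π s = g ∧ ∀ r c, ∃ y : K, s.1 r c * ρ = φ y}
  one_mem' := ⟨1, 1, one_ne_zero, map_one _, fun r c => ⟨(1 : Matrix (Fin 2) (Fin 2) K) r c, by
    fin_cases r <;> fin_cases c <;> simp⟩⟩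
  mul_mem' := by
    rintro g h ⟨s, ρ, hρ, hs, hse⟩ ⟨t, σ, hσ, ht, hte⟩
    refine ⟨s * t, ρ * σ, mul_ne_zero hρ hσ, by rw [map_mul, hs, ht], fun r c => ?_⟩
    choose S hS using hse
    choose T hT using hte
    refine ⟨S r 0 * T 0 c + S r 1 * T 1 c, ?_⟩
    rw [map_add, map_mul, map_mul, ← hS, ← hS, ← hT, ← hT, val_mul]
    ring
  inv_mem' := by
    rintro g ⟨s, ρ, hρ, hs, hse⟩
    refine ⟨s⁻¹, ρ, hρ, by rw [map_inv, hs], fun r c => ?_⟩
    choose S hS using hse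
    rw [Matrix.SpecialLinearGroup.coe_inv, Matrix.adjugate_fin_two]
    fin_cases r <;> fin_cases c
    · exact ⟨S 1 1, by simp [← hS]⟩
    · exact ⟨-S 0 1, by simp [← hS]⟩
    · exact ⟨-S 1 0, by simp [← hS]⟩
    · exact ⟨S 0 0, by simp [← hS]⟩

theorem mem_rat {φ : K →+* F} {g : PSL₂ F} :
    g ∈ rat φ ↔ ∃ (s : SL(2, F)) (ρ : F), ρ ≠ 0 ∧ π s = g ∧ ∀ r c, ∃ y : K, s.1 r c * ρ = φ y := Iff.rfl

theorem rat_mono {L : Type w} [Field L] (φ : K →+* F) (ψ : L →+* F) (χ : K →+* L) (h : ∀ y, ψ (χ y) = φ y) :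
    rat φ ≤ rat ψ := by
  rintro g ⟨s, ρ, hρ, hs, hse⟩
  refine ⟨s, ρ, hρ, hs, fun r c => ?_⟩
  obtain ⟨y, hy⟩ := hse r c
  exact ⟨χ y, by rw [hy, h]⟩

variable {k : Type w} [Field k]

/-- Reading a rational element of the bigger group in `PSL₂(F)`. -/
theorem rat_of_image (i : F →+* k) (φ : K →+* F) (g : PSL₂ F) (a : SL(2, k)) (ρ : k) (hρ : ρ ≠ 0)
    (hg : π a = pslMap i g) (h : ∀ r c, ∃ y : K, a.1 r c * ρ = i (φ y)) : g ∈ rat φ := by
  obtain ⟨s, rfl⟩ := QuotientGroup.mk'_surjective (Subgroup.center SL(2, F)) g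
  change π a = π (slMap i s) at hg
  have hsgn : ∃ ε : F, ε * ε = 1 ∧ ∀ r c, i (s.1 r c * ε) = a.1 r c := by
    rcases π_eq_iff.mp hg with e | e
    · exact ⟨1, one_mul 1, fun r c => by rw [mul_one, ← slMap_apply, e]⟩
    · exact ⟨-1, by ring, fun r c => by rw [mul_neg_one, map_neg, ← slMap_apply, e, val_neg, neg_neg]⟩
  obtain ⟨ε, hε, ha⟩ := hsgn
  obtain ⟨r₀, c₀, h0⟩ : ∃ r c, s.1 r c ≠ 0 := by
    by_contra hall
    push Not at hall
    have := det_eq_one s
    simp [hall] at this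
  obtain ⟨y₀, hy₀⟩ := h r₀ c₀
  have hε0 : ε ≠ 0 := left_ne_zero_of_mul_eq_one hε
  set ρ₀ : F := φ y₀ / (s.1 r₀ c₀ * ε) with hρ₀
  have hρi : i ρ₀ = ρ := by
    rw [hρ₀, map_div₀, ← hy₀, ha]
    have : a.1 r₀ c₀ ≠ 0 := by rw [← ha, map_ne_zero]; exact mul_ne_zero h0 hε0
    field_simp
  refine ⟨s, ε * ρ₀, mul_ne_zero hε0 (fun e => hρ (by rw [← hρi, e, map_zero])), rfl, fun r c => ?_⟩
  obtain ⟨y, hy⟩ := h r c
  refine ⟨y, i.injective ?_⟩
  rw [← mul_assoc, map_mul, ha, hρi, hy]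

/-- Conjugation by a rational frame, as an automorphism of `PSL₂(F)`. -/
theorem exists_aut [Finite F] (i : F →+* k) (h : SL(2, k))
    (hh : ∀ s : SL(2, F), ∀ r c, ∃ e : F, (h⁻¹ * slMap i s * h).1 r c = i e) :
    ∃ τ : MulAut (PSL₂ F), ∀ g, pslMap i (τ g) = (π h)⁻¹ * pslMap i g * π h := by
  have hmem : ∀ g : PSL₂ F, (π h)⁻¹ * pslMap i g * π h ∈ (pslMap i).range := by
    intro g
    obtain ⟨s, rfl⟩ := QuotientGroup.mk'_surjective (Subgroup.center SL(2, F)) g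
    choose e he using hh s
    have hd : e 0 0 * e 1 1 - e 0 1 * e 1 0 = 1 := i.injective (by
      rw [map_sub, map_mul, map_mul, ← he, ← he, ← he, ← he, map_one]
      exact det_eq_one _)
    refine ⟨π (sl (e 0 0) (e 0 1) (e 1 0) (e 1 1) hd), ?_⟩
    show π (slMap i _) = (π h)⁻¹ * π (slMap i s) * π h
    rw [← map_inv, ← map_mul, ← map_mul]
    congr 1
    refine ext_four ?_ ?_ ?_ ?_ <;> simp [slMap_apply, sl00, sl01, sl10, sl11, he]
  let e : (PSL₂ F) ≃* (pslMap i).range := MonoidHom.ofInjective (pslMap_injective i)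
  let f : (PSL₂ F) →* (PSL₂ F) := e.symm.toMonoidHom.comp
    (((MulAut.conj (π h)⁻¹).toMonoidHom.comp (pslMap i)).codRestrict _ fun g => by
      show (π h)⁻¹ * pslMap i g * (π h)⁻¹⁻¹ ∈ _
      rw [inv_inv]; exact hmem g)
  have hf : ∀ g, pslMap i (f g) = (π h)⁻¹ * pslMap i g * π h := fun g => by
    refine (congrArg Subtype.val (e.apply_symm_apply _)).trans ?_
    show (π h)⁻¹ * pslMap i g * (π h)⁻¹⁻¹ = _
    rw [inv_inv]
  have hinj : Function.Injective f := fun a b hab => by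
    have := congrArg (pslMap i) hab
    rw [hf, hf, mul_left_inj, mul_right_inj] at this
    exact pslMap_injective i this
  haveI : Finite (PSL₂ F) := Finite.of_surjective _ (QuotientGroup.mk'_surjective (Subgroup.center SL(2, F)))
  exact ⟨MulEquiv.ofBijective f (Finite.injective_iff_bijective.mp hinj), hf⟩


/-- Conjugation by a rational frame is conjugation by a matrix over the small field. -/
theorem inner_aut (i : F →+* k) (h : SL(2, k))
    (hh : ∀ s : SL(2, F), ∀ r c, ∃ e : F, (h⁻¹ * slMap i s * h).1 r c = i e)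
    (τ : MulAut (PSL₂ F)) (hτ : ∀ g, pslMap i (τ g) = (π h)⁻¹ * pslMap i g * π h) :
    ∃ c : GL (Fin 2) F, ∀ g, Matrix.ProjectiveSpecialLinearGroup.toPGL (τ g) =
      Matrix.ProjGenLinGroup.mk c * Matrix.ProjectiveSpecialLinearGroup.toPGL g * (Matrix.ProjGenLinGroup.mk c)⁻¹ := by
  have hmul : h.1 * (h⁻¹).1 = 1 := by
    rw [← Matrix.SpecialLinearGroup.coe_mul, mul_inv_cancel, Matrix.SpecialLinearGroup.coe_one]
  have hmul' : (h⁻¹).1 * h.1 = 1 := by
    rw [← Matrix.SpecialLinearGroup.coe_mul, inv_mul_cancel, Matrix.SpecialLinearGroup.coe_one]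
  -- the rational span
  set R : Subfield k := i.fieldRange
  have hR : ∀ e, i e ∈ R := fun e => ⟨e, rfl⟩
  have hconj : ∀ s : SL(2, F), ∀ r c, ((h⁻¹).1 * (slMap i s).1 * h.1) r c ∈ R := fun s r c => by
    obtain ⟨e, he⟩ := hh s r c
    rw [Matrix.SpecialLinearGroup.coe_mul, Matrix.SpecialLinearGroup.coe_mul] at he
    exact he ▸ hR e
  have hid : ∀ r c, (1 : Matrix (Fin 2) (Fin 2) k) r c ∈ R := fun r c => by
    fin_cases r <;> fin_cases c <;> simp [one_mem, zero_mem]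
  have h01 : ∀ r c, ((h⁻¹).1 * (Matrix.single (0 : Fin 2) (1 : Fin 2) (1 : k) : Matrix (Fin 2) (Fin 2) k) * h.1) r c ∈ R := fun r c => by
    have e : (Matrix.single (0 : Fin 2) (1 : Fin 2) (1 : k) : Matrix (Fin 2) (Fin 2) k) = (slMap i (sl 1 1 0 1 (by ring))).1 - 1 := by
      ext a b; fin_cases a <;> fin_cases b <;> simp [Matrix.single, slMap_apply, sl00, sl01, sl10, sl11]
    rw [e, Matrix.mul_sub, Matrix.sub_mul, Matrix.mul_one, hmul', Matrix.sub_apply]
    exact sub_mem (hconj _ r c) (hid r c)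
  have h10 : ∀ r c, ((h⁻¹).1 * (Matrix.single (1 : Fin 2) (0 : Fin 2) (1 : k) : Matrix (Fin 2) (Fin 2) k) * h.1) r c ∈ R := fun r c => by
    have e : (Matrix.single (1 : Fin 2) (0 : Fin 2) (1 : k) : Matrix (Fin 2) (Fin 2) k) = (slMap i (sl 1 0 1 1 (by ring))).1 - 1 := by
      ext a b; fin_cases a <;> fin_cases b <;> simp [Matrix.single, slMap_apply, sl00, sl01, sl10, sl11]
    rw [e, Matrix.mul_sub, Matrix.sub_mul, Matrix.mul_one, hmul', Matrix.sub_apply]
    exact sub_mem (hconj _ r c) (hid r c)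
  have hprodm : ∀ A B : Matrix (Fin 2) (Fin 2) k, (∀ r c, A r c ∈ R) → (∀ r c, B r c ∈ R) → ∀ r c, (A * B) r c ∈ R :=
    fun A B hA hB r c => by
      rw [Matrix.mul_apply, Fin.sum_univ_two]
      exact add_mem (mul_mem (hA r 0) (hB 0 c)) (mul_mem (hA r 1) (hB 1 c))
  have hsplit : ∀ A B : Matrix (Fin 2) (Fin 2) k,
      (h⁻¹).1 * (A * B) * h.1 = ((h⁻¹).1 * A * h.1) * ((h⁻¹).1 * B * h.1) := fun A B => by
    calc _ = (h⁻¹).1 * A * (h.1 * (h⁻¹).1) * B * h.1 := by rw [hmul, Matrix.mul_one]; simp only [Matrix.mul_assoc]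
      _ = _ := by simp only [Matrix.mul_assoc]
  have hE : ∀ p q r c, ((h⁻¹).1 * (Matrix.single p q (1 : k) : Matrix (Fin 2) (Fin 2) k) * h.1) r c ∈ R := by
    intro p q
    fin_cases p <;> fin_cases q <;> intro r c <;> simp only [Fin.zero_eta, Fin.mk_one]
    · have e : (Matrix.single (0 : Fin 2) (0 : Fin 2) (1 : k) : Matrix (Fin 2) (Fin 2) k) = (Matrix.single (0 : Fin 2) (1 : Fin 2) (1 : k) : Matrix (Fin 2) (Fin 2) k) * (Matrix.single (1 : Fin 2) (0 : Fin 2) (1 : k) : Matrix (Fin 2) (Fin 2) k) := by simp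
      rw [e, hsplit]
      exact hprodm _ _ h01 h10 r c
    · exact h01 r c
    · exact h10 r c
    · have e : (Matrix.single (1 : Fin 2) (1 : Fin 2) (1 : k) : Matrix (Fin 2) (Fin 2) k) = (Matrix.single (1 : Fin 2) (0 : Fin 2) (1 : k) : Matrix (Fin 2) (Fin 2) k) * (Matrix.single (0 : Fin 2) (1 : Fin 2) (1 : k) : Matrix (Fin 2) (Fin 2) k) := by simp
      rw [e, hsplit]
      exact hprodm _ _ h10 h01 r c
  have hprod : ∀ r p q c, (h⁻¹).1 r p * h.1 q c ∈ R := fun r p q c => by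
    have := hE p q r c
    rwa [Matrix.mul_apply, Fin.sum_univ_two, Matrix.mul_apply, Matrix.mul_apply, Fin.sum_univ_two, Fin.sum_univ_two,
      show ((h⁻¹).1 r 0 * Matrix.single p q (1 : k) 0 0 + (h⁻¹).1 r 1 * Matrix.single p q (1 : k) 1 0) * h.1 0 c +
        ((h⁻¹).1 r 0 * Matrix.single p q (1 : k) 0 1 + (h⁻¹).1 r 1 * Matrix.single p q (1 : k) 1 1) * h.1 1 c =
        (h⁻¹).1 r p * h.1 q c by fin_cases p <;> fin_cases q <;> simp [Matrix.single]] at this
  obtain ⟨r₀, p₀, h0⟩ : ∃ r p, (h⁻¹).1 r p ≠ 0 := by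
    by_contra hall
    push Not at hall
    have := det_eq_one (h⁻¹)
    simp [hall] at this
  have hex : ∀ q c, ∃ e : F, i e = (h⁻¹).1 r₀ p₀ * h.1 q c := fun q c => hprod r₀ p₀ q c
  choose C hC using hex
  let Cm : Matrix (Fin 2) (Fin 2) F := !![C 0 0, C 0 1; C 1 0, C 1 1]
  have hCm : Cm.map i = (h⁻¹).1 r₀ p₀ • h.1 := by
    ext a b; fin_cases a <;> fin_cases b <;> simp [Cm, hC]
  have hdet : Cm.det ≠ 0 := fun e => by
    have h1 : (Cm.map i).det = 0 := by
      rw [← RingHom.mapMatrix_apply, ← RingHom.map_det, e, map_zero]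
    rw [hCm, Matrix.det_smul, h.2, mul_one] at h1
    exact h0 (pow_eq_zero_iff (by simp : Fintype.card (Fin 2) ≠ 0) |>.mp h1)
  let cu : GL (Fin 2) F := Matrix.GeneralLinearGroup.mkOfDetNeZero Cm hdet
  refine ⟨cu⁻¹, fun g => ?_⟩
  obtain ⟨s, rfl⟩ := QuotientGroup.mk'_surjective (Subgroup.center SL(2, F)) g
  obtain ⟨t, ht⟩ := QuotientGroup.mk'_surjective (Subgroup.center SL(2, F)) (τ (π s))
  have he : π (slMap i t) = π (h⁻¹ * slMap i s * h) := by
    rw [map_mul, map_mul, map_inv]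
    have := hτ (π s)
    rw [← ht] at this
    exact this
  obtain ⟨ε, hε, hεe⟩ : ∃ ε : F, ε ≠ 0 ∧ Cm * t.1 = ε • (s.1 * Cm) := by
    have key : ∀ ε : F, (slMap i t).1 = i ε • ((h⁻¹).1 * (slMap i s).1 * h.1) → Cm * t.1 = ε • (s.1 * Cm) := by
      intro ε e
      have e1 : (Cm * t.1).map i = (ε • (s.1 * Cm)).map i := by
        rw [Matrix.map_mul, Matrix.map_smul' _ _ _ (map_mul i), Matrix.map_mul, hCm,
          show t.1.map i = (slMap i t).1 from rfl, show s.1.map i = (slMap i s).1 from rfl, e,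
          Matrix.mul_smul, Matrix.smul_mul, Matrix.mul_smul, smul_smul, smul_smul, ← Matrix.mul_assoc,
          ← Matrix.mul_assoc, hmul, Matrix.one_mul]
      ext a b
      exact i.injective (congrFun (congrFun e1 a) b)
    rcases π_eq_iff.mp he with e | e
    · refine ⟨1, one_ne_zero, key 1 ?_⟩
      rw [map_one, one_smul, ← Matrix.SpecialLinearGroup.coe_mul, ← Matrix.SpecialLinearGroup.coe_mul, e]
    · refine ⟨-1, neg_ne_zero.mpr one_ne_zero, key (-1) ?_⟩
      ext a b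
      rw [map_neg, map_one, Matrix.smul_apply, ← Matrix.SpecialLinearGroup.coe_mul, ← Matrix.SpecialLinearGroup.coe_mul, e,
        val_neg]
      simp
  show Matrix.ProjectiveSpecialLinearGroup.toPGL (τ (π s)) = _
  rw [← ht, map_inv, inv_inv]
  show Matrix.ProjGenLinGroup.mk (Matrix.SpecialLinearGroup.toGL t) =
    (Matrix.ProjGenLinGroup.mk cu)⁻¹ * Matrix.ProjGenLinGroup.mk (Matrix.SpecialLinearGroup.toGL s) * Matrix.ProjGenLinGroup.mk cu
  rw [mul_assoc, eq_inv_mul_iff_mul_eq, ← map_mul, ← map_mul, Matrix.ProjGenLinGroup.mk_eq_mk_iff]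
  refine (⟨Units.mk0 ε⁻¹ (inv_ne_zero hε), ?_⟩)
  refine Units.ext ?_
  simp only [Units.val_mul]
  show _ = _
  have : ((cu : GL (Fin 2) F) : Matrix (Fin 2) (Fin 2) F) = Cm := rfl
  simp [this, hεe, smul_smul, hε]
  rw [← Matrix.smul_one_eq_diagonal, Matrix.mul_smul, Matrix.mul_one, smul_smul, mul_inv_cancel₀ hε, one_smul]

end Cfsg.Lib.Classical.PSLRat
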