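import Mathlib
import Cfsg.Agent.Classical.Misc.PSLLie
import Cfsg.Agent.Classical.Misc.PSLRat

/-! Dickson's classification of the subgroups of `PSL₂(q)`. -/

set_option autoImplicit false
set_option linter.unusedSimpArgs false
set_option linter.unusedSectionVars false
set_option linter.style.haveILetI false
set_option linter.flexible false

namespace Cfsg.Lib.Classical.PSLDickson

open Matrix MulAction
open scoped MatrixGroups LinearAlgebra.Projectivization
open Cfsg.Lib.Classical.PSLFour Cfsg.Lib.Classical.PSLGeom Cfsg.Lib.Classical.PSLEmbed Cfsg.Lib.Classical.PSLLie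
open Cfsg.Lib.Classical.SharpGeom

universe u

local notation "PSL₂" k => Matrix.ProjectiveSpecialLinearGroup (Fin 2) k

variable {F : Type u} [Field F] [Fintype F] (q p : ℕ) [Fact p.Prime] [CharP F p]

/-- Dickson's list. -/
inductive Kind (H : Subgroup (PSL₂ F)) : Prop
  /-- Cyclic of order prime to `p`. -/
  | cyclic (h : IsCyclic H)
      (hk : Nat.card H ∣ (q + 1) / Nat.gcd 2 (q - 1) ∨ Nat.card H ∣ (q - 1) / Nat.gcd 2 (q - 1))
  /-- Dihedral. -/
  | dihedral (n : ℕ) (hn : n ≠ 0) (h : Nonempty (H ≃* DihedralGroup n))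
      (hk : n ∣ (q + 1) / Nat.gcd 2 (q - 1) ∨ n ∣ (q - 1) / Nat.gcd 2 (q - 1))
  /-- Normalising a Sylow `p`-subgroup. -/
  | borel (P : Sylow p (PSL₂ F)) (h : H ≤ Subgroup.normalizer ((P : Subgroup (PSL₂ F)) : Set (PSL₂ F)))
  /-- Tetrahedral. -/
  | altFour (h : Nonempty (H ≃* alternatingGroup (Fin 4)))
  /-- Octahedral. -/
  | symFour (h : Nonempty (H ≃* Equiv.Perm (Fin 4)))
  /-- Icosahedral. -/
  | altFive (h : Nonempty (H ≃* alternatingGroup (Fin 5)))
  /-- Subfield, special. -/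
  | psl (K : Type) [Field K] [Fintype K] (m : ℕ) (h3 : 3 ≤ Fintype.card K) (hodd : Odd (Fintype.card K))
      (hm : Fintype.card K ^ m = q) (h : Nonempty (H ≃* Matrix.ProjectiveSpecialLinearGroup (Fin 2) K))
  /-- Subfield, projective general. -/
  | pgl (K : Type) [Field K] [Fintype K] (m : ℕ) (h3 : 3 ≤ Fintype.card K)
      (hm : Fintype.card K ^ m = q) (h : Nonempty (H ≃* Matrix.ProjGenLinGroup (Fin 2) K))

variable {q}

/-- A subgroup conjugate to a group over a subfield. -/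
def RatSub (q : ℕ) (H : Subgroup (PSL₂ F)) : Prop :=
  ∃ (K : Type) (_ : Field K) (_ : Fintype K) (φ : K →+* F) (m : ℕ), 3 ≤ Fintype.card K ∧
    Fintype.card K ^ m = q ∧ (∃ τ : MulAut (PSL₂ F), (∀ g ∈ H, τ g ∈ PSLRat.rat φ) ∧
      ∃ c : GL (Fin 2) F, ∀ g, Matrix.ProjectiveSpecialLinearGroup.toPGL (τ g) =
        Matrix.ProjGenLinGroup.mk c * Matrix.ProjectiveSpecialLinearGroup.toPGL g * (Matrix.ProjGenLinGroup.mk c)⁻¹) ∧
    ((Odd (Fintype.card K) ∧ Nonempty (H ≃* PSL₂ K)) ∨ Nonempty (H ≃* Matrix.ProjGenLinGroup (Fin 2) K))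

theorem lie_case (hF : Fintype.card F = q) {k : Type u} [Field k] [IsAlgClosed k] [CharP k p] (i : F →+* k)
    (H : Subgroup (PSL₂ F)) [Finite (H.map (pslMap i))] (x y : ℙ k (Fin 2 → k)) (hxy : y ≠ x)
    (U : Subgroup (H.map (pslMap i))) (hU : ∀ g, g ∈ U ↔ g • x = x ∧ g ^ p = 1)
    (hP : 3 ≤ Nat.card U) (d : ℕ) (hd : d = 1 ∨ d = 2)
    (hc : Nat.card ↥(stabilizer (H.map (pslMap i)) x ⊓ stabilizer (H.map (pslMap i)) y) * d = Nat.card U - 1)
    (horb : orbit (H.map (pslMap i)) x = insert x ((fun u : H.map (pslMap i) => u • y) '' (U : Set (H.map (pslMap i)))))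
    (hGc : Nat.card (H.map (pslMap i)) * d = (Nat.card U + 1) * Nat.card U * (Nat.card U - 1)) : RatSub q H := by
  classical
  let e : H ≃* (H.map (pslMap i)) := H.equivMapOfInjective (pslMap i) (pslMap_injective i)
  have M := geom p (H.map (pslMap i))
  obtain ⟨v₀, hv₀, hv₁⟩ : ∃ v ∈ U, v ≠ 1 := by
    by_contra hall
    push Not at hall
    rw [(Subgroup.eq_bot_iff_forall U).mpr hall, Subgroup.card_bot] at hP
    omega
  have hvy : ∀ v ∈ U, v • y = y → v = 1 := fun v hv h =>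
    M.unip_one v ((hU v).mp hv).2 x y ((hU v).mp hv).1 h (Ne.symm hxy)
  have hxr : Rational i x := by
    obtain ⟨s0, -, hs0⟩ := v₀.2
    obtain ⟨s, rfl⟩ := QuotientGroup.mk'_surjective (Subgroup.center SL(2, F)) s0
    change π (slMap i s) = _ at hs0
    refine rational_of_unip p i (s := s) ?_ ?_ ?_
    · rw [hs0, ← Subgroup.coe_pow, ((hU v₀).mp hv₀).2, Subgroup.coe_one]
    · rw [hs0]; exact fun h => hv₁ (Subtype.ext h)
    · rw [hs0]; exact ((hU v₀).mp hv₀).1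
  have horbr : ∀ z ∈ orbit (H.map (pslMap i)) x, Rational i z := by
    rintro _ ⟨g, rfl⟩
    obtain ⟨s0, -, hs0⟩ := g.2
    obtain ⟨s, rfl⟩ := QuotientGroup.mk'_surjective (Subgroup.center SL(2, F)) s0
    change π (slMap i s) = _ at hs0
    show Rational i ((g : PSL₂ k) • x)
    rw [← hs0]
    exact smul_rational i s hxr
  have hyO : y ∈ orbit (H.map (pslMap i)) x := by
    rw [horb]; exact Or.inr ⟨1, one_mem U, one_smul (H.map (pslMap i)) y⟩
  have hv₀O : v₀ • y ∈ orbit (H.map (pslMap i)) x := by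
    rw [horb]; exact Or.inr ⟨v₀, hv₀, rfl⟩
  obtain ⟨h, hhx, hhy, hhz, hhrat⟩ := exists_frame i hxr (horbr y hyO) (horbr _ hv₀O) (Ne.symm hxy)
    (fun e' => hxy (by rw [← inv_smul_smul v₀ y, ← e', inv_smul_eq_iff, ((hU v₀).mp hv₀).1]))
    (fun e' => hv₁ (hvy v₀ hv₀ e'.symm))
  set G' := (H.map (pslMap i)).map (MulAut.conj (π h)⁻¹).toMonoidHom with hG'
  let e' : (H.map (pslMap i)) ≃* G' := (H.map (pslMap i)).equivMapOfInjective _ (MulAut.conj (π h)⁻¹).injective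
  haveI : Finite G' := Finite.of_equiv (H.map (pslMap i)) e'.toEquiv
  have he' : ∀ g : (H.map (pslMap i)), ((e' g : G') : PSL₂ k) = (π h)⁻¹ * (g : PSL₂ k) * π h := fun g => by
    show (π h)⁻¹ * (g : PSL₂ k) * (π h)⁻¹⁻¹ = _
    rw [inv_inv]
  have hact : ∀ (g : (H.map (pslMap i))) (z : ℙ k (Fin 2 → k)), π h • ((e' g : G') : PSL₂ k) • z = g • (π h • z) := fun g z => by
    rw [he', mul_smul, mul_smul, smul_inv_smul]; rfl
  let A : Set k := {b | π (PSLLie.trans b) ∈ G'}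
  have hUb : ∀ v ∈ U, ∃ b, π (PSLLie.trans b) = ((e' v : G') : PSL₂ k) := by
    intro v hv
    obtain ⟨hvx, hvp⟩ := (hU v).mp hv
    obtain ⟨a, a0, ha⟩ := normal_form (g := (v : PSL₂ k)) hvx hhx
    have h11 := (pow_p_iff p a0).mp ((pow_conj_iff ha p).mp (by rw [← Subgroup.coe_pow, hvp, Subgroup.coe_one]))
    have hd' := det_eq_one a
    rw [a0, h11, mul_zero, sub_zero] at hd'
    refine ⟨a.1 0 1 / a.1 0 0, ?_⟩
    rw [he', ← ha]
    have ha00 : a.1 0 0 ≠ 0 := left_ne_zero_of_mul_eq_one hd'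
    refine π_eq_of_proportional (σ := 1) ha00 fun r c => ?_
    fin_cases r <;> fin_cases c <;> simp [PSLLie.trans, sl00, sl01, sl10, sl11, a0, h11, ha00]
    all_goals exact div_mul_cancel₀ _ ha00
  choose! β hβ using hUb
  have hβA : ∀ v ∈ U, β v ∈ A := fun v hv => by
    show π (PSLLie.trans (β v)) ∈ G'
    rw [hβ v hv]; exact (e' v).2
  have hβy : ∀ v ∈ U, v • y = π h • pfin (β v) := fun v hv => by
    rw [← hhy, ← hact, ← hβ v hv, trans_smul, zero_add]
  have hAU : ∀ b ∈ A, ∃ v ∈ U, β v = b := by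
    intro b hb
    have hbG : π (PSLLie.trans b) ∈ G' := hb
    set v := e'.symm ⟨_, hbG⟩
    have hv' : ((e' v : G') : PSL₂ k) = π (PSLLie.trans b) := by rw [MulEquiv.apply_symm_apply]
    have hvU : v ∈ U := by
      refine (hU v).mpr ⟨?_, ?_⟩
      · rw [← hhx, ← hact, hv', (smul_pinf _).mpr (by simp [PSLLie.trans, sl10])]
      · apply e'.injective
        rw [map_pow, map_one]
        apply Subtype.ext
        rw [Subgroup.coe_pow, hv', Subgroup.coe_one]
        exact (pow_p_iff p (by simp [PSLLie.trans, sl10])).mpr (by simp [PSLLie.trans, sl00, sl11])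
    refine ⟨v, hvU, pfin_injective (smul_left_cancel (π h) ?_)⟩
    rw [← hβy v hvU, ← hhy, ← hact, hv', trans_smul, zero_add]
  have hAc : A.ncard = Nat.card U := by
    rw [← Nat.card_coe_set_eq]
    refine (Nat.card_eq_of_bijective (fun v : U => (⟨β v, hβA v v.2⟩ : A)) ⟨?_, ?_⟩).symm
    · intro v w e0
      have e1 : β v = β w := congrArg Subtype.val e0
      apply Subtype.ext
      apply e'.injective
      apply Subtype.ext
      rw [← hβ v v.2, ← hβ w w.2, e1]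
    · rintro ⟨b, hb⟩
      obtain ⟨v, hv, rfl⟩ := hAU b hb
      exact ⟨⟨v, hv⟩, rfl⟩
  have hS0 : ∀ z, (π h • z ∈ orbit (H.map (pslMap i)) x ↔ (z = pinf ∨ ∃ b ∈ A, z = pfin b)) := by
    intro z
    rw [horb]
    constructor
    · rintro (h0 | ⟨v, hv, h0⟩)
      · exact Or.inl (smul_left_cancel (π h) (h0.trans hhx.symm))
      · exact Or.inr ⟨β v, hβA v hv, smul_left_cancel (π h) (h0.symm.trans (hβy v hv))⟩
    · rintro (rfl | ⟨b, hb, rfl⟩)
      · exact Or.inl hhx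
      · obtain ⟨v, hv, rfl⟩ := hAU b hb
        exact Or.inr ⟨v, hv, hβy v hv⟩
  have h1A : (1 : k) ∈ A := by
    have : v₀ • y = π h • pfin (β v₀) := hβy v₀ hv₀
    rw [← hhz] at this
    exact pfin_injective (smul_left_cancel (π h) this) ▸ hβA v₀ hv₀
  have hC : Nat.card {g : G' // (g : PSL₂ k) • (pinf : ℙ k (Fin 2 → k)) = pinf ∧ (g : PSL₂ k) • pfin 0 = pfin (0 : k)} =
      Nat.card ↥(stabilizer (H.map (pslMap i)) x ⊓ stabilizer (H.map (pslMap i)) y) := by
    refine (Nat.card_congr (e'.toEquiv.subtypeEquiv fun g => ?_)).symm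
    show g • x = x ∧ g • y = y ↔ _
    rw [← hhx, ← hhy, ← hact, ← hact, smul_left_cancel_iff, smul_left_cancel_iff]
    rfl
  obtain ⟨K, _, _, ⟨φ, hφrat⟩, hKc, hiso⟩ := normalized p i G'
    (by
      rintro _ ⟨_, ⟨s0, -, rfl⟩, rfl⟩
      obtain ⟨s, rfl⟩ := QuotientGroup.mk'_surjective (Subgroup.center SL(2, F)) s0
      refine ⟨h⁻¹ * slMap i s * h, ?_, hhrat s⟩
      show _ = (π h)⁻¹ * π (slMap i s) * (π h)⁻¹⁻¹
      rw [map_mul, map_mul, map_inv, inv_inv])
    A (fun b => Iff.rfl) h1A (hAc ▸ hP)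
    (by
      intro g hg z hz
      obtain ⟨g0, rfl⟩ : ∃ g0 : (H.map (pslMap i)), ((e' g0 : G') : PSL₂ k) = g := ⟨e'.symm ⟨g, hg⟩, by rw [MulEquiv.apply_symm_apply]⟩
      rw [← hS0, hact]
      obtain ⟨k0, hk0⟩ := (hS0 z).mpr hz
      exact ⟨g0 * k0, by show (g0 * k0) • x = _; rw [mul_smul]; exact congrArg (g0 • ·) hk0⟩)
    (by
      obtain ⟨g0, hg0⟩ := hyO
      exact ⟨_, (e' g0).2, smul_left_cancel (π h) (by rw [hact, hhx, hhy]; exact hg0)⟩)
    d hd (by rw [hC, hAc]; exact hc)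
    (by rw [← Nat.card_congr e'.toEquiv, hAc]; exact hGc)
  obtain ⟨τ, hτ⟩ := PSLRat.exists_aut i h hhrat
  have hrat : ∀ g ∈ H, τ g ∈ PSLRat.rat φ := by
    intro g hg
    obtain ⟨a, ρ, hρ, ha, hy⟩ := hφrat _ (e' (e ⟨g, hg⟩)).2
    refine PSLRat.rat_of_image i φ _ a ρ hρ ?_ hy
    rw [ha, hτ, he']
    rfl
  letI : Algebra K F := φ.toAlgebra
  haveI : Module.Finite K F := Module.Finite.of_finite
  have hm : Fintype.card K ^ Module.finrank K F = q := by rw [← hF, ← Module.card_eq_pow_finrank]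
  have h3 : 3 ≤ Fintype.card K := hKc ▸ hAc ▸ hP
  rcases hiso with ⟨-, ⟨ψ⟩⟩ | ⟨rfl, ⟨ψ⟩⟩
  · exact ⟨K, inferInstance, inferInstance, φ, _, h3, hm, ⟨τ, hrat, PSLRat.inner_aut i h hhrat τ hτ⟩, Or.inr ⟨e.trans (e'.trans ψ)⟩⟩
  · refine ⟨K, inferInstance, inferInstance, φ, _, h3, hm, ⟨τ, hrat, PSLRat.inner_aut i h hhrat τ hτ⟩, Or.inl ⟨?_, ⟨e.trans (e'.trans ψ)⟩⟩⟩
    rw [Nat.odd_iff, hKc, hAc]
    omega

/-- The families other than the subfield groups. -/
inductive Pre (q : ℕ) (H : Subgroup (PSL₂ F)) : Prop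
  /-- Cyclic. -/
  | cyclic (h : IsCyclic H)
      (hk : Nat.card H ∣ (q + 1) / Nat.gcd 2 (q - 1) ∨ Nat.card H ∣ (q - 1) / Nat.gcd 2 (q - 1))
  /-- Dihedral. -/
  | dihedral (n : ℕ) (hn : n ≠ 0) (h : Nonempty (H ≃* DihedralGroup n))
      (hk : n ∣ (q + 1) / Nat.gcd 2 (q - 1) ∨ n ∣ (q - 1) / Nat.gcd 2 (q - 1))
  /-- Normalising a Sylow subgroup. -/
  | borel (P : Sylow p (PSL₂ F)) (h : H ≤ Subgroup.normalizer ((P : Subgroup (PSL₂ F)) : Set (PSL₂ F)))
  /-- Tetrahedral. -/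
  | altFour (h : Nonempty (H ≃* alternatingGroup (Fin 4)))
  /-- Octahedral. -/
  | symFour (h : Nonempty (H ≃* Equiv.Perm (Fin 4)))
  /-- Icosahedral. -/
  | altFive (h : Nonempty (H ≃* alternatingGroup (Fin 5)))

/-- Dickson's list with rational frames for the subfield groups. -/
theorem dickson_rat (hF : Fintype.card F = q) (H : Subgroup (PSL₂ F)) : Pre p q H ∨ RatSub q H := by
  classical
  by_cases hH1 : Nat.card H < 2
  · have h1 : Nat.card H = 1 := by
      have : 0 < Nat.card H := Nat.card_pos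
      omega
    haveI : Subsingleton H := (Nat.card_eq_one_iff_unique.mp h1).1
    exact Or.inl (Pre.cyclic inferInstance (Or.inl (by rw [h1]; exact one_dvd _)))
  let k := AlgebraicClosure F
  let i : F →+* k := algebraMap F k
  haveI : CharP k p := charP_of_injective_ringHom i.injective p
  set ι := pslMap i with hι
  set G : Subgroup (PSL₂ k) := H.map ι with hG
  let e : H ≃* G := H.equivMapOfInjective ι (pslMap_injective i)
  haveI : Finite G := Finite.of_equiv H e.toEquiv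
  have M := geom p G
  have hcard : Nat.card G = Nat.card H := (Nat.card_congr e.toEquiv).symm
  haveI : Finite ι.range := Finite.of_surjective _ ι.rangeRestrict_surjective
  have MW := geom p ι.range
  have hord : ∀ g : H, ((e g : G) = 1 ∨ (e g : G) ^ p ≠ 1) →
      orderOf g ∣ (q + 1) / Nat.gcd 2 (q - 1) ∨ orderOf g ∣ (q - 1) / Nat.gcd 2 (q - 1) := by
    intro g hg
    have h := semi_order p i hF (g : PSL₂ F) (by
      rcases hg with hg | hg
      · left; simpa using hg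
      · right
        intro h
        exact hg (by rw [← map_pow, show g ^ p = 1 from Subtype.ext h, map_one]))
    exact h.imp (fun h => orderOf_dvd_of_pow_eq_one (Subtype.ext h)) fun h => orderOf_dvd_of_pow_eq_one (Subtype.ext h)
  have hsemi : ∀ (x y : ℙ k (Fin 2 → k)), x ≠ y → ∀ g : G, g • x = x → g • y = y → g = 1 ∨ g ^ p ≠ 1 := by
    intro x y hxy g hx hy
    by_cases h : g ^ p = 1
    · exact Or.inl (M.unip_one g h x y hx hy hxy)
    · exact Or.inr h
  have hout := M.classify (by omega)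
  rcases hout with ⟨x, y, hxy, h⟩ | ⟨x, hx, ⟨u, hu1, hup⟩⟩ | ⟨x, y, hxy, n, hn, ⟨ψ⟩⟩ | ⟨⟨ψ⟩⟩ | ⟨⟨ψ⟩⟩ | ⟨⟨ψ⟩, -⟩ |
    ⟨x, y, hxy, U, hU, hP, d, hd, hc, horb, hGc⟩
  · haveI : IsCyclic G := by
      have h1 := M.two_point_cyclic x y hxy
      rw [show stabilizer G x ⊓ stabilizer G y = ⊤ from top_le_iff.mp fun g _ => ⟨(h g).1, (h g).2⟩] at h1
      exact isCyclic_of_surjective _ (Subgroup.topEquiv (G := G)).surjective
    haveI : IsCyclic H := isCyclic_of_surjective _ e.symm.surjective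
    obtain ⟨c, hc⟩ := IsCyclic.exists_ofOrder_eq_natCard (α := H)
    exact Or.inl (Pre.cyclic inferInstance (hc ▸ hord c (hsemi x y hxy _ (h _).1 (h _).2)))
  · obtain ⟨S, hS⟩ := MW.isSylow x (by
      intro hbot
      obtain ⟨v, hv, hve⟩ := u.2
      have hm : (⟨ι v, v, rfl⟩ : ι.range) ∈ MW.unip x := by
        refine ⟨?_, Subtype.ext ?_⟩
        · show ι v • x = x
          rw [hve]; exact hx u
        · show ι v ^ p = 1
          rw [hve, ← Subgroup.coe_pow, hup, Subgroup.coe_one]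
      rw [hbot, Subgroup.mem_bot] at hm
      exact hu1 (Subtype.ext (hve.symm.trans (congrArg Subtype.val hm))))
    let eW : (PSL₂ F) ≃* ι.range := MonoidHom.ofInjective (pslMap_injective i)
    refine Or.inl (Pre.borel (S.mapSurjective (f := eW.symm.toMonoidHom) eW.symm.surjective) fun g hg => ?_)
    refine Subgroup.mem_normalizer_fintype fun v hv => ?_
    obtain ⟨w, hw, rfl⟩ := hv
    refine ⟨eW g * w * (eW g)⁻¹, ?_, by simp⟩
    rw [hS] at hw ⊢
    have := MW.unip_conj (eW g) hw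
    have hfix : eW g • x = x := hx ⟨ι g, Subgroup.mem_map_of_mem ι hg⟩
    rwa [hfix] at this
  · refine Or.inl (Pre.dihedral n ?_ ⟨e.trans ψ⟩ ?_)
    · rw [← hn]; exact Nat.card_pos.ne'
    · have hcy := M.two_point_cyclic x y hxy
      obtain ⟨c, hc⟩ := IsCyclic.exists_ofOrder_eq_natCard (α := ↥(stabilizer G x ⊓ stabilizer G y))
      have h := hord (e.symm c.1) (by
        rw [MulEquiv.apply_symm_apply]
        exact hsemi x y hxy _ c.2.1 c.2.2)
      rwa [MulEquiv.orderOf_eq, Subgroup.orderOf_coe, hc, hn] at h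
  · exact Or.inl (Pre.altFour ⟨e.trans ψ⟩)
  · exact Or.inl (Pre.symFour ⟨e.trans ψ⟩)
  · exact Or.inl (Pre.altFive ⟨e.trans ψ⟩)
  · exact Or.inr (lie_case p hF i H x y hxy U hU hP d hd hc horb hGc)

theorem dickson (hF : Fintype.card F = q) (H : Subgroup (PSL₂ F)) : Kind q p H := by
  rcases dickson_rat p hF H with h | ⟨K, _, _, φ, m, h3, hm, -, ⟨hodd, hψ⟩ | hψ⟩
  · rcases h with ⟨h, hk⟩ | ⟨n, hn, h, hk⟩ | ⟨P, h⟩ | h | h | h
    · exact Kind.cyclic h hk
    · exact Kind.dihedral n hn h hk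
    · exact Kind.borel P h
    · exact Kind.altFour h
    · exact Kind.symFour h
    · exact Kind.altFive h
  · exact Kind.psl K m h3 hodd hm hψ
  · exact Kind.pgl K m h3 hm hψ

/-- The commutators in a point stabiliser are unipotent. -/
theorem comm_unip {G X : Type*} [Group G] [MulAction G X] {p : ℕ} (M : Geom G X p) {x : X} {g h : G}
    (hg : g • x = x) (hh : h • x = x) : g * h * g⁻¹ * h⁻¹ ∈ M.unip x := by
  obtain ⟨s, hs, hgen⟩ := M.stab_gen x
  obtain ⟨i, hi⟩ := hgen g hg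
  obtain ⟨j, hj⟩ := hgen h hh
  have hfix : ∀ m : ℕ, (s ^ m) • x = x := M.pow_smul_fixed hs
  have hconj : ∀ (a : G), a • x = x → ∀ v ∈ M.unip x, a * v * a⁻¹ ∈ M.unip x := fun a ha v hv => by
    have := M.unip_conj a hv
    rwa [ha] at this
  have hu : g * s ^ i ∈ M.unip x := ⟨by rw [mul_smul, hfix, hg], hi⟩
  have hv : h * s ^ j ∈ M.unip x := ⟨by rw [mul_smul, hfix, hh], hj⟩
  generalize hU : g * s ^ i = U at hu
  generalize hV : h * s ^ j = V at hv
  obtain rfl : g = U * (s ^ i)⁻¹ := by rw [← hU, mul_inv_cancel_right]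
  obtain rfl : h = V * (s ^ j)⁻¹ := by rw [← hV, mul_inv_cancel_right]
  have hij : Commute (s ^ i)⁻¹ (s ^ j)⁻¹ := ((Commute.pow_pow (Commute.refl s) i j).inv_inv)
  have e : U * (s ^ i)⁻¹ * (V * (s ^ j)⁻¹) * (U * (s ^ i)⁻¹)⁻¹ * (V * (s ^ j)⁻¹)⁻¹ =
      U * ((s ^ i)⁻¹ * V * ((s ^ i)⁻¹)⁻¹) * ((s ^ j)⁻¹ * U⁻¹ * ((s ^ j)⁻¹)⁻¹) * V⁻¹ := by
    calc _ = U * (s ^ i)⁻¹ * V * ((s ^ j)⁻¹ * ((s ^ i)⁻¹)⁻¹) * U⁻¹ * ((s ^ j)⁻¹)⁻¹ * V⁻¹ := by group
      _ = U * (s ^ i)⁻¹ * V * (((s ^ i)⁻¹)⁻¹ * (s ^ j)⁻¹) * U⁻¹ * ((s ^ j)⁻¹)⁻¹ * V⁻¹ := by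
        rw [(hij.symm.inv_right).eq]
      _ = _ := by group
  rw [e]
  have fi : ∀ m : ℕ, (s ^ m)⁻¹ • x = x := fun m => by rw [inv_smul_eq_iff, hfix]
  exact mul_mem (mul_mem (mul_mem hu (hconj _ (fi i) _ hv)) (hconj _ (fi j) _ (inv_mem hu))) (inv_mem hv)

set_option maxRecDepth 20000 in
/-- In characteristics two and five an icosahedral group is a subfield group. -/
theorem altFive_rat (hF : Fintype.card F = q) (H : Subgroup (PSL₂ F)) (φ : H ≃* alternatingGroup (Fin 5))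
    (hp : p = 2 ∨ p = 5) : RatSub q H := by
  classical
  let k := AlgebraicClosure F
  let i : F →+* k := algebraMap F k
  haveI : CharP k p := charP_of_injective_ringHom i.injective p
  let e : H ≃* H.map (pslMap i) := H.equivMapOfInjective (pslMap i) (pslMap_injective i)
  haveI : Finite (H.map (pslMap i)) := Finite.of_equiv H e.toEquiv
  have M := geom p (H.map (pslMap i))
  let ω : alternatingGroup (Fin 5) ≃* H.map (pslMap i) := φ.symm.trans e
  have hcard : Nat.card (H.map (pslMap i)) = 60 := by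
    rw [← Nat.card_congr ω.toEquiv, nat_card_alternatingGroup, Nat.card_fin]; rfl
  set a : alternatingGroup (Fin 5) := ⟨Equiv.swap 0 1 * Equiv.swap 1 2, Equiv.Perm.mem_alternatingGroup.mpr (by decide +kernel)⟩
  set b : alternatingGroup (Fin 5) := ⟨Equiv.swap 0 3 * Equiv.swap 3 4, Equiv.Perm.mem_alternatingGroup.mpr (by decide +kernel)⟩
  have hne : a * b ≠ b * a := by decide +kernel
  have ha3 : a ^ 3 = 1 := by decide +kernel
  have hb3 : b ^ 3 = 1 := by decide +kernel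
  have hcp : (a * b * a⁻¹ * b⁻¹) ^ p ≠ 1 := by rcases hp with rfl | rfl <;> decide +kernel
  rcases M.classify (by omega) with ⟨x, y, hxy, h⟩ | ⟨x, hx, -⟩ | ⟨x, y, hxy, n, hn, ⟨ψ⟩⟩ | ⟨⟨ψ⟩⟩ | ⟨⟨ψ⟩⟩ | ⟨-, hp3⟩ |
    ⟨x, y, hxy, U, hU, hP, d, hd, hc, horb, hGc⟩
  · haveI := M.two_point_cyclic x y hxy
    have := congrArg Subtype.val (mul_comm' (⟨ω a, h (ω a)⟩ : ↥(stabilizer (H.map (pslMap i)) x ⊓ stabilizer (H.map (pslMap i)) y))
      ⟨ω b, h (ω b)⟩)
    exact absurd (ω.injective (by rw [map_mul, map_mul]; exact this)) hne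
  · refine absurd (ω.injective ?_) hcp
    rw [map_pow, map_mul, map_mul, map_mul, map_inv, map_inv, map_one]
    exact (comm_unip M (hx (ω a)) (hx (ω b))).2
  · exfalso
    have hrot : ∀ z : DihedralGroup n, z ^ 3 = 1 → ∃ j, z = DihedralGroup.r j := by
      rintro (j | j) hz
      · exact ⟨j, rfl⟩
      · exfalso
        rw [pow_succ, pow_two, DihedralGroup.sr_mul_self, one_mul] at hz
        cases hz
    obtain ⟨u, hu⟩ := hrot (ψ (ω a)) (by rw [← map_pow, ← map_pow, ha3, map_one, map_one])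
    obtain ⟨v, hv⟩ := hrot (ψ (ω b)) (by rw [← map_pow, ← map_pow, hb3, map_one, map_one])
    exact hne (ω.injective (ψ.injective (by rw [map_mul, map_mul, map_mul, map_mul, hu, hv, DihedralGroup.r_mul_r,
      DihedralGroup.r_mul_r, add_comm])))
  · rw [Nat.card_congr ψ.toEquiv, nat_card_alternatingGroup, Nat.card_fin] at hcard
    exact absurd hcard (by decide)
  · rw [Nat.card_congr ψ.toEquiv, Nat.card_perm, Nat.card_fin] at hcard
    exact absurd hcard (by decide)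
  · exfalso
    obtain ⟨g, hg⟩ := exists_prime_orderOf_dvd_card' p (G := H.map (pslMap i)) (by
      rw [hcard]; rcases hp with rfl | rfl <;> norm_num)
    rcases hp3 g (hg ▸ pow_orderOf_eq_one g) with e1 | e1
    · rw [e1, orderOf_one] at hg; omega
    · omega
  · exact lie_case p hF i H x y hxy U hU hP d hd hc horb hGc

end Cfsg.Lib.Classical.PSLDickson
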