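import Mathlib
import Cfsg.Agent.Classical.Misc.SharpClassify

/-! Point and pair stabilisers in the group of all linear fractional transformations. -/

set_option autoImplicit false
set_option linter.unusedSectionVars false
set_option linter.style.haveILetI false

namespace Cfsg.Lib.Classical.SharpGeom

open MulAction

/-- The full group: a point with `q` translations and an orbit of `q + 1` points. -/
structure Full (G : Type*) (X : Type*) [Group G] [MulAction G X] (p q d : ℕ) (x : X) : Prop where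
  geom : Geom G X p
  unip : Nat.card (geom.unip x) = q
  orb : (orbit G x).ncard = q + 1
  card : Nat.card G * d = (q + 1) * q * (q - 1)
  two_le : 2 ≤ q

variable {G : Type*} {X : Type*} [Group G] [MulAction G X] {p q d : ℕ} {x : X}

/-- The subgroup preserving a pair of points. -/
def pairStab (a b : X) : Subgroup G where
  carrier := {g | (g • a = a ∧ g • b = b) ∨ (g • a = b ∧ g • b = a)}
  one_mem' := Or.inl ⟨one_smul G a, one_smul G b⟩
  mul_mem' {g h} hg hh := by
    rcases hg with ⟨g1, g2⟩ | ⟨g1, g2⟩ <;> rcases hh with ⟨h1, h2⟩ | ⟨h1, h2⟩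
    · exact Or.inl ⟨by rw [mul_smul, h1, g1], by rw [mul_smul, h2, g2]⟩
    · exact Or.inr ⟨by rw [mul_smul, h1, g2], by rw [mul_smul, h2, g1]⟩
    · exact Or.inr ⟨by rw [mul_smul, h1, g1], by rw [mul_smul, h2, g2]⟩
    · exact Or.inl ⟨by rw [mul_smul, h1, g2], by rw [mul_smul, h2, g1]⟩
  inv_mem' {g} hg := by
    rcases hg with ⟨g1, g2⟩ | ⟨g1, g2⟩
    · exact Or.inl ⟨inv_smul_eq_iff.mpr g1.symm, inv_smul_eq_iff.mpr g2.symm⟩
    · exact Or.inr ⟨inv_smul_eq_iff.mpr g2.symm, inv_smul_eq_iff.mpr g1.symm⟩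

namespace Geom

variable (M : Geom G X p)
include M

theorem pair_dihedral [Finite G] {a b : X} (hab : a ≠ b) {w : G} (hw : w • a = b) (hw' : w • b = a) :
    Nat.card (pairStab (G := G) a b) = 2 * Nat.card ↥(stabilizer G a ⊓ stabilizer G b) ∧
      Nonempty (pairStab (G := G) a b ≃* DihedralGroup (Nat.card ↥(stabilizer G a ⊓ stabilizer G b))) := by
  set N := pairStab (G := G) a b
  set C : Subgroup N := (stabilizer G a ⊓ stabilizer G b).subgroupOf N
  have hle : stabilizer G a ⊓ stabilizer G b ≤ N := fun g hg => Or.inl ⟨hg.1, hg.2⟩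
  let e := Subgroup.subgroupOfEquivOfLe hle
  have hC : IsCyclic C := by
    haveI := M.two_point_cyclic a b hab
    exact isCyclic_of_surjective _ e.symm.surjective
  have hCc : Nat.card C = Nat.card ↥(stabilizer G a ⊓ stabilizer G b) := Nat.card_congr e.toEquiv
  have hwN : w ∈ N := Or.inr ⟨hw, hw'⟩
  have hwC : (⟨w, hwN⟩ : N) ∉ C := fun h => hab ((h.1 : w • a = a).symm.trans hw)
  have hout : ∀ g : N, g ∉ C → g * g = 1 := by
    rintro ⟨g, hg⟩ hgC
    rcases hg with ⟨g1, g2⟩ | ⟨g1, g2⟩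
    · exact absurd (show (⟨g, _⟩ : N) ∈ C from ⟨g1, g2⟩) hgC
    obtain ⟨z, hz⟩ := M.exists_fixed g
    have hza : z ≠ a := fun e => hab (by rw [e, g1] at hz; exact hz.symm)
    have hzb : z ≠ b := fun e => hab (by rw [e, g2] at hz; exact hz)
    exact Subtype.ext (M.three (g * g) a b z (by rw [mul_smul, g1, g2]) (by rw [mul_smul, g2, g1])
      (by rw [mul_smul, hz, hz]) hab (Ne.symm hza) (Ne.symm hzb))
  have hidx : C.index = 2 := by
    rw [Subgroup.index_eq_two_iff]
    refine ⟨⟨w, hwN⟩, ?_⟩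
    rintro ⟨g, hg⟩
    rcases hg with ⟨g1, g2⟩ | ⟨g1, g2⟩
    · refine Or.inr ⟨⟨g1, g2⟩, fun h => hab ?_⟩
      have h1 : (g * w) • a = a := h.1
      rw [mul_smul, hw, g2] at h1
      exact h1.symm
    · refine Or.inl ⟨⟨?_, ?_⟩, fun h => hab ((h.1 : g • a = a).symm.trans g1)⟩
      · show (g * w) • a = a
        rw [mul_smul, hw, g2]
      · show (g * w) • b = b
        rw [mul_smul, hw', g1]
  refine ⟨?_, SixtyGroup.dihedral_iso C hC hCc hidx hout⟩
  rw [← hCc, ← C.card_mul_index, hidx, mul_comm]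

theorem tame_orbit [Finite G] [Fact p.Prime] {x : X} (hx : M.unip x ≠ ⊥) {z : X}
    (hz : ∃ g : G, g ≠ 1 ∧ g • z = z) (hzO : z ∉ orbit G x) :
    (orbit G z).ncard + (orbit G x).ncard * 2 = (orbit G x).ncard * Nat.card (M.unip x) + 2 := by
  classical
  have hsum := M.count
  set T := M.finite_pts.toFinset with hTdef
  have hinv : ∀ g : G, ∀ y ∈ T, g • y ∈ T := fun g y hy =>
    M.orbit_pts.mpr (M.pts_smul (M.orbit_pts.mp hy) g)
  obtain ⟨u, hu, hu1⟩ : ∃ u ∈ M.unip x, u ≠ 1 := by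
    by_contra hall
    push Not at hall
    exact hx ((Subgroup.eq_bot_iff_forall _).mpr hall)
  have hxT : x ∈ T := M.orbit_pts.mpr ⟨u, hu1, hu.1⟩
  obtain ⟨T1, hinv1, hmem1, hs1⟩ := M.peel T hinv hxT
  have hzT1 : z ∈ T1 := (hmem1 z).mpr ⟨M.orbit_pts.mpr hz, hzO⟩
  obtain ⟨T2, hinv2, hmem2, hs2⟩ := M.peel T1 hinv1 hzT1
  have htame : ∀ y ∈ T1, M.unip y = ⊥ := fun y hy => by
    by_contra hne
    exact ((hmem1 y).mp hy).2 (M.wild_conj hx hne)
  have cw := M.wild_contrib x
  have c2 := M.tame_contrib (htame z hzT1)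
  have hP2 : 2 ≤ Nat.card (M.unip x) := by
    haveI := (Subgroup.nontrivial_iff_ne_bot _).mpr hx
    exact Finite.one_lt_card
  have hP : (orbit G x).ncard * 2 ≤ (orbit G x).ncard * Nat.card (M.unip x) := Nat.mul_le_mul_left _ hP2
  have hpos : 0 < Nat.card G := Nat.card_pos
  have hT2 : T2 = ∅ := by
    rw [← Finset.not_nonempty_iff_eq_empty]
    rintro ⟨x3, h3⟩
    obtain ⟨T3, -, -, hs3⟩ := M.peel T2 hinv2 h3
    have h31 := ((hmem2 x3).mp h3).1
    have c3 := M.tame_contrib (htame x3 h31)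
    have k2 : 2 * (orbit G z).ncard ≤ Nat.card G := by
      rw [← orbit_card (G := G) z, mul_comm]; exact Nat.mul_le_mul_left _ (M.two_le_stab ((hmem1 z).mp hzT1).1)
    have k3 : 2 * (orbit G x3).ncard ≤ Nat.card G := by
      rw [← orbit_card (G := G) x3, mul_comm]; exact Nat.mul_le_mul_left _ (M.two_le_stab ((hmem1 x3).mp h31).1)
    omega
  rw [hT2, Finset.sum_empty] at hs2
  omega

theorem tame_unique [Finite G] [Fact p.Prime] {x : X} (hx : M.unip x ≠ ⊥) {z z' : X}
    (hz : ∃ g : G, g ≠ 1 ∧ g • z = z) (hzO : z ∉ orbit G x)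
    (hz' : ∃ g : G, g ≠ 1 ∧ g • z' = z') (hzO' : z' ∉ orbit G x) : z' ∈ orbit G z := by
  classical
  by_contra hne
  have h1 := M.tame_orbit hx hz hzO
  have hsum := M.count
  set T := M.finite_pts.toFinset with hTdef
  have hinv : ∀ g : G, ∀ y ∈ T, g • y ∈ T := fun g y hy =>
    M.orbit_pts.mpr (M.pts_smul (M.orbit_pts.mp hy) g)
  obtain ⟨u, hu, hu1⟩ : ∃ u ∈ M.unip x, u ≠ 1 := by
    by_contra hall
    push Not at hall
    exact hx ((Subgroup.eq_bot_iff_forall _).mpr hall)
  obtain ⟨T1, hinv1, hmem1, hs1⟩ := M.peel T hinv (M.orbit_pts.mpr ⟨u, hu1, hu.1⟩)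
  obtain ⟨T2, hinv2, hmem2, hs2⟩ := M.peel T1 hinv1 ((hmem1 z).mpr ⟨M.orbit_pts.mpr hz, hzO⟩)
  obtain ⟨T3, -, -, hs3⟩ := M.peel T2 hinv2 (x := z') ((hmem2 z').mpr ⟨(hmem1 z').mpr ⟨M.orbit_pts.mpr hz', hzO'⟩, hne⟩)
  have htame : ∀ w, (∃ g : G, g ≠ 1 ∧ g • w = w) → w ∉ orbit G x → M.unip w = ⊥ := fun w _ hw => by
    by_contra h
    exact hw (M.wild_conj hx h)
  have cw := M.wild_contrib x
  have c2 := M.tame_contrib (htame z hz hzO)
  have c3 := M.tame_contrib (htame z' hz' hzO')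
  have k3 : 2 * (orbit G z').ncard ≤ Nat.card G := by
    rw [← orbit_card (G := G) z', mul_comm]; exact Nat.mul_le_mul_left _ (M.two_le_stab (M.orbit_pts.mpr hz'))
  have hpos : 0 < Nat.card G := Nat.card_pos
  omega

theorem exists_tame [Finite G] [Fact p.Prime] {x : X} (hx : M.unip x ≠ ⊥)
    (h : Nat.card G + (orbit G x).ncard * Nat.card (M.unip x) <
      (orbit G x).ncard * 2 + 2 * (Nat.card G - 1)) :
    ∃ z : X, (∃ g : G, g ≠ 1 ∧ g • z = z) ∧ z ∉ orbit G x := by
  classical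
  by_contra hall
  push Not at hall
  have hsum := M.count
  set T := M.finite_pts.toFinset with hTdef
  have hinv : ∀ g : G, ∀ y ∈ T, g • y ∈ T := fun g y hy =>
    M.orbit_pts.mpr (M.pts_smul (M.orbit_pts.mp hy) g)
  obtain ⟨u, hu, hu1⟩ : ∃ u ∈ M.unip x, u ≠ 1 := by
    by_contra hh
    push Not at hh
    exact hx ((Subgroup.eq_bot_iff_forall _).mpr hh)
  obtain ⟨T1, hinv1, hmem1, hs1⟩ := M.peel T hinv (M.orbit_pts.mpr ⟨u, hu1, hu.1⟩)
  have hT1 : T1 = ∅ := by
    rw [← Finset.not_nonempty_iff_eq_empty]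
    rintro ⟨w, hw⟩
    obtain ⟨g, hg, hgw⟩ := M.orbit_pts.mp ((hmem1 w).mp hw).1
    exact ((hmem1 w).mp hw).2 (hall w ⟨g, hg, hgw⟩)
  rw [hT1, Finset.sum_empty] at hs1
  have cw := M.wild_contrib x
  omega

end Geom

namespace Full

variable [Finite G] [Fact p.Prime] (W : Full G X p q d x)
include W

theorem ne_bot : W.geom.unip x ≠ ⊥ := fun h => by
  have := W.unip
  rw [h, Subgroup.card_bot] at this
  have := W.two_le
  omega

theorem d_pos : 0 < d := by
  have h := W.card
  have := W.two_le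
  rcases Nat.eq_zero_or_pos d with e | e
  · rw [e, mul_zero, eq_comm, mul_eq_zero, mul_eq_zero] at h
    omega
  · exact e

theorem card_stab : Nat.card (stabilizer G x) * d = q * (q - 1) := by
  apply Nat.eq_of_mul_eq_mul_left (show 0 < q + 1 by omega)
  rw [← mul_assoc, ← mul_assoc, ← W.card, ← Geom.orbit_card (G := G) x, W.orb]

theorem normalizer_eq : Subgroup.normalizer ((W.geom.unip x : Subgroup G) : Set G) = stabilizer G x := by
  obtain ⟨u, hu, hu1⟩ : ∃ u ∈ W.geom.unip x, u ≠ 1 := by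
    by_contra hall
    push Not at hall
    exact W.ne_bot ((Subgroup.eq_bot_iff_forall _).mpr hall)
  ext g
  constructor
  · intro hg
    have h1 := (Subgroup.mem_normalizer_iff.mp hg u).mp hu
    have h2 := W.geom.unip_conj g hu
    exact mem_stabilizer_iff.mpr (W.geom.eq_of_unip (fun e => hu1 (conj_eq_one_iff.mp e)) h1.2 h1.1 h2.1)
  · intro hg
    refine Subgroup.mem_normalizer_fintype fun v hv => ?_
    have := W.geom.unip_conj g hv
    rwa [mem_stabilizer_iff.mp hg] at this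

theorem tame_card {z : X} (hz : ∃ g : G, g ≠ 1 ∧ g • z = z) (hzO : z ∉ orbit G x) :
    Nat.card (stabilizer G z) * d = q + 1 := by
  have h := W.geom.tame_orbit W.ne_bot hz hzO
  rw [W.orb, W.unip] at h
  have hc := Geom.orbit_card (G := G) z
  have hq := W.two_le
  have he : (orbit G z).ncard = q * (q - 1) := by
    obtain ⟨m, rfl⟩ : ∃ m, q = m + 2 := ⟨q - 2, by omega⟩
    rw [show m + 2 - 1 = m + 1 by omega]
    linarith
  apply Nat.eq_of_mul_eq_mul_left (show 0 < q * (q - 1) from Nat.mul_pos (by omega) (by omega))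
  rw [← mul_assoc, ← he, hc, W.card, he]
  ring

theorem tame_structure {z : X} (hz : ∃ g : G, g ≠ 1 ∧ g • z = z) (hzO : z ∉ orbit G x) :
    ∃ y, y ≠ z ∧ y ∉ orbit G x ∧ stabilizer G z = stabilizer G z ⊓ stabilizer G y ∧
      ∃ w : G, w • z = y ∧ w • y = z := by
  obtain ⟨g, hg, hgz⟩ := hz
  have hny : W.geom.unip z = ⊥ := by
    by_contra hne
    exact hzO (W.geom.wild_conj W.ne_bot hne)
  rcases W.geom.stab_structure z with hs' | ⟨y, hy, -, hdec⟩
  · have : g ∈ W.geom.unip z := hs' ▸ mem_stabilizer_iff.mpr hgz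
    rw [hny, Subgroup.mem_bot] at this
    exact absurd this hg
  have hall : ∀ g ∈ stabilizer G z, g • y = y := fun g hg => by
    obtain ⟨v, hv, hvg⟩ := hdec g hg
    rw [hny, Subgroup.mem_bot] at hv
    rw [hv, inv_one, one_mul] at hvg
    exact hvg.2
  have hyO : y ∉ orbit G x := by
    intro hy'
    obtain ⟨k, hk⟩ := hy'
    have hk' : k • x = y := hk
    obtain ⟨g0, hg0, hg0x⟩ : ∃ g0 : G, g0 ≠ 1 ∧ g0 • x = x ∧ g0 • (k⁻¹ • z) = k⁻¹ • z := by
      refine ⟨k⁻¹ * g * k, fun e => hg ?_, ?_, ?_⟩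
      · rw [mul_assoc, inv_mul_eq_one, eq_comm, mul_eq_right] at e
        exact e
      · rw [mul_smul, mul_smul, hk', hall g hgz, ← hk', inv_smul_smul]
      · rw [mul_smul, mul_smul, smul_inv_smul, hgz]
    rcases W.geom.stab_structure x with hs | ⟨y0, hy0, ⟨k1, hk1, hk11⟩, hdec0⟩
    · have h1 : g0 ∈ W.geom.unip x := hs ▸ mem_stabilizer_iff.mpr hg0x.1
      refine hg0 (W.geom.two_point_trivial ?_ h1 hg0x.2)
      intro e
      apply hy
      rw [← hk', e, smul_inv_smul]
    · have hne : k⁻¹ • z ≠ x := fun e => hy (by rw [← hk', ← e, smul_inv_smul])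
      obtain ⟨v, hv, hvy⟩ := W.geom.second_point hy0 hdec0 hne hg0 hg0x.1 hg0x.2
      have hy0O : y0 ∈ orbit G x := by
        by_contra hy0O
        have hny0 : W.geom.unip y0 = ⊥ := by
          by_contra hne'
          exact hy0O (W.geom.wild_conj W.ne_bot hne')
        have h1 := W.tame_card ⟨k1, hk11, hk1.2⟩ hy0O
        have hsy : stabilizer G y0 = stabilizer G x ⊓ stabilizer G y0 := by
          refine le_antisymm (fun a ha => ?_) inf_le_right
          rcases W.geom.stab_structure y0 with hs' | ⟨z0, hz0, -, hdec'⟩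
          · have : k1 ∈ W.geom.unip y0 := hs' ▸ hk1.2
            rw [hny0, Subgroup.mem_bot] at this
            exact absurd this hk11
          · have hall' : ∀ a ∈ stabilizer G y0, a • z0 = z0 := fun a ha => by
              obtain ⟨v, hv, hvg⟩ := hdec' a ha
              rw [hny0, Subgroup.mem_bot] at hv
              rw [hv, inv_one, one_mul] at hvg
              exact hvg.2
            rcases W.geom.eq_of_two hk11 hk1.2 (hall' k1 hk1.2) (Ne.symm hz0) hk1.1 with e | e
            · exact absurd e.symm hy0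
            · exact ⟨mem_stabilizer_iff.mpr (e ▸ hall' a ha), ha⟩
        have h2 := W.geom.card_stab hy0 hdec0
        rw [← hsy, W.unip] at h2
        have h3 := W.card_stab
        rw [h2, mul_assoc, h1] at h3
        have := W.two_le
        have h4 := Nat.eq_of_mul_eq_mul_left (show 0 < q by omega) h3
        omega
      apply hzO
      obtain ⟨a, ha⟩ := hy0O
      have ha' : a • x = y0 := ha
      exact ⟨k * v * a, by show (k * v * a) • x = z; rw [mul_smul, mul_smul, ha', hvy, smul_inv_smul]⟩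
  have hsz : stabilizer G z = stabilizer G z ⊓ stabilizer G y := (inf_eq_left.mpr fun a ha => hall a ha).symm
  obtain ⟨w, hw⟩ := W.geom.tame_unique W.ne_bot ⟨g, hg, hgz⟩ hzO ⟨g, hg, hall g hgz⟩ hyO
  have hw' : w • z = y := hw
  refine ⟨y, hy, hyO, hsz, w, hw', ?_⟩
  have hg' : (w * g * w⁻¹) • y = y := by rw [mul_smul, mul_smul, ← hw', inv_smul_smul, hgz]
  have hg'' : (w * g * w⁻¹) • (w • y) = w • y := by rw [mul_smul, mul_smul, inv_smul_smul, hall g hgz]
  have hsy : stabilizer G y = stabilizer G z := by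
    refine (Subgroup.eq_of_le_of_card_ge (fun a ha => hall a ha) (le_of_eq ?_)).symm
    rw [← hw', stabilizer_smul_eq_stabilizer_map_conj, Subgroup.card_map_of_injective (MulAut.conj w).injective]
  have hmem : w * g * w⁻¹ ∈ stabilizer G z := hsy ▸ mem_stabilizer_iff.mpr hg'
  rcases W.geom.eq_of_two (fun e => hg (conj_eq_one_iff.mp e)) hg' (mem_stabilizer_iff.mp hmem) hy hg'' with e | e
  · exact absurd (smul_left_cancel w (e.trans hw'.symm)) hy
  · exact e

theorem wild_second : ∃ y, y ≠ x ∧ y ∈ orbit G x ∧ Nat.card ↥(stabilizer G x ⊓ stabilizer G y) * d = q - 1 ∧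
    (∀ g ∈ stabilizer G x, ∃ u ∈ W.geom.unip x, u⁻¹ * g ∈ stabilizer G x ⊓ stabilizer G y) ∧
    ∃ w : G, w • x = y ∧ w • y = x := by
  have hq := W.two_le
  obtain ⟨y, hyO, hy⟩ : ∃ y ∈ orbit G x, y ≠ x := by
    refine Set.exists_ne_of_one_lt_ncard ?_ x
    rw [W.orb]; omega
  have main : ∀ y, y ≠ x → y ∈ orbit G x →
      (∀ g ∈ stabilizer G x, ∃ u ∈ W.geom.unip x, u⁻¹ * g ∈ stabilizer G x ⊓ stabilizer G y) →
      Nat.card ↥(stabilizer G x ⊓ stabilizer G y) * d = q - 1 ∧ ∃ w : G, w • x = y ∧ w • y = x := by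
    intro y hy hyO hdec
    constructor
    · have h := W.card_stab
      rw [W.geom.card_stab hy hdec, W.unip, mul_assoc] at h
      exact Nat.eq_of_mul_eq_mul_left (by omega) h
    · obtain ⟨g, hg⟩ := hyO
      have hg' : g • x = y := hg
      have hinj : Set.InjOn (fun v : G => v • y) (W.geom.unip x) := by
        intro v hv w hw e
        simp only at e
        have : (w⁻¹ * v) • y = y := by rw [mul_smul, e, inv_smul_smul]
        exact (inv_mul_eq_one.mp (W.geom.two_point_trivial (Ne.symm hy) (mul_mem (inv_mem hw) hv) this)).symm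
      have hsub : insert x ((fun v : G => v • y) '' (W.geom.unip x : Set G)) = orbit G x := by
        refine Set.eq_of_subset_of_ncard_le ?_ ?_ (Geom.orbit_finite x)
        · rintro z (rfl | ⟨v, hv, rfl⟩)
          · exact mem_orbit_self _
          · exact ⟨v * g, by show (v * g) • x = v • y; rw [mul_smul, hg']⟩
        · have hx' : x ∉ (fun v : G => v • y) '' (W.geom.unip x : Set G) := by
            rintro ⟨v, hv, e⟩
            have e' : v • y = x := e
            exact hy (by rw [← inv_smul_smul v y, e', inv_smul_eq_iff, hv.1])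
          rw [Set.ncard_insert_of_notMem hx' (Set.toFinite _), Set.InjOn.ncard_image hinj, W.orb,
            ← Nat.card_coe_set_eq, show Nat.card ↥(W.geom.unip x : Set G) = q from W.unip]
      have hgi : g⁻¹ • x ∈ orbit G x := mem_orbit _ _
      rw [← hsub] at hgi
      rcases hgi with e | ⟨v, hv, e⟩
      · exfalso; apply hy
        rw [← hg']
        exact (inv_smul_eq_iff.mp e).symm
      · have e' : v • y = g⁻¹ • x := e
        refine ⟨g * v, ?_, ?_⟩
        · rw [mul_smul, hv.1, hg']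
        · rw [mul_smul, e', smul_inv_smul]
  rcases W.geom.stab_structure x with hs | ⟨y', hy', ⟨k, hk, hk1⟩, hdec⟩
  · have hdec : ∀ g ∈ stabilizer G x, ∃ u ∈ W.geom.unip x, u⁻¹ * g ∈ stabilizer G x ⊓ stabilizer G y :=
      fun g hg => ⟨g, hs ▸ hg, by rw [inv_mul_cancel]; exact one_mem _⟩
    exact ⟨y, hy, hyO, (main y hy hyO hdec).1, hdec, (main y hy hyO hdec).2⟩
  · have hy'O : y' ∈ orbit G x := by
      by_contra hne
      obtain ⟨z, hz, hzO, hsz, -⟩ := W.tame_structure ⟨k, hk1, hk.2⟩ hne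
      have hkz : k • z = z := by
        have h := hk.2
        rw [hsz] at h
        exact h.2
      rcases W.geom.eq_of_two hk1 hk.2 hkz (Ne.symm hz) hk.1 with e | e
      · exact hne (e ▸ mem_orbit_self x)
      · exact hzO (e ▸ mem_orbit_self x)
    exact ⟨y', hy', hy'O, (main y' hy' hy'O hdec).1, hdec, (main y' hy' hy'O hdec).2⟩

theorem pair_cases {a b : X} (hab : a ≠ b) {g : G} (hg : g ≠ 1) (ha : g • a = a) (hb : g • b = b) :
    (Nat.card ↥(stabilizer G a ⊓ stabilizer G b) * d = q - 1 ∨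
      Nat.card ↥(stabilizer G a ⊓ stabilizer G b) * d = q + 1) ∧ ∃ w : G, w • a = b ∧ w • b = a := by
  by_cases haO : a ∈ orbit G x
  · obtain ⟨k, hk⟩ := haO
    have hk' : k • x = a := hk
    obtain ⟨y, hy, hyO, hc, hdec, w, hw, hw'⟩ := W.wild_second
    set b' := k⁻¹ • b with hb'
    have hb'x : b' ≠ x := fun e => hab (by rw [← hk', ← e, hb', smul_inv_smul])
    have hg1 : k⁻¹ * g * k ≠ 1 := fun e => hg (by rw [mul_assoc, inv_mul_eq_one, eq_comm, mul_eq_right] at e; exact e)
    obtain ⟨v, hv, hvy⟩ := W.geom.second_point hy hdec hb'x hg1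
      (by rw [mul_smul, mul_smul, hk', ha, ← hk', inv_smul_smul])
      (by rw [mul_smul, mul_smul, hb', smul_inv_smul, hb])
    set c := k * v
    have hca : c • x = a := by rw [mul_smul, hv.1, hk']
    have hcb : c • y = b := by rw [mul_smul, hvy, hb', smul_inv_smul]
    refine ⟨Or.inl ?_, c * w * c⁻¹, ?_, ?_⟩
    · rw [← hca, ← hcb, stabilizer_smul_eq_stabilizer_map_conj, stabilizer_smul_eq_stabilizer_map_conj,
        ← Subgroup.map_inf _ _ _ (MulAut.conj c).injective, Subgroup.card_map_of_injective (MulAut.conj c).injective]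
      exact hc
    · rw [mul_smul, mul_smul, ← hca, inv_smul_smul, hw, hcb]
    · rw [mul_smul, mul_smul, ← hcb, inv_smul_smul, hw', hca]
  · obtain ⟨z, hz, hzO, hsz, w, hw, hw'⟩ := W.tame_structure ⟨g, hg, ha⟩ haO
    have hgz : g • z = z := by
      have h : g ∈ stabilizer G a := ha
      rw [hsz] at h
      exact h.2
    rcases W.geom.eq_of_two hg ha hgz (Ne.symm hz) hb with e | e
    · exact absurd e.symm hab
    · subst e
      refine ⟨Or.inr ?_, w, hw, hw'⟩
      rw [← hsz]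
      exact W.tame_card ⟨g, hg, ha⟩ haO

theorem exists_nonsplit (h3 : 3 ≤ q) (hd : d ≤ 2) : ∃ a b : X, a ≠ b ∧
    Nat.card ↥(stabilizer G a ⊓ stabilizer G b) * d = q + 1 ∧ ∃ w : G, w • a = b ∧ w • b = a := by
  obtain ⟨z, hz, hzO⟩ := W.geom.exists_tame W.ne_bot (by
    rw [W.orb, W.unip]
    have hc := W.card
    have h2 : Nat.card G * d ≤ Nat.card G * 2 := Nat.mul_le_mul_left _ hd
    obtain ⟨m, rfl⟩ : ∃ m, q = m + 3 := ⟨q - 3, by omega⟩
    rw [show m + 3 - 1 = m + 2 by omega] at hc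
    have h4 : (m + 3 + 1) * (m + 3) * 2 ≤ (m + 3 + 1) * (m + 3) * (m + 2) := Nat.mul_le_mul_left _ (by omega)
    omega)
  obtain ⟨y, hy, hyO, hsz, w, hw, hw'⟩ := W.tame_structure hz hzO
  exact ⟨z, y, Ne.symm hy, by rw [← hsz]; exact W.tame_card hz hzO, w, hw, hw'⟩

end Full

end Cfsg.Lib.Classical.SharpGeom
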