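import Mathlib
import Cfsg.Agent.Classical.Misc.PSLDickson
import Cfsg.Agent.Classical.Misc.SharpTori

/-! The Borel and torus subgroups of `PSL₂(q)` seen on the projective line of the algebraic closure. -/

set_option autoImplicit false
set_option linter.unusedSimpArgs false
set_option linter.unusedSectionVars false
set_option linter.style.haveILetI false
set_option linter.flexible false

namespace Cfsg.Lib.Classical.PSLFull

open Matrix MulAction
open scoped MatrixGroups LinearAlgebra.Projectivization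
open Cfsg.Lib.Classical.PSLFour Cfsg.Lib.Classical.PSLGeom Cfsg.Lib.Classical.PSLEmbed Cfsg.Lib.Classical.PSLLie
open Cfsg.Lib.Classical.SharpGeom Cfsg.Lib.Classical.PSLDickson

universe u v

local notation "PSL₂" k => Matrix.ProjectiveSpecialLinearGroup (Fin 2) k

section

variable {F : Type u} [Field F] [Fintype F] {k : Type v} [Field k] (i : F →+* k) {q : ℕ}

theorem two_le (hF : Fintype.card F = q) : 2 ≤ q := hF ▸ Fintype.one_lt_card

theorem gcd_cases : Nat.gcd 2 (q - 1) = 1 ∨ Nat.gcd 2 (q - 1) = 2 :=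
  (Nat.dvd_prime Nat.prime_two).mp (Nat.gcd_dvd_left 2 (q - 1))

theorem card_mul (hF : Fintype.card F = q) :
    Nat.card (PSL₂ F) * Nat.gcd 2 (q - 1) = (q + 1) * q * (q - 1) := by
  rw [mul_comm, SmallPSL.card_psl hF]
  obtain ⟨m, rfl⟩ : ∃ m, q = m + 1 := ⟨q - 1, by have := two_le hF; omega⟩
  rw [Nat.add_sub_cancel, show (m + 1) ^ 2 = (m + 1 + 1) * m + 1 by ring, Nat.add_sub_cancel]
  ring

/-- The image in the bigger group. -/
noncomputable def eW : (PSL₂ F) ≃* (pslMap i).range := MonoidHom.ofInjective (pslMap_injective i)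

theorem eW_smul (g : PSL₂ F) (z : ℙ k (Fin 2 → k)) : eW i g • z = pslMap i g • z := rfl

/-- A subgroup of the image, read in `PSL₂(F)`. -/
noncomputable def pull (S : Subgroup (pslMap i).range) : Subgroup (PSL₂ F) := S.map (eW i).symm.toMonoidHom

theorem mem_pull {S : Subgroup (pslMap i).range} {g : PSL₂ F} : g ∈ pull i S ↔ eW i g ∈ S := by
  rw [pull, Subgroup.mem_map_equiv, MulEquiv.symm_symm]

noncomputable def pullEquiv (S : Subgroup (pslMap i).range) : pull i S ≃* S :=
  (S.equivMapOfInjective _ (eW i).symm.injective).symm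

variable (p : ℕ) [Fact p.Prime] [CharP k p] [IsAlgClosed k]

theorem orbit_pinf : orbit (pslMap i).range (pinf : ℙ k (Fin 2 → k)) = {z | Rational i z} := by
  ext z
  constructor
  · rintro ⟨⟨_, s0, rfl⟩, rfl⟩
    obtain ⟨s, rfl⟩ := QuotientGroup.mk'_surjective (Subgroup.center SL(2, F)) s0
    exact smul_rational i s (Or.inl rfl)
  · rintro (rfl | ⟨c, rfl⟩)
    · exact mem_orbit_self _
    · refine ⟨⟨π (slMap i (sl c (-1) 1 0 (by ring))), π (sl c (-1) 1 0 (by ring)), pslMap_π i _⟩, ?_⟩
      obtain ⟨h, e⟩ := smul_mk_π (slMap i (sl c (-1) 1 0 (by ring))) (v := ![(1 : k), 0])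
        (fun h => one_ne_zero (congrFun h 0))
      show π (slMap i (sl c (-1) 1 0 (by ring))) • (pinf : ℙ k (Fin 2 → k)) = _
      rw [pinf, e, pfin, Projectivization.mk_eq_mk_iff']
      exact ⟨1, funext fun j => by
        fin_cases j <;> simp [Matrix.mulVec, dotProduct, slMap_apply, sl00, sl01, sl10, sl11]⟩

theorem full (hF : Fintype.card F = q) :
    Full (pslMap i).range (ℙ k (Fin 2 → k)) p q (Nat.gcd 2 (q - 1)) pinf := by
  haveI : Finite (pslMap i).range := Finite.of_surjective _ (pslMap i).rangeRestrict_surjective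
  have M := geom p (pslMap i).range
  refine ⟨M, ?_, ?_, ?_, two_le hF⟩
  · have hT : ∀ b : F, slMap i (PSLLie.trans b) = PSLLie.trans (i b) := fun b => by
      refine ext_four ?_ ?_ ?_ ?_ <;> simp [slMap_apply, PSLLie.trans, sl00, sl01, sl10, sl11]
    let τ : F → M.unip (pinf : ℙ k (Fin 2 → k)) := fun b =>
      ⟨⟨π (PSLLie.trans (i b)), π (PSLLie.trans b), by rw [pslMap_π, hT]⟩,
        (smul_pinf _).mpr (by simp [PSLLie.trans, sl10]),
        Subtype.ext ((pow_p_iff p (by simp [PSLLie.trans, sl10])).mpr (by simp [PSLLie.trans, sl00, sl11]))⟩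
    rw [← hF, ← Nat.card_eq_fintype_card]
    refine (Nat.card_eq_of_bijective τ ⟨?_, ?_⟩).symm
    · intro a b e
      have e' : π (PSLLie.trans (i a)) = π (PSLLie.trans (i b)) := congrArg (fun z => (z.1 : PSL₂ k)) e
      have h1 : π (PSLLie.trans (i a)) • pfin (0 : k) = π (PSLLie.trans (i b)) • pfin (0 : k) := by rw [e']
      rw [trans_smul, trans_smul, zero_add, zero_add] at h1
      exact i.injective (pfin_injective h1)
    · rintro ⟨⟨g, s0, hs0⟩, hfix, hpow⟩
      obtain ⟨s, rfl⟩ := QuotientGroup.mk'_surjective (Subgroup.center SL(2, F)) s0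
      change π (slMap i s) = g at hs0
      subst hs0
      have h10 : (slMap i s).1 1 0 = 0 := (smul_pinf _).mp hfix
      have h11 := (pow_p_iff p h10).mp (congrArg Subtype.val hpow)
      have hd := det_eq_one (slMap i s)
      rw [h10, h11, mul_zero, sub_zero] at hd
      have h00 : (slMap i s).1 0 0 ≠ 0 := left_ne_zero_of_mul_eq_one hd
      refine ⟨s.1 0 1 / s.1 0 0, Subtype.ext (Subtype.ext ?_)⟩
      show π (PSLLie.trans (i (s.1 0 1 / s.1 0 0))) = π (slMap i s)
      refine π_eq_of_proportional (σ := 1) h00 fun r c => ?_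
      fin_cases r <;> fin_cases c <;>
        simp [PSLLie.trans, sl00, sl01, sl10, sl11, h10, h11, map_div₀]
      rw [← slMap_apply i s 0 1, ← slMap_apply i s 0 0]
      exact div_mul_cancel₀ _ h00
  · rw [orbit_pinf]
    have : {z : ℙ k (Fin 2 → k) | Rational i z} = insert pinf (Set.range fun c => pfin (i c)) := by
      ext z; simp [Rational, eq_comm]
    rw [this, Set.ncard_insert_of_notMem (by rintro ⟨c, hc⟩; exact pfin_ne_pinf _ hc) (Set.finite_range _),
      Set.ncard_range_of_injective (f := fun c => pfin (i c)) (fun a b e => i.injective (pfin_injective e)),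
      Nat.card_eq_fintype_card, hF]
  · rw [← Nat.card_congr (eW i).toEquiv]
    exact card_mul hF

/-- A subgroup normalising a Sylow `p`-subgroup fixes a point. -/
theorem borel_fix (hF : Fintype.card F = q) (P : Sylow p (PSL₂ F)) :
    ∃ z : ℙ k (Fin 2 → k), (z ∈ orbit (pslMap i).range (pinf : ℙ k (Fin 2 → k))) ∧
      ∀ g ∈ Subgroup.normalizer ((P : Subgroup (PSL₂ F)) : Set (PSL₂ F)), eW i g • z = z := by
  haveI : Finite (pslMap i).range := Finite.of_surjective _ (pslMap i).rangeRestrict_surjective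
  have W := full i p hF
  obtain ⟨S, hS⟩ := W.geom.isSylow pinf W.ne_bot
  obtain ⟨a, ha⟩ := MulAction.exists_smul_eq (PSL₂ F) (S.mapSurjective (f := (eW i).symm.toMonoidHom) (eW i).symm.surjective) P
  refine ⟨eW i a • pinf, mem_orbit _ _, fun g hg => ?_⟩
  have key : ∀ v, v ∈ (P : Subgroup (PSL₂ F)) ↔ eW i (a⁻¹ * v * a) ∈ W.geom.unip pinf := fun v => by
    rw [← ha, Sylow.coe_subgroup_smul, Subgroup.mem_pointwise_smul_iff_inv_smul_mem]
    show (MulAut.conj a)⁻¹ • v ∈ (S : Subgroup _).map (eW i).symm.toMonoidHom ↔ _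
    rw [Subgroup.mem_map_equiv, MulEquiv.symm_symm, hS]
    simp [MulAut.smul_def, MulAut.conj_inv_apply]
  have hn : eW i (a⁻¹ * g * a) ∈ Subgroup.normalizer ((W.geom.unip pinf : Subgroup _) : Set (pslMap i).range) := by
    refine Subgroup.mem_normalizer_fintype fun v hv => ?_
    obtain ⟨w, rfl⟩ := (eW i).surjective v
    have h1 : a * w * a⁻¹ ∈ (P : Subgroup (PSL₂ F)) := (key _).mpr (by simpa [mul_assoc] using hv)
    have h2 := (key _).mp ((Subgroup.mem_normalizer_iff.mp hg _).mp h1)
    rw [← map_inv, ← map_mul, ← map_mul]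
    rw [show a⁻¹ * g * a * w * (a⁻¹ * g * a)⁻¹ = a⁻¹ * (g * (a * w * a⁻¹) * g⁻¹) * a by group]
    exact h2
  rw [W.normalizer_eq, mem_stabilizer_iff, map_mul, map_mul, map_inv, mul_smul, mul_smul, inv_smul_eq_iff] at hn
  exact hn

include i p in
theorem exists_borel (hF : Fintype.card F = q) : ∃ H : Subgroup (PSL₂ F), H.index = q + 1 ∧
    Nat.card H * Nat.gcd 2 (q - 1) = q * (q - 1) := by
  haveI : Finite (pslMap i).range := Finite.of_surjective _ (pslMap i).rangeRestrict_surjective
  have W := full i p hF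
  refine ⟨pull i (stabilizer (pslMap i).range (pinf : ℙ k (Fin 2 → k))), ?_, ?_⟩
  · exact (Subgroup.index_map_equiv _ (eW i).symm).trans (by rw [MulAction.index_stabilizer, W.orb])
  · rw [Nat.card_congr (pullEquiv i _).toEquiv, W.card_stab]

include i in
theorem borel_card (hF : Fintype.card F = q) (P : Sylow p (PSL₂ F)) (H : Subgroup (PSL₂ F))
    (hH : H ≤ Subgroup.normalizer ((P : Subgroup (PSL₂ F)) : Set (PSL₂ F))) :
    Nat.card H * Nat.gcd 2 (q - 1) ∣ q * (q - 1) := by
  haveI : Finite (pslMap i).range := Finite.of_surjective _ (pslMap i).rangeRestrict_surjective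
  have W := full i p hF
  obtain ⟨z, ⟨a, ha⟩, hfix⟩ := borel_fix i p hF P
  have ha' : a • pinf = z := ha
  have h1 : H ≤ pull i (stabilizer (pslMap i).range z) := fun g hg => (mem_pull i).mpr (hfix g (hH hg))
  have h2 := Subgroup.card_dvd_of_le h1
  rw [Nat.card_congr (pullEquiv i _).toEquiv, ← ha', stabilizer_smul_eq_stabilizer_map_conj,
    Subgroup.card_map_of_injective (MulAut.conj a).injective] at h2
  rw [← W.card_stab]
  exact Nat.mul_dvd_mul_right h2 _

end

end Cfsg.Lib.Classical.PSLFull
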