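import Mathlib
import Cfsg.Agent.Classical.Misc.PSLFull

/-! Element orders and the index bound in `PSL₂(q)`. -/

set_option autoImplicit false
set_option linter.unusedSimpArgs false
set_option linter.unusedSectionVars false
set_option linter.style.haveILetI false
set_option linter.flexible false

namespace Cfsg.Lib.Classical.PSLBounds

open Matrix
open scoped MatrixGroups
open Cfsg.Lib.Classical.PSLDickson

universe u

variable {K : Type u} [Field K] [Fintype K]

/-- Elements of `PGL₂` have order at most `|K| + 1`: powers lie in the span of `1` and the matrix. -/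
theorem orderOf_pgl (x : Matrix.ProjGenLinGroup (Fin 2) K) : orderOf x ≤ Fintype.card K + 1 := by
  classical
  obtain ⟨g, rfl⟩ := Matrix.ProjGenLinGroup.mk_surjective x
  set M : Matrix (Fin 2) (Fin 2) K := (g : Matrix (Fin 2) (Fin 2) K) with hM
  have hsq : M * M = M.trace • M - M.det • 1 := by
    ext r c
    fin_cases r <;> fin_cases c <;> simp [Matrix.mul_apply, Fin.sum_univ_two, Matrix.trace_fin_two,
      Matrix.det_fin_two] <;> ring
  have hspan : ∀ n : ℕ, ∃ u v : K, ((g ^ n : GL (Fin 2) K) : Matrix (Fin 2) (Fin 2) K) = u • 1 + v • M := by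
    intro n
    induction n with
    | zero => exact ⟨1, 0, by simp⟩
    | succ n ih =>
      obtain ⟨u, v, h⟩ := ih
      refine ⟨-(v * M.det), u + v * M.trace, ?_⟩
      rw [pow_succ, Units.val_mul, h, ← hM, add_mul, smul_mul_assoc, smul_mul_assoc, one_mul, hsq]
      module
  choose U V hUV using hspan
  have hscal : ∀ (a b : GL (Fin 2) K) (t : K), t ≠ 0 →
      (b : Matrix (Fin 2) (Fin 2) K) = t • (a : Matrix (Fin 2) (Fin 2) K) →
      Matrix.ProjGenLinGroup.mk a = Matrix.ProjGenLinGroup.mk b := by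
    intro a b t ht h
    have hc : a⁻¹ * b ∈ Subgroup.center (GL (Fin 2) K) := by
      rw [Matrix.GeneralLinearGroup.center_eq_range_scalar]
      refine ⟨Units.mk0 t ht, Units.ext ?_⟩
      show Matrix.scalar (Fin 2) t = ((a⁻¹ * b : GL (Fin 2) K) : Matrix (Fin 2) (Fin 2) K)
      rw [Units.val_mul, h, Matrix.mul_smul, Units.inv_mul, Matrix.scalar_apply, ← Matrix.smul_one_eq_diagonal]
    exact QuotientGroup.eq.mpr hc
  let φ : Fin (orderOf (Matrix.ProjGenLinGroup.mk g)) → Option K := fun n =>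
    if V n = 0 then none else some (U n / V n)
  have hinj : Function.Injective φ := by
    intro a b e
    apply Fin.ext
    have hne : ∀ n : ℕ, V n = 0 → U n ≠ 0 := fun n hv hu => by
      have := hUV n
      rw [hu, hv, zero_smul, zero_smul, add_zero] at this
      exact (g ^ n).ne_zero this
    obtain ⟨t, ht, hb⟩ : ∃ t : K, t ≠ 0 ∧
        ((g ^ (b : ℕ) : GL (Fin 2) K) : Matrix (Fin 2) (Fin 2) K) = t • ((g ^ (a : ℕ) : GL (Fin 2) K) : Matrix (Fin 2) (Fin 2) K) := by
      simp only [φ] at e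
      split_ifs at e with ha hb
      · refine ⟨U b / U a, div_ne_zero (hne _ hb) (hne _ ha), ?_⟩
        rw [hUV, hUV, ha, hb, zero_smul, add_zero, add_zero, smul_smul, div_mul_cancel₀ _ (hne _ ha)]
      · rename_i hb'
        rw [Option.some.injEq, div_eq_div_iff ha hb'] at e
        refine ⟨V b / V a, div_ne_zero hb' ha, ?_⟩
        rw [hUV, hUV, smul_add, smul_smul, smul_smul, div_mul_cancel₀ _ ha]
        congr 2
        field_simp
        linear_combination -e
    have h := hscal _ _ t ht hb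
    rw [map_pow, map_pow, pow_inj_mod, Nat.mod_eq_of_lt a.2, Nat.mod_eq_of_lt b.2] at h
    exact h
  have h := Fintype.card_le_of_injective φ hinj
  rwa [Fintype.card_fin, Fintype.card_option] at h

theorem orderOf_psl (x : Matrix.ProjectiveSpecialLinearGroup (Fin 2) K) : orderOf x ≤ Fintype.card K + 1 := by
  rw [← orderOf_injective Matrix.ProjectiveSpecialLinearGroup.toPGL Matrix.ProjectiveSpecialLinearGroup.toPGL_injective x]
  exact orderOf_pgl _

theorem card_pgl_two : Nat.card (Matrix.ProjGenLinGroup (Fin 2) K) = Fintype.card K * (Fintype.card K ^ 2 - 1) := by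
  rw [Cfsg.Lib.Classical.card_PGL, Cfsg.Lib.Classical.SLTwoTori.card_SL2]

/-- Subgroups of a subfield type. -/
theorem subfield_le {P m q : ℕ} (h3 : 3 ≤ P) (hm : P ^ m = q) (hq : 2 ≤ q) :
    m = 1 ∧ P = q ∨ P * P ≤ q := by
  rcases Nat.lt_or_ge m 2 with h | h
  · interval_cases m
    · rw [pow_zero] at hm; omega
    · exact Or.inl ⟨rfl, by rwa [pow_one] at hm⟩
  · refine Or.inr ?_
    rw [← hm, ← pow_two]
    exact Nat.pow_le_pow_right (by omega) h

variable {F : Type u} [Field F] [Fintype F] {q : ℕ}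

theorem not_six_ten (hF : Fintype.card F = q) : q ≠ 1 ∧ q ≠ 6 ∧ q ≠ 10 ∧ q ≠ 12 := by
  have h : IsPrimePow q := hF ▸ (Fintype.isPrimePow_card_of_field : IsPrimePow (Fintype.card F))
  refine ⟨?_, ?_, ?_, ?_⟩ <;> rintro rfl
  · exact not_isPrimePow_one h
  all_goals
    obtain ⟨p, n, hp, hn, he⟩ := (isPrimePow_nat_iff _).mp h
    have h2 : (2 : ℕ) ∣ p ^ n := by rw [he]; norm_num
    have hp2 := (Nat.prime_dvd_prime_iff_eq Nat.prime_two hp).mp (Nat.prime_two.dvd_of_dvd_pow h2)
    subst hp2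
  · have h3 : (3 : ℕ) ∣ 2 ^ n := by rw [he]; norm_num
    exact absurd (Nat.prime_three.dvd_of_dvd_pow h3) (by norm_num)
  · have h5 : (5 : ℕ) ∣ 2 ^ n := by rw [he]; norm_num
    exact absurd (Nat.prime_five.dvd_of_dvd_pow h5) (by norm_num)
  · have h3 : (3 : ℕ) ∣ 2 ^ n := by rw [he]; norm_num
    exact absurd (Nat.prime_three.dvd_of_dvd_pow h3) (by norm_num)

theorem index_bound (hF : Fintype.card F = q) (hq : q ∉ ({2, 3, 5, 7, 9, 11} : Finset ℕ))
    (H : Subgroup (Matrix.ProjectiveSpecialLinearGroup (Fin 2) F)) (hH : H ≠ ⊤) : q + 1 ≤ H.index := by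
  obtain ⟨p, hp⟩ := CharP.exists F
  haveI : Fact p.Prime := ⟨CharP.char_is_prime F p⟩
  have hq2 := PSLFull.two_le hF
  have hne := not_six_ten hF
  simp only [Finset.mem_insert, Finset.mem_singleton, not_or] at hq
  set d := Nat.gcd 2 (q - 1) with hd
  have hdc : d = 1 ∨ d = 2 := PSLFull.gcd_cases
  have hG := PSLFull.card_mul hF
  rw [← hd] at hG
  have hidx := H.card_mul_index
  have hlt : Nat.card H < Nat.card (Matrix.ProjectiveSpecialLinearGroup (Fin 2) F) := by
    refine lt_of_le_of_ne (Nat.le_of_dvd Nat.card_pos H.card_subgroup_dvd_card) fun e => hH ?_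
    exact Subgroup.eq_top_of_card_eq H e
  suffices hb : Nat.card H * d ≤ q * (q - 1) by
    by_contra hcon
    push Not at hcon
    have hpos : 0 < q * (q - 1) := Nat.mul_pos (by omega) (by omega)
    have h1 : Nat.card H * d * H.index ≤ q * (q - 1) * H.index := Nat.mul_le_mul_right _ hb
    have h2 : q * (q - 1) * H.index < q * (q - 1) * (q + 1) := Nat.mul_lt_mul_of_pos_left hcon hpos
    have h3 : Nat.card H * d * H.index = q * (q - 1) * (q + 1) := by
      rw [mul_right_comm, hidx, hG]; ring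
    omega
  have hdiv : ∀ a : ℕ, a ∣ (q + 1) / d ∨ a ∣ (q - 1) / d → a * d ≤ q + 1 := by
    intro a ha
    have hle : a ≤ (q + 1) / d := by
      have hq1 : 0 < (q - 1) / d ∧ 0 < (q + 1) / d := by
        rcases hdc with e | e <;> rw [e] <;> omega
      rcases ha with ha | ha
      · exact Nat.le_of_dvd hq1.2 ha
      · exact (Nat.le_of_dvd hq1.1 ha).trans (Nat.div_le_div_right (by omega))
    calc a * d ≤ (q + 1) / d * d := Nat.mul_le_mul_right _ hle
      _ ≤ q + 1 := Nat.div_mul_le_self _ _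
  have hq4 : 4 ≤ q := by omega
  have hfour : 4 * q ≤ q * q := Nat.mul_le_mul_right _ hq4
  have hqq : q * (q - 1) = q * q - q := by rw [Nat.mul_sub, mul_one]
  have hsmall : Nat.card H ≤ 60 → (q = 4 → Nat.card H < 13) → (q = 8 → Nat.card H ≤ 56) →
      Nat.card H * d ≤ q * (q - 1) := by
    intro h60 h4 h8
    rcases Nat.lt_or_ge q 13 with hlt' | hge
    · have : q = 4 ∨ q = 8 := by omega
      rcases this with rfl | rfl
      · have := h4 rfl
        have hd1 : d = 1 := hd.trans rfl
        rw [hd1]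
        omega
      · have := h8 rfl
        have hd1 : d = 1 := hd.trans rfl
        rw [hd1]
        omega
    · have h1 : Nat.card H * d ≤ 60 * 2 := Nat.mul_le_mul h60 (by omega)
      have h2 : 13 * 12 ≤ q * (q - 1) := Nat.mul_le_mul hge (by omega)
      omega
  have hcardG : ∀ c, q = c → Nat.card H ∣ (c + 1) * c * (c - 1) := fun c e => by
    subst e; rw [← hG]; exact (H.card_subgroup_dvd_card).trans (dvd_mul_right _ _)
  have hsub : ∀ P m : ℕ, 3 ≤ P → P ^ m = q →
      (Nat.card H * 2 = P * (P ^ 2 - 1) ∧ Odd P ∨ Nat.card H = P * (P ^ 2 - 1)) → Nat.card H * d ≤ q * (q - 1) := by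
    intro P m h3 hPm hcard
    rcases subfield_le h3 hPm (by omega) with ⟨rfl, rfl⟩ | hPq
    · exfalso
      have e : P * (P ^ 2 - 1) = (P + 1) * P * (P - 1) := by
        obtain ⟨r, rfl⟩ : ∃ r, P = r + 1 := ⟨P - 1, by omega⟩
        rw [Nat.add_sub_cancel, show (r + 1) ^ 2 = (r + 1 + 1) * r + 1 by ring, Nat.add_sub_cancel]
        ring
      rw [e, ← hG] at hcard
      rcases hcard with ⟨hcard, hodd⟩ | hcard
      · have hd2 : d = 2 := by
          rw [hd]; exact Nat.gcd_eq_left (by obtain ⟨r, hr⟩ := hodd; omega)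
        rw [hd2] at hcard
        omega
      · rcases hdc with e' | e' <;> rw [e'] at hcard <;> omega
    · have h1 : P ^ 2 - 1 ≤ q - 1 := by rw [pow_two]; omega
      have hle : Nat.card H ≤ P * (q - 1) := by
        have h2 : P * (P ^ 2 - 1) ≤ P * (q - 1) := Nat.mul_le_mul_left _ h1
        rcases hcard with ⟨hcard, -⟩ | hcard <;> omega
      have h4 : 2 * P ≤ q := le_trans (Nat.mul_le_mul_right P (show 2 ≤ P by omega)) hPq
      calc Nat.card H * d ≤ P * (q - 1) * 2 := Nat.mul_le_mul hle (by omega)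
        _ = 2 * P * (q - 1) := by ring
        _ ≤ q * (q - 1) := Nat.mul_le_mul_right _ h4
  rcases dickson p hF H with ⟨h, hk⟩ | ⟨n, hn, ⟨ψ⟩, hk⟩ | ⟨P, h⟩ | ⟨⟨ψ⟩⟩ | ⟨⟨ψ⟩⟩ | ⟨⟨ψ⟩⟩ |
    ⟨K, m, h3, hodd, hm, ⟨ψ⟩⟩ | ⟨K, m, h3, hm, ⟨ψ⟩⟩
  · have := hdiv _ hk
    omega
  · have := hdiv _ hk
    rw [Nat.card_congr ψ.toEquiv, DihedralGroup.nat_card, mul_assoc]
    omega
  · exact Nat.le_of_dvd (Nat.mul_pos (by omega) (by omega))
      (PSLFull.borel_card (k := AlgebraicClosure F) (algebraMap F (AlgebraicClosure F)) p hF P H h)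
  · have hc : Nat.card H = 12 := by
      rw [Nat.card_congr ψ.toEquiv, nat_card_alternatingGroup, Nat.card_fin]; rfl
    exact hsmall (by omega) (fun _ => by omega) (fun _ => by omega)
  · have hc : Nat.card H = 24 := by rw [Nat.card_congr ψ.toEquiv, Nat.card_perm, Nat.card_fin]; rfl
    refine hsmall (by omega) (fun e => ?_) (fun _ => by omega)
    have := hcardG 4 e
    rw [hc] at this
    norm_num at this
  · have hc : Nat.card H = 60 := by
      rw [Nat.card_congr ψ.toEquiv, nat_card_alternatingGroup, Nat.card_fin]; rfl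
    refine hsmall (by omega) (fun e => ?_) (fun e => ?_)
    · exfalso
      subst e
      have hd1 : d = 1 := hd.trans rfl
      rw [hd1] at hG
      omega
    · have := hcardG 8 e
      rw [hc] at this
      norm_num at this
  · haveI : Finite (Matrix.ProjectiveSpecialLinearGroup (Fin 2) K) := Finite.of_equiv H ψ.toEquiv
    refine hsub (Fintype.card K) m h3 hm (Or.inl ⟨?_, hodd⟩)
    rw [Nat.card_congr ψ.toEquiv, mul_comm, ← SmallPSL.card_psl (F := K) rfl]
    congr 1
    exact (Nat.gcd_eq_left (by obtain ⟨r, hr⟩ := hodd; omega)).symm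
  · exact hsub (Fintype.card K) m h3 hm (Or.inr (by rw [Nat.card_congr ψ.toEquiv, card_pgl_two]))

end Cfsg.Lib.Classical.PSLBounds
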