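import Mathlib
import Cfsg.Agent.Classical.SL
import Cfsg.Agent.Classical.Misc.PSLBounds

/-! The subgroups of `PSL₂(q)` above a small or a subfield group. -/

set_option autoImplicit false
set_option linter.unusedSimpArgs false
set_option linter.unusedSectionVars false
set_option linter.style.haveILetI false
set_option linter.flexible false

namespace Cfsg.Lib.Classical.PSLOver

open Matrix MulAction
open scoped MatrixGroups LinearAlgebra.Projectivization
open Cfsg.Lib.Classical.SharpGeom Cfsg.Lib.Classical.PSLDickson Cfsg.Lib.Classical.PSLFull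

universe u

local notation "PSL₂" k => Matrix.ProjectiveSpecialLinearGroup (Fin 2) k

theorem metabelian {G : Type*} [Group G] (N : Subgroup G) (hN : ∀ a ∈ N, ∀ b ∈ N, a * b = b * a)
    (h : ∀ g k : G, g * k * g⁻¹ * k⁻¹ ∈ N) : Group.IsSolvable G := by
  rw [Group.isSolvable_def]
  refine ⟨2, ?_⟩
  have h1 : derivedSeries G 1 ≤ N := by
    rw [derivedSeries_succ, derivedSeries_zero, Subgroup.commutator_le]
    exact fun g _ k _ => h g k
  rw [derivedSeries_succ, eq_bot_iff, Subgroup.commutator_le]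
  intro a ha b hb
  rw [Subgroup.mem_bot, commutatorElement_eq_one_iff_mul_comm]
  exact hN a (h1 ha) b (h1 hb)

theorem solvable_dihedral (n : ℕ) : Group.IsSolvable (DihedralGroup n) := by
  refine metabelian (Subgroup.zpowers (DihedralGroup.r 1)) ?_ ?_
  · rintro _ ⟨i, rfl⟩ _ ⟨j, rfl⟩
    show (DihedralGroup.r 1 : DihedralGroup n) ^ i * DihedralGroup.r 1 ^ j = _
    rw [← _root_.zpow_add, add_comm, _root_.zpow_add]
  · have key : ∀ i : ZMod n, DihedralGroup.r i ∈ Subgroup.zpowers (DihedralGroup.r 1 : DihedralGroup n) := by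
      intro i
      obtain ⟨m, rfl⟩ := ZMod.intCast_surjective i
      exact ⟨m, DihedralGroup.r_one_zpow m⟩
    rintro (a | a) (b | b) <;> simp only [DihedralGroup.inv_r, DihedralGroup.inv_sr, DihedralGroup.r_mul_r,
      DihedralGroup.r_mul_sr, DihedralGroup.sr_mul_r, DihedralGroup.sr_mul_sr] <;> exact key _

theorem solvable_four : Group.IsSolvable (alternatingGroup (Fin 4)) := by
  refine metabelian (alternatingGroup.kleinFour (Fin 4)) ?_ ?_
  · haveI := (alternatingGroup.kleinFour_isKleinFour (α := Fin 4) (by simp)).isMulCommutative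
    intro a ha b hb
    exact congrArg Subtype.val (IsMulCommutative.is_comm.comm (⟨a, ha⟩ : alternatingGroup.kleinFour (Fin 4)) ⟨b, hb⟩)
  · intro g k
    rw [alternatingGroup.kleinFour_eq_commutator (by simp)]
    exact Subgroup.commutator_mem_commutator (Subgroup.mem_top g) (Subgroup.mem_top k)

theorem solvable_sym : Group.IsSolvable (Equiv.Perm (Fin 4)) := by
  haveI := solvable_four
  exact Group.isSolvable_of_ker_le_range (alternatingGroup (Fin 4)).subtype (Equiv.Perm.sign)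
    (fun x hx => ⟨⟨x, hx⟩, rfl⟩)

theorem not_solvable_five {H : Type*} [Group H] (φ : H ≃* alternatingGroup (Fin 5)) : ¬ Group.IsSolvable H := by
  intro h
  haveI := h
  haveI : Group.IsSolvable (alternatingGroup (Fin 5)) := Group.isSolvable_of_surjective (f := φ.toMonoidHom) φ.surjective
  haveI := alternatingGroup.isSimpleGroup_five
  have := (IsSimpleGroup.comm_iff_isSolvable (G := alternatingGroup (Fin 5))).mpr inferInstance
  exact absurd (this ⟨Equiv.swap 0 1 * Equiv.swap 1 2, Equiv.Perm.mem_alternatingGroup.mpr (by decide +kernel)⟩ ⟨Equiv.swap 0 1 * Equiv.swap 1 3, Equiv.Perm.mem_alternatingGroup.mpr (by decide +kernel)⟩) (by decide +kernel)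

theorem not_solvable_psl {K : Type*} [Field K] [Fintype K] (h : 4 ≤ Fintype.card K) :
    ¬ Group.IsSolvable (PSL₂ K) := by
  intro hs
  haveI := hs
  haveI := Cfsg.Lib.Classical.isSimpleGroup_PSL_fin (F := K) (n := 2) le_rfl (fun _ => by rwa [Nat.card_eq_fintype_card])
  have hc := (IsSimpleGroup.comm_iff_isSolvable (G := PSL₂ K)).mpr hs
  letI : CommGroup (PSL₂ K) := { (inferInstance : Group (PSL₂ K)) with mul_comm := hc }
  have hp : (Nat.card (PSL₂ K)).Prime := IsSimpleGroup.prime_card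
  have hcard := PSLFull.card_mul (F := K) rfl
  generalize hq : Fintype.card K = q at h hcard
  rcases gcd_cases (q := q) with e | e <;> rw [e] at hcard
  · refine Nat.not_prime_mul (a := q) (b := (q + 1) * (q - 1)) (by omega) ?_ (by rw [mul_one] at hcard; rw [hcard] at hp; convert hp using 1; ring)
    have : 1 * 2 ≤ (q + 1) * (q - 1) := Nat.mul_le_mul (by omega) (by omega)
    omega
  · have h60 : 4 * 15 ≤ q * ((q + 1) * (q - 1)) := Nat.mul_le_mul h (by
      have : 5 * 3 ≤ (q + 1) * (q - 1) := Nat.mul_le_mul (by omega) (by omega)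
      omega)
    have hodd : q % 2 = 1 := by
      have h2 : 2 ∣ q - 1 := e ▸ Nat.gcd_dvd_right 2 (q - 1)
      omega
    obtain ⟨a, ha⟩ : 4 ∣ (q + 1) * (q - 1) := Nat.mul_dvd_mul (show 2 ∣ q + 1 by omega) (show 2 ∣ q - 1 by omega)
    have h2 : Nat.card (PSL₂ K) = q * (2 * a) := by
      have : (q + 1) * q * (q - 1) = q * (2 * a) * 2 := by rw [mul_comm (q + 1) q, mul_assoc, ha]; ring
      omega
    refine Nat.not_prime_mul (a := q) (b := 2 * a) (by omega) ?_ (h2 ▸ hp)
    intro h1; omega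

variable {F : Type u} [Field F] [Fintype F] {q : ℕ}

/-- Subfield groups, with their orders. -/
def Sub (q : ℕ) (H : Subgroup (PSL₂ F)) : Prop :=
  ∃ (K : Type) (_ : Field K) (_ : Fintype K) (j : ℕ), 3 ≤ Fintype.card K ∧ Fintype.card K ^ j = q ∧
    ((Odd (Fintype.card K) ∧ Nonempty (H ≃* PSL₂ K) ∧
        Nat.card H * 2 = Fintype.card K * (Fintype.card K ^ 2 - 1)) ∨
      (Nonempty (H ≃* Matrix.ProjGenLinGroup (Fin 2) K) ∧
        Nat.card H = Fintype.card K * (Fintype.card K ^ 2 - 1)))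

/-- The groups outside the point and torus families. -/
def Big (q : ℕ) (H : Subgroup (PSL₂ F)) : Prop :=
  Nonempty (H ≃* alternatingGroup (Fin 4)) ∨ Nonempty (H ≃* Equiv.Perm (Fin 4)) ∨
    Nonempty (H ≃* alternatingGroup (Fin 5)) ∨ Sub q H

theorem sub_psl {H : Subgroup (PSL₂ F)} {K : Type} [Field K] [Fintype K] {j : ℕ} (h3 : 3 ≤ Fintype.card K)
    (hodd : Odd (Fintype.card K)) (hj : Fintype.card K ^ j = q) (φ : H ≃* PSL₂ K) : Sub q H := by
  refine ⟨K, inferInstance, inferInstance, j, h3, hj, Or.inl ⟨hodd, ⟨φ⟩, ?_⟩⟩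
  rw [Nat.card_congr φ.toEquiv, mul_comm, ← SmallPSL.card_psl (F := K) rfl]
  congr 1
  exact (Nat.gcd_eq_left (by obtain ⟨r, hr⟩ := hodd; omega)).symm

theorem sub_pgl {H : Subgroup (PSL₂ F)} {K : Type} [Field K] [Fintype K] {j : ℕ} (h3 : 3 ≤ Fintype.card K)
    (hj : Fintype.card K ^ j = q) (φ : H ≃* Matrix.ProjGenLinGroup (Fin 2) K) : Sub q H :=
  ⟨K, inferInstance, inferInstance, j, h3, hj,
    Or.inr ⟨⟨φ⟩, by rw [Nat.card_congr φ.toEquiv, PSLBounds.card_pgl_two]⟩⟩

theorem borel_solvable (p : ℕ) [Fact p.Prime] [CharP F p] (hF : Fintype.card F = q) (P : Sylow p (PSL₂ F))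
    (H : Subgroup (PSL₂ F)) (hH : H ≤ Subgroup.normalizer ((P : Subgroup (PSL₂ F)) : Set (PSL₂ F))) :
    Group.IsSolvable H ∧ ∀ g ∈ H, ∀ k ∈ H, (g * k * g⁻¹ * k⁻¹) ^ p = 1 := by
  let k₀ := AlgebraicClosure F
  let i : F →+* k₀ := algebraMap F k₀
  haveI : CharP k₀ p := charP_of_injective_ringHom i.injective p
  haveI : Finite (PSLEmbed.pslMap i).range := Finite.of_surjective _ (PSLEmbed.pslMap i).rangeRestrict_surjective
  have W := full i p hF
  obtain ⟨z, -, hz⟩ := borel_fix i p hF P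
  have hc : ∀ g ∈ H, ∀ k ∈ H, eW i (g * k * g⁻¹ * k⁻¹) ∈ W.geom.unip z := fun g hg k hk => by
    rw [map_mul, map_mul, map_mul, map_inv, map_inv]
    exact comm_unip W.geom (hz g (hH hg)) (hz k (hH hk))
  refine ⟨metabelian ((W.geom.unip z).comap ((eW i).toMonoidHom.comp H.subtype)) ?_ ?_, ?_⟩
  · intro a ha b hb
    apply Subtype.ext
    apply (eW i).injective
    rw [Subgroup.coe_mul, Subgroup.coe_mul, map_mul, map_mul]
    exact W.geom.unip_comm z _ _ ha.1 hb.1 ha.2 hb.2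
  · intro g k
    exact hc g g.2 k k.2
  · intro g hg k hk
    apply (eW i).injective
    rw [map_pow, map_one]
    exact (hc g hg k hk).2

/-- A group containing `A₄`, in odd characteristic. -/
theorem big_of_four (p : ℕ) [Fact p.Prime] [CharP F p] (hp : p ≠ 2) (hF : Fintype.card F = q) (H : Subgroup (PSL₂ F))
    (f : alternatingGroup (Fin 4) →* H) (hf : Function.Injective f) : Big q H := by
  set g₁ : alternatingGroup (Fin 4) := ⟨Equiv.swap 0 1 * Equiv.swap 1 2, Equiv.Perm.mem_alternatingGroup.mpr (by decide +kernel)⟩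
  set g₂ : alternatingGroup (Fin 4) := ⟨Equiv.swap 0 1 * Equiv.swap 1 3, Equiv.Perm.mem_alternatingGroup.mpr (by decide +kernel)⟩
  have hne : g₁ * g₂ ≠ g₂ * g₁ := by decide +kernel
  have h1 : g₁ ^ 3 = 1 := by decide +kernel
  have h2 : g₂ ^ 3 = 1 := by decide +kernel
  have hc : (g₁ * g₂ * g₁⁻¹ * g₂⁻¹) ^ 2 = 1 := by decide +kernel
  rcases dickson p hF H with ⟨h, -⟩ | ⟨n, hn, ⟨φ⟩, -⟩ | ⟨P, h⟩ | h | h | h | ⟨K, j, h3, hodd, hj, ⟨φ⟩⟩ | ⟨K, j, h3, hj, ⟨φ⟩⟩
  · haveI := h
    exact absurd (hf (by rw [map_mul, map_mul]; exact mul_comm' (f g₁) (f g₂))) hne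
  · have hrot : ∀ x : DihedralGroup n, x ^ 3 = 1 → ∃ i, x = DihedralGroup.r i := by
      rintro (i | i) hx
      · exact ⟨i, rfl⟩
      · exfalso
        rw [pow_succ, pow_two, DihedralGroup.sr_mul_self, one_mul] at hx
        cases hx
    obtain ⟨a, ha⟩ := hrot (φ (f g₁)) (by rw [← map_pow, ← map_pow, h1, map_one, map_one])
    obtain ⟨b, hb⟩ := hrot (φ (f g₂)) (by rw [← map_pow, ← map_pow, h2, map_one, map_one])
    exact absurd (hf (φ.injective (by rw [map_mul, map_mul, map_mul, map_mul, ha, hb, DihedralGroup.r_mul_r,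
      DihedralGroup.r_mul_r, add_comm]))) hne
  · exfalso
    have h' := (borel_solvable p hF P H h).2 _ (f g₁).2 _ (f g₂).2
    have e : ((f g₁ : H) : PSL₂ F) * f g₂ * ((f g₁ : H) : PSL₂ F)⁻¹ * ((f g₂ : H) : PSL₂ F)⁻¹ =
        (f (g₁ * g₂ * g₁⁻¹ * g₂⁻¹) : H) := by simp
    rw [e, ← Subgroup.coe_pow, ← map_pow] at h'
    have h'' := hf (((Subtype.ext h') : f _ = (1 : H)).trans (map_one f).symm)
    obtain ⟨m, hm⟩ := (Fact.out : p.Prime).odd_of_ne_two hp
    rw [hm, pow_succ, pow_mul, hc, one_pow, one_mul] at h''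
    exact hne (commutatorElement_eq_one_iff_mul_comm.mp h'')
  · exact Or.inl h
  · exact Or.inr (Or.inl h)
  · exact Or.inr (Or.inr (Or.inl h))
  · exact Or.inr (Or.inr (Or.inr (sub_psl h3 hodd hj φ)))
  · exact Or.inr (Or.inr (Or.inr (sub_pgl h3 hj φ)))

/-- A nonsolvable subgroup. -/
theorem big_of_not_solvable (hF : Fintype.card F = q) (H : Subgroup (PSL₂ F)) (hH : ¬ Group.IsSolvable H) :
    Nonempty (H ≃* alternatingGroup (Fin 5)) ∨ Sub q H := by
  obtain ⟨p, hp⟩ := CharP.exists F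
  haveI : Fact p.Prime := ⟨CharP.char_is_prime F p⟩
  have tr : ∀ {A : Type} [Group A], Group.IsSolvable A → (H ≃* A) → False := fun {A} _ hA φ => by
    haveI := hA
    exact hH (Group.isSolvable_of_isSolvable_injective (f := φ.toMonoidHom) φ.injective)
  rcases dickson p hF H with ⟨h, -⟩ | ⟨n, hn, ⟨φ⟩, -⟩ | ⟨P, h⟩ | ⟨⟨φ⟩⟩ | ⟨⟨φ⟩⟩ | h | ⟨K, j, h3, hodd, hj, ⟨φ⟩⟩ | ⟨K, j, h3, hj, ⟨φ⟩⟩
  · haveI := h
    exact absurd (Group.isSolvable_of_comm fun a b => mul_comm' a b) hH
  · exact (tr (solvable_dihedral n) φ).elim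
  · exact absurd (borel_solvable p hF P H h).1 hH
  · exact (tr solvable_four φ).elim
  · exact (tr solvable_sym φ).elim
  · exact Or.inl h
  · exact Or.inr (sub_psl h3 hodd hj φ)
  · exact Or.inr (sub_pgl h3 hj φ)

/-- Subfield groups of full degree are everything. -/
theorem sub_cases (hF : Fintype.card F = q) {H : Subgroup (PSL₂ F)} (hH : H ≠ ⊤) (h : Sub q H) :
    ∃ (K : Type) (_ : Field K) (_ : Fintype K) (j : ℕ), 3 ≤ Fintype.card K ∧ Fintype.card K ^ j = q ∧ 2 ≤ j ∧
      ((Odd (Fintype.card K) ∧ Nonempty (H ≃* PSL₂ K) ∧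
          Nat.card H * 2 = Fintype.card K * (Fintype.card K ^ 2 - 1)) ∨
        (Nonempty (H ≃* Matrix.ProjGenLinGroup (Fin 2) K) ∧
          Nat.card H = Fintype.card K * (Fintype.card K ^ 2 - 1))) := by
  obtain ⟨K, _, _, j, h3, hj, hc⟩ := h
  refine ⟨K, inferInstance, inferInstance, j, h3, hj, ?_, hc⟩
  have hq2 := two_le hF
  have hlt : Nat.card H < Nat.card (PSL₂ F) :=
    lt_of_le_of_ne (Nat.le_of_dvd Nat.card_pos H.card_subgroup_dvd_card) fun e => hH (Subgroup.eq_top_of_card_eq H e)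
  by_contra hj2
  interval_cases j
  · rw [pow_zero] at hj; omega
  · rw [pow_one] at hj
    subst hj
    have hG := SmallPSL.card_psl hF
    rcases hc with ⟨hodd, -, hc⟩ | ⟨-, hc⟩
    · rw [Nat.gcd_eq_left (by obtain ⟨r, hr⟩ := hodd; omega), ← hc] at hG
      omega
    · rw [← hc] at hG
      rcases gcd_cases (q := Fintype.card K) with e | e <;> rw [e] at hG <;> omega

end Cfsg.Lib.Classical.PSLOver
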