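import Mathlib
import Cfsg.Agent.Classical.Misc.SLTwoTori

/-! Steinberg's presentation of `SL₂` over a finite field. -/

set_option autoImplicit false
set_option linter.unusedSectionVars false

namespace Cfsg.Lib.SLTwoPres

/-- Steinberg's relations in rank one. -/
structure Rel {K : Type*} [Field K] {G : Type*} [Group G] (x y : K → G) : Prop where
  addx : ∀ a b, x a * x b = x (a + b)
  addy : ∀ a b, y a * y b = y (a + b)
  rel : ∀ t u, t ≠ 0 → (x t * y (-t⁻¹) * x t) * x u * (x t * y (-t⁻¹) * x t)⁻¹ = y (-(t⁻¹ ^ 2 * u))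
  gen : Subgroup.closure (Set.range x ∪ Set.range y) = ⊤

variable {K : Type*} [Field K] {G : Type*} [Group G] {x y : K → G}

/-- the Weyl element -/
def w (x y : K → G) (t : K) : G := x t * y (-t⁻¹) * x t

/-- the torus element -/
def h (x y : K → G) (t : K) : G := w x y t * w x y (-1)

namespace Rel

variable (R : Rel x y)
include R

theorem x_zero : x 0 = 1 := by
  have := R.addx 0 0
  rw [add_zero] at this
  exact mul_eq_right.1 this

theorem y_zero : y 0 = 1 := by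
  have := R.addy 0 0
  rw [add_zero] at this
  exact mul_eq_right.1 this

theorem x_inv (a : K) : (x a)⁻¹ = x (-a) :=
  inv_eq_of_mul_eq_one_right (by rw [R.addx, add_neg_cancel, R.x_zero])

theorem y_inv (a : K) : (y a)⁻¹ = y (-a) :=
  inv_eq_of_mul_eq_one_right (by rw [R.addy, add_neg_cancel, R.y_zero])

theorem w_inv (t : K) : (w x y t)⁻¹ = w x y (-t) := by
  simp only [w, mul_inv_rev, R.x_inv, R.y_inv, inv_neg, neg_neg, mul_assoc]

theorem w_conj_x {t : K} (ht : t ≠ 0) (u : K) :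
    w x y t * x u * (w x y t)⁻¹ = y (-(t⁻¹ ^ 2 * u)) := R.rel t u ht

theorem w_conj_y {t : K} (ht : t ≠ 0) (v : K) :
    w x y t * y v * (w x y t)⁻¹ = x (-(t ^ 2 * v)) := by
  have h1 := R.w_conj_x (neg_ne_zero.2 ht) (-(t ^ 2 * v))
  have e : -((-t)⁻¹ ^ 2 * -(t ^ 2 * v)) = v := by
    field_simp
  rw [e] at h1
  rw [← h1, R.w_inv, R.w_inv, neg_neg]
  have h2 : w x y t * w x y (-t) = 1 := by rw [← R.w_inv]; exact mul_inv_cancel _
  calc w x y t * (w x y (-t) * x (-(t ^ 2 * v)) * w x y t) * w x y (-t)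
      = (w x y t * w x y (-t)) * x (-(t ^ 2 * v)) * (w x y t * w x y (-t)) := by group
    _ = x (-(t ^ 2 * v)) := by rw [h2, one_mul, mul_one]

theorem w_eq {t : K} (ht : t ≠ 0) : w x y t = y (-t⁻¹) * x t * y (-t⁻¹) := by
  have e : w x y t = (w x y t * x t * (w x y t)⁻¹) * (w x y t * y (-t⁻¹) * (w x y t)⁻¹) *
      (w x y t * x t * (w x y t)⁻¹) := by
    simp only [w]; group
  rw [e, R.w_conj_x ht, R.w_conj_y ht]
  have e1 : -(t⁻¹ ^ 2 * t) = -t⁻¹ := by field_simp
  have e2 : -(t ^ 2 * -t⁻¹) = t := by field_simp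
  rw [e1, e2]

theorem w_conj_w {s t : K} (hs : s ≠ 0) (ht : t ≠ 0) :
    w x y s * w x y t * (w x y s)⁻¹ = w x y (s ^ 2 / t) := by
  have e : w x y s * w x y t * (w x y s)⁻¹ = (w x y s * x t * (w x y s)⁻¹) *
      (w x y s * y (-t⁻¹) * (w x y s)⁻¹) * (w x y s * x t * (w x y s)⁻¹) := by
    simp only [w]; group
  rw [e, R.w_conj_x hs, R.w_conj_y hs, R.w_eq (div_ne_zero (pow_ne_zero 2 hs) ht)]
  have e1 : -(s⁻¹ ^ 2 * t) = -(s ^ 2 / t)⁻¹ := by field_simp
  have e2 : -(s ^ 2 * -t⁻¹) = s ^ 2 / t := by field_simp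
  rw [e1, e2]

theorem h_conj_x {t : K} (ht : t ≠ 0) (a : K) : h x y t * x a * (h x y t)⁻¹ = x (t ^ 2 * a) := by
  have e : h x y t * x a * (h x y t)⁻¹ =
      w x y t * (w x y (-1) * x a * (w x y (-1))⁻¹) * (w x y t)⁻¹ := by simp only [h]; group
  rw [e, R.w_conj_x (neg_ne_zero.2 one_ne_zero), R.w_conj_y ht]
  congr 1
  field_simp

theorem h_conj_y {t : K} (ht : t ≠ 0) (a : K) : h x y t * y a * (h x y t)⁻¹ = y (t⁻¹ ^ 2 * a) := by
  have e : h x y t * y a * (h x y t)⁻¹ =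
      w x y t * (w x y (-1) * y a * (w x y (-1))⁻¹) * (w x y t)⁻¹ := by simp only [h]; group
  rw [e, R.w_conj_y (neg_ne_zero.2 one_ne_zero), R.w_conj_x ht]
  congr 1
  field_simp

theorem h_conj_w {t s : K} (ht : t ≠ 0) (hs : s ≠ 0) :
    h x y t * w x y s * (h x y t)⁻¹ = w x y (t ^ 2 * s) := by
  have e : h x y t * w x y s * (h x y t)⁻¹ = (h x y t * x s * (h x y t)⁻¹) *
      (h x y t * y (-s⁻¹) * (h x y t)⁻¹) * (h x y t * x s * (h x y t)⁻¹) := by
    simp only [w]; group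
  rw [e, R.h_conj_x ht, R.h_conj_y ht]
  have e1 : t⁻¹ ^ 2 * -s⁻¹ = -(t ^ 2 * s)⁻¹ := by field_simp
  rw [e1]
  rfl

theorem h_one : h x y 1 = 1 := by rw [h, ← R.w_inv, mul_inv_cancel]

theorem h_eq (t : K) : w x y t = h x y t * w x y 1 := by
  rw [h, ← R.w_inv, inv_mul_cancel_right]

theorem central {a b : K} (ha : a ≠ 0) (hb : b ≠ 0) (g : G) :
    Commute g (h x y a * h x y b * (h x y (a * b))⁻¹) := by
  set c := h x y a * h x y b * (h x y (a * b))⁻¹ with hc
  have hab := mul_ne_zero ha hb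
  have key : ∀ (z : K → G) (f : K → K → K), (∀ t, t ≠ 0 → ∀ u, h x y t * z u * (h x y t)⁻¹ = z (f t u)) →
      (∀ u, f a (f b u) = f (a * b) u) → (∀ u, ∃ v, f (a * b) v = u) → ∀ u, c * z u * c⁻¹ = z u := by
    intro z f hz hf hsurj u
    obtain ⟨v, rfl⟩ := hsurj u
    have e : c * z (f (a * b) v) * c⁻¹ = h x y a * (h x y b * z v * (h x y b)⁻¹) * (h x y a)⁻¹ := by
      rw [← hz (a * b) hab, hc]; group
    rw [e, hz b hb, hz a ha, hf]
  have hx := key x (fun t u => t ^ 2 * u) (fun t ht u => R.h_conj_x ht u) (fun u => by ring)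
    (fun u => ⟨u / (a * b) ^ 2, by field_simp⟩)
  have hy := key y (fun t u => t⁻¹ ^ 2 * u) (fun t ht u => R.h_conj_y ht u) (fun u => by rw [mul_inv]; ring)
    (fun u => ⟨u * (a * b) ^ 2, by field_simp⟩)
  have hle : Subgroup.closure (Set.range x ∪ Set.range y) ≤ Subgroup.centralizer {c} := by
    rw [Subgroup.closure_le]
    rintro _ (⟨u, rfl⟩ | ⟨u, rfl⟩)
    · exact Subgroup.mem_centralizer_singleton_iff.2 (mul_inv_eq_iff_eq_mul.1 (hx u)).symm
    · exact Subgroup.mem_centralizer_singleton_iff.2 (mul_inv_eq_iff_eq_mul.1 (hy u)).symm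
  rw [R.gen] at hle
  exact Subgroup.mem_centralizer_singleton_iff.1 (hle (Subgroup.mem_top g))

variable [Finite K]

theorem h_commute {a b : K} (ha : a ≠ 0) (hb : b ≠ 0) : Commute (h x y a) (h x y b) := by
  obtain ⟨g, hg⟩ := IsCyclic.exists_generator (α := Kˣ)
  have hpow : ∀ c : K, c ≠ 0 → ∃ n : ℕ, (g : K) ^ n = c := by
    intro c hc
    obtain ⟨n, hn⟩ := (Submonoid.mem_powers_iff _ _).1 (mem_powers_iff_mem_zpowers.2 (hg (Units.mk0 c hc)))
    exact ⟨n, by simpa using congrArg Units.val hn⟩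
  have step : ∀ (e : G) (n : ℕ), Commute e (h x y (g : K)) → Commute e (h x y ((g : K) ^ n)) := by
    intro e n he
    induction n with
    | zero => rw [pow_zero, R.h_one]; exact Commute.one_right e
    | succ n ih =>
      have hc := R.central (pow_ne_zero n g.ne_zero) g.ne_zero e
      have : h x y ((g : K) ^ (n + 1)) = (h x y ((g : K) ^ n) * h x y (g : K) * (h x y ((g : K) ^ n * g))⁻¹)⁻¹ *
          (h x y ((g : K) ^ n) * h x y (g : K)) := by
        rw [pow_succ]; group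
      rw [this]
      exact hc.inv_right.mul_right (ih.mul_right he)
  obtain ⟨m, rfl⟩ := hpow a ha
  obtain ⟨n, rfl⟩ := hpow b hb
  exact step _ n (step _ m (Commute.refl _)).symm

theorem h_sq_mul {t s : K} (ht : t ≠ 0) (hs : s ≠ 0) :
    h x y (t ^ 2 * s) = h x y (t ^ 2) * h x y s := by
  have e : h x y t * h x y s * (h x y t)⁻¹ = (h x y t * w x y s * (h x y t)⁻¹) *
      (h x y t * w x y (-1) * (h x y t)⁻¹) := by
    rw [show h x y s = w x y s * w x y (-1) from rfl]; group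
  rw [(R.h_commute ht hs).eq, mul_inv_cancel_right, R.h_conj_w ht hs, R.h_conj_w ht (neg_ne_zero.2 one_ne_zero)] at e
  have ht2 := pow_ne_zero 2 ht
  rw [← (R.h_commute hs ht2).eq, e]
  simp only [h, mul_neg, mul_one, mul_assoc]
  rw [← mul_assoc (w x y (-t ^ 2)), ← R.w_inv (t ^ 2), inv_mul_cancel, one_mul]

theorem h_mul {a b : K} (ha : a ≠ 0) (hb : b ≠ 0) : h x y (a * b) = h x y a * h x y b := by
  classical
  haveI := Fintype.ofFinite K
  by_cases hsa : IsSquare a
  · obtain ⟨c, rfl⟩ := hsa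
    rw [← pow_two]
    exact R.h_sq_mul (fun e => ha (by simp [e])) hb
  by_cases hsb : IsSquare b
  · obtain ⟨c, rfl⟩ := hsb
    rw [mul_comm, (R.h_commute ha hb).eq, ← pow_two]
    exact R.h_sq_mul (fun e => hb (by simp [e])) ha
  have h2 : ringChar K ≠ 2 := fun e => hsa (FiniteField.isSquare_of_char_two e a)
  have hodd : Fintype.card K % 2 = 1 := FiniteField.odd_card_of_char_ne_two h2
  -- two non-squares summing to one
  obtain ⟨c, d, hcd⟩ := FiniteField.exists_root_sum_quadratic (R := K) (f := Polynomial.X ^ 2)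
    (g := Polynomial.X ^ 2 - Polynomial.C a) (Polynomial.degree_X_pow 2)
    (Polynomial.degree_X_pow_sub_C (by norm_num) a) hodd
  simp only [Polynomial.eval_pow, Polynomial.eval_X, Polynomial.eval_sub, Polynomial.eval_C] at hcd
  have hcd' : c ^ 2 + d ^ 2 = a := by linear_combination hcd
  have hc : c ≠ 0 := fun e => hsa ⟨d, by rw [← hcd', e]; ring⟩
  have hd : d ≠ 0 := fun e => hsa ⟨c, by rw [← hcd', e]; ring⟩
  have ns : ∀ e : K, e ≠ 0 → ¬ IsSquare (e ^ 2 / a) := by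
    rintro e he ⟨r, hr⟩
    have hr0 : r ≠ 0 := fun h0 => by
      rw [h0, mul_zero, div_eq_zero_iff] at hr
      exact hr.elim (fun h => he ((pow_eq_zero_iff two_ne_zero).1 h)) ha
    refine hsa ⟨e / r, ?_⟩
    field_simp at hr ⊢
    linear_combination -hr
  set u := c ^ 2 / a with hu
  set v := d ^ 2 / a with hv
  have huv : u + v = 1 := by rw [hu, hv, ← add_div, hcd', div_self ha]
  have hu0 : u ≠ 0 := div_ne_zero (pow_ne_zero 2 hc) ha
  have hv0 : v ≠ 0 := div_ne_zero (pow_ne_zero 2 hd) ha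
  have hprod : u * v ≠ 0 := mul_ne_zero hu0 hv0
  have key : h x y u * h x y v = h x y (u * v) := by
    have p1 : x u = y u⁻¹ * w x y u * y u⁻¹ := by
      rw [R.w_eq hu0, ← R.y_inv]; group
    have p2 : x v = y v⁻¹ * w x y v * y v⁻¹ := by
      rw [R.w_eq hv0, ← R.y_inv]; group
    have p3 : y (u * v)⁻¹ = x (u * v) * w x y (-(u * v)) * x (u * v) := by
      rw [show w x y (-(u * v)) = x (-(u * v)) * y (-(-(u * v))⁻¹) * x (-(u * v)) from rfl, ← R.x_inv, inv_neg, neg_neg]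
      group
    have p4 : w x y u * x (u * v) = y (-(v / u)) * w x y u := by
      have e := mul_inv_eq_iff_eq_mul.1 (R.w_conj_x hu0 (u * v))
      rw [e]; congr 2; field_simp
    have p5 : x (u * v) * w x y v = w x y v * y (-(u / v)) := by
      have e := mul_inv_eq_iff_eq_mul.1 (R.w_conj_y hv0 (-(u / v)))
      rw [e]; congr 2; field_simp
    have e6 : u⁻¹ + v⁻¹ = (u * v)⁻¹ := by field_simp; linear_combination huv
    have e7 : u⁻¹ + -(v / u) = 1 := by field_simp; linear_combination -huv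
    have e8 : -(u / v) + v⁻¹ = 1 := by field_simp; linear_combination -huv
    have main : x 1 = y 1 * (w x y u * w x y (-(u * v)) * w x y v) * y 1 := by
      rw [← huv, ← R.addx, p1, p2]
      calc y u⁻¹ * w x y u * y u⁻¹ * (y v⁻¹ * w x y v * y v⁻¹)
          = y u⁻¹ * w x y u * (y u⁻¹ * y v⁻¹) * w x y v * y v⁻¹ := by group
        _ = y u⁻¹ * (w x y u * x (u * v)) * w x y (-(u * v)) * (x (u * v) * w x y v) * y v⁻¹ := by
            rw [R.addy, e6, p3]; group
        _ = (y u⁻¹ * y (-(v / u))) * (w x y u * w x y (-(u * v)) * w x y v) * (y (-(u / v)) * y v⁻¹) := by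
            rw [p4, p5]; group
        _ = _ := by rw [R.addy, R.addy, e7, e8, huv]
    have hw1 : w x y 1 = w x y u * w x y (-(u * v)) * w x y v := by
      rw [R.w_eq one_ne_zero, inv_one, main, ← R.y_inv]; group
    have e9 : w x y (-(u * v)) = (w x y 1)⁻¹ * (h x y (u * v))⁻¹ := by
      rw [← R.w_inv, R.h_eq (u * v), mul_inv_rev]
    rw [e9, R.h_eq u, R.h_eq v] at hw1
    have e10 : h x y u * (h x y (u * v))⁻¹ * h x y v * w x y 1 = w x y 1 := by
      conv_rhs => rw [hw1]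
      group
    have e11 := mul_eq_right.1 e10
    rw [mul_assoc, ((R.h_commute hprod hv0).inv_left).eq, ← mul_assoc, mul_inv_eq_one] at e11
    exact e11
  have sq_of : ∀ e f : K, ¬ IsSquare e → ¬ IsSquare f → IsSquare (e * f) := by
    intro e f he hf
    have he0 : e ≠ 0 := fun h0 => he (h0 ▸ IsSquare.zero)
    have hf0 : f ≠ 0 := fun h0 => hf (h0 ▸ IsSquare.zero)
    rw [← quadraticChar_one_iff_isSquare (mul_ne_zero he0 hf0), map_mul,
      quadraticChar_neg_one_iff_not_isSquare.2 he, quadraticChar_neg_one_iff_not_isSquare.2 hf]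
    norm_num
  obtain ⟨r, hr⟩ := sq_of a u hsa (ns c hc)
  obtain ⟨s, hs⟩ := sq_of b v hsb (ns d hd)
  have hr0 : r ≠ 0 := fun e => mul_ne_zero ha hu0 (by rw [hr, e, mul_zero])
  have hs0 : s ≠ 0 := fun e => mul_ne_zero hb hv0 (by rw [hs, e, mul_zero])
  have ea : a = (r / u) ^ 2 * u := by field_simp; linear_combination hr
  have eb : b = (s / v) ^ 2 * v := by field_simp; linear_combination hs
  have hru : r / u ≠ 0 := div_ne_zero hr0 hu0
  have hsv : s / v ≠ 0 := div_ne_zero hs0 hv0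
  rw [show a * b = (r / u * (s / v)) ^ 2 * (u * v) by rw [mul_pow]; nth_rw 1 [ea, eb]; ring,
    R.h_sq_mul (mul_ne_zero hru hsv) hprod, mul_pow, R.h_sq_mul hru (pow_ne_zero 2 hsv), ← key]
  conv_rhs => rw [ea, eb, R.h_sq_mul hru hu0, R.h_sq_mul hsv hv0]
  have hc2 := (R.h_commute (pow_ne_zero 2 hsv) hu0).eq
  rw [mul_assoc, mul_assoc, ← mul_assoc (h x y ((s / v) ^ 2)), hc2, mul_assoc]

theorem card_le [Fintype K] : Finite G ∧ Nat.card G ≤ Fintype.card K * (Fintype.card K ^ 2 - 1) := by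
  classical
  let f : (K × Kˣ) ⊕ (K × Kˣ × K) → G :=
    Sum.elim (fun p => x p.1 * h x y (p.2 : K)) (fun p => x p.1 * h x y (p.2.1 : K) * w x y 1 * x p.2.2)
  have hw1 : ∀ t : K, t ≠ 0 → w x y 1 * h x y t = h x y t⁻¹ * w x y 1 := by
    intro t ht
    have e : w x y 1 * h x y t * (w x y 1)⁻¹ = (w x y 1 * w x y t * (w x y 1)⁻¹) *
        (w x y 1 * w x y (-1) * (w x y 1)⁻¹) := by simp only [h]; group
    rw [R.w_conj_w one_ne_zero ht, R.w_conj_w one_ne_zero (neg_ne_zero.2 one_ne_zero)] at e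
    have e' : w x y 1 * h x y t * (w x y 1)⁻¹ = h x y t⁻¹ := by
      rw [e]; simp [h, div_neg]
    rw [← e', inv_mul_cancel_right]
  have hxh : ∀ t : K, t ≠ 0 → ∀ a, x a * h x y t = h x y t * x (a / t ^ 2) := fun t ht a => by
    have e := R.h_conj_x ht (a / t ^ 2)
    rw [mul_div_cancel₀ _ (pow_ne_zero 2 ht)] at e
    exact (mul_inv_eq_iff_eq_mul.1 e).symm
  have hww : w x y 1 * w x y 1 = h x y (-1) := by
    have e : h x y (-1) * h x y (-1) = 1 := by
      rw [← R.h_mul (neg_ne_zero.2 one_ne_zero) (neg_ne_zero.2 one_ne_zero), neg_mul_neg, one_mul, R.h_one]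
    rw [← inv_eq_of_mul_eq_one_right e, h, mul_inv_rev, R.w_inv, neg_neg]
  have stab_x : ∀ c p, ∃ p', x c * f p = f p' := by
    rintro c (⟨a, t⟩ | ⟨a, t, b⟩)
    · exact ⟨Sum.inl (c + a, t), by simp [f, ← mul_assoc, R.addx]⟩
    · exact ⟨Sum.inr (c + a, t, b), by simp [f, ← mul_assoc, R.addx]⟩
  have stab_w : ∀ p, ∃ p', w x y 1 * f p = f p' := by
    rintro (⟨a, t⟩ | ⟨a, t, b⟩)
    · refine ⟨Sum.inr (0, t⁻¹, a / (t : K) ^ 2), ?_⟩
      simp only [f, Sum.elim_inl, Sum.elim_inr, R.x_zero, one_mul, Units.val_inv_eq_inv_val]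
      rw [hxh _ t.ne_zero, ← mul_assoc, hw1 _ t.ne_zero]
    · by_cases ha : a = 0
      · subst ha
        refine ⟨Sum.inl (((t : K)⁻¹ * -1) ^ 2 * b, t⁻¹ * -1), ?_⟩
        simp only [f, Sum.elim_inl, Sum.elim_inr, R.x_zero, one_mul, Units.val_mul, Units.val_inv_eq_inv_val,
          Units.val_neg, Units.val_one]
        have ht : (t : K)⁻¹ ≠ 0 := inv_ne_zero t.ne_zero
        have htn : (t : K)⁻¹ * -1 ≠ 0 := mul_ne_zero ht (neg_ne_zero.2 one_ne_zero)
        rw [← mul_assoc, ← mul_assoc, hw1 _ t.ne_zero, mul_assoc (h x y _) (w x y 1), hww,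
          ← R.h_mul ht (neg_ne_zero.2 one_ne_zero), hxh _ htn, mul_div_cancel_left₀ _ (pow_ne_zero 2 htn)]
      · have hs : a⁻¹ ≠ 0 := inv_ne_zero ha
        have ht : (t : K)⁻¹ ≠ 0 := inv_ne_zero t.ne_zero
        set k : K := (t : K)⁻¹ * -1 with hk
        have hk0 : k ≠ 0 := mul_ne_zero ht (neg_ne_zero.2 one_ne_zero)
        refine ⟨Sum.inr (-a⁻¹, Units.mk0 (a⁻¹ * k⁻¹) (mul_ne_zero hs (inv_ne_zero hk0)), (-a⁻¹) / k ^ 2 + b), ?_⟩
        simp only [f, Sum.elim_inr, Units.val_mk0]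
        have e1 : w x y 1 * x a = y (-a) * w x y 1 := by
          have := mul_inv_eq_iff_eq_mul.1 (R.w_conj_x one_ne_zero a)
          simpa using this
        have e2 : y (-a) = x (-a⁻¹) * w x y a⁻¹ * x (-a⁻¹) := by
          rw [show w x y a⁻¹ = x a⁻¹ * y (-a⁻¹⁻¹) * x a⁻¹ from rfl, ← R.x_inv, inv_inv]; group
        have e3 : w x y 1 * h x y (t : K) * w x y 1 = h x y k := by
          rw [hw1 _ t.ne_zero, mul_assoc, hww, ← R.h_mul ht (neg_ne_zero.2 one_ne_zero)]
        calc w x y 1 * (x a * h x y t * w x y 1 * x b)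
            = (w x y 1 * x a) * h x y t * w x y 1 * x b := by simp only [mul_assoc]
          _ = y (-a) * (w x y 1 * h x y t * w x y 1) * x b := by rw [e1]; simp only [mul_assoc]
          _ = x (-a⁻¹) * h x y a⁻¹ * (w x y 1 * (x (-a⁻¹) * h x y k)) * x b := by
              rw [e3, e2, R.h_eq a⁻¹]; simp only [mul_assoc]
          _ = x (-a⁻¹) * h x y a⁻¹ * ((w x y 1 * h x y k) * x ((-a⁻¹) / k ^ 2)) * x b := by
              rw [hxh _ hk0]; simp only [mul_assoc]
          _ = x (-a⁻¹) * (h x y a⁻¹ * h x y k⁻¹) * w x y 1 * (x ((-a⁻¹) / k ^ 2) * x b) := by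
              rw [hw1 _ hk0]; simp only [mul_assoc]
          _ = _ := by rw [← R.h_mul hs (inv_ne_zero hk0), R.addx]
  -- the translates fill the group
  have hgen : Subgroup.closure (Set.range x ∪ {w x y 1}) = ⊤ := by
    rw [← top_le_iff, ← R.gen, Subgroup.closure_le]
    rintro _ (⟨u, rfl⟩ | ⟨u, rfl⟩)
    · exact Subgroup.subset_closure (Or.inl ⟨u, rfl⟩)
    · have e := R.w_conj_x one_ne_zero (-u)
      rw [inv_one, one_pow, one_mul, neg_neg] at e
      rw [← e]
      exact mul_mem (mul_mem (Subgroup.subset_closure (Or.inr rfl)) (Subgroup.subset_closure (Or.inl ⟨-u, rfl⟩)))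
        (inv_mem (Subgroup.subset_closure (Or.inr rfl)))
  have hmul : ∀ g : G, ∀ p, ∃ p', g * f p = f p' := by
    intro g
    have hg : g ∈ Subgroup.closure (Set.range x ∪ {w x y 1}) := hgen ▸ Subgroup.mem_top g
    induction hg using Subgroup.closure_induction with
    | mem g hg =>
      intro p
      rcases hg with ⟨c, rfl⟩ | rfl
      · exact stab_x c p
      · exact stab_w p
    | one => exact fun p => ⟨p, one_mul _⟩
    | mul g g' _ _ h1 h2 =>
      intro p
      obtain ⟨p', e⟩ := h2 p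
      obtain ⟨p'', e'⟩ := h1 p'
      exact ⟨p'', by rw [mul_assoc, e, e']⟩
    | inv g _ h1 =>
      choose T hT using h1
      have hfin := Set.finite_range f
      have hinj : Set.MapsTo (g * ·) (Set.range f) (Set.range f) := by
        rintro _ ⟨p, rfl⟩; exact ⟨T p, (hT p).symm⟩
      have hsur : Set.SurjOn (g * ·) (Set.range f) (Set.range f) :=
        ((hfin.injOn_iff_bijOn_of_mapsTo hinj).1 (mul_right_injective g).injOn).surjOn
      intro p
      obtain ⟨_, ⟨p', rfl⟩, e⟩ := hsur ⟨p, rfl⟩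
      exact ⟨p', by rw [inv_mul_eq_iff_eq_mul]; exact e.symm⟩
  have hsurj : Function.Surjective f := by
    intro g
    obtain ⟨p', e⟩ := hmul g (Sum.inl (0, 1))
    refine ⟨p', ?_⟩
    rw [← e]
    simp [f, R.x_zero, R.h_one]
  refine ⟨Finite.of_surjective f hsurj, (Nat.card_le_card_of_surjective f hsurj).trans (le_of_eq ?_)⟩
  rw [Nat.card_sum, Nat.card_prod, Nat.card_prod, Nat.card_prod, Nat.card_units, Nat.card_eq_fintype_card]
  obtain ⟨m, hm⟩ : ∃ m, Fintype.card K = m + 1 := ⟨Fintype.card K - 1, (Nat.sub_add_cancel Fintype.card_pos).symm⟩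
  rw [hm, Nat.add_sub_cancel, show (m + 1) ^ 2 - 1 = m * (m + 2) from Nat.sub_eq_of_eq_add (by ring)]
  ring

end Rel

end Cfsg.Lib.SLTwoPres
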