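import Mathlib
import Cfsg.Agent.Classical.Transv.Basic
import Cfsg.Agent.Classical.Unitary.Simple

set_option autoImplicit false
set_option linter.unusedVariables false
set_option linter.unusedSimpArgs false
set_option linter.style.haveILetI false

/-! Witt's lemma for quadratic forms in any characteristic and for Hermitian forms. -/

namespace Cfsg.Lib.Classical

universe u v

variable {F : Type u} [Field F] {V : Type v} [AddCommGroup V] [Module F V] [FiniteDimensional F V]

namespace WittQuad

variable (Q : QuadraticForm F V)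

theorem polar_add' (x y : V) : Q (x + y) = Q x + Q y + QuadraticMap.polar Q x y := QuadraticMap.map_add (⇑Q) x y

theorem val_smul_add (c : F) (x v : V) :
    Q (x + c • v) = Q x + c * c * Q v + c * QuadraticMap.polar Q x v := by
  rw [polar_add', QuadraticMap.map_smul, QuadraticMap.polar_smul_right, smul_eq_mul, smul_eq_mul]

theorem exists_partner_vec (hQ : (QuadraticMap.polarBilin Q).Nondegenerate) (ψ : Module.Dual F V) :
    ∃ u, ∀ x, QuadraticMap.polar Q x u = ψ x :=
  ⟨(LinearMap.BilinForm.toDual _ hQ).symm ψ, fun x => by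
    rw [QuadraticMap.polar_comm]
    exact LinearMap.BilinForm.apply_toDual_symm_apply (B := QuadraticMap.polarBilin Q) (hB := hQ) ψ x⟩

theorem exists_equiv (hQ : (QuadraticMap.polarBilin Q).Nondegenerate) (L : V →ₗ[F] V) (h : ∀ x, Q (L x) = Q x) :
    ∃ g : V ≃ₗ[F] V, (∀ x, Q (g x) = Q x) ∧ ∀ x, g x = L x := by
  have hinj : Function.Injective L := (injective_iff_map_eq_zero _).mpr fun x hx => hQ.1 x fun y => by
    change QuadraticMap.polar Q x y = 0
    have e : QuadraticMap.polar Q (L x) (L y) = QuadraticMap.polar Q x y := by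
      simp only [QuadraticMap.polar, ← map_add, h]
    rw [← e, hx, QuadraticMap.polar_zero_left]
  exact ⟨LinearEquiv.ofInjectiveEndo L hinj, h, fun x => rfl⟩

theorem exists_move_fix (hQ : (QuadraticMap.polarBilin Q).Nondegenerate) (X : Submodule F V) {a b : V}
    (ha : a ∉ X) (hb : b ∉ X) (hab : Q a = Q b)
    (hX : ∀ w ∈ X, QuadraticMap.polar Q w a = QuadraticMap.polar Q w b) :
    ∃ g : V ≃ₗ[F] V, (∀ x, Q (g x) = Q x) ∧ (∀ w ∈ X, g w = w) ∧ g a = b := by
  set d := a - b with hd
  have hdX : ∀ w ∈ X, QuadraticMap.polar Q w d = 0 := fun w hw => by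
    rw [hd, QuadraticMap.polar_sub_right, hX w hw, sub_self]
  have hpad : QuadraticMap.polar Q a d = Q d := by
    have e1 := QuadraticMap.map_add (⇑Q) a (-d)
    rw [Q.map_neg, QuadraticMap.polar_neg_right, ← sub_eq_add_neg, hd, sub_sub_cancel] at e1
    linear_combination e1 + hab
  by_cases hd0 : d = 0
  · exact ⟨LinearEquiv.refl F V, fun x => rfl, fun w _ => rfl, sub_eq_zero.mp hd0⟩
  by_cases hQd : Q d = 0
  swap
  · let L : V →ₗ[F] V := LinearMap.id + (-(Q d)⁻¹) • ((QuadraticMap.polarBilin Q).flip d).smulRight d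
    have hL : ∀ x, L x = x + (-((Q d)⁻¹ * QuadraticMap.polar Q x d)) • d := fun x => by simp [L, smul_smul]
    obtain ⟨g, hg, hgL⟩ := exists_equiv Q hQ L fun x => by
      rw [hL, val_smul_add]; field_simp; ring
    refine ⟨g, hg, fun w hw => by rw [hgL, hL, hdX w hw, mul_zero, neg_zero, zero_smul, add_zero], ?_⟩
    rw [hgL, hL, hpad, inv_mul_cancel₀ hQd, hd]; module
  have hdd : QuadraticMap.polar Q d d = 0 := by rw [QuadraticMap.polar_self, hQd, smul_zero]
  by_cases haX : a ∈ X ⊔ Submodule.span F {d}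
  · obtain ⟨w, hw, _, hz, e⟩ := Submodule.mem_sup.mp haX
    obtain ⟨l, rfl⟩ := Submodule.mem_span_singleton.mp hz
    have hl : l ≠ 0 := fun h => ha (by rw [← e, h, zero_smul, add_zero]; exact hw)
    have hl1 : l ≠ 1 := fun h => hb (by
      rw [show b = w from by rw [show b = a - d by rw [hd]; abel, ← e, h]; module]; exact hw)
    have hdX' : d ∉ X := fun h => ha (e ▸ X.add_mem hw (X.smul_mem _ h))
    obtain ⟨ψ, hψd, hψX⟩ := exists_dual_vanish hdX'
    obtain ⟨e₀, he₀⟩ := exists_partner_vec Q hQ ψ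
    set e₁ := e₀ + (-Q e₀) • d with he₁
    have hde : QuadraticMap.polar Q d e₁ = 1 := by
      rw [he₁, QuadraticMap.polar_add_right, QuadraticMap.polar_smul_right, hdd, he₀, hψd, smul_zero, add_zero]
    have hQe : Q e₁ = 0 := by
      rw [he₁, val_smul_add, hQd, QuadraticMap.polar_comm, he₀, hψd]; ring
    set μ := (l - 1) / l with hμ
    have hμ0 : μ ≠ 0 := div_ne_zero (sub_ne_zero.mpr hl1) hl
    let L : V →ₗ[F] V := LinearMap.id + (μ - 1) • ((QuadraticMap.polarBilin Q).flip e₁).smulRight d +
      (μ⁻¹ - 1) • ((QuadraticMap.polarBilin Q).flip d).smulRight e₁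
    have hL : ∀ x, L x = x + ((μ - 1) * QuadraticMap.polar Q x e₁) • d + ((μ⁻¹ - 1) * QuadraticMap.polar Q x d) • e₁ :=
      fun x => by simp [L, smul_smul]
    obtain ⟨g, hg, hgL⟩ := exists_equiv Q hQ L fun x => by
      rw [hL, val_smul_add, val_smul_add, hQd, hQe, QuadraticMap.polar_add_left, QuadraticMap.polar_smul_left,
        hde, smul_eq_mul]
      field_simp
      ring
    refine ⟨g, hg, fun v hv => ?_, ?_⟩
    · have he' : QuadraticMap.polar Q v e₁ = 0 := by
        rw [he₁, QuadraticMap.polar_add_right, QuadraticMap.polar_smul_right, hdX v hv, he₀, hψX v hv, smul_zero,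
          add_zero]
      rw [hgL, hL, hdX v hv, he']; simp
    · have h1 : QuadraticMap.polar Q a e₁ = l := by
        have he' : QuadraticMap.polar Q w e₁ = 0 := by
          rw [he₁, QuadraticMap.polar_add_right, QuadraticMap.polar_smul_right, hdX w hw, he₀, hψX w hw,
            smul_zero, add_zero]
        rw [← e, QuadraticMap.polar_add_left, QuadraticMap.polar_smul_left, he', hde, zero_add, smul_eq_mul,
          mul_one]
      rw [hgL, hL, hpad, hQd, h1, mul_zero, zero_smul, add_zero,
        show (μ - 1) * l = -1 by rw [hμ]; field_simp; ring, hd]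
      module
  obtain ⟨ψ, hψa, hψ⟩ := exists_dual_vanish haX
  obtain ⟨u, hu⟩ := exists_partner_vec Q hQ (-ψ)
  have hud : QuadraticMap.polar Q d u = 0 := by
    rw [hu, LinearMap.neg_apply, hψ d (Submodule.mem_sup_right (Submodule.mem_span_singleton_self d)), neg_zero]
  let L : V →ₗ[F] V := LinearMap.id + ((QuadraticMap.polarBilin Q).flip u).smulRight d +
    ((QuadraticMap.polarBilin Q).flip d).smulRight ((-1 : F) • u + (-Q u) • d)
  have hL : ∀ x, L x = x + (QuadraticMap.polar Q x u - Q u * QuadraticMap.polar Q x d) • d +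
      (-QuadraticMap.polar Q x d) • u := fun x => by
    simp [L, smul_smul]; module
  obtain ⟨g, hg, hgL⟩ := exists_equiv Q hQ L fun x => by
    rw [hL, val_smul_add, val_smul_add, hQd, QuadraticMap.polar_add_left, QuadraticMap.polar_smul_left, hud,
      smul_zero, add_zero]
    ring
  refine ⟨g, hg, fun w hw => ?_, ?_⟩
  · rw [hgL, hL, hdX w hw, hu, LinearMap.neg_apply, hψ w (Submodule.mem_sup_left hw)]; simp
  · rw [hgL, hL, hpad, hQd, hu, LinearMap.neg_apply, hψa, hd]; simp

theorem witt (hQ : (QuadraticMap.polarBilin Q).Nondegenerate) (X Y : Submodule F V) (φ : X ≃ₗ[F] Y)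
    (hφ : ∀ x : X, Q (φ x : V) = Q (x : V)) :
    ∃ g : V ≃ₗ[F] V, (∀ v : V, Q (g v) = Q v) ∧ ∀ x : X, g (x : V) = (φ x : V) := by
  classical
  let e := Module.finBasis F X
  set n := Module.finrank F X
  have hpol : ∀ x y : X, QuadraticMap.polar Q (φ x : V) (φ y : V) = QuadraticMap.polar Q (x : V) (y : V) := fun x y => by
    simp only [QuadraticMap.polar, ← Submodule.coe_add, ← map_add, hφ]
  have main : ∀ k, k ≤ n → ∃ g : V ≃ₗ[F] V, (∀ v, Q (g v) = Q v) ∧
      ∀ i : Fin n, (i : ℕ) < k → g (e i : V) = (φ (e i) : V) := by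
    intro k
    induction k with
    | zero => exact fun _ => ⟨LinearEquiv.refl F V, fun v => rfl, fun i hi => absurd hi (by omega)⟩
    | succ k ih =>
      intro hk
      obtain ⟨g, hg, hgi⟩ := ih (by omega)
      set X₀ := Submodule.span F ((fun i => (φ (e i) : V)) '' {i : Fin n | (i : ℕ) < k}) with hX₀
      set j : Fin n := ⟨k, hk⟩
      have hsplit : ∀ (f : Fin n → V), LinearIndependent F f → (∀ i : Fin n, (i : ℕ) < k → f i = (φ (e i) : V)) →
          f j ∉ X₀ := by
        intro f hf heq hm
        have : X₀ = Submodule.span F (f '' {i : Fin n | (i : ℕ) < k}) := by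
          rw [hX₀]; congr 1; exact Set.image_congr fun i hi => (heq i hi).symm
        rw [this] at hm
        exact hf.notMem_span_image (by simp [j]) hm
      have hli1 : LinearIndependent F fun i => g (e i : V) :=
        ((e.linearIndependent.map' X.subtype X.ker_subtype).map' g.toLinearMap g.ker)
      have hli2 : LinearIndependent F fun i => (φ (e i) : V) :=
        ((e.linearIndependent.map' φ.toLinearMap φ.ker).map' Y.subtype Y.ker_subtype)
      have hgp : ∀ x y, QuadraticMap.polar Q (g x) (g y) = QuadraticMap.polar Q x y := fun x y => by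
        simp only [QuadraticMap.polar, ← map_add, hg]
      obtain ⟨h, hh, hfix, hmove⟩ := exists_move_fix Q hQ X₀ (hsplit _ hli1 hgi) (hsplit _ hli2 fun i _ => rfl)
        (by rw [hg, hφ]) (fun w hw => by
          induction hw using Submodule.span_induction with
          | mem z hz =>
            obtain ⟨i, hi, rfl⟩ := hz
            dsimp only
            conv_lhs => rw [← hgi i hi, hgp]
            rw [hpol]
          | zero => simp
          | add a b _ _ h1 h2 => rw [QuadraticMap.polar_add_left, QuadraticMap.polar_add_left, h1, h2]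
          | smul c a _ h1 => rw [QuadraticMap.polar_smul_left, QuadraticMap.polar_smul_left, h1])
      refine ⟨g.trans h, fun v => by rw [LinearEquiv.trans_apply, hh, hg], fun i hi => ?_⟩
      rw [LinearEquiv.trans_apply]
      rcases Nat.lt_succ_iff_lt_or_eq.mp hi with h' | h'
      · rw [hgi i h', hfix _ (Submodule.subset_span ⟨i, h', rfl⟩)]
      · rw [show i = j from Fin.ext h', hmove]
  obtain ⟨g, hg, hgi⟩ := main n le_rfl
  refine ⟨g, hg, fun x => ?_⟩
  have : g.toLinearMap.comp X.subtype = Y.subtype.comp φ.toLinearMap := e.ext fun i => hgi i i.2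
  exact LinearMap.congr_fun this x

theorem witt_index (hQ : (QuadraticMap.polarBilin Q).Nondegenerate) (W₁ W₂ : Submodule F V)
    (h₁ : ∀ w ∈ W₁, Q w = 0) (h₂ : ∀ w ∈ W₂, Q w = 0)
    (hmax₁ : ∀ W : Submodule F V, W₁ ≤ W → (∀ w ∈ W, Q w = 0) → W = W₁)
    (hmax₂ : ∀ W : Submodule F V, W₂ ≤ W → (∀ w ∈ W, Q w = 0) → W = W₂) :
    Module.finrank F W₁ = Module.finrank F W₂ ∧ 2 * Module.finrank F W₁ ≤ Module.finrank F V := by
  have key : ∀ A C : Submodule F V, (∀ w ∈ A, Q w = 0) → (∀ w ∈ C, Q w = 0) →
      (∀ W : Submodule F V, A ≤ W → (∀ w ∈ W, Q w = 0) → W = A) → Module.finrank F C ≤ Module.finrank F A := by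
    intro A C hA hC hmax
    by_contra hlt
    push Not at hlt
    let bA := Module.finBasis F A
    let bC := Module.finBasis F C
    have hli := bC.linearIndependent.comp _ (Fin.castLE_injective hlt.le)
    obtain ⟨f, hf⟩ : ∃ f : A →ₗ[F] C, Function.Injective f := by
      refine ⟨bA.constr F fun i => bC (Fin.castLE hlt.le i), (injective_iff_map_eq_zero _).mpr fun x hx => ?_⟩
      rw [Module.Basis.constr_apply_fintype] at hx
      have h0 := Fintype.linearIndependent_iff.mp hli _ hx
      exact bA.ext_elem fun i => by simpa using h0 i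
    let f' : A →ₗ[F] V := C.subtype ∘ₗ f
    have hf' : Function.Injective f' := Subtype.val_injective.comp hf
    obtain ⟨g, hg, hgA⟩ := witt Q hQ A (LinearMap.range f') (LinearEquiv.ofInjective f' hf') fun x => by
      rw [LinearEquiv.ofInjective_apply]; exact (hC _ (f x).2).trans (hA _ x.2).symm
    have hW := hmax (C.comap g.toLinearMap) (fun a ha => by
      rw [Submodule.mem_comap]
      change g ((⟨a, ha⟩ : A) : V) ∈ C
      rw [hgA, LinearEquiv.ofInjective_apply]
      exact (f ⟨a, ha⟩).2) fun w hw => by rw [← hg w]; exact hC _ hw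
    rw [Submodule.comap_equiv_eq_map_symm] at hW
    have := LinearEquiv.finrank_map_eq g.symm C
    rw [hW] at this
    omega
  refine ⟨le_antisymm (key W₂ W₁ h₂ h₁ hmax₂) (key W₁ W₂ h₁ h₂ hmax₁), ?_⟩
  have hle : W₁ ≤ LinearMap.BilinForm.orthogonal (QuadraticMap.polarBilin Q) W₁ := fun w hw v hv => by
    change QuadraticMap.polar Q v w = 0
    rw [QuadraticMap.polar, h₁ (v + w) (W₁.add_mem hv hw), h₁ v hv, h₁ w hw]; ring
  have h := Submodule.finrank_mono hle
  rw [LinearMap.BilinForm.finrank_orthogonal hQ] at h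
  omega

end WittQuad

namespace HermSpace

variable (H : HermSpace F V) [Finite F]

theorem exists_isom (L : V →ₗ[F] V) (h : ∀ x y, H.h (L x) (L y) = H.h x y) : ∃ g : H.Isom, ∀ x, g.1 x = L x := by
  have hinj : Function.Injective L := (injective_iff_map_eq_zero _).mpr fun x hx => H.nondeg x fun y => by
    rw [← h, hx, H.zero_right]
  exact ⟨⟨LinearEquiv.ofInjectiveEndo L hinj, h⟩, fun x => rfl⟩

theorem exists_move_fix (X : Submodule F V) {a b : V} (ha : a ∉ X) (hb : b ∉ X) (hab : H.h a a = H.h b b)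
    (hX : ∀ w ∈ X, H.h w a = H.h w b) : ∃ g : H.Isom, (∀ w ∈ X, g.1 w = w) ∧ g.1 a = b := by
  set d := a - b with hd
  have hdX : ∀ w ∈ X, H.h w d = 0 := fun w hw => by rw [hd, H.sub_right, hX w hw, sub_self]
  by_cases hd0 : d = 0
  · exact ⟨1, fun w _ => rfl, by rw [sub_eq_zero.mp hd0]; rfl⟩
  set t := H.h a d with ht
  have htd : H.h d d = t + H.σ t := by
    rw [ht, hd]
    simp only [H.sub_left, H.sub_right, map_sub, ← H.symm b a, H.self_fixed]
    linear_combination -hab
  by_cases ht0 : t ≠ 0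
  · by_cases hdd : H.h d d = 0
    · obtain ⟨g, hg⟩ : ∃ g : H.Isom, ∀ x, g.1 x = x + (-t⁻¹ * H.h x d) • d := by
        refine ⟨H.uT hdd (c := -t⁻¹) ?_, fun x => uT_apply H hdd _ x⟩
        rw [map_neg, map_inv₀, eq_neg_of_add_eq_zero_right (htd.symm.trans hdd), inv_neg, neg_neg]
        ring
      refine ⟨g, fun w hw => by rw [hg, hdX w hw, mul_zero, zero_smul, add_zero], ?_⟩
      rw [hg, ← ht, neg_mul, inv_mul_cancel₀ ht0, hd]; module
    · have hσt : H.σ t ≠ 0 := (map_ne_zero _).mpr ht0
      let L : V →ₗ[F] V := LinearMap.id + (-t⁻¹) • (H.lin d).smulRight d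
      have hL : ∀ x, L x = x + (-t⁻¹ * H.h x d) • d := fun x => by simp [L, smul_smul, lin_apply]
      obtain ⟨g, hg⟩ := H.exists_isom L fun x y => by
        rw [hL, hL]
        simp only [H.add_left, H.add_right, H.smul_left, H.smul_right, map_mul, map_neg, map_inv₀, ← H.symm d y, htd]
        field_simp
        ring
      refine ⟨g, fun w hw => by rw [hg, hL, hdX w hw, mul_zero, zero_smul, add_zero], ?_⟩
      rw [hg, hL, ← ht, neg_mul, inv_mul_cancel₀ ht0, hd]; module
  push Not at ht0
  have hdd : H.h d d = 0 := by rw [htd, ht0, map_zero, add_zero]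
  by_cases haX : a ∈ X ⊔ Submodule.span F {d}
  · obtain ⟨w, hw, _, hz, e⟩ := Submodule.mem_sup.mp haX
    obtain ⟨l, rfl⟩ := Submodule.mem_span_singleton.mp hz
    have hl : l ≠ 0 := fun h => ha (by rw [← e, h, zero_smul, add_zero]; exact hw)
    have hl1 : l ≠ 1 := fun h => hb (by
      rw [show b = w from by rw [show b = a - d by rw [hd]; abel, ← e, h]; module]; exact hw)
    have hdX' : d ∉ X := fun h => ha (e ▸ X.add_mem hw (X.smul_mem _ h))
    obtain ⟨ψ, hψd, hψX⟩ := exists_dual_vanish hdX'
    obtain ⟨e₀, he₀⟩ := H.exists_lin ψ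
    obtain ⟨θ, hθ⟩ := H.conj.exists_trace_one
    set e₁ := e₀ - (θ * H.h e₀ e₀) • d with he₁
    have hde : H.h d e₁ = 1 := by rw [he₁, H.sub_right, H.smul_right, hdd, he₀, hψd, mul_zero, sub_zero]
    have hed : H.h e₁ d = 1 := by rw [H.symm, hde, map_one]
    have hee : H.h e₁ e₁ = 0 := by
      have hed₀ : H.h e₀ d = 1 := by rw [H.symm, he₀, hψd, map_one]
      simp only [he₁, H.sub_left, H.sub_right, H.smul_left, H.smul_right, hdd, he₀ d, hψd, hed₀, map_mul,
        H.self_fixed]
      linear_combination (-H.h e₀ e₀) * hθ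
    set μ := (l - 1) / l with hμ
    have hμ0 : μ ≠ 0 := div_ne_zero (sub_ne_zero.mpr hl1) hl
    have hσμ : H.σ μ ≠ 0 := (map_ne_zero _).mpr hμ0
    let L : V →ₗ[F] V := LinearMap.id + (μ - 1) • (H.lin e₁).smulRight d + ((H.σ μ)⁻¹ - 1) • (H.lin d).smulRight e₁
    have hL : ∀ x, L x = x + ((μ - 1) * H.h x e₁) • d + (((H.σ μ)⁻¹ - 1) * H.h x d) • e₁ := fun x => by
      simp [L, smul_smul, lin_apply]
    obtain ⟨g, hg⟩ := H.exists_isom L fun x y => by
      rw [hL, hL]
      simp only [H.add_left, H.add_right, H.smul_left, H.smul_right, hdd, hee, hde, hed, map_mul, map_sub, map_one,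
        map_inv₀, H.conj.invol, ← H.symm e₁ y, ← H.symm d y]
      field_simp
      ring
    refine ⟨g, fun v hv => ?_, ?_⟩
    · have he' : H.h v e₁ = 0 := by
        rw [he₁, H.sub_right, H.smul_right, he₀, hψX v hv, hdX v hv, mul_zero, sub_zero]
      rw [hg, hL, hdX v hv, he']; simp
    · have h1 : H.h a e₁ = l := by
        have he' : H.h w e₁ = 0 := by
          rw [he₁, H.sub_right, H.smul_right, he₀, hψX w hw, hdX w hw, mul_zero, sub_zero]
        rw [← e, H.add_left, H.smul_left, he', hde, zero_add, mul_one]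
      rw [hg, hL, ← ht, ht0, h1, mul_zero, zero_smul, add_zero,
        show (μ - 1) * l = -1 by rw [hμ]; field_simp; ring, hd]
      module
  obtain ⟨ψ, hψa, hψ⟩ := exists_dual_vanish haX
  obtain ⟨u, hu⟩ := H.exists_lin ψ
  have hud : H.h u d = 0 := H.eq_zero_symm (by
    rw [hu, hψ d (Submodule.mem_sup_right (Submodule.mem_span_singleton_self d))])
  obtain ⟨θ, hθ⟩ := H.conj.exists_trace_one
  have hα : -(θ * H.h u u) + H.σ (-(θ * H.h u u)) = -H.h u u := by
    rw [map_neg, map_mul, H.self_fixed]; linear_combination (-H.h u u) * hθ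
  refine ⟨H.siegel hdd hud hα, fun w hw => ?_, ?_⟩
  · rw [siegel_apply, hdX w hw, hu w, hψ w (Submodule.mem_sup_left hw)]; simp
  · rw [siegel_apply, ← ht, ht0, hu a, hψa, hd]; simp

theorem witt (X Y : Submodule F V) (φ : X ≃ₗ[F] Y)
    (hφ : ∀ x x' : X, H.h (φ x : V) (φ x') = H.h (x : V) x') :
    ∃ g : H.Isom, ∀ x : X, g.1 (x : V) = (φ x : V) := by
  classical
  let e := Module.finBasis F X
  set n := Module.finrank F X
  have main : ∀ k, k ≤ n → ∃ g : H.Isom, ∀ i : Fin n, (i : ℕ) < k → g.1 (e i : V) = (φ (e i) : V) := by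
    intro k
    induction k with
    | zero => exact fun _ => ⟨1, fun i hi => absurd hi (by omega)⟩
    | succ k ih =>
      intro hk
      obtain ⟨g, hgi⟩ := ih (by omega)
      set X₀ := Submodule.span F ((fun i => (φ (e i) : V)) '' {i : Fin n | (i : ℕ) < k}) with hX₀
      set j : Fin n := ⟨k, hk⟩
      have hsplit : ∀ (f : Fin n → V), LinearIndependent F f → (∀ i : Fin n, (i : ℕ) < k → f i = (φ (e i) : V)) →
          f j ∉ X₀ := by
        intro f hf heq hm
        have : X₀ = Submodule.span F (f '' {i : Fin n | (i : ℕ) < k}) := by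
          rw [hX₀]; congr 1; exact Set.image_congr fun i hi => (heq i hi).symm
        rw [this] at hm
        exact hf.notMem_span_image (by simp [j]) hm
      have hli1 : LinearIndependent F fun i => g.1 (e i : V) :=
        ((e.linearIndependent.map' X.subtype X.ker_subtype).map' g.1.toLinearMap g.1.ker)
      have hli2 : LinearIndependent F fun i => (φ (e i) : V) :=
        ((e.linearIndependent.map' φ.toLinearMap φ.ker).map' Y.subtype Y.ker_subtype)
      obtain ⟨h, hfix, hmove⟩ := H.exists_move_fix X₀ (hsplit _ hli1 hgi) (hsplit _ hli2 fun i _ => rfl)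
        (by rw [H.map_form, hφ]) (fun w hw => by
          induction hw using Submodule.span_induction with
          | mem z hz =>
            obtain ⟨i, hi, rfl⟩ := hz
            dsimp only
            conv_lhs => rw [← hgi i hi, H.map_form]
            rw [hφ]
          | zero => rw [H.zero_left, H.zero_left]
          | add a b _ _ h1 h2 => rw [H.add_left, H.add_left, h1, h2]
          | smul c a _ h1 => rw [H.smul_left, H.smul_left, h1])
      refine ⟨h * g, fun i hi => ?_⟩
      rw [mul_apply']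
      rcases Nat.lt_succ_iff_lt_or_eq.mp hi with h' | h'
      · rw [hgi i h', hfix _ (Submodule.subset_span ⟨i, h', rfl⟩)]
      · rw [show i = j from Fin.ext h', hmove]
  obtain ⟨g, hgi⟩ := main n le_rfl
  refine ⟨g, fun x => ?_⟩
  have : g.1.toLinearMap.comp X.subtype = Y.subtype.comp φ.toLinearMap := e.ext fun i => hgi i i.2
  exact LinearMap.congr_fun this x

end HermSpace

end Cfsg.Lib.Classical
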