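import Mathlib
import Cfsg.Prelude.Def_Classical
import Cfsg.Agent.Classical.Misc.Witt

/-! The two families of maximal totally singular subspaces of a hyperbolic quadric. -/

set_option autoImplicit false
set_option linter.style.haveILetI false

namespace Cfsg.Lib.Classical.HypQuad

universe u v

variable {F : Type u} [Field F] {V : Type v} [AddCommGroup V] [Module F V] [FiniteDimensional F V]
  (Q : QuadraticForm F V)

/-- A maximal totally singular subspace in dimension `2m`. -/
def IsMax (m : ℕ) (W : Submodule F V) : Prop := Module.finrank F W = m ∧ ∀ w ∈ W, Q w = 0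

/-- The orthogonal complement with respect to the polar form. -/
abbrev perp (W : Submodule F V) : Submodule F V :=
  LinearMap.BilinForm.orthogonal (QuadraticMap.polarBilin Q) W

theorem mem_perp {W : Submodule F V} {x : V} : x ∈ perp Q W ↔ ∀ w ∈ W, QuadraticMap.polar Q w x = 0 := Iff.rfl

theorem polar_zero_of_singular {W : Submodule F V} (h : ∀ w ∈ W, Q w = 0) {a b : V} (ha : a ∈ W) (hb : b ∈ W) :
    QuadraticMap.polar Q a b = 0 := by
  rw [QuadraticMap.polar, h _ (W.add_mem ha hb), h a ha, h b hb]; ring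

theorem le_perp {W : Submodule F V} (h : ∀ w ∈ W, Q w = 0) : W ≤ perp Q W :=
  fun _ hw _ ha => polar_zero_of_singular Q h ha hw

variable (hQ : (QuadraticMap.polarBilin Q).Nondegenerate)

include hQ

theorem finrank_perp (W : Submodule F V) : Module.finrank F (perp Q W) = Module.finrank F V - Module.finrank F W :=
  LinearMap.BilinForm.finrank_orthogonal hQ W

variable {m : ℕ} (hV : Module.finrank F V = 2 * m)

include hV

theorem perp_eq {W : Submodule F V} (hW : IsMax Q m W) : perp Q W = W :=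
  (Submodule.eq_of_le_of_finrank_le (le_perp Q hW.2) (by rw [finrank_perp Q hQ, hV, hW.1]; omega)).symm

/-- A hyperplane of a maximal singular subspace lies in exactly one further one. -/
theorem exists_other {H W : Submodule F V} (hH : Module.finrank F H + 1 = m) (hW : IsMax Q m W) (hHW : H ≤ W) :
    ∃ W' : Submodule F V, IsMax Q m W' ∧ H ≤ W' ∧ W' ≠ W ∧ W ⊓ W' = H ∧
      ∀ z ∈ perp Q H, Q z = 0 → z ∈ W ∨ z ∈ W' := by
  have hperp : Module.finrank F (perp Q H) = m + 1 := by
    rw [finrank_perp Q hQ, hV]; omega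
  have hWle : W ≤ perp Q H := fun w hw h hh => polar_zero_of_singular Q hW.2 (hHW hh) hw
  obtain ⟨a, haW, haH⟩ : ∃ a ∈ W, a ∉ H := by
    by_contra h
    push Not at h
    have := Submodule.finrank_mono (s := W) (t := H) h
    rw [hW.1] at this; omega
  obtain ⟨y, hy, hyW⟩ : ∃ y ∈ perp Q H, y ∉ W := by
    by_contra h
    push Not at h
    have := Submodule.finrank_mono (s := perp Q H) (t := W) h
    rw [hW.1] at this; omega
  have hWsup : H ⊔ Submodule.span F {a} = W := by
    refine Submodule.eq_of_le_of_finrank_le (sup_le hHW (by simpa using haW)) ?_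
    have : H < H ⊔ Submodule.span F {a} := lt_of_le_of_ne le_sup_left fun h => haH (by
      rw [h]; exact Submodule.mem_sup_right (Submodule.mem_span_singleton_self a))
    have := Submodule.finrank_lt_finrank_of_lt this
    rw [hW.1]; omega
  have hpay : QuadraticMap.polar Q a y ≠ 0 := by
    intro h
    apply hyW
    rw [← perp_eq Q hQ hV hW, mem_perp]
    intro w hw
    rw [← hWsup] at hw
    obtain ⟨u, hu, _, hz, rfl⟩ := Submodule.mem_sup.mp hw
    obtain ⟨c, rfl⟩ := Submodule.mem_span_singleton.mp hz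
    rw [QuadraticMap.polar_add_left, QuadraticMap.polar_smul_left, h, (mem_perp Q).mp hy u hu, smul_zero, add_zero]
  set b₁ := (QuadraticMap.polar Q a y)⁻¹ • y with hb₁
  set b := b₁ + (-Q b₁) • a with hb
  have hb1H : b₁ ∈ perp Q H := Submodule.smul_mem _ _ hy
  have hbH : b ∈ perp Q H := Submodule.add_mem _ hb1H (Submodule.smul_mem _ _ (hWle haW))
  have hQa := hW.2 a haW
  have haa : QuadraticMap.polar Q a a = 0 := by rw [QuadraticMap.polar_self, hQa, smul_zero]
  have hab1 : QuadraticMap.polar Q a b₁ = 1 := by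
    rw [hb₁, QuadraticMap.polar_smul_right, smul_eq_mul, inv_mul_cancel₀ hpay]
  have hab : QuadraticMap.polar Q a b = 1 := by
    rw [hb, QuadraticMap.polar_add_right, hab1, QuadraticMap.polar_smul_right, haa, smul_zero, add_zero]
  have hQb : Q b = 0 := by
    rw [hb, WittQuad.val_smul_add, hQa, QuadraticMap.polar_comm, hab1]; ring
  have hbW : b ∉ W := fun h => one_ne_zero (α := F) (hab.symm.trans (polar_zero_of_singular Q hW.2 haW h))
  have hsing : ∀ h ∈ H, ∀ c d : F, Q (h + c • a + d • b) = c * d := by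
    intro h hh c d
    rw [WittQuad.val_smul_add, WittQuad.val_smul_add, hQa, hQb, hW.2 h (hHW hh), QuadraticMap.polar_add_left,
      QuadraticMap.polar_smul_left, polar_zero_of_singular Q hW.2 (hHW hh) haW, hab, (mem_perp Q).mp hbH h hh, smul_eq_mul]
    ring
  refine ⟨H ⊔ Submodule.span F {b}, ⟨?_, ?_⟩, le_sup_left, ?_, ?_, ?_⟩
  · have hd : Disjoint H (Submodule.span F {b}) :=
      (Submodule.disjoint_span_singleton' (fun h => hbW (by rw [h]; exact W.zero_mem))).mpr fun h => hbW (hHW h)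
    have := Submodule.finrank_sup_add_finrank_inf_eq H (Submodule.span F {b})
    rw [hd.eq_bot, finrank_bot, finrank_span_singleton (fun h => hbW (by rw [h]; exact W.zero_mem))] at this
    omega
  · intro w hw
    obtain ⟨u, hu, _, hz, rfl⟩ := Submodule.mem_sup.mp hw
    obtain ⟨d, rfl⟩ := Submodule.mem_span_singleton.mp hz
    simpa using hsing u hu 0 d
  · exact fun h => hbW (h ▸ Submodule.mem_sup_right (Submodule.mem_span_singleton_self b))
  · refine le_antisymm ?_ (le_inf hHW le_sup_left)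
    rintro w ⟨hwW, hw⟩
    obtain ⟨u, hu, _, hz, rfl⟩ := Submodule.mem_sup.mp hw
    obtain ⟨d, rfl⟩ := Submodule.mem_span_singleton.mp hz
    by_cases hd : d = 0
    · subst hd; simpa using hu
    · exact absurd ((W.smul_mem_iff hd).mp ((W.add_mem_iff_right (hHW hu)).mp hwW)) hbW
  · intro z hz hQz
    have htop : H ⊔ Submodule.span F {a} ⊔ Submodule.span F {b} = perp Q H := by
      rw [hWsup]
      refine Submodule.eq_of_le_of_finrank_le (sup_le hWle (by simpa using hbH)) ?_
      have : W < W ⊔ Submodule.span F {b} := lt_of_le_of_ne le_sup_left fun h => hbW (by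
        rw [h]; exact Submodule.mem_sup_right (Submodule.mem_span_singleton_self b))
      have := Submodule.finrank_lt_finrank_of_lt this
      rw [hW.1] at this; omega
    rw [← htop] at hz
    obtain ⟨p, hp, _, hq, rfl⟩ := Submodule.mem_sup.mp hz
    obtain ⟨u, hu, _, hr, rfl⟩ := Submodule.mem_sup.mp hp
    obtain ⟨c, rfl⟩ := Submodule.mem_span_singleton.mp hr
    obtain ⟨d, rfl⟩ := Submodule.mem_span_singleton.mp hq
    rw [hsing u hu c d] at hQz
    rcases mul_eq_zero.mp hQz with h | h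
    · right
      subst h
      simpa using Submodule.add_mem_sup hu (Submodule.smul_mem _ d (Submodule.mem_span_singleton_self b))
    · left
      subst h
      simpa using W.add_mem (hHW hu) (W.smul_mem c haW)

theorem sup_of_mem {H W : Submodule F V} (hH : Module.finrank F H + 1 = m) (hW : IsMax Q m W) (hHW : H ≤ W)
    {W' : Submodule F V} (hW' : IsMax Q m W') (hHW' : H ≤ W') (hne : W' ≠ W) {X : Submodule F V}
    (hX : IsMax Q m X) :
    Module.finrank F ↥(X ⊓ W) = Module.finrank F ↥(X ⊓ H) + 1 ∧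
        Module.finrank F ↥(X ⊓ W') = Module.finrank F ↥(X ⊓ H) ∨
      Module.finrank F ↥(X ⊓ W') = Module.finrank F ↥(X ⊓ H) + 1 ∧
        Module.finrank F ↥(X ⊓ W) = Module.finrank F ↥(X ⊓ H) := by
  obtain ⟨W₂, hW₂, hHW₂, -, hinf, hcover⟩ := exists_other Q hQ hV hH hW hHW
  have hW'eq : W' = W₂ := by
    obtain ⟨z, hz, hzW⟩ : ∃ z ∈ W', z ∉ W := by
      by_contra h
      push Not at h
      exact hne (Submodule.eq_of_le_of_finrank_eq h (by rw [hW'.1, hW.1]))
    have hz2 := (hcover z (fun h hh => polar_zero_of_singular Q hW'.2 (hHW' hh) hz) (hW'.2 z hz)).resolve_left hzW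
    have hlt : H < W' ⊓ W₂ := lt_of_le_of_ne (le_inf hHW' hHW₂) fun h => hzW (hHW (h ▸ ⟨hz, hz2⟩))
    have h1 := Submodule.finrank_lt_finrank_of_lt hlt
    have h2 : W' ⊓ W₂ = W' := Submodule.eq_of_le_of_finrank_le inf_le_left (by rw [hW'.1]; omega)
    exact Submodule.eq_of_le_of_finrank_eq (h2 ▸ inf_le_right) (by rw [hW'.1, hW₂.1])
  subst hW'eq
  have hdimperp : Module.finrank F ↥(X ⊓ perp Q H) = Module.finrank F ↥(X ⊓ H) + 1 := by
    have e : X ⊓ perp Q H = perp Q (X ⊔ H) := by
      apply le_antisymm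
      · intro z ⟨hzX, hzH⟩ w hw
        obtain ⟨x, hx, h, hh, rfl⟩ := Submodule.mem_sup.mp hw
        show QuadraticMap.polar Q (x + h) z = 0
        rw [QuadraticMap.polar_add_left, polar_zero_of_singular Q hX.2 hx hzX, (mem_perp Q).mp hzH h hh, add_zero]
      · refine le_inf ?_ (fun z hz w hw => hz w (Submodule.mem_sup_right hw))
        intro z hz
        rw [← perp_eq Q hQ hV hX]
        exact fun w hw => hz w (Submodule.mem_sup_left hw)
    rw [e, finrank_perp Q hQ, hV]
    have := Submodule.finrank_sup_add_finrank_inf_eq X H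
    rw [hX.1] at this
    omega
  obtain ⟨z, hz, hzH⟩ : ∃ z ∈ X ⊓ perp Q H, z ∉ H := by
    by_contra h
    push Not at h
    have := Submodule.finrank_mono (le_inf inf_le_left h : X ⊓ perp Q H ≤ X ⊓ H)
    omega
  have key : ∀ A B : Submodule F V, IsMax Q m A → H ≤ A → A ⊓ B = H → z ∈ A →
      Module.finrank F ↥(X ⊓ A) = Module.finrank F ↥(X ⊓ H) + 1 ∧
        (IsMax Q m B → H ≤ B → Module.finrank F ↥(X ⊓ B) = Module.finrank F ↥(X ⊓ H)) := by
    intro A B hA hHA hAB hzA
    have hle : ∀ C : Submodule F V, IsMax Q m C → H ≤ C → X ⊓ C ≤ X ⊓ perp Q H := fun C hC hHC =>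
      le_inf inf_le_left fun w hw h hh => polar_zero_of_singular Q hC.2 (hHC hh) hw.2
    have hlt : X ⊓ H < X ⊓ A := lt_of_le_of_ne (inf_le_inf_left X hHA) fun h => hzH (h ▸ ⟨hz.1, hzA⟩ : z ∈ X ⊓ H).2
    have h1 := Submodule.finrank_lt_finrank_of_lt hlt
    have h2 := Submodule.finrank_mono (hle A hA hHA)
    refine ⟨by omega, fun hB hHB => ?_⟩
    have h3 : X ⊓ A = X ⊓ perp Q H := Submodule.eq_of_le_of_finrank_le (hle A hA hHA) (by omega)
    have h4 : X ⊓ B ≤ X ⊓ H := fun w hw => ⟨hw.1, hAB ▸ ⟨(h3.ge (hle B hB hHB hw)).2, hw.2⟩⟩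
    have := Submodule.finrank_mono (inf_le_inf_left X hHB)
    have := Submodule.finrank_mono h4
    omega
  rcases hcover z hz.2 (hX.2 z hz.1) with h | h
  · exact Or.inl ⟨(key W W' hW hHW hinf h).1, (key W W' hW hHW hinf h).2 hW' hHW'⟩
  · exact Or.inr ⟨(key W' W hW' hHW' (inf_comm W' W ▸ hinf) h).1, (key W' W hW' hHW' (inf_comm W' W ▸ hinf) h).2 hW hHW⟩

theorem parity {U W X : Submodule F V} (hU : IsMax Q m U) (hW : IsMax Q m W) (hX : IsMax Q m X) :
    Even ((m - Module.finrank F ↥(U ⊓ W)) + (m - Module.finrank F ↥(W ⊓ X)) +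
      (m - Module.finrank F ↥(U ⊓ X))) := by
  suffices key : ∀ d, ∀ W : Submodule F V, IsMax Q m W → m - Module.finrank F ↥(W ⊓ X) = d →
      Even ((m - Module.finrank F ↥(U ⊓ W)) + d + (m - Module.finrank F ↥(U ⊓ X))) by
    exact key _ W hW rfl
  intro d
  induction d with
  | zero =>
    intro W hW hd
    have hle := Submodule.finrank_mono (inf_le_left : W ⊓ X ≤ W)
    have h1 : W ⊓ X = W := Submodule.eq_of_le_of_finrank_le inf_le_left (by rw [hW.1] at hle ⊢; omega)
    have h2 : W = X := Submodule.eq_of_le_of_finrank_eq (h1 ▸ inf_le_right) (by rw [hW.1, hX.1])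
    subst h2
    exact ⟨m - Module.finrank F ↥(U ⊓ W), by omega⟩
  | succ d ih =>
    intro W hW hd
    have hdim : Module.finrank F ↥(W ⊓ X) + 1 ≤ m := by omega
    obtain ⟨H, hXH, hHW, hH⟩ : ∃ H : Submodule F V, W ⊓ X ≤ H ∧ H ≤ W ∧ Module.finrank F H + 1 = m := by
      obtain ⟨v, hvW, hv⟩ : ∃ v ∈ W, v ∉ W ⊓ X := by
        by_contra h
        push Not at h
        have := Submodule.finrank_mono (s := W) (t := W ⊓ X) h
        rw [hW.1] at this; omega
      obtain ⟨ψ, hψv, hψ⟩ := exists_dual_vanish hv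
      refine ⟨W ⊓ LinearMap.ker ψ, le_inf inf_le_left fun x hx => hψ x hx, inf_le_left, ?_⟩
      have hlt : W ⊓ LinearMap.ker ψ < W := lt_of_le_of_ne inf_le_left fun h => by
        have : v ∈ W ⊓ LinearMap.ker ψ := h.symm ▸ hvW
        simp [hψv] at this
      have h1 := Submodule.finrank_lt_finrank_of_lt hlt
      have h2 := Submodule.finrank_sup_add_finrank_inf_eq W (LinearMap.ker ψ)
      have h3 := Submodule.finrank_le (W ⊔ LinearMap.ker ψ)
      have h4 := ψ.finrank_range_add_finrank_ker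
      have h5 := Submodule.finrank_le (LinearMap.range ψ)
      rw [Module.finrank_self] at h5
      rw [hW.1] at h1 h2
      omega
    obtain ⟨W', hW', hHW', hne, -, -⟩ := exists_other Q hQ hV hH hW hHW
    have hXW : X ⊓ H = X ⊓ W := le_antisymm (inf_le_inf_left X hHW) fun z hz => ⟨hz.1, hXH ⟨hz.2, hz.1⟩⟩
    rcases sup_of_mem Q hQ hV hH hW hHW hW' hHW' hne hX with ⟨h1, -⟩ | ⟨h1, -⟩
    · rw [hXW] at h1; omega
    rw [hXW, inf_comm X W', inf_comm X W] at h1
    have hle' := Submodule.finrank_mono (inf_le_left : W' ⊓ X ≤ W')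
    rw [hW'.1] at hle'
    have h := ih W' hW' (by omega)
    have hUW := Submodule.finrank_mono (inf_le_right : U ⊓ W ≤ W)
    have hUW' := Submodule.finrank_mono (inf_le_right : U ⊓ W' ≤ W')
    rw [hW.1] at hUW
    rw [hW'.1] at hUW'
    rw [Nat.even_iff] at h ⊢
    rcases sup_of_mem Q hQ hV hH hW hHW hW' hHW' hne hU with ⟨e1, e2⟩ | ⟨e1, e2⟩ <;> omega

theorem card_over {U : Submodule F V} (hU : Module.finrank F U + 1 = m) (hsing : ∀ u ∈ U, Q u = 0)
    {L : Submodule F V} (hL : IsMax Q m L) :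
    Nat.card {W : Submodule F V // Module.finrank F W = m ∧ (∀ w ∈ W, Q w = 0) ∧ U ≤ W} = 2 := by
  obtain ⟨W, ⟨hUW, hW⟩, hWmax⟩ : ∃ W : Submodule F V, (U ≤ W ∧ ∀ w ∈ W, Q w = 0) ∧
      ∀ W' : Submodule F V, (U ≤ W' ∧ ∀ w ∈ W', Q w = 0) → W ≤ W' → W' = W := by
    obtain ⟨W, hW, hWmax⟩ := (IsWellFounded.wf (r := (· > · : Submodule F V → Submodule F V → Prop))).has_min
      {W | U ≤ W ∧ ∀ w ∈ W, Q w = 0} ⟨U, le_rfl, hsing⟩
    exact ⟨W, hW, fun W' hW' hle => (eq_of_le_of_not_lt hle (hWmax W' hW')).symm⟩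
  have hLmax : ∀ W : Submodule F V, L ≤ W → (∀ w ∈ W, Q w = 0) → W = L := fun W hle hW => by
    refine (Submodule.eq_of_le_of_finrank_le hle ?_).symm
    have := Submodule.finrank_mono (le_perp Q hW)
    rw [finrank_perp Q hQ, hV] at this
    rw [hL.1]; omega
  have hWdim := (WittQuad.witt_index Q hQ W L hW hL.2 (fun W' hle hW' => hWmax W' ⟨hUW.trans hle, hW'⟩ hle) hLmax).1
  rw [hL.1] at hWdim
  have hWM : IsMax Q m W := ⟨hWdim, hW⟩
  obtain ⟨W', hW', hUW', hne, hinf, hcover⟩ := exists_other Q hQ hV hU hWM hUW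
  have heq : {X : Submodule F V | Module.finrank F X = m ∧ (∀ w ∈ X, Q w = 0) ∧ U ≤ X} = {W, W'} := by
    apply Set.eq_of_subset_of_subset
    · rintro X ⟨hX, hXs, hUX⟩
      obtain ⟨z, hz, hzU⟩ : ∃ z ∈ X, z ∉ U := by
        by_contra h
        push Not at h
        have := Submodule.finrank_mono (s := X) (t := U) h
        omega
      have hXe : ∀ A : Submodule F V, IsMax Q m A → U ≤ A → z ∈ A → X = A := by
        intro A hA hUA hzA
        have hlt : U < X ⊓ A := lt_of_le_of_ne (le_inf hUX hUA) fun h => hzU (h ▸ ⟨hz, hzA⟩)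
        have h1 := Submodule.finrank_lt_finrank_of_lt hlt
        have h2 : X ⊓ A = X := Submodule.eq_of_le_of_finrank_le inf_le_left (by omega)
        exact Submodule.eq_of_le_of_finrank_eq (h2 ▸ inf_le_right) (by rw [hX, hA.1])
      rcases hcover z (fun h hh => polar_zero_of_singular Q hXs (hUX hh) hz) (hXs z hz) with h | h
      · exact Or.inl (hXe W hWM hUW h)
      · exact Or.inr (hXe W' hW' hUW' h)
    · rintro X (rfl | rfl)
      · exact ⟨hWdim, hW, hUW⟩
      · exact ⟨hW'.1, hW'.2, hUW'⟩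
  rw [show Nat.card {X : Submodule F V // Module.finrank F X = m ∧ (∀ w ∈ X, Q w = 0) ∧ U ≤ X} =
    Set.ncard {X : Submodule F V | Module.finrank F X = m ∧ (∀ w ∈ X, Q w = 0) ∧ U ≤ X} from Nat.card_coe_set_eq _,
    heq, Set.ncard_pair hne.symm]

omit hQ hV

/-- The split form as a quadratic form. -/
def plusForm (m : ℕ) (F : Type u) [Field F] : QuadraticForm F (Fin m ⊕ Fin m → F) :=
  ∑ i : Fin m, QuadraticMap.linMulLin (LinearMap.proj (Sum.inl i)) (LinearMap.proj (Sum.inr i))

theorem plusForm_apply (m : ℕ) (x : Fin m ⊕ Fin m → F) : plusForm m F x = Cfsg.quadFormPlus m F x := by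
  simp [plusForm, Cfsg.quadFormPlus]

theorem plusForm_nondegenerate (m : ℕ) : (QuadraticMap.polarBilin (plusForm m F)).Nondegenerate := by
  classical
  have h1 : ∀ x : Fin m ⊕ Fin m → F, (∀ y, QuadraticMap.polar (plusForm m F) x y = 0) → x = 0 := by
    intro x hx
    funext i
    rcases i with j | j
    · have := hx (Pi.single (Sum.inr j) 1)
      simp [QuadraticMap.polar, plusForm_apply, Cfsg.quadFormPlus, Pi.single_apply, mul_add, Finset.sum_add_distrib] at this
      exact this
    · have := hx (Pi.single (Sum.inl j) 1)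
      simp [QuadraticMap.polar, plusForm_apply, Cfsg.quadFormPlus, Pi.single_apply, add_mul, Finset.sum_add_distrib] at this
      exact this
  exact ⟨h1, fun x hx => h1 x fun y => by rw [QuadraticMap.polar_comm]; exact hx y⟩

theorem finrank_plus (m : ℕ) : Module.finrank F (Fin m ⊕ Fin m → F) = 2 * m := by
  simp [two_mul]

/-- The first coordinate half. -/
noncomputable def leftSpace (m : ℕ) (F : Type u) [Field F] : Submodule F (Fin m ⊕ Fin m → F) :=
  LinearMap.range (Function.ExtendByZero.linearMap F (Sum.inl : Fin m → Fin m ⊕ Fin m))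

theorem leftSpace_isMax (m : ℕ) : IsMax (plusForm m F) m (leftSpace m F) := by
  constructor
  · have hinj : Function.Injective (Function.ExtendByZero.linearMap F (Sum.inl : Fin m → Fin m ⊕ Fin m)) :=
      fun x y hxy => funext fun i => by simpa [Sum.inl_injective.extend_apply] using congrFun hxy (Sum.inl i)
    rw [leftSpace, LinearMap.finrank_range_of_inj hinj, Module.finrank_fin_fun]
  · rintro _ ⟨x, rfl⟩
    rw [plusForm_apply]
    simp [Cfsg.quadFormPlus]

theorem exists_adjacent (m : ℕ) (hm : 1 ≤ m) : ∃ U W : Submodule F (Fin m ⊕ Fin m → F),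
    IsMax (plusForm m F) m U ∧ IsMax (plusForm m F) m W ∧ Module.finrank F ↥(U ⊓ W) + 1 = m := by
  classical
  have hL := leftSpace_isMax (F := F) m
  obtain ⟨H, hHL, hH⟩ : ∃ H : Submodule F (Fin m ⊕ Fin m → F), H ≤ leftSpace m F ∧ Module.finrank F H + 1 = m := by
    let b := Module.finBasisOfFinrankEq F (leftSpace m F) hL.1
    refine ⟨Submodule.span F (Set.range fun i : Fin (m - 1) => ((b (Fin.castLE (Nat.sub_le m 1) i)) : Fin m ⊕ Fin m → F)), ?_, ?_⟩
    · rw [Submodule.span_le]
      rintro _ ⟨i, rfl⟩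
      exact (b _).2
    · rw [finrank_span_eq_card, Fintype.card_fin]
      · omega
      · exact (b.linearIndependent.map' (leftSpace m F).subtype (leftSpace m F).ker_subtype).comp _
          (Fin.castLE_injective _)
  obtain ⟨W', hW', -, -, hinf, -⟩ := exists_other (plusForm m F) (plusForm_nondegenerate m) (finrank_plus m) hH hL hHL
  exact ⟨_, W', hL, hW', by rw [hinf]; exact hH⟩

end Cfsg.Lib.Classical.HypQuad
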