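import Mathlib
import Cfsg.Prelude.Def_ClassicalGeometry

/-! Reflections of quadratic spaces. -/

set_option autoImplicit false
set_option linter.style.haveILetI false

namespace Cfsg.Lib.Classical.Refl

open Matrix

universe u

variable {F : Type u} [Field F] {ι : Type} [Fintype ι] [DecidableEq ι] (Q : QuadraticForm F (ι → F))

theorem polarVec_dot (v x : ι → F) : Cfsg.polarVec (⇑Q) v ⬝ᵥ x = QuadraticMap.polar (⇑Q) v x := by
  have h := (QuadraticMap.polarBilin Q v).pi_apply_eq_sum_univ x
  change _ = (QuadraticMap.polarBilin Q v) x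
  rw [h]
  refine Finset.sum_congr rfl fun j _ => ?_
  rw [smul_eq_mul, mul_comm]
  congr 1
  show QuadraticMap.polar (⇑Q) v (Pi.single j 1) = QuadraticMap.polar (⇑Q) v fun k => if j = k then 1 else 0
  congr 1
  funext k
  simp [Pi.single_apply, eq_comm]

theorem mulVec_eq (v x : ι → F) :
    Cfsg.reflectionMatrix (⇑Q) v *ᵥ x = x - ((Q v)⁻¹ * QuadraticMap.polar (⇑Q) v x) • v := by
  funext i
  simp [Cfsg.reflectionMatrix, Matrix.sub_mulVec, Matrix.smul_mulVec, Matrix.vecMulVec_mulVec, polarVec_dot]
  ring

theorem preserve (v : ι → F) (hv : Q v ≠ 0) (x : ι → F) :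
    Q (Cfsg.reflectionMatrix (⇑Q) v *ᵥ x) = Q x := by
  rw [mulVec_eq, sub_eq_add_neg, ← neg_smul, QuadraticMap.map_add (f := Q), QuadraticMap.map_smul,
    QuadraticMap.polar_smul_right, smul_eq_mul, smul_eq_mul, QuadraticMap.polar_comm (⇑Q) x v]
  field_simp
  ring

theorem self (v : ι → F) (hv : Q v ≠ 0) : Cfsg.reflectionMatrix (⇑Q) v *ᵥ v = -v := by
  rw [mulVec_eq, QuadraticMap.polar_self, nsmul_eq_mul, Nat.cast_ofNat,
    show (Q v)⁻¹ * (2 * Q v) = 2 by field_simp]
  module

theorem fix (v x : ι → F) (h : QuadraticMap.polar (⇑Q) v x = 0) :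
    Cfsg.reflectionMatrix (⇑Q) v *ᵥ x = x := by
  rw [mulVec_eq, h, mul_zero, zero_smul, sub_zero]

theorem det_eq (v : ι → F) (hv : Q v ≠ 0) : (Cfsg.reflectionMatrix (⇑Q) v).det = -1 := by
  rw [Cfsg.reflectionMatrix, sub_eq_add_neg, ← neg_smul, ← Matrix.smul_vecMulVec, Matrix.vecMulVec_eq Unit,
    Matrix.det_one_add_replicateCol_mul_replicateRow, dotProduct_smul, polarVec_dot, QuadraticMap.polar_self,
    nsmul_eq_mul, Nat.cast_ofNat, smul_eq_mul]
  field_simp
  ring

theorem mem_iff {g : Matrix.GeneralLinearGroup ι F} :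
    g ∈ Cfsg.isometryGroup F (⇑Q) ↔ ∀ x, Q ((g : Matrix ι ι F) *ᵥ x) = Q x :=
  ⟨fun h x => h x x, fun h u _ => h u⟩

/-- The reflection as an isometry. -/
def refl (v : ι → F) (hv : Q v ≠ 0) : Cfsg.isometryGroup F (⇑Q) :=
  ⟨Matrix.GeneralLinearGroup.mkOfDetNeZero (Cfsg.reflectionMatrix (⇑Q) v)
    (by rw [det_eq Q v hv]; exact neg_ne_zero.mpr one_ne_zero), (mem_iff Q).mpr fun x => preserve Q v hv x⟩

theorem coe_refl (v : ι → F) (hv : Q v ≠ 0) :
    ((refl Q v hv : Matrix.GeneralLinearGroup ι F) : Matrix ι ι F) =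
      Cfsg.reflectionMatrix (⇑Q) v := rfl

theorem det_sq (hQ : (QuadraticMap.polarBilin Q).Nondegenerate) (g : Cfsg.isometryGroup F (⇑Q)) :
    ((g : Matrix.GeneralLinearGroup ι F) : Matrix ι ι F).det = 1 ∨
      ((g : Matrix.GeneralLinearGroup ι F) : Matrix ι ι F).det = -1 := by
  set M := ((g : Matrix.GeneralLinearGroup ι F) : Matrix ι ι F)
  let B : LinearMap.BilinForm F (ι → F) := QuadraticMap.polarBilin Q
  have hM : B.comp (Matrix.toLin' M) (Matrix.toLin' M) = B := by
    refine LinearMap.ext fun x => LinearMap.ext fun y => ?_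
    change QuadraticMap.polar (⇑Q) (Matrix.toLin' M x) (Matrix.toLin' M y) = QuadraticMap.polar (⇑Q) x y
    simp only [Matrix.toLin'_apply, QuadraticMap.polar, ← Matrix.mulVec_add]
    rw [(mem_iff Q).mp g.2, (mem_iff Q).mp g.2, (mem_iff Q).mp g.2]
  have h := congrArg (fun C => (LinearMap.BilinForm.toMatrix' C).det) hM
  simp only [LinearMap.BilinForm.toMatrix'_comp, LinearMap.toMatrix'_toLin', Matrix.det_mul, Matrix.det_transpose] at h
  have hd : (LinearMap.BilinForm.toMatrix' B).det ≠ 0 :=
    (LinearMap.BilinForm.nondegenerate_iff_det_ne_zero (Pi.basisFun F ι)).mp hQ |> fun h' => by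
      simpa [LinearMap.BilinForm.toMatrix_basisFun] using h'
  apply mul_self_eq_one_iff.mp
  apply mul_right_cancel₀ hd
  rw [one_mul]
  linear_combination h

theorem mulVec_mul (g h : Cfsg.isometryGroup F (⇑Q)) (x : ι → F) :
    (((g * h : Cfsg.isometryGroup F (⇑Q)) : Matrix.GeneralLinearGroup ι F) : Matrix ι ι F) *ᵥ x =
      ((g : Matrix.GeneralLinearGroup ι F) : Matrix ι ι F) *ᵥ
        (((h : Matrix.GeneralLinearGroup ι F) : Matrix ι ι F) *ᵥ x) := by
  rw [Subgroup.coe_mul, Units.val_mul, Matrix.mulVec_mulVec]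

/-- In odd characteristic reflections generate the orthogonal group. -/
theorem mem_closure_odd (h2 : (2 : F) ≠ 0) (hQ : (QuadraticMap.polarBilin Q).Nondegenerate)
    (g : Cfsg.isometryGroup F (⇑Q)) :
    ∃ l : List {v : ι → F // Q v ≠ 0}, g = (l.map fun v => refl Q v.1 v.2).prod := by
  classical
  haveI : Invertible (2 : F) := invertibleOfNonzero h2
  set d := Module.finrank F (ι → F) with hd₀
  obtain ⟨e, he⟩ := LinearMap.BilinForm.exists_orthogonal_basis (B := QuadraticMap.polarBilin Q)
    ⟨fun x y => QuadraticMap.polar_comm (⇑Q) x y⟩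
  have hort : ∀ i j, i ≠ j → QuadraticMap.polar (⇑Q) (e i) (e j) = 0 := fun i j h => he h
  have hne : ∀ i, Q (e i) ≠ 0 := by
    intro i h0
    refine e.ne_zero i (hQ.1 (e i) fun y => ?_)
    change QuadraticMap.polarBilin Q (e i) y = 0
    rw [← e.sum_repr y, map_sum]
    refine Finset.sum_eq_zero fun j _ => ?_
    rw [map_smul]
    change _ • QuadraticMap.polar (⇑Q) (e i) (e j) = 0
    by_cases hij : i = j
    · subst hij; rw [QuadraticMap.polar_self, h0, smul_zero, smul_zero]
    · rw [hort i j hij, smul_zero]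
  have main : ∀ k, ∀ g : Cfsg.isometryGroup F (⇑Q),
      (∀ i : Fin d, (i : ℕ) + k < d → ((g : Matrix.GeneralLinearGroup ι F) : Matrix ι ι F) *ᵥ e i = e i) →
      ∃ l : List {v : ι → F // Q v ≠ 0}, g = (l.map fun v => refl Q v.1 v.2).prod := by
    intro k
    induction k with
    | zero =>
      intro g hg
      refine ⟨[], ?_⟩
      have hlin : Matrix.toLin' ((g : Matrix.GeneralLinearGroup ι F) : Matrix ι ι F) = LinearMap.id :=
        e.ext fun i => by rw [Matrix.toLin'_apply, hg i (by have := i.2; omega)]; rfl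
      refine Subtype.ext (Units.ext (Matrix.toLin'.injective ?_))
      rw [hlin]
      simp
    | succ k ih =>
      intro g hg
      by_cases hk : k < d
      swap
      · exact ih g fun i hi => absurd hi (by omega)
      set j : Fin d := ⟨d - 1 - k, by omega⟩ with hj
      set a := ((g : Matrix.GeneralLinearGroup ι F) : Matrix ι ι F) *ᵥ e j
      have hQa : Q a = Q (e j) := (mem_iff Q).mp g.2 _
      have hperp : ∀ i : Fin d, (i : ℕ) + (k + 1) < d → QuadraticMap.polar (⇑Q) a (e i) = 0 := by
        intro i hi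
        conv_lhs => rw [← hg i hi]
        simp only [QuadraticMap.polar, a, ← Matrix.mulVec_add]
        rw [(mem_iff Q).mp g.2, (mem_iff Q).mp g.2, (mem_iff Q).mp g.2]
        exact hort j i fun h => by rw [← h, hj] at hi; simp at hi; omega
      have hperp' : ∀ i : Fin d, (i : ℕ) + (k + 1) < d → QuadraticMap.polar (⇑Q) (e j) (e i) = 0 := fun i hi =>
        hort j i fun h => by rw [← h, hj] at hi; simp at hi; omega
      obtain ⟨r, hr1, hr2⟩ : ∃ r : List {v : ι → F // Q v ≠ 0},
          ((((r.map fun v => refl Q v.1 v.2).prod : Cfsg.isometryGroup F (⇑Q)) : Matrix.GeneralLinearGroup ι F) :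
            Matrix ι ι F) *ᵥ a = e j ∧
          ∀ i : Fin d, (i : ℕ) + (k + 1) < d →
            ((((r.map fun v => refl Q v.1 v.2).prod : Cfsg.isometryGroup F (⇑Q)) : Matrix.GeneralLinearGroup ι F) :
              Matrix ι ι F) *ᵥ e i = e i := by
        have e1 := QuadraticMap.map_add (f := Q) a (e j)
        have e2 := QuadraticMap.map_add (f := Q) a (-(e j))
        rw [QuadraticMap.map_neg, QuadraticMap.polar_neg_right] at e2
        by_cases hd : Q (a + -(e j)) = 0
        · have hs : Q (a + e j) ≠ 0 := by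
            intro hs
            apply hne j
            have : 2 * (2 * Q (e j)) = 0 := by linear_combination hd + hs - e1 - e2 - 2 * hQa
            simpa [h2] using this
          refine ⟨[⟨e j, hne j⟩, ⟨a + e j, hs⟩], ?_, fun i hi => ?_⟩
          · simp only [List.map_cons, List.map_nil, List.prod_cons, List.prod_nil, mul_one, mulVec_mul, coe_refl]
            have hp : QuadraticMap.polar (⇑Q) (a + e j) a = Q (a + e j) := by
              rw [QuadraticMap.polar_add_left, QuadraticMap.polar_self, nsmul_eq_mul, Nat.cast_ofNat,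
                QuadraticMap.polar_comm]
              linear_combination -e1 + hQa
            rw [mulVec_eq Q (a + e j) a, hp, inv_mul_cancel₀ hs, one_smul, sub_add_cancel_left, Matrix.mulVec_neg,
              self Q _ (hne j), neg_neg]
          · simp only [List.map_cons, List.map_nil, List.prod_cons, List.prod_nil, mul_one, mulVec_mul, coe_refl]
            rw [fix Q (a + e j) (e i) (by rw [QuadraticMap.polar_add_left, hperp i hi, hperp' i hi, add_zero]),
              fix Q (e j) (e i) (hperp' i hi)]
        · refine ⟨[⟨a + -(e j), hd⟩], ?_, fun i hi => ?_⟩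
          · simp only [List.map_cons, List.map_nil, List.prod_cons, List.prod_nil, mul_one, coe_refl]
            have hp : QuadraticMap.polar (⇑Q) (a + -(e j)) a = Q (a + -(e j)) := by
              rw [QuadraticMap.polar_add_left, QuadraticMap.polar_self, nsmul_eq_mul, Nat.cast_ofNat,
                QuadraticMap.polar_neg_left, QuadraticMap.polar_comm]
              linear_combination -e2 + hQa
            rw [mulVec_eq, hp, inv_mul_cancel₀ hd, one_smul]
            abel
          · simp only [List.map_cons, List.map_nil, List.prod_cons, List.prod_nil, mul_one, coe_refl]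
            rw [fix Q _ (e i) (by rw [QuadraticMap.polar_add_left, QuadraticMap.polar_neg_left, hperp i hi,
              hperp' i hi, neg_zero, add_zero])]
      set R := (r.map fun v => refl Q v.1 v.2).prod with hR
      obtain ⟨l, hl⟩ := ih (R * g) fun i hi => by
        rw [mulVec_mul]
        by_cases hij : i = j
        · subst hij; exact hr1
        · have hi' : (i : ℕ) + (k + 1) < d := by
            have : (i : ℕ) ≠ d - 1 - k := fun h => hij (Fin.ext h)
            omega
          rw [hg i hi', hr2 i hi']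
      refine ⟨r.reverse ++ l, ?_⟩
      rw [List.map_append, List.prod_append, ← hl, List.map_reverse]
      have hinv : ∀ L : List {v : ι → F // Q v ≠ 0},
          ((L.map fun v => refl Q v.1 v.2).reverse).prod * (L.map fun v => refl Q v.1 v.2).prod = 1 := by
        intro L
        induction L with
        | nil => simp
        | cons v L ihL =>
          rw [List.map_cons, List.reverse_cons, List.prod_append, List.prod_singleton, List.prod_cons, mul_assoc,
            ← mul_assoc (refl Q v.1 v.2) (refl Q v.1 v.2)]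
          rw [show refl Q v.1 v.2 * refl Q v.1 v.2 = 1 from Subtype.ext (Units.ext (Matrix.toLin'.injective
            (LinearMap.ext fun x => by
              rw [Matrix.toLin'_apply, mulVec_mul, coe_refl, mulVec_eq Q v.1 x, Matrix.mulVec_sub, Matrix.mulVec_smul,
                self Q _ v.2, mulVec_eq]
              simp))), one_mul, ihL]
      rw [← mul_assoc, hR, hinv, one_mul]
  exact main d g fun i hi => absurd hi (by omega)

theorem special_eq (h2 : (2 : F) ≠ 0) (hQ : (QuadraticMap.polarBilin Q).Nondegenerate) :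
    Cfsg.specialIsometryGroup F (⇑Q) = Subgroup.closure {g : Cfsg.isometryGroup F (⇑Q) |
      ∃ u v : ι → F, Q u ≠ 0 ∧ Q v ≠ 0 ∧ ((g : Matrix.GeneralLinearGroup ι F) : Matrix ι ι F) =
        Cfsg.reflectionMatrix (⇑Q) u * Cfsg.reflectionMatrix (⇑Q) v} := by
  apply le_antisymm
  · intro g hg
    obtain ⟨l, rfl⟩ := mem_closure_odd Q h2 hQ g
    have hd : Matrix.det ((((l.map fun v => refl Q v.1 v.2).prod : Cfsg.isometryGroup F (⇑Q)) :
        Matrix.GeneralLinearGroup ι F) : Matrix ι ι F) = 1 := congrArg Units.val hg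
    have hev : ∀ m, ∀ l : List {v : ι → F // Q v ≠ 0}, l.length = 2 * m →
        (l.map fun v => refl Q v.1 v.2).prod ∈ Subgroup.closure {g : Cfsg.isometryGroup F (⇑Q) |
          ∃ u v : ι → F, Q u ≠ 0 ∧ Q v ≠ 0 ∧ ((g : Matrix.GeneralLinearGroup ι F) :
            Matrix ι ι F) = Cfsg.reflectionMatrix (⇑Q) u * Cfsg.reflectionMatrix (⇑Q) v} := by
      intro m
      induction m with
      | zero => intro l hl; simp [List.length_eq_zero_iff.mp (by omega : l.length = 0)]
      | succ m ihm =>
        intro l hl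
        match l, hl with
        | a :: b :: l, hl =>
          rw [List.map_cons, List.map_cons, List.prod_cons, List.prod_cons, ← mul_assoc]
          exact mul_mem (Subgroup.subset_closure ⟨a.1, b.1, a.2, b.2, rfl⟩) (ihm l (by simp at hl; omega))
    have hdet : ∀ l : List {v : ι → F // Q v ≠ 0},
        Matrix.det ((((l.map fun v => refl Q v.1 v.2).prod : Cfsg.isometryGroup F (⇑Q)) :
          Matrix.GeneralLinearGroup ι F) : Matrix ι ι F) = (-1) ^ l.length := by
      intro l
      induction l with
      | nil => simp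
      | cons a l ihl =>
        rw [List.map_cons, List.prod_cons, Subgroup.coe_mul, Units.val_mul, Matrix.det_mul, ihl, coe_refl,
          det_eq Q _ a.2, List.length_cons, pow_succ']
    rw [hdet] at hd
    rcases Nat.even_or_odd l.length with ⟨m, hm⟩ | hodd
    · exact hev m l (by omega)
    · exfalso
      rw [hodd.neg_one_pow] at hd
      exact h2 (by linear_combination -hd)
  · rw [Subgroup.closure_le]
    rintro g ⟨u, v, hu, hv, hg⟩
    refine Units.ext ?_
    show Matrix.det _ = 1
    rw [Subgroup.subtype_apply, hg, Matrix.det_mul, det_eq Q u hu, det_eq Q v hv]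
    ring

end Cfsg.Lib.Classical.Refl
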