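import Mathlib
import Cfsg.Agent.Classical.Misc.Reflections
import Cfsg.Agent.Classical.Misc.HyperbolicQuadric

/-!
The Dickson invariant: the parity of the rank of `g - 1`.  It is a homomorphism by the parity rule for
maximal singular subspaces of the doubled space, in which graphs of isometries are maximal singular.
-/

set_option autoImplicit false
set_option linter.style.haveILetI false

namespace Cfsg.Lib.Classical.Refl

open Matrix

universe u

variable {F : Type u} [Field F] {ι : Type} [Fintype ι] [DecidableEq ι] (Q : QuadraticForm F (ι → F))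

/-- The matrix of an isometry. -/
abbrev mat (g : Cfsg.isometryGroup F (⇑Q)) : Matrix ι ι F := ((g : Matrix.GeneralLinearGroup ι F) : Matrix ι ι F)

/-- The doubled space. -/
noncomputable def double : QuadraticForm F ((ι → F) × (ι → F)) := QuadraticMap.prod Q (-Q)

theorem double_apply (z : (ι → F) × (ι → F)) : double Q z = Q z.1 - Q z.2 := by
  simp [double, sub_eq_add_neg]

theorem double_nondegenerate (hQ : (QuadraticMap.polarBilin Q).Nondegenerate) :
    (QuadraticMap.polarBilin (double Q)).Nondegenerate := by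
  have h1 : ∀ z, (∀ w, QuadraticMap.polar (⇑(double Q)) z w = 0) → z = 0 := by
    intro z hz
    refine Prod.ext (hQ.1 _ fun y => ?_) (hQ.1 _ fun y => ?_)
    · have h := hz (y, 0)
      change QuadraticMap.polar (⇑Q) z.1 y = 0
      simp only [QuadraticMap.polar, double_apply, Prod.fst_add, Prod.snd_add, add_zero, QuadraticMap.map_zero] at h ⊢
      linear_combination h
    · have h := hz (0, y)
      change QuadraticMap.polar (⇑Q) z.2 y = 0
      simp only [QuadraticMap.polar, double_apply, Prod.fst_add, Prod.snd_add, add_zero, QuadraticMap.map_zero] at h ⊢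
      linear_combination -h
  exact ⟨h1, fun z hz => h1 z fun w => by rw [QuadraticMap.polar_comm]; exact hz w⟩

/-- The graph of an isometry. -/
noncomputable def graph (g : Cfsg.isometryGroup F (⇑Q)) : Submodule F ((ι → F) × (ι → F)) :=
  LinearMap.range ((Matrix.toLin' (mat Q g)).prod LinearMap.id)

theorem graph_isMax (g : Cfsg.isometryGroup F (⇑Q)) : HypQuad.IsMax (double Q) (Fintype.card ι) (graph Q g) := by
  refine ⟨?_, ?_⟩
  · rw [graph, LinearMap.finrank_range_of_inj (fun x y h => congrArg Prod.snd h),
      Module.finrank_fintype_fun_eq_card]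
  · rintro _ ⟨x, rfl⟩
    simp [double_apply, (mem_iff Q).mp g.2]

/-- The distance of two isometries. -/
noncomputable def gap (g h : Cfsg.isometryGroup F (⇑Q)) : ℕ :=
  Fintype.card ι - Module.finrank F ↥(LinearMap.ker (Matrix.toLin' (mat Q g) - Matrix.toLin' (mat Q h)))

theorem finrank_graph_inf (g h : Cfsg.isometryGroup F (⇑Q)) :
    Module.finrank F ↥(graph Q g ⊓ graph Q h) =
      Module.finrank F ↥(LinearMap.ker (Matrix.toLin' (mat Q g) - Matrix.toLin' (mat Q h))) := by
  have e : graph Q g ⊓ graph Q h = (LinearMap.ker (Matrix.toLin' (mat Q g) - Matrix.toLin' (mat Q h))).map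
      ((Matrix.toLin' (mat Q g)).prod LinearMap.id) := by
    ext z
    constructor
    · rintro ⟨⟨x, hx⟩, ⟨y, hy⟩⟩
      have hxy : x = y := (congrArg Prod.snd hx).trans (congrArg Prod.snd hy).symm
      subst hxy
      refine ⟨x, ?_, hx⟩
      rw [SetLike.mem_coe, LinearMap.mem_ker, LinearMap.sub_apply, sub_eq_zero]
      exact (congrArg Prod.fst hx).trans (congrArg Prod.fst hy).symm
    · rintro ⟨x, hx, rfl⟩
      refine ⟨⟨x, rfl⟩, ⟨x, ?_⟩⟩
      rw [SetLike.mem_coe, LinearMap.mem_ker, LinearMap.sub_apply, sub_eq_zero] at hx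
      simp [hx]
  rw [e]
  exact ((LinearMap.ker _).equivMapOfInjective _ (fun x y h => congrArg Prod.snd h)).symm.finrank_eq

theorem gap_mul_left (g a b : Cfsg.isometryGroup F (⇑Q)) : gap Q (g * a) (g * b) = gap Q a b := by
  have e : LinearMap.ker (Matrix.toLin' (mat Q (g * a)) - Matrix.toLin' (mat Q (g * b))) =
      LinearMap.ker (Matrix.toLin' (mat Q a) - Matrix.toLin' (mat Q b)) := by
    ext x
    simp only [LinearMap.mem_ker, LinearMap.sub_apply, Matrix.toLin'_apply, sub_eq_zero, mulVec_mul]
    constructor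
    · intro h
      have := congrArg (mat Q g⁻¹ *ᵥ ·) h
      simp only [← mulVec_mul, ← mul_assoc, inv_mul_cancel, one_mul] at this
      exact this
    · intro h; rw [h]
  rw [gap, gap, e]

theorem gap_comm (a b : Cfsg.isometryGroup F (⇑Q)) : gap Q a b = gap Q b a := by
  have e : LinearMap.ker (Matrix.toLin' (mat Q a) - Matrix.toLin' (mat Q b)) =
      LinearMap.ker (Matrix.toLin' (mat Q b) - Matrix.toLin' (mat Q a)) := by
    ext x
    simp only [LinearMap.mem_ker, LinearMap.sub_apply, sub_eq_zero]
    exact eq_comm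
  rw [gap, gap, e]

variable (hQ : (QuadraticMap.polarBilin Q).Nondegenerate)

include hQ

theorem gap_parity (g h : Cfsg.isometryGroup F (⇑Q)) :
    Even (gap Q (g * h) g + gap Q g 1 + gap Q (g * h) 1) := by
  have h0 := HypQuad.parity (double Q) (double_nondegenerate Q hQ)
    (by rw [Module.finrank_prod, Module.finrank_fintype_fun_eq_card, two_mul])
    (graph_isMax Q (g * h)) (graph_isMax Q g) (graph_isMax Q 1)
  rw [finrank_graph_inf, finrank_graph_inf, finrank_graph_inf] at h0
  exact h0

/-- The Dickson invariant. -/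
noncomputable def dickson : Cfsg.isometryGroup F (⇑Q) →* ℤˣ where
  toFun g := (-1) ^ gap Q g 1
  map_one' := by
    have : gap Q 1 1 = 0 := by
      rw [gap, sub_self, LinearMap.ker_zero, finrank_top, Module.finrank_fintype_fun_eq_card, Nat.sub_self]
    rw [this, pow_zero]
  map_mul' g h := by
    have h1 := gap_parity Q hQ g h
    have h2 := gap_mul_left Q g h 1
    rw [mul_one] at h2
    rw [h2] at h1
    rw [← pow_add]
    apply neg_one_pow_congr
    rw [Nat.even_iff, Nat.even_iff]
    rw [Nat.even_iff] at h1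
    omega

theorem dickson_refl (v : ι → F) (hv : Q v ≠ 0) : dickson Q hQ (refl Q v hv) = -1 := by
  have hv0 : v ≠ 0 := fun h => hv (by rw [h, QuadraticMap.map_zero])
  have hker : LinearMap.ker (Matrix.toLin' (mat Q (refl Q v hv)) - Matrix.toLin' (mat Q 1)) =
      HypQuad.perp Q (Submodule.span F {v}) := by
    ext x
    rw [LinearMap.mem_ker, LinearMap.sub_apply, sub_eq_zero, Matrix.toLin'_apply, Matrix.toLin'_apply,
      show mat Q 1 = 1 from rfl, Matrix.one_mulVec,
      show mat Q (refl Q v hv) *ᵥ x = x - ((Q v)⁻¹ * QuadraticMap.polar (⇑Q) v x) • v from mulVec_eq Q v x,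
      sub_eq_self, smul_eq_zero, HypQuad.mem_perp]
    simp only [hv0, or_false, mul_eq_zero, inv_eq_zero, hv, false_or]
    refine ⟨fun h w hw => ?_, fun h => h v (Submodule.mem_span_singleton_self v)⟩
    obtain ⟨c, rfl⟩ := Submodule.mem_span_singleton.mp hw
    rw [QuadraticMap.polar_smul_left, h, smul_zero]
  have hpos : 1 ≤ Fintype.card ι := by
    by_contra h
    haveI : IsEmpty ι := Fintype.card_eq_zero_iff.mp (by omega)
    exact hv0 (Subsingleton.elim _ _)
  show (-1 : ℤˣ) ^ gap Q (refl Q v hv) 1 = -1
  rw [gap, hker, HypQuad.finrank_perp Q hQ, finrank_span_singleton hv0, Module.finrank_fintype_fun_eq_card,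
    show Fintype.card ι - (Fintype.card ι - 1) = 1 by omega, pow_one]

end Cfsg.Lib.Classical.Refl
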