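import Mathlib
import Cfsg.Agent.Classical.Misc.Reflections
import Cfsg.Agent.Classical.Misc.HyperbolicQuadric

/-! Reflections generate the orthogonal group of a finite field, except in the case `O⁺₄(2)`. -/

set_option autoImplicit false
set_option linter.style.haveILetI false

namespace Cfsg.Lib.Classical.Refl

open Matrix

universe u

variable {F : Type u} [Field F] {ι : Type} [Fintype ι] [DecidableEq ι] (Q : QuadraticForm F (ι → F))

/-- The Siegel map. -/
def siegelMap (u z x : ι → F) : ι → F :=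
  x + QuadraticMap.polar (⇑Q) u x • z + (-QuadraticMap.polar (⇑Q) z x - Q z * QuadraticMap.polar (⇑Q) u x) • u

theorem pair_eq {u y : ι → F} (hu : Q u = 0) (huy : QuadraticMap.polar (⇑Q) u y = 0) (hy : Q y ≠ 0)
    (c : F) (x : ι → F) :
    Cfsg.reflectionMatrix (⇑Q) y *ᵥ (Cfsg.reflectionMatrix (⇑Q) (y + c • u) *ᵥ x) =
      siegelMap Q u ((c * (Q y)⁻¹) • y) x := by
  have hyu : QuadraticMap.polar (⇑Q) y u = 0 := by rw [QuadraticMap.polar_comm]; exact huy
  have hQy : Q (y + c • u) = Q y := by
    rw [WittQuad.val_smul_add, hu, hyu]; ring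
  have hyy : QuadraticMap.polar (⇑Q) y y = 2 * Q y := by
    rw [QuadraticMap.polar_self, nsmul_eq_mul, Nat.cast_ofNat]
  rw [mulVec_eq, mulVec_eq, hQy]
  funext i
  simp only [siegelMap, Pi.add_apply, Pi.sub_apply, Pi.smul_apply, smul_eq_mul, QuadraticMap.polar_add_left,
    QuadraticMap.polar_smul_left, QuadraticMap.polar_sub_right, QuadraticMap.polar_add_right,
    QuadraticMap.polar_smul_right, QuadraticMap.map_smul, hyu, hyy]
  field_simp
  ring

theorem siegel_add {u z z' : ι → F} (hu : Q u = 0) (huz : QuadraticMap.polar (⇑Q) u z = 0)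
    (huz' : QuadraticMap.polar (⇑Q) u z' = 0) (x : ι → F) :
    siegelMap Q u z (siegelMap Q u z' x) = siegelMap Q u (z + z') x := by
  have huu : QuadraticMap.polar (⇑Q) u u = 0 := by rw [QuadraticMap.polar_self, hu, smul_zero]
  have hzu : QuadraticMap.polar (⇑Q) z u = 0 := by rw [QuadraticMap.polar_comm]; exact huz
  funext i
  simp only [siegelMap, Pi.add_apply, Pi.smul_apply, smul_eq_mul, QuadraticMap.polar_add_left,
    QuadraticMap.polar_add_right, QuadraticMap.polar_smul_right, QuadraticMap.map_add (f := Q), huu, hzu, huz']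
  ring

theorem siegel_zero (u x : ι → F) : siegelMap Q u 0 x = x := by
  simp [siegelMap]

variable (R : Subgroup (Cfsg.isometryGroup F (⇑Q)))

/-- The map is induced by an element of `R`. -/
def InR (f : (ι → F) → (ι → F)) : Prop :=
  ∃ r ∈ R, ∀ x, ((r : Matrix.GeneralLinearGroup ι F) : Matrix ι ι F) *ᵥ x = f x

variable (hR : ∀ v (hv : Q v ≠ 0), refl Q v hv ∈ R)

include hR

theorem siegel_nonsing {u y : ι → F} (hu : Q u = 0) (huy : QuadraticMap.polar (⇑Q) u y = 0) (hy : Q y ≠ 0)
    (t : F) : InR Q R (siegelMap Q u (t • y)) := by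
  have hQy : Q (y + (t * Q y) • u) ≠ 0 := by
    rw [WittQuad.val_smul_add, hu, QuadraticMap.polar_comm, huy]
    simpa using hy
  refine ⟨refl Q y hy * refl Q _ hQy, mul_mem (hR _ _) (hR _ _), fun x => ?_⟩
  rw [mulVec_mul, coe_refl, coe_refl, pair_eq Q hu huy hy, mul_assoc, mul_inv_cancel₀ hy, mul_one]

theorem siegel_sing [Fintype F] (hQ : (QuadraticMap.polarBilin Q).Nondegenerate)
    (h : Fintype.card F ≠ 2 ∨ Fintype.card ι ≠ 4) {u w : ι → F} (hu : Q u = 0) (hw : Q w = 0)
    (huw : QuadraticMap.polar (⇑Q) u w = 0) (hli : LinearIndependent F ![u, w]) :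
    InR Q R (siegelMap Q u w) := by
  classical
  set n := Fintype.card ι
  have hV : Module.finrank F (ι → F) = n := Module.finrank_fintype_fun_eq_card F
  set L := Submodule.span F (Set.range ![u, w])
  have hL2 : Module.finrank F L = 2 := by rw [finrank_span_eq_card hli, Fintype.card_fin]
  have hLs : ∀ a ∈ L, Q a = 0 := by
    intro a ha
    obtain ⟨c, rfl⟩ := (Submodule.mem_span_range_iff_exists_fun F).mp ha
    simp only [Fin.sum_univ_two, Matrix.cons_val_zero, Matrix.cons_val_one]
    rw [WittQuad.val_smul_add, QuadraticMap.map_smul, hu, hw, QuadraticMap.polar_smul_left, huw]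
    simp
  have hn4 : 4 ≤ n := by
    have := Submodule.finrank_mono (HypQuad.le_perp Q hLs)
    rw [HypQuad.finrank_perp Q hQ, hL2, hV] at this; omega
  have big : ∀ X : Submodule F (ι → F), n < 2 * Module.finrank F X → ∃ y ∈ X, Q y ≠ 0 := by
    intro X hX
    by_contra hc
    push Not at hc
    have := Submodule.finrank_mono (HypQuad.le_perp Q hc)
    rw [HypQuad.finrank_perp Q hQ, hV] at this; omega
  obtain ⟨y, huy, hy, t, ht⟩ : ∃ y, QuadraticMap.polar (⇑Q) u y = 0 ∧ Q y ≠ 0 ∧ ∃ t : F, Q (w + t • y) ≠ 0 := by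
    have hu0 : u ≠ 0 := hli.ne_zero 0
    by_cases hq : Fintype.card F = 2
    · obtain ⟨y, hy, hQy⟩ := big (HypQuad.perp Q L) (by
        rw [HypQuad.finrank_perp Q hQ, hL2, hV]
        have := h.resolve_left (not_not.mpr hq)
        omega)
      have h1 := (HypQuad.mem_perp Q).mp hy u (Submodule.subset_span ⟨0, rfl⟩)
      have h2 := (HypQuad.mem_perp Q).mp hy w (Submodule.subset_span ⟨1, rfl⟩)
      refine ⟨y, h1, hQy, 1, ?_⟩
      rw [WittQuad.val_smul_add, hw, h2]
      simpa using hQy
    · obtain ⟨y, hy, hQy⟩ := big (HypQuad.perp Q (Submodule.span F {u})) (by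
        rw [HypQuad.finrank_perp Q hQ, finrank_span_singleton hu0, hV]; omega)
      refine ⟨y, (HypQuad.mem_perp Q).mp hy u (Submodule.mem_span_singleton_self u), hQy, ?_⟩
      obtain ⟨t, -, ht⟩ := Finset.exists_mem_notMem_of_card_lt_card
        (s := ({0, -(QuadraticMap.polar (⇑Q) w y) / Q y} : Finset F)) (t := Finset.univ) (by
          have := Finset.card_le_two (a := (0 : F)) (b := -(QuadraticMap.polar (⇑Q) w y) / Q y)
          have := Fintype.one_lt_card (α := F)
          rw [Finset.card_univ]; omega)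
      simp only [Finset.mem_insert, Finset.mem_singleton, not_or] at ht
      refine ⟨t, fun h0 => ?_⟩
      rw [WittQuad.val_smul_add, hw] at h0
      have h1 : t * (t * Q y + QuadraticMap.polar (⇑Q) w y) = 0 := by linear_combination h0
      have h2 := (mul_eq_zero.mp h1).resolve_left ht.1
      exact ht.2 (by rw [eq_div_iff hQy]; linear_combination h2)
  have huy' : QuadraticMap.polar (⇑Q) u (w + t • y) = 0 := by
    rw [QuadraticMap.polar_add_right, QuadraticMap.polar_smul_right, huw, huy, smul_zero, add_zero]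
  obtain ⟨r₁, hr₁, e₁⟩ := siegel_nonsing Q R hR hu huy' ht 1
  obtain ⟨r₂, hr₂, e₂⟩ := siegel_nonsing Q R hR hu huy hy (-t)
  refine ⟨r₁ * r₂, mul_mem hr₁ hr₂, fun x => ?_⟩
  rw [mulVec_mul, e₁, e₂, siegel_add Q hu (by rw [one_smul]; exact huy')
    (by rw [QuadraticMap.polar_smul_right, huy, smul_zero])]
  congr 1
  module

theorem eq_top_of_refl [Fintype F] (hQ : (QuadraticMap.polarBilin Q).Nondegenerate)
    (h : Fintype.card F ≠ 2 ∨ Fintype.card ι ≠ 4) : R = ⊤ := by
  classical
  set n := Fintype.card ι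
  have hV : Module.finrank F (ι → F) = n := Module.finrank_fintype_fun_eq_card F
  rw [eq_top_iff]
  rintro g -
  have act : ∀ (g : Cfsg.isometryGroup F (⇑Q)) x y,
      QuadraticMap.polar (⇑Q) (((g : Matrix.GeneralLinearGroup ι F) : Matrix ι ι F) *ᵥ x)
        (((g : Matrix.GeneralLinearGroup ι F) : Matrix ι ι F) *ᵥ y) = QuadraticMap.polar (⇑Q) x y :=
    fun g x y => by
      simp only [QuadraticMap.polar, ← Matrix.mulVec_add]
      rw [(mem_iff Q).mp g.2, (mem_iff Q).mp g.2, (mem_iff Q).mp g.2]
  let Fix : Cfsg.isometryGroup F (⇑Q) → Submodule F (ι → F) := fun g =>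
    LinearMap.ker (Matrix.toLin' ((g : Matrix.GeneralLinearGroup ι F) : Matrix ι ι F) - LinearMap.id)
  have memFix : ∀ g x, x ∈ Fix g ↔
      ((g : Matrix.GeneralLinearGroup ι F) : Matrix ι ι F) *ᵥ x = x := fun g x => by
    simp [Fix, sub_eq_zero]
  suffices key : ∀ d, ∀ g : Cfsg.isometryGroup F (⇑Q), n ≤ Module.finrank F (Fix g) + d → g ∈ R from
    key n g (by omega)
  intro d
  induction d with
  | zero =>
    intro g hg
    have hg1 : g = 1 := by
      have htop : Fix g = ⊤ := Submodule.eq_top_of_finrank_eq (by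
        have := Submodule.finrank_le (Fix g)
        rw [hV] at this ⊢; omega)
      refine Subtype.ext (Units.ext (Matrix.toLin'.injective (LinearMap.ext fun x => ?_)))
      rw [Matrix.toLin'_apply, (memFix g x).mp (htop ▸ Submodule.mem_top)]
      simp
    rw [hg1]; exact one_mem R
  | succ d ih =>
    intro g hg
    have step : ∀ r ∈ R, ∀ a, a ∉ Fix g → a ∈ Fix (r * g) → Fix g ≤ Fix (r * g) → g ∈ R := by
      intro r hr a ha ha' hle
      have hlt : Fix g < Fix (r * g) := lt_of_le_of_ne hle fun e => ha (e ▸ ha')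
      have := Submodule.finrank_lt_finrank_of_lt hlt
      have h1 := ih (r * g) (by omega)
      simpa using mul_mem (inv_mem hr) h1
    by_cases hall : ∀ x, x ∈ Fix g
    · exact ih g (by
        have htop : Fix g = ⊤ := Submodule.eq_top_iff'.mpr hall
        rw [htop, finrank_top, hV]; omega)
    push Not at hall
    obtain ⟨a, ha⟩ := hall
    set M := ((g : Matrix.GeneralLinearGroup ι F) : Matrix ι ι F)
    have hperp : ∀ x ∈ Fix g, ∀ b, QuadraticMap.polar (⇑Q) (M *ᵥ b - b) x = 0 := by
      intro x hx b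
      rw [QuadraticMap.polar_sub_left]
      conv_lhs => arg 1; rw [← (memFix g x).mp hx]
      rw [act, sub_self]
    by_cases hns : ∃ b, b ∉ Fix g ∧ Q (M *ᵥ b - b) ≠ 0
    · obtain ⟨b, hb, hd⟩ := hns
      refine step _ (hR _ hd) b hb ?_ fun x hx => ?_
      · rw [memFix, mulVec_mul, coe_refl, mulVec_eq]
        have hp : QuadraticMap.polar (⇑Q) (M *ᵥ b - b) (M *ᵥ b) = Q (M *ᵥ b - b) := by
          have e := QuadraticMap.map_add (f := Q) (M *ᵥ b) (-b)
          rw [QuadraticMap.map_neg, QuadraticMap.polar_neg_right, ← sub_eq_add_neg, (mem_iff Q).mp g.2 b] at e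
          rw [QuadraticMap.polar_sub_left, QuadraticMap.polar_self, nsmul_eq_mul, Nat.cast_ofNat,
            (mem_iff Q).mp g.2 b, QuadraticMap.polar_comm (⇑Q) b]
          linear_combination -e
        rw [hp, inv_mul_cancel₀ hd, one_smul, sub_sub_cancel]
      · rw [memFix, mulVec_mul, (memFix g x).mp hx, coe_refl]
        exact fix Q _ _ (hperp x hx b)
    push Not at hns
    have hN : ∀ b, Q (M *ᵥ b - b) = 0 := fun b => by
      by_cases hb : b ∈ Fix g
      · rw [(memFix g b).mp hb, sub_self, QuadraticMap.map_zero]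
      · exact hns b hb
    have hNN : ∀ b c, QuadraticMap.polar (⇑Q) (M *ᵥ b - b) (M *ᵥ c - c) = 0 := fun b c => by
      have h1 := hN (b + c)
      rw [Matrix.mulVec_add, show M *ᵥ b + M *ᵥ c - (b + c) = (M *ᵥ b - b) + (M *ᵥ c - c) by abel,
        QuadraticMap.map_add (f := Q), hN, hN, zero_add, zero_add] at h1
      exact h1
    set u := M *ᵥ a - a with hu
    have hu0 : u ≠ 0 := fun h0 => ha ((memFix g a).mpr (sub_eq_zero.mp h0))
    obtain ⟨b, hb⟩ : ∃ b, QuadraticMap.polar (⇑Q) u b ≠ 0 := by
      by_contra hc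
      push Not at hc
      exact hu0 (hQ.1 u hc)
    set c := QuadraticMap.polar (⇑Q) u b with hc
    set w := c⁻¹ • (M *ᵥ b - b) with hw
    have hgsum : ∀ x y, QuadraticMap.polar (⇑Q) (M *ᵥ x - x) y + QuadraticMap.polar (⇑Q) x (M *ᵥ y - y) = 0 := by
      intro x y
      have h1 := act g x y
      have h2 := hNN x y
      change QuadraticMap.polar (⇑Q) (M *ᵥ x) (M *ᵥ y) = _ at h1
      rw [show M *ᵥ x = (M *ᵥ x - x) + x by abel, show M *ᵥ y = (M *ᵥ y - y) + y by abel,
        QuadraticMap.polar_add_left, QuadraticMap.polar_add_right, QuadraticMap.polar_add_right, h2] at h1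
      linear_combination h1
    have hua : QuadraticMap.polar (⇑Q) u a = 0 := by
      have h1 := QuadraticMap.map_add (f := Q) u a
      rw [hu, sub_add_cancel, (mem_iff Q).mp g.2 a, hN] at h1
      linear_combination -h1
    have hwb : QuadraticMap.polar (⇑Q) (M *ᵥ b - b) b = 0 := by
      have h1 := QuadraticMap.map_add (f := Q) (M *ᵥ b - b) b
      rw [sub_add_cancel, (mem_iff Q).mp g.2 b, hN] at h1
      linear_combination -h1
    have hwa : QuadraticMap.polar (⇑Q) w a = -1 := by
      have h1 := hgsum a b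
      rw [hw, QuadraticMap.polar_smul_left, QuadraticMap.polar_comm (⇑Q) (M *ᵥ b - b) a,
        show QuadraticMap.polar (⇑Q) a (M *ᵥ b - b) = -c by linear_combination h1, smul_eq_mul, mul_neg,
        inv_mul_cancel₀ hb]
    have hQu : Q u = 0 := hN a
    have hQw : Q w = 0 := by rw [hw, QuadraticMap.map_smul, hN, smul_zero]
    have huw : QuadraticMap.polar (⇑Q) u w = 0 := by rw [hw, QuadraticMap.polar_smul_right, hNN, smul_zero]
    have huu : QuadraticMap.polar (⇑Q) u u = 0 := by rw [QuadraticMap.polar_self, hQu, smul_zero]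
    have hli : LinearIndependent F ![u, -w] := by
      rw [LinearIndependent.pair_iff]
      intro s t hst
      have h1 := congrArg (fun z => QuadraticMap.polar (⇑Q) z a) hst
      have h2 := congrArg (fun z => QuadraticMap.polar (⇑Q) z b) hst
      simp only [QuadraticMap.polar_add_left, QuadraticMap.polar_smul_left, QuadraticMap.polar_neg_left,
        QuadraticMap.polar_zero_left, hua, hwa, smul_eq_mul] at h1 h2
      have ht : t = 0 := by linear_combination h1
      rw [← hc, ht, zero_mul, add_zero] at h2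
      exact ⟨(mul_eq_zero.mp h2).resolve_right hb, ht⟩
    obtain ⟨r, hr, er⟩ := siegel_sing Q R hR hQ h hQu (by rw [QuadraticMap.map_neg, hQw])
      (by rw [QuadraticMap.polar_neg_right, huw, neg_zero]) hli
    refine step r hr a ha ?_ fun x hx => ?_
    · rw [memFix, mulVec_mul, er]
      have hga : M *ᵥ a = u + a := by rw [hu, sub_add_cancel]
      change siegelMap Q u (-w) (M *ᵥ a) = a
      simp only [siegelMap, hga, QuadraticMap.polar_add_right, QuadraticMap.polar_neg_left, huu, hua,
        QuadraticMap.polar_comm (⇑Q) w u, huw, hwa, QuadraticMap.map_neg, hQw]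
      module
    · rw [memFix, mulVec_mul, (memFix g x).mp hx, er]
      have h1 : QuadraticMap.polar (⇑Q) u x = 0 := hperp x hx a
      have h2 : QuadraticMap.polar (⇑Q) w x = 0 := by
        rw [hw, QuadraticMap.polar_smul_left, hperp x hx b, smul_zero]
      simp [siegelMap, h1, h2]

end Cfsg.Lib.Classical.Refl
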