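import Mathlib
import Cfsg.Agent.Classical.Misc.Reflections

/-! Comparison of the fixed point sets of two coplanar reflections on the vectors of norm `c`. -/

set_option autoImplicit false
set_option linter.style.haveILetI false

namespace Cfsg.Lib.Classical.Refl

open Matrix

universe u

variable {F : Type u} [Field F] {ι : Type} [Fintype ι] [DecidableEq ι] (Q : QuadraticForm F (ι → F))

theorem polar_self_two (x : ι → F) : QuadraticMap.polar (⇑Q) x x = 2 * Q x := by
  rw [QuadraticMap.polar_self, nsmul_eq_mul, Nat.cast_ofNat]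

theorem val_lin {x y : ι → F} (h : QuadraticMap.polar (⇑Q) x y = 0) (a b : F) :
    Q (a • x + b • y) = a * a * Q x + b * b * Q y := by
  rw [QuadraticMap.map_add (f := Q), QuadraticMap.map_smul, QuadraticMap.map_smul, QuadraticMap.polar_smul_left,
    QuadraticMap.polar_smul_right, h, smul_eq_mul, smul_eq_mul]
  simp

/-- The norm-`c` vectors orthogonal to `v`. -/
def sphereFix (c : F) (v : ι → F) : Set (ι → F) := {x | Q x = c ∧ QuadraticMap.polar (⇑Q) v x = 0}

/-- The orthogonal of the plane `⟨u, u'⟩`. -/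
def planePerp (u u' : ι → F) : Submodule F (ι → F) :=
  LinearMap.ker (QuadraticMap.polarBilin Q u) ⊓ LinearMap.ker (QuadraticMap.polarBilin Q u')

theorem mem_planePerp {u u' x : ι → F} :
    x ∈ planePerp Q u u' ↔ QuadraticMap.polar (⇑Q) u x = 0 ∧ QuadraticMap.polar (⇑Q) u' x = 0 := Iff.rfl

theorem card_sphereFix [Fintype F] [DecidableEq F] (h2 : (2 : F) ≠ 0) {u u' : ι → F}
    (hu' : Q u' ≠ 0) (huu : QuadraticMap.polar (⇑Q) u u' = 0) (c : F) [Fintype ↥(planePerp Q u u')] :
    ((Nat.card (sphereFix Q c u) : ℤ)) =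
      ∑ w : planePerp Q u u', (quadraticChar F ((c - Q w.1) / Q u') + 1) := by
  classical
  have hc : ringChar F ≠ 2 := fun h => h2 (by haveI := ringChar.of_eq h; exact CharTwo.two_eq_zero)
  let e : sphereFix Q c u ≃ Σ w : planePerp Q u u', {s : F // s ^ 2 = (c - Q w.1) / Q u'} :=
    { toFun := fun x =>
        ⟨⟨x.1 - ((QuadraticMap.polar (⇑Q) u' x.1) / (2 * Q u')) • u', by
          rw [mem_planePerp, QuadraticMap.polar_sub_right, QuadraticMap.polar_smul_right,
            QuadraticMap.polar_sub_right, QuadraticMap.polar_smul_right, x.2.2, huu, polar_self_two, smul_eq_mul,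
            smul_eq_mul]
          exact ⟨by ring, by field_simp; ring⟩⟩,
         ⟨(QuadraticMap.polar (⇑Q) u' x.1) / (2 * Q u'), by
          simp only
          rw [show x.1 - ((QuadraticMap.polar (⇑Q) u' x.1) / (2 * Q u')) • u' =
            x.1 + (-((QuadraticMap.polar (⇑Q) u' x.1) / (2 * Q u'))) • u' by rw [neg_smul, sub_eq_add_neg],
            QuadraticMap.map_add (f := Q), QuadraticMap.map_smul,
            QuadraticMap.polar_smul_right, smul_eq_mul, smul_eq_mul, x.2.1, QuadraticMap.polar_comm (⇑Q) x.1 u']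
          field_simp
          ring⟩⟩
      invFun := fun z => ⟨z.1.1 + (z.2.1) • u', by
        obtain ⟨⟨w, hw⟩, ⟨s, hs⟩⟩ := z
        rw [mem_planePerp] at hw
        refine ⟨?_, ?_⟩
        · rw [QuadraticMap.map_add (f := Q), QuadraticMap.map_smul, QuadraticMap.polar_smul_right,
            QuadraticMap.polar_comm (⇑Q) w u', hw.2, smul_eq_mul, smul_eq_mul]
          rw [eq_div_iff hu'] at hs
          linear_combination hs
        · rw [QuadraticMap.polar_add_right, QuadraticMap.polar_smul_right, hw.1, huu]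
          simp⟩
      left_inv := fun x => Subtype.ext (by simp)
      right_inv := by
        rintro ⟨⟨w, hw⟩, ⟨s, hs⟩⟩
        rw [mem_planePerp] at hw
        have hcoef : QuadraticMap.polar (⇑Q) u' (w + s • u') / (2 * Q u') = s := by
          rw [QuadraticMap.polar_add_right, QuadraticMap.polar_smul_right, hw.2, polar_self_two, smul_eq_mul]
          field_simp
          ring
        have hpair : (⟨⟨w, (mem_planePerp Q).mpr hw⟩, ⟨s, hs⟩⟩ : Σ w : planePerp Q u u', {s : F // s ^ 2 = (c - Q w.1) / Q u'}) =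
          ⟨⟨w, (mem_planePerp Q).mpr hw⟩, ⟨s, hs⟩⟩ := rfl
        refine Sigma.subtype_ext (Subtype.ext ?_) hcoef
        simp only [hcoef, add_sub_cancel_right] }
  rw [Nat.card_congr e, Nat.card_sigma, Nat.cast_sum]
  refine Finset.sum_congr rfl fun w _ => ?_
  rw [← quadraticChar_card_sqrts hc, Set.toFinset_card, Nat.card_eq_fintype_card]
  rfl

theorem even_ncard_norm [Fintype F] (h2 : (2 : F) ≠ 0) (W : Submodule F (ι → F)) [Fintype W] {c : F} (hc : c ≠ 0)
    [DecidableEq F] : Even (Finset.univ.filter fun w : W => Q w.1 = c).card := by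
  classical
  let S := {w : W // Q w.1 = c}
  let σ : Equiv.Perm S :=
    { toFun := fun w => ⟨-w.1, by rw [Submodule.coe_neg, QuadraticMap.map_neg]; exact w.2⟩
      invFun := fun w => ⟨-w.1, by rw [Submodule.coe_neg, QuadraticMap.map_neg]; exact w.2⟩
      left_inv := fun w => Subtype.ext (neg_neg _)
      right_inv := fun w => Subtype.ext (neg_neg _) }
  have hfix : σ.support = Finset.univ := by
    ext w
    simp only [Equiv.Perm.mem_support, Finset.mem_univ, iff_true]
    intro h
    have h1 : -(w.1.1) = w.1.1 := congrArg (fun z : S => z.1.1) h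
    have hw0 : w.1.1 = 0 := by
      funext i
      have := congrFun h1 i
      simp only [Pi.neg_apply] at this
      have h4 : 2 * w.1.1 i = 0 := by linear_combination -this
      exact (mul_eq_zero.mp h4).resolve_left h2
    apply hc
    rw [← w.2, hw0, QuadraticMap.map_zero]
  have h := Equiv.Perm.two_dvd_card_support (σ := σ) (Equiv.ext fun w => Subtype.ext (neg_neg _))
  rw [hfix, Finset.card_univ, Fintype.card_subtype] at h
  exact even_iff_two_dvd.mpr h

theorem fix_card_diff [Fintype F] (h2 : (2 : F) ≠ 0) {α α' β β' : ι → F} {c : F} (hc : c ≠ 0)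
    (hα' : Q α' ≠ 0) (hβ' : Q β' ≠ 0) (hαα : QuadraticMap.polar (⇑Q) α α' = 0)
    (hββ : QuadraticMap.polar (⇑Q) β β' = 0) (hperp : planePerp Q β β' = planePerp Q α α')
    (hclass : ¬ IsSquare (Q α' * Q β')) :
    ((Nat.card (sphereFix Q c α) : ℤ) - Nat.card (sphereFix Q c β)) % 4 = 2 := by
  classical
  have hc2 : ringChar F ≠ 2 := fun h => h2 (by haveI := ringChar.of_eq h; exact CharTwo.two_eq_zero)
  letI : Fintype ↥(planePerp Q α α') := Fintype.ofFinite _
  letI : Fintype ↥(planePerp Q β β') := Fintype.ofFinite _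
  rw [card_sphereFix Q h2 hα' hαα, card_sphereFix Q h2 hβ' hββ]
  have hsum : ∑ w : planePerp Q β β', (quadraticChar F ((c - Q w.1) / Q β') + 1) =
      ∑ w : planePerp Q α α', (quadraticChar F ((c - Q w.1) / Q β') + 1) :=
    Fintype.sum_equiv (Equiv.setCongr (by rw [hperp])) _ _ fun w => rfl
  rw [hsum, ← Finset.sum_sub_distrib]
  have hopp : ∀ w : planePerp Q α α', quadraticChar F ((c - Q w.1) / Q α') + 1 - (quadraticChar F ((c - Q w.1) / Q β') + 1) =
      2 * quadraticChar F ((c - Q w.1) / Q α') := by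
    intro w
    have h1 : quadraticChar F (Q α' * Q β') = -1 := quadraticChar_neg_one_iff_not_isSquare.mpr hclass
    have e : (c - Q w.1) / Q β' = ((c - Q w.1) / Q α') * (Q α' * Q β') * ((Q β')⁻¹ ^ 2) := by
      field_simp
    have h3 : quadraticChar F ((Q β')⁻¹ ^ 2) = 1 := quadraticChar_sq_one' (inv_ne_zero hβ')
    have : quadraticChar F ((c - Q w.1) / Q β') = - quadraticChar F ((c - Q w.1) / Q α') := by
      rw [e, map_mul, map_mul, h1, h3]; ring
    rw [this]; ring
  rw [Finset.sum_congr rfl fun w _ => hopp w, ← Finset.mul_sum]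
  have hodd : (∑ w : planePerp Q α α', quadraticChar F ((c - Q w.1) / Q α')) % 2 = 1 := by
    have hcast : ((∑ w : planePerp Q α α', quadraticChar F ((c - Q w.1) / Q α') : ℤ) : ZMod 2) = 1 := by
      rw [Int.cast_sum]
      have hterm : ∀ w : planePerp Q α α', ((quadraticChar F ((c - Q w.1) / Q α') : ℤ) : ZMod 2) =
          1 - if Q w.1 = c then 1 else 0 := by
        intro w
        by_cases hw : Q w.1 = c
        · rw [if_pos hw, hw, sub_self, zero_div, quadraticChar_zero]; simp
        · rw [if_neg hw, sub_zero]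
          rcases quadraticChar_dichotomy (div_ne_zero (sub_ne_zero.mpr (Ne.symm hw)) hα') with h | h <;>
            rw [h] <;> rfl
      rw [Finset.sum_congr rfl fun w _ => hterm w, Finset.sum_sub_distrib, Finset.sum_boole, Finset.sum_const,
        nsmul_eq_mul, mul_one, (ZMod.natCast_eq_zero_iff_even).mpr (even_ncard_norm Q h2 _ hc), sub_zero]
      have hoddF : Odd (Fintype.card F) := Nat.odd_iff.mpr (FiniteField.odd_card_of_char_ne_two hc2)
      rw [ZMod.natCast_eq_one_iff_odd, Finset.card_univ, Module.card_eq_pow_finrank (K := F)]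
      exact hoddF.pow
    rcases Int.emod_two_eq (∑ w : planePerp Q α α', quadraticChar F ((c - Q w.1) / Q α')) with h | h
    · rw [(ZMod.intCast_zmod_eq_zero_iff_dvd _ 2).mpr (by omega)] at hcast
      exact absurd hcast (by decide)
    · exact h
  omega

end Cfsg.Lib.Classical.Refl
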