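import Mathlib
import Cfsg.Agent.Classical.Misc.RepCount
import Cfsg.Agent.Classical.Misc.Dickson
import Cfsg.Agent.Classical.Misc.ReflectionsGen

/-!
The spinor character of a finite orthogonal group in odd characteristic, as the signature of the permutation of the
vectors of norm one, and the index of `Ω`.
-/

set_option autoImplicit false
set_option linter.style.haveILetI false

namespace Cfsg.Lib.Classical.Refl

open Matrix

universe u

variable {F : Type u} [Field F] {ι : Type} [Fintype ι] [DecidableEq ι] (Q : QuadraticForm F (ι → F))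

theorem mulVec_inv_cancel (g : Cfsg.isometryGroup F (⇑Q)) (x : ι → F) : mat Q g⁻¹ *ᵥ (mat Q g *ᵥ x) = x := by
  rw [← mulVec_mul, inv_mul_cancel]; exact Matrix.one_mulVec x

theorem polar_act (g : Cfsg.isometryGroup F (⇑Q)) (x y : ι → F) :
    QuadraticMap.polar (⇑Q) (mat Q g *ᵥ x) (mat Q g *ᵥ y) = QuadraticMap.polar (⇑Q) x y := by
  simp only [QuadraticMap.polar, ← Matrix.mulVec_add]
  rw [(mem_iff Q).mp g.2, (mem_iff Q).mp g.2, (mem_iff Q).mp g.2]

theorem ext_mulVec {g h : Cfsg.isometryGroup F (⇑Q)} (e : ∀ x, mat Q g *ᵥ x = mat Q h *ᵥ x) : g = h :=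
  Subtype.ext (Units.ext (Matrix.toLin'.injective (LinearMap.ext fun x => by
    rw [Matrix.toLin'_apply, Matrix.toLin'_apply]; exact e x)))

theorem refl_congr {v w : ι → F} (hv : Q v ≠ 0) (hw : Q w ≠ 0) {t : F} (h : w = t • v) :
    refl Q w hw = refl Q v hv := by
  refine ext_mulVec Q fun x => ?_
  subst h
  change Cfsg.reflectionMatrix (⇑Q) (t • v) *ᵥ x = Cfsg.reflectionMatrix (⇑Q) v *ᵥ x
  have ht : t ≠ 0 := fun h => hw (by rw [h, zero_smul, QuadraticMap.map_zero])
  rw [mulVec_eq, mulVec_eq, QuadraticMap.map_smul, QuadraticMap.polar_smul_left, smul_eq_mul, smul_eq_mul, smul_smul]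
  congr 2
  field_simp

theorem refl_mul_self (v : ι → F) (hv : Q v ≠ 0) : refl Q v hv * refl Q v hv = 1 := by
  refine ext_mulVec Q fun x => ?_
  rw [mat, mulVec_mul, coe_refl, mulVec_eq Q v x, Matrix.mulVec_sub, Matrix.mulVec_smul, self Q v hv, mulVec_eq]
  simp [mat]

theorem refl_conj (g : Cfsg.isometryGroup F (⇑Q)) (v : ι → F) (hv : Q v ≠ 0) :
    g * refl Q v hv * g⁻¹ = refl Q (mat Q g *ᵥ v) (by rw [(mem_iff Q).mp g.2]; exact hv) := by
  refine ext_mulVec Q fun x => ?_
  obtain ⟨y, rfl⟩ : ∃ y, mat Q g *ᵥ y = x := ⟨mat Q g⁻¹ *ᵥ x, by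
    rw [← mulVec_mul, mul_inv_cancel]; exact Matrix.one_mulVec x⟩
  change _ = Cfsg.reflectionMatrix (⇑Q) (mat Q g *ᵥ v) *ᵥ (mat Q g *ᵥ y)
  rw [mat, mulVec_mul, mulVec_mul]
  change mat Q g *ᵥ (Cfsg.reflectionMatrix (⇑Q) v *ᵥ (mat Q g⁻¹ *ᵥ (mat Q g *ᵥ y))) = _
  rw [mulVec_inv_cancel, mulVec_eq Q v y, mulVec_eq, polar_act, (mem_iff Q).mp g.2, Matrix.mulVec_sub,
    Matrix.mulVec_smul]

theorem exists_map (hQ : (QuadraticMap.polarBilin Q).Nondegenerate) {a b : ι → F} (ha : a ≠ 0) (hb : b ≠ 0)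
    (hab : Q a = Q b) : ∃ g : Cfsg.isometryGroup F (⇑Q), mat Q g *ᵥ a = b := by
  obtain ⟨e, he, -, heab⟩ := WittQuad.exists_move_fix Q hQ ⊥ (by simpa using ha) (by simpa using hb) hab
    (fun w hw => by rw [(Submodule.mem_bot F).mp hw]; simp)
  have hdet : (LinearMap.toMatrix' e.toLinearMap).det ≠ 0 := by
    rw [LinearMap.det_toMatrix']; exact (LinearEquiv.isUnit_det' e).ne_zero
  refine ⟨⟨Matrix.GeneralLinearGroup.mkOfDetNeZero _ hdet, (mem_iff Q).mpr fun x => ?_⟩, ?_⟩
  · show Q (LinearMap.toMatrix' e.toLinearMap *ᵥ x) = Q x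
    rw [LinearMap.toMatrix'_mulVec]; exact he x
  · show LinearMap.toMatrix' e.toLinearMap *ᵥ a = b
    rw [LinearMap.toMatrix'_mulVec]; exact heab

/-- Reflections in vectors of the same square class are conjugate. -/
theorem refl_same_class {G : Type*} [CommGroup G] (hQ : (QuadraticMap.polarBilin Q).Nondegenerate)
    (f : Cfsg.isometryGroup F (⇑Q) →* G) {u v : ι → F} (hu : Q u ≠ 0) (hv : Q v ≠ 0)
    (h : IsSquare (Q u * Q v)) : f (refl Q u hu) = f (refl Q v hv) := by
  obtain ⟨r, hr⟩ := h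
  set t := r / Q v
  have ht : Q (t • v) = Q u := by
    rw [QuadraticMap.map_smul, smul_eq_mul]
    simp only [t]
    field_simp
    linear_combination -hr
  have htv : t • v ≠ 0 := fun h => hu (by rw [← ht, h, QuadraticMap.map_zero])
  obtain ⟨g, hg⟩ := exists_map Q hQ (fun h => hu (by rw [h, QuadraticMap.map_zero])) htv ht.symm
  have e := refl_conj Q g u hu
  rw [refl_congr Q hv (show Q (mat Q g *ᵥ u) ≠ 0 by rw [(mem_iff Q).mp g.2]; exact hu) hg] at e
  rw [← e, map_mul, map_mul, map_inv, mul_comm (f g), mul_inv_cancel_right]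

theorem exists_orth_pair (h2 : (2 : F) ≠ 0) (hQ : (QuadraticMap.polarBilin Q).Nondegenerate)
    (hn : 2 ≤ Fintype.card ι) :
    ∃ u u' : ι → F, Q u ≠ 0 ∧ Q u' ≠ 0 ∧ QuadraticMap.polar (⇑Q) u u' = 0 := by
  haveI : Invertible (2 : F) := invertibleOfNonzero h2
  obtain ⟨e, he⟩ := LinearMap.BilinForm.exists_orthogonal_basis (B := QuadraticMap.polarBilin Q)
    ⟨fun x y => QuadraticMap.polar_comm (⇑Q) x y⟩
  have hne : ∀ i, Q (e i) ≠ 0 := by
    intro i h0
    refine e.ne_zero i (hQ.1 (e i) fun y => ?_)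
    rw [← e.sum_repr y, map_sum]
    refine Finset.sum_eq_zero fun j _ => ?_
    rw [map_smul]
    change _ • QuadraticMap.polar (⇑Q) (e i) (e j) = 0
    by_cases hij : i = j
    · subst hij; rw [QuadraticMap.polar_self, h0, smul_zero, smul_zero]
    · rw [show QuadraticMap.polar (⇑Q) (e i) (e j) = 0 from he hij, smul_zero]
  have hd : 2 ≤ Module.finrank F (ι → F) := by rw [Module.finrank_fintype_fun_eq_card]; exact hn
  exact ⟨e ⟨0, by omega⟩, e ⟨1, by omega⟩, hne _, hne _, he (fun h => by simpa using congrArg Fin.val h)⟩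

theorem binary_universal [Finite F] (h2 : (2 : F) ≠ 0) {a b : F} (ha : a ≠ 0) (hb : b ≠ 0) (c : F) :
    ∃ x y : F, x * x * a + y * y * b = c := by
  haveI : Fintype F := Fintype.ofFinite F
  obtain ⟨x, y, hxy⟩ := FiniteField.exists_root_sum_quadratic (R := F)
    (f := Polynomial.C a * Polynomial.X ^ 2) (g := Polynomial.C b * Polynomial.X ^ 2 - Polynomial.C c)
    (Polynomial.degree_C_mul_X_pow 2 ha)
    (by
      rw [Polynomial.degree_sub_eq_left_of_degree_lt] <;> rw [Polynomial.degree_C_mul_X_pow 2 hb]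
      · rfl
      · exact lt_of_le_of_lt Polynomial.degree_C_le (by decide))
    (Nat.odd_iff.mp (Nat.odd_iff.mpr (FiniteField.odd_card_of_char_ne_two fun h => h2 (by
      haveI := ringChar.of_eq h; exact CharTwo.two_eq_zero))))
  refine ⟨x, y, ?_⟩
  simp only [Polynomial.eval_mul, Polynomial.eval_sub, Polynomial.eval_C, Polynomial.eval_pow, Polynomial.eval_X] at hxy
  linear_combination hxy

theorem exists_nonsquare_norm [Finite F] (h2 : (2 : F) ≠ 0) {u u' : ι → F} (hu : Q u ≠ 0) (hu' : Q u' ≠ 0)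
    (h : QuadraticMap.polar (⇑Q) u u' = 0) (c : F) : ∃ x y : F, Q (x • u + y • u') = c := by
  obtain ⟨x, y, hxy⟩ := binary_universal h2 hu hu' c
  exact ⟨x, y, (val_lin Q h x y).trans hxy⟩

variable [Fintype F] [DecidableEq F]

/-- The action on the vectors of norm one. -/
def spherePerm : Cfsg.isometryGroup F (⇑Q) →* Equiv.Perm {x : ι → F // Q x = 1} where
  toFun g :=
    { toFun := fun x => ⟨mat Q g *ᵥ x.1, by rw [(mem_iff Q).mp g.2]; exact x.2⟩
      invFun := fun x => ⟨mat Q g⁻¹ *ᵥ x.1, by rw [(mem_iff Q).mp (g⁻¹).2]; exact x.2⟩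
      left_inv := fun x => Subtype.ext (mulVec_inv_cancel Q g x.1)
      right_inv := fun x => Subtype.ext (by
        show mat Q g *ᵥ (mat Q g⁻¹ *ᵥ x.1) = x.1
        rw [← mulVec_mul, mul_inv_cancel]; exact Matrix.one_mulVec x.1) }
  map_one' := Equiv.ext fun x => Subtype.ext (Matrix.one_mulVec x.1)
  map_mul' g h := Equiv.ext fun x => Subtype.ext (mulVec_mul Q g h x.1)

/-- The spinor character. -/
def spin : Cfsg.isometryGroup F (⇑Q) →* ℤˣ := Equiv.Perm.sign.comp (spherePerm Q)

theorem spin_refl (v : ι → F) (hv : Q v ≠ 0) :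
    ∃ k : ℕ, Nat.card (sphereFix Q 1 v) + 2 * k = Nat.card {x : ι → F // Q x = 1} ∧
      spin Q (refl Q v hv) = (-1) ^ k := by
  set σ := spherePerm Q (refl Q v hv)
  have hσ : σ ^ 2 = 1 := by rw [← map_pow, pow_two, refl_mul_self, map_one]
  have hsupp : σ.support = Finset.univ.filter fun x => QuadraticMap.polar (⇑Q) v x.1 ≠ 0 := by
    ext x
    simp only [Equiv.Perm.mem_support, Finset.mem_filter, Finset.mem_univ, true_and]
    have hval : (σ x).1 = x.1 - ((Q v)⁻¹ * QuadraticMap.polar (⇑Q) v x.1) • v := mulVec_eq Q v x.1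
    have hv0 : v ≠ 0 := fun h => hv (by rw [h, QuadraticMap.map_zero])
    constructor
    · intro h h0
      exact h (Subtype.ext (by rw [hval, h0, mul_zero, zero_smul, sub_zero]))
    · intro h h0
      rw [h0, eq_comm, sub_eq_self, smul_eq_zero] at hval
      simp [hv, hv0, h] at hval
  have h2dvd := Equiv.Perm.two_dvd_card_support hσ
  obtain ⟨k, hk⟩ := h2dvd
  refine ⟨k, ?_, ?_⟩
  · have e : Nat.card (sphereFix Q 1 v) =
        (Finset.univ.filter fun x : {x : ι → F // Q x = 1} => ¬ QuadraticMap.polar (⇑Q) v x.1 ≠ 0).card := by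
      rw [← Fintype.card_subtype, ← Nat.card_eq_fintype_card]
      exact Nat.card_congr
        { toFun := fun x => ⟨⟨x.1, x.2.1⟩, by simpa using x.2.2⟩
          invFun := fun x => ⟨x.1.1, x.1.2, by simpa using x.2⟩
          left_inv := fun x => rfl
          right_inv := fun x => rfl }
    rw [e, ← hk, hsupp, add_comm, Finset.card_filter_add_card_filter_not, Finset.card_univ,
      Nat.card_eq_fintype_card]
  · show Equiv.Perm.sign σ = _
    by_cases h1 : σ = 1
    · rw [h1, Equiv.Perm.support_one, Finset.card_empty] at hk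
      rw [h1, map_one, show k = 0 by omega, pow_zero]
    · have ho : orderOf σ = 2 := orderOf_eq_prime hσ h1
      obtain ⟨j, hj⟩ := Equiv.Perm.cycleType_prime_order (σ := σ) (ho ▸ Nat.prime_two)
      have hsum := Equiv.Perm.sum_cycleType σ
      rw [hj, ho, Multiset.sum_replicate, smul_eq_mul, hk] at hsum
      rw [Equiv.Perm.sign_of_cycleType, hj, ho, Multiset.sum_replicate, Multiset.card_replicate, smul_eq_mul]
      apply neg_one_pow_congr
      rw [Nat.even_iff, Nat.even_iff]
      omega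

theorem exists_spin_ne (h2 : (2 : F) ≠ 0) (hQ : (QuadraticMap.polarBilin Q).Nondegenerate)
    (hn : 2 ≤ Fintype.card ι) :
    ∃ (α β : ι → F) (hα : Q α ≠ 0) (hβ : Q β ≠ 0), spin Q (refl Q α hα) ≠ spin Q (refl Q β hβ) := by
  have hc2 : ringChar F ≠ 2 := fun h => h2 (by haveI := ringChar.of_eq h; exact CharTwo.two_eq_zero)
  obtain ⟨α, α', hα, hα', hαα⟩ := exists_orth_pair Q h2 hQ hn
  obtain ⟨ν, hν⟩ := FiniteField.exists_nonsquare hc2
  have hν0 : ν ≠ 0 := fun h => hν (h ▸ IsSquare.zero)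
  obtain ⟨x, y, hxy⟩ := exists_nonsquare_norm Q h2 hα hα' hαα (Q α * ν)
  set β := x • α + y • α'
  set β' := (-y * Q α') • α + (x * Q α) • α'
  have hβ : Q β ≠ 0 := by rw [hxy]; exact mul_ne_zero hα hν0
  have hQβ' : Q β' = Q α * Q α' * (Q α * ν) := by
    rw [← hxy]
    simp only [β, β']
    rw [val_lin Q hαα, val_lin Q hαα]; ring
  have hβ' : Q β' ≠ 0 := by rw [hQβ']; exact mul_ne_zero (mul_ne_zero hα hα') (mul_ne_zero hα hν0)
  have hαα' : QuadraticMap.polar (⇑Q) α' α = 0 := by rw [QuadraticMap.polar_comm]; exact hαα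
  have hββ : QuadraticMap.polar (⇑Q) β β' = 0 := by
    simp only [β, β', QuadraticMap.polar_add_left, QuadraticMap.polar_add_right, QuadraticMap.polar_smul_left,
      QuadraticMap.polar_smul_right, hαα, hαα', polar_self_two, smul_eq_mul]
    ring
  have hperp : planePerp Q β β' = planePerp Q α α' := by
    ext w
    simp only [mem_planePerp, β, β', QuadraticMap.polar_add_left, QuadraticMap.polar_smul_left, smul_eq_mul]
    constructor
    · rintro ⟨h1, h3⟩
      have hdet : Q α * ν ≠ 0 := mul_ne_zero hα hν0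
      have e : x * x * Q α + y * y * Q α' = Q α * ν := by rw [← hxy]; exact (val_lin Q hαα x y).symm
      refine ⟨(mul_eq_zero.mp ?_).resolve_left hdet, (mul_eq_zero.mp ?_).resolve_left hdet⟩
      · linear_combination x * Q α * h1 - y * h3 - QuadraticMap.polar (⇑Q) α w * e
      · linear_combination y * Q α' * h1 + x * h3 - QuadraticMap.polar (⇑Q) α' w * e
    · rintro ⟨h1, h3⟩; rw [h1, h3]; simp
  have hclass : ¬ IsSquare (Q α' * Q β') := by
    rintro ⟨r, hr⟩
    rw [hQβ'] at hr
    refine hν ⟨r / (Q α' * Q α), ?_⟩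
    field_simp
    linear_combination hr
  have hdiff := fix_card_diff Q h2 one_ne_zero hα' hβ' hαα hββ hperp hclass
  refine ⟨α, β, hα, hβ, ?_⟩
  obtain ⟨k, hk, hks⟩ := spin_refl Q α hα
  obtain ⟨l, hl, hls⟩ := spin_refl Q β hβ
  rw [hks, hls]
  intro h
  have hpar : k % 2 = l % 2 := by
    rcases Nat.even_or_odd k with hk' | hk' <;> rcases Nat.even_or_odd l with hl' | hl'
    · rw [Nat.even_iff] at hk' hl'; omega
    · rw [hk'.neg_one_pow, hl'.neg_one_pow] at h; exact absurd h (by decide)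
    · rw [hk'.neg_one_pow, hl'.neg_one_pow] at h; exact absurd h (by decide)
    · rw [Nat.odd_iff] at hk' hl'; omega
  omega

/-- The spinor character separates the two classes of reflections. -/
theorem spin_eq_iff (h2 : (2 : F) ≠ 0) (hQ : (QuadraticMap.polarBilin Q).Nondegenerate)
    (hn : 2 ≤ Fintype.card ι) {u v : ι → F} (hu : Q u ≠ 0) (hv : Q v ≠ 0) :
    spin Q (refl Q u hu) = spin Q (refl Q v hv) ↔ IsSquare (Q u * Q v) := by
  refine ⟨fun h => ?_, refl_same_class Q hQ (spin Q) hu hv⟩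
  by_contra hns
  obtain ⟨α, β, hα, hβ, hne⟩ := exists_spin_ne Q h2 hQ hn
  have hc2 : ringChar F ≠ 2 := fun h => h2 (by haveI := ringChar.of_eq h; exact CharTwo.two_eq_zero)
  have key : ∀ (a : ι → F) (ha : Q a ≠ 0), spin Q (refl Q a ha) = spin Q (refl Q u hu) := by
    intro a ha
    by_cases hau : IsSquare (Q a * Q u)
    · exact refl_same_class Q hQ (spin Q) ha hu hau
    · rw [h]
      refine refl_same_class Q hQ (spin Q) ha hv ?_
      have h1 := quadraticChar_neg_one_iff_not_isSquare.mpr hau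
      have h3 := quadraticChar_neg_one_iff_not_isSquare.mpr hns
      rw [← quadraticChar_one_iff_isSquare (mul_ne_zero ha hv)]
      rw [map_mul] at h1 h3 ⊢
      rcases quadraticChar_dichotomy hu with e | e <;> rw [e] at h1 h3 <;> simp at h1 h3 <;> simp [h1, h3]
  exact hne ((key α hα).trans (key β hβ).symm)

omit [Fintype F] [DecidableEq F] in
/-- The determinant. -/
def detHom : Cfsg.isometryGroup F (⇑Q) →* Fˣ :=
  Matrix.GeneralLinearGroup.det.comp (Cfsg.isometryGroup F (⇑Q)).subtype

omit [Fintype F] [DecidableEq F] in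
theorem detHom_refl (v : ι → F) (hv : Q v ≠ 0) : detHom Q (refl Q v hv) = -1 :=
  Units.ext (det_eq Q v hv)

omit [Fintype F] [DecidableEq F] in
theorem hom_eq_one_of_omega {G : Type*} [CommGroup G] (f : Cfsg.isometryGroup F (⇑Q) →* G)
    {g : Cfsg.isometryGroup F (⇑Q)} (hg : g ∈ Cfsg.Omega F (⇑Q)) : f g = 1 :=
  Abelianization.commutator_subset_ker f hg

theorem mem_closure_refl (hQ : (QuadraticMap.polarBilin Q).Nondegenerate)
    (h : Fintype.card F ≠ 2 ∨ Fintype.card ι ≠ 4) (g : Cfsg.isometryGroup F (⇑Q)) :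
    g ∈ Subgroup.closure {r | ∃ (v : ι → F) (hv : Q v ≠ 0), r = refl Q v hv} := by
  rw [eq_top_of_refl Q (Subgroup.closure {r | ∃ (v : ι → F) (hv : Q v ≠ 0), r = refl Q v hv})
    (fun v hv => Subgroup.subset_closure ⟨v, hv, rfl⟩) hQ h]
  exact Subgroup.mem_top g

/-- The four candidates for a coset of `Ω`. -/
theorem class_mem (h2 : (2 : F) ≠ 0) (hQ : (QuadraticMap.polarBilin Q).Nondegenerate) {α β : ι → F}
    (hα : Q α ≠ 0) (hβ : Q β ≠ 0) (hns : ¬ IsSquare (Q α * Q β)) (g : Cfsg.isometryGroup F (⇑Q)) :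
    (Abelianization.of g : Abelianization (Cfsg.isometryGroup F (⇑Q))) ∈
      ({1, Abelianization.of (refl Q α hα), Abelianization.of (refl Q β hβ),
        Abelianization.of (refl Q α hα) * Abelianization.of (refl Q β hβ)} :
          Set (Abelianization (Cfsg.isometryGroup F (⇑Q)))) := by
  have hc2 : ringChar F ≠ 2 := fun h => h2 (by haveI := ringChar.of_eq h; exact CharTwo.two_eq_zero)
  set a := Abelianization.of (refl Q α hα) with ha
  set b := Abelianization.of (refl Q β hβ) with hb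
  have haa : a * a = 1 := by rw [ha, ← map_mul, refl_mul_self, map_one]
  have hbb : b * b = 1 := by rw [hb, ← map_mul, refl_mul_self, map_one]
  have hgen := mem_closure_refl Q hQ (Or.inl fun h => h2 (by
    haveI := ringChar.of_eq (show ringChar F = 2 from FiniteField.even_card_iff_char_two.mpr (by rw [h]))
    exact CharTwo.two_eq_zero)) g
  induction hgen using Subgroup.closure_induction with
  | mem r hr =>
    obtain ⟨v, hv, rfl⟩ := hr
    by_cases hva : IsSquare (Q v * Q α)
    · simp [ha, refl_same_class Q hQ Abelianization.of hv hα hva]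
    · have hvb : IsSquare (Q v * Q β) := by
        have h1 := quadraticChar_neg_one_iff_not_isSquare.mpr hva
        have h3 := quadraticChar_neg_one_iff_not_isSquare.mpr hns
        rw [← quadraticChar_one_iff_isSquare (mul_ne_zero hv hβ)]
        rw [map_mul] at h1 h3 ⊢
        rcases quadraticChar_dichotomy hα with e | e <;> rw [e] at h1 h3 <;> simp at h1 h3 <;> simp [h1, h3]
      simp [hb, refl_same_class Q hQ Abelianization.of hv hβ hvb]
  | one => simp
  | mul p r _ _ hp hr =>
    rw [map_mul]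
    simp only [Set.mem_insert_iff, Set.mem_singleton_iff] at hp hr ⊢
    have hab : a * (a * b) = b := by rw [← mul_assoc, haa, one_mul]
    have hba : b * a = a * b := mul_comm b a
    have hbab : b * (a * b) = a := by rw [mul_comm a b, ← mul_assoc, hbb, one_mul]
    have haba : a * b * a = b := by rw [mul_comm (a * b) a]; exact hab
    have habb : a * b * b = a := by rw [mul_assoc, hbb, mul_one]
    have habab : a * b * (a * b) = 1 := by rw [← mul_assoc, haba, hbb]
    rcases hp with h | h | h | h <;> rcases hr with h' | h' | h' | h' <;> rw [h, h'] <;>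
      simp only [one_mul, mul_one, haa, hbb, hab, hba, hbab, haba, habb, habab, eq_self_iff_true, true_or, or_true]
  | inv p _ hp =>
    rw [map_inv]
    simp only [Set.mem_insert_iff, Set.mem_singleton_iff] at hp ⊢
    have ia : a⁻¹ = a := inv_eq_of_mul_eq_one_left haa
    have ib : b⁻¹ = b := inv_eq_of_mul_eq_one_left hbb
    rcases hp with h | h | h | h <;> rw [h] <;> simp [ia, ib, mul_inv, mul_comm]

theorem exists_two_classes (h2 : (2 : F) ≠ 0) (hQ : (QuadraticMap.polarBilin Q).Nondegenerate)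
    (hn : 2 ≤ Fintype.card ι) : ∃ (α β : ι → F), Q α ≠ 0 ∧ Q β ≠ 0 ∧ ¬ IsSquare (Q α * Q β) := by
  obtain ⟨α, β, hα, hβ, hne⟩ := exists_spin_ne Q h2 hQ hn
  exact ⟨α, β, hα, hβ, fun h => hne ((spin_eq_iff Q h2 hQ hn hα hβ).mpr h)⟩

theorem mem_omega_iff (h2 : (2 : F) ≠ 0) (hQ : (QuadraticMap.polarBilin Q).Nondegenerate)
    (hn : 2 ≤ Fintype.card ι) {g : Cfsg.isometryGroup F (⇑Q)} :
    g ∈ Cfsg.Omega F (⇑Q) ↔ detHom Q g = 1 ∧ spin Q g = 1 := by
  refine ⟨fun h => ⟨hom_eq_one_of_omega Q _ h, hom_eq_one_of_omega Q _ h⟩, fun ⟨hd, hs⟩ => ?_⟩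
  obtain ⟨α, β, hα, hβ, hns⟩ := exists_two_classes Q h2 hQ hn
  have hneg : (-1 : Fˣ) ≠ 1 := fun h => h2 (by
    have := congrArg Units.val h; simp at this; linear_combination -this)
  have hne : spin Q (refl Q α hα) ≠ spin Q (refl Q β hβ) := fun h => hns ((spin_eq_iff Q h2 hQ hn hα hβ).mp h)
  have h4 := class_mem Q h2 hQ hα hβ hns g
  simp only [Set.mem_insert_iff, Set.mem_singleton_iff] at h4
  have pull : ∀ {x y : Cfsg.isometryGroup F (⇑Q)},
      Abelianization.of x = Abelianization.of y → detHom Q x = detHom Q y := fun {x y} h => by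
    simpa using congrArg (Abelianization.lift (detHom Q)) h
  have pull' : ∀ {x y : Cfsg.isometryGroup F (⇑Q)},
      Abelianization.of x = Abelianization.of y → spin Q x = spin Q y := fun {x y} h => by
    simpa using congrArg (Abelianization.lift (spin Q)) h
  rcases h4 with h | h | h | h
  · exact (QuotientGroup.eq_one_iff g).mp h
  · exfalso; rw [pull h, detHom_refl] at hd; exact hneg hd
  · exfalso; rw [pull h, detHom_refl] at hd; exact hneg hd
  · exfalso
    rw [← map_mul] at h
    rw [pull' h, map_mul] at hs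
    exact hne (Int.units_inv_eq_self (spin Q (refl Q β hβ)) ▸ eq_inv_of_mul_eq_one_left hs)

/-- The pair of characters. -/
def detSpin : Cfsg.isometryGroup F (⇑Q) →* Fˣ × ℤˣ := (detHom Q).prod (spin Q)

theorem index_omega_odd (h2 : (2 : F) ≠ 0) (hQ : (QuadraticMap.polarBilin Q).Nondegenerate)
    (hn : 2 ≤ Fintype.card ι) : (Cfsg.Omega F (⇑Q)).index = 4 := by
  obtain ⟨α, β, hα, hβ, hns⟩ := exists_two_classes Q h2 hQ hn
  have hneg : (-1 : Fˣ) ≠ 1 := fun h => h2 (by
    have := congrArg Units.val h; simp at this; linear_combination -this)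
  have hne : spin Q (refl Q α hα) ≠ spin Q (refl Q β hβ) := fun h => hns ((spin_eq_iff Q h2 hQ hn hα hβ).mp h)
  set a := Abelianization.of (refl Q α hα) with ha
  set b := Abelianization.of (refl Q β hβ) with hb
  have huniv : (Set.univ : Set (Abelianization (Cfsg.isometryGroup F (⇑Q)))) = {1, a, b, a * b} := by
    refine (Set.eq_univ_of_forall fun x => ?_).symm
    obtain ⟨g, rfl⟩ := QuotientGroup.mk_surjective x
    exact class_mem Q h2 hQ hα hβ hns g
  let φ := Abelianization.lift (detSpin Q)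
  have f1 : φ a = (-1, spin Q (refl Q α hα)) := by simp [φ, ha, detSpin, detHom_refl]
  have f2 : φ b = (-1, spin Q (refl Q β hβ)) := by simp [φ, hb, detSpin, detHom_refl]
  have f3 : φ (a * b) = (1, spin Q (refl Q α hα) * spin Q (refl Q β hβ)) := by simp [map_mul, f1, f2]
  have h1a : (1 : Abelianization (Cfsg.isometryGroup F (⇑Q))) ≠ a := fun h => hneg (by
    have := congrArg (fun z => (φ z).1) h; simpa [f1] using this.symm)
  have h1b : (1 : Abelianization (Cfsg.isometryGroup F (⇑Q))) ≠ b := fun h => hneg (by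
    have := congrArg (fun z => (φ z).1) h; simpa [f2] using this.symm)
  have hab : a ≠ b := fun h => hne (by
    have := congrArg (fun z => (φ z).2) h; simpa [f1, f2] using this)
  have h1ab : (1 : Abelianization (Cfsg.isometryGroup F (⇑Q))) ≠ a * b := fun h => hne (by
    have := congrArg (fun z => (φ z).2) h
    simp [f3] at this
    exact Int.units_inv_eq_self (spin Q (refl Q β hβ)) ▸ eq_inv_of_mul_eq_one_left this.symm)
  have haab : a ≠ a * b := fun h => h1b (mul_left_cancel ((mul_one a).trans h))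
  have hbab : b ≠ a * b := fun h => h1a (mul_right_cancel ((one_mul b).trans h))
  show Nat.card (Abelianization (Cfsg.isometryGroup F (⇑Q))) = 4
  rw [← Set.ncard_univ, huniv]
  rw [Set.ncard_insert_of_notMem (by simp [h1a, h1b, h1ab]), Set.ncard_insert_of_notMem (by simp [hab, haab]),
    Set.ncard_pair hbab]

theorem index_omega_two [CharP F 2] (hQ : (QuadraticMap.polarBilin Q).Nondegenerate) (hn : 2 ≤ Fintype.card ι)
    (h : Fintype.card F ≠ 2 ∨ Fintype.card ι ≠ 4) : (Cfsg.Omega F (⇑Q)).index = 2 := by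
  obtain ⟨α, hα⟩ : ∃ α, Q α ≠ 0 := by
    by_contra hh
    push Not at hh
    haveI : Nonempty ι := Fintype.card_pos_iff.mp (by omega)
    have hz : (fun _ : ι => (1 : F)) = 0 := hQ.1 _ fun y => by
      show QuadraticMap.polar (⇑Q) _ y = 0
      simp [QuadraticMap.polar, hh]
    exact one_ne_zero (congrFun hz (Classical.arbitrary ι))
  set a := Abelianization.of (refl Q α hα) with ha
  have haa : a * a = 1 := by rw [ha, ← map_mul, refl_mul_self, map_one]
  have huniv : (Set.univ : Set (Abelianization (Cfsg.isometryGroup F (⇑Q)))) = {1, a} := by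
    refine (Set.eq_univ_of_forall fun x => ?_).symm
    obtain ⟨g, rfl⟩ := QuotientGroup.mk_surjective x
    have hgen := mem_closure_refl Q hQ h g
    show Abelianization.of g ∈ _
    induction hgen using Subgroup.closure_induction with
    | mem r hr =>
      obtain ⟨v, hv, rfl⟩ := hr
      simp [ha, refl_same_class Q hQ Abelianization.of hv hα (FiniteField.isSquare_of_char_two (ringChar.eq F 2) _)]
    | one => simp
    | mul p r _ _ hp hr =>
      rw [map_mul]
      simp only [Set.mem_insert_iff, Set.mem_singleton_iff] at hp hr ⊢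
      rcases hp with h | h <;> rcases hr with h' | h' <;> rw [h, h'] <;> simp [haa]
    | inv p _ hp =>
      rw [map_inv]
      simp only [Set.mem_insert_iff, Set.mem_singleton_iff] at hp ⊢
      rcases hp with h | h <;> rw [h] <;> simp [inv_eq_of_mul_eq_one_left haa]
  show Nat.card (Abelianization (Cfsg.isometryGroup F (⇑Q))) = 2
  rw [← Set.ncard_univ, huniv, Set.ncard_pair]
  intro h1
  have := congrArg (Abelianization.lift (dickson Q hQ)) h1
  simp [ha, dickson_refl] at this

end Cfsg.Lib.Classical.Refl
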