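import Mathlib
import Cfsg.Agent.Classical.Misc.Spinor

/-!
Subgroups of index two of finite orthogonal groups in odd characteristic, reflections of one square class, and
generation of `Ω` by Siegel transformations.
-/

set_option autoImplicit false
set_option linter.style.haveILetI false

namespace Cfsg.Lib.Classical.Refl

open Matrix

universe u

variable {F : Type u} [Field F] {ι : Type} [Fintype ι] [DecidableEq ι] (Q : QuadraticForm F (ι → F))

theorem card_ne_two [Fintype F] (h2 : (2 : F) ≠ 0) : Fintype.card F ≠ 2 := fun h => h2 (by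
  haveI := ringChar.of_eq (show ringChar F = 2 from FiniteField.even_card_iff_char_two.mpr (by rw [h]))
  exact CharTwo.two_eq_zero)

theorem isSquare_trans [Fintype F] (h2 : (2 : F) ≠ 0) {a b c : F} (ha : a ≠ 0) (hb : b ≠ 0) (hc : c ≠ 0)
    (h1 : ¬ IsSquare (a * c)) (h3 : ¬ IsSquare (c * b)) : IsSquare (a * b) := by
  classical
  have e1 := quadraticChar_neg_one_iff_not_isSquare.mpr h1
  have e3 := quadraticChar_neg_one_iff_not_isSquare.mpr h3
  rw [← quadraticChar_one_iff_isSquare (mul_ne_zero ha hb)]
  rw [map_mul] at e1 e3 ⊢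
  rcases quadraticChar_dichotomy hc with e | e <;> rw [e] at e1 e3 <;> simp at e1 e3 <;> simp [e1, e3]

theorem exists_norm_perp [Finite F] (h2 : (2 : F) ≠ 0) (hQ : (QuadraticMap.polarBilin Q).Nondegenerate)
    (hn : 5 ≤ Fintype.card ι) {z r : ι → F} (hz : Q z ≠ 0) (hzr : QuadraticMap.polar (⇑Q) z r = 0) (c : F) :
    ∃ w, QuadraticMap.polar (⇑Q) z w = 0 ∧ QuadraticMap.polar (⇑Q) r w = 0 ∧ Q w = c := by
  classical
  set n := Fintype.card ι
  have hV : Module.finrank F (ι → F) = n := Module.finrank_fintype_fun_eq_card F
  let X := HypQuad.perp Q (Submodule.span F {z, r})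
  have hspan : Module.finrank F (Submodule.span F ({z, r} : Set (ι → F))) ≤ 2 := by
    refine (finrank_span_le_card _).trans ?_
    rw [Set.toFinset_insert, Set.toFinset_singleton]
    exact Finset.card_le_two
  obtain ⟨y, hy, hQy⟩ : ∃ y ∈ X, Q y ≠ 0 := by
    by_contra hc
    push Not at hc
    have := Submodule.finrank_mono (HypQuad.le_perp Q hc)
    have e1 : Module.finrank F X = Module.finrank F (ι → F) - Module.finrank F (Submodule.span F ({z, r} : Set (ι → F))) :=
      HypQuad.finrank_perp Q hQ _
    have e2 := HypQuad.finrank_perp Q hQ X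
    omega
  have hzy := (HypQuad.mem_perp Q).mp hy z (Submodule.subset_span (by simp))
  have hry := (HypQuad.mem_perp Q).mp hy r (Submodule.subset_span (by simp))
  let S := Submodule.span F ({z, r, y} : Set (ι → F))
  have hS : Module.finrank F S ≤ 3 := by
    refine (finrank_span_le_card _).trans ?_
    rw [Set.toFinset_insert, Set.toFinset_insert, Set.toFinset_singleton]
    exact Finset.card_le_three
  obtain ⟨y', hy', hQy'⟩ : ∃ y' ∈ HypQuad.perp Q S, Q y' ≠ 0 := by
    by_contra hc
    push Not at hc
    have hle := HypQuad.le_perp Q hc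
    have hdim : 2 ≤ Module.finrank F (HypQuad.perp Q S) := by
      rw [HypQuad.finrank_perp Q hQ, hV]; omega
    have hpp : S = HypQuad.perp Q (HypQuad.perp Q S) := by
      refine Submodule.eq_of_le_of_finrank_eq (fun x hx => ?_) ?_
      · rw [HypQuad.mem_perp]
        intro w hw
        rw [QuadraticMap.polar_comm]
        exact (HypQuad.mem_perp Q).mp hw x hx
      · rw [HypQuad.finrank_perp Q hQ, HypQuad.finrank_perp Q hQ, hV]
        have := Submodule.finrank_le S
        omega
    rw [← hpp] at hle
    have hsub : HypQuad.perp Q S ≤ Submodule.span F {r} := by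
      intro x hx
      obtain ⟨a, b, c, rfl⟩ := Submodule.mem_span_triple.mp (hle hx)
      have h1 := (HypQuad.mem_perp Q).mp hx z (Submodule.subset_span (by simp))
      have h3 := (HypQuad.mem_perp Q).mp hx y (Submodule.subset_span (by simp))
      simp only [QuadraticMap.polar_add_right, QuadraticMap.polar_smul_right, hzr, hzy,
        QuadraticMap.polar_comm (⇑Q) y z, QuadraticMap.polar_comm (⇑Q) y r, hry, polar_self_two,
        smul_eq_mul, mul_zero, add_zero, zero_add] at h1 h3
      have ha : a = 0 := by simpa [h2, hz] using h1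
      have hc' : c = 0 := by simpa [h2, hQy] using h3
      rw [ha, hc', zero_smul, zero_smul, zero_add, add_zero]
      exact Submodule.smul_mem _ _ (Submodule.mem_span_singleton_self r)
    have h1 := finrank_span_le_card (R := F) ({r} : Set (ι → F))
    rw [Set.toFinset_singleton, Finset.card_singleton] at h1
    have := Submodule.finrank_mono hsub
    omega
  have hzy' := (HypQuad.mem_perp Q).mp hy' z (Submodule.subset_span (by simp))
  have hry' := (HypQuad.mem_perp Q).mp hy' r (Submodule.subset_span (by simp))
  have hyy' := (HypQuad.mem_perp Q).mp hy' y (Submodule.subset_span (by simp))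
  obtain ⟨a, b, hab⟩ := binary_universal h2 hQy hQy' c
  refine ⟨a • y + b • y', ?_, ?_, by rw [val_lin Q hyy']; exact hab⟩
  · simp [QuadraticMap.polar_add_right, QuadraticMap.polar_smul_right, hzy, hzy']
  · simp [QuadraticMap.polar_add_right, QuadraticMap.polar_smul_right, hry, hry']

theorem hom_ext [Fintype F] (h2 : (2 : F) ≠ 0) (hQ : (QuadraticMap.polarBilin Q).Nondegenerate) {α β : ι → F}
    (hα : Q α ≠ 0) (hβ : Q β ≠ 0) (hns : ¬ IsSquare (Q α * Q β)) {G : Type*} [CommGroup G]
    {f f' : Cfsg.isometryGroup F (⇑Q) →* G} (ea : f (refl Q α hα) = f' (refl Q α hα))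
    (eb : f (refl Q β hβ) = f' (refl Q β hβ)) : f = f' := by
  have h := eq_top_of_refl Q (f.eqLocus f') (fun v hv => ?_) hQ (Or.inl (card_ne_two h2))
  · refine MonoidHom.ext fun g => ?_
    exact (h ▸ Subgroup.mem_top g : g ∈ f.eqLocus f')
  · show f (refl Q v hv) = f' (refl Q v hv)
    by_cases hva : IsSquare (Q v * Q α)
    · rw [refl_same_class Q hQ f hv hα hva, refl_same_class Q hQ f' hv hα hva, ea]
    · have hvb := isSquare_trans h2 hv hβ hα hva hns
      rw [refl_same_class Q hQ f hv hβ hvb, refl_same_class Q hQ f' hv hβ hvb, eb]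

/-- The character of a subgroup of index two. -/
noncomputable def indexTwoHom {G : Type*} [Group G] (H : Subgroup G) (h : H.index = 2) : G →* ℤˣ := by
  classical
  exact
  { toFun := fun g => if g ∈ H then 1 else -1
    map_one' := by simp
    map_mul' := fun a b => by
      by_cases ha : a ∈ H <;> by_cases hb : b ∈ H <;> simp [Subgroup.mul_mem_iff_of_index_two h, ha, hb] }

theorem indexTwoHom_ker {G : Type*} [Group G] (H : Subgroup G) (h : H.index = 2) : (indexTwoHom H h).ker = H := by
  ext g
  by_cases hg : g ∈ H <;> simp [indexTwoHom, MonoidHom.mem_ker, hg]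

theorem indexTwoHom_pos {G : Type*} [Group G] (H : Subgroup G) (h : H.index = 2) {g : G} (hg : g ∈ H) :
    indexTwoHom H h g = 1 := by simp [indexTwoHom, hg]

theorem indexTwoHom_neg {G : Type*} [Group G] (H : Subgroup G) (h : H.index = 2) {g : G} (hg : g ∉ H) :
    indexTwoHom H h g = -1 := by simp [indexTwoHom, hg]

theorem ker_index_two {G : Type*} [Group G] (f : G →* ℤˣ) (g : G) (h : f g = -1) : f.ker.index = 2 := by
  have hsurj : Function.Surjective f := fun x => by
    rcases Int.units_eq_one_or x with rfl | rfl
    · exact ⟨1, map_one f⟩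
    · exact ⟨g, h⟩
  rw [Subgroup.index_ker, MonoidHom.range_eq_top.mpr hsurj, Subgroup.card_top, Nat.card_eq_fintype_card]
  rfl

theorem card_index_two [Fintype F] [DecidableEq F] (h2 : (2 : F) ≠ 0)
    (hQ : (QuadraticMap.polarBilin Q).Nondegenerate) (hn : 2 ≤ Fintype.card ι) :
    Nat.card {H : Subgroup (Cfsg.isometryGroup F (⇑Q)) // H.index = 2} = 3 := by
  obtain ⟨α, β, hα, hβ, hne⟩ := exists_spin_ne Q h2 hQ hn
  have hns : ¬ IsSquare (Q α * Q β) := fun h => hne ((spin_eq_iff Q h2 hQ hn hα hβ).mpr h)
  set s := spin Q
  set d := dickson Q hQ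
  have hsb : s (refl Q β hβ) = -(s (refl Q α hα)) := by
    rcases Int.units_eq_one_or (s (refl Q α hα)) with h | h <;>
      rcases Int.units_eq_one_or (s (refl Q β hβ)) with h' | h' <;> simp [h, h'] at hne ⊢
  have hda : d (refl Q α hα) = -1 := dickson_refl Q hQ α hα
  have hdb : d (refl Q β hβ) = -1 := dickson_refl Q hQ β hβ
  have hset : {H : Subgroup (Cfsg.isometryGroup F (⇑Q)) | H.index = 2} = {d.ker, s.ker, (d * s).ker} := by
    ext H
    constructor
    · intro hH
      have hker := indexTwoHom_ker H hH
      set χ := indexTwoHom H hH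
      rw [← hker]
      have ext := fun (ψ : Cfsg.isometryGroup F (⇑Q) →* ℤˣ) => hom_ext Q h2 hQ hα hβ hns (f := χ) (f' := ψ)
      simp only [Set.mem_insert_iff, Set.mem_singleton_iff]
      rcases Int.units_eq_one_or (χ (refl Q α hα)) with ea | ea <;>
        rcases Int.units_eq_one_or (χ (refl Q β hβ)) with eb | eb
      · exfalso
        have h1 := hom_ext Q h2 hQ hα hβ hns (f := χ) (f' := 1) (by simp [ea]) (by simp [eb])
        rw [h1, MonoidHom.ker_one] at hker
        have hH' : H.index = 2 := hH
        rw [← hker, Subgroup.index_top] at hH'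
        omega
      · rcases Int.units_eq_one_or (s (refl Q α hα)) with h | h
        · right; left; rw [ext s (by rw [ea, h]) (by rw [eb, hsb, h])]
        · right; right; rw [ext (d * s) (by simp [ea, hda, h]) (by simp [eb, hdb, hsb, h])]
      · rcases Int.units_eq_one_or (s (refl Q α hα)) with h | h
        · right; right; rw [ext (d * s) (by simp [ea, hda, h]) (by simp [eb, hdb, hsb, h])]
        · right; left; rw [ext s (by rw [ea, h]) (by rw [eb, hsb, h, neg_neg])]
      · left; rw [ext d (by rw [ea, hda]) (by rw [eb, hdb])]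
    · rintro (rfl | rfl | rfl)
      · exact ker_index_two d _ hda
      · rcases Int.units_eq_one_or (s (refl Q α hα)) with h | h
        · exact ker_index_two s (refl Q β hβ) (by rw [hsb, h])
        · exact ker_index_two s _ h
      · rcases Int.units_eq_one_or (s (refl Q α hα)) with h | h
        · exact ker_index_two (d * s) (refl Q α hα) (by simp [hda, h])
        · exact ker_index_two (d * s) (refl Q β hβ) (by simp [hdb, hsb, h])
  show Nat.card ↥{H : Subgroup (Cfsg.isometryGroup F (⇑Q)) | H.index = 2} = 3
  rw [Nat.card_coe_set_eq, hset]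
  have m1 : refl Q α hα ∈ s.ker ↔ refl Q α hα ∉ (d * s).ker := by
    rcases Int.units_eq_one_or (s (refl Q α hα)) with h | h <;> simp [MonoidHom.mem_ker, hda, h]
  have m2 : refl Q β hβ ∈ s.ker ↔ refl Q α hα ∉ s.ker := by
    rcases Int.units_eq_one_or (s (refl Q α hα)) with h | h <;> simp [MonoidHom.mem_ker, hsb, h]
  have m3 : refl Q α hα ∉ d.ker ∧ refl Q β hβ ∉ d.ker := by simp [MonoidHom.mem_ker, hda, hdb]
  have m4 : refl Q β hβ ∈ (d * s).ker ↔ refl Q α hα ∈ s.ker := by
    rcases Int.units_eq_one_or (s (refl Q α hα)) with h | h <;> simp [MonoidHom.mem_ker, hdb, hsb, h]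
  rw [Set.ncard_insert_of_notMem, Set.ncard_pair]
  · intro e
    have := m1
    rw [e] at this
    exact iff_not_self this
  · simp only [Set.mem_insert_iff, Set.mem_singleton_iff]
    rintro (e | e) <;> rw [e] at m3
    · exact m3.2 (m2.mpr m3.1)
    · have : refl Q α hα ∈ s.ker := by by_contra h; exact m3.1 (by_contra fun h' => h (m1.mpr h'))
      exact m3.2 (m4.mpr this)

theorem special_index_two_unique [Fintype F] [DecidableEq F] (hQ : (QuadraticMap.polarBilin Q).Nondegenerate)
    (hn : 2 ≤ Fintype.card ι) (h : Fintype.card F ≠ 2 ∨ Fintype.card ι ≠ 4) :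
    ∃! H : Subgroup ↥(Cfsg.specialIsometryGroup F (⇑Q)), H.index = 2 := by
  by_cases h2 : (2 : F) = 0
  · haveI : CharP F 2 := CharTwo.of_one_ne_zero_of_two_eq_zero one_ne_zero h2
    have hidx := index_omega_two Q hQ hn h
    have htop : Cfsg.specialIsometryGroup F (⇑Q) = ⊤ := by
      refine eq_top_iff.mpr fun g _ => Units.ext ?_
      rcases det_sq Q hQ g with e | e
      · exact e
      · exact e.trans (CharTwo.neg_eq (1 : F))
    let e := (MulEquiv.subgroupCongr htop).trans Subgroup.topEquiv
    refine ⟨(Cfsg.Omega F (⇑Q)).comap e.toMonoidHom, ?_, fun H hH => ?_⟩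
    · show ((Cfsg.Omega F (⇑Q)).comap e.toMonoidHom).index = 2
      rw [Subgroup.index_comap_of_surjective _ e.surjective]; exact hidx
    · have hH' : (H.map e.toMonoidHom).index = 2 := by
        rw [Subgroup.index_map_of_bijective e.bijective]; exact hH
      have hle : Cfsg.Omega F (⇑Q) ≤ H.map e.toMonoidHom := by
        rw [← indexTwoHom_ker _ hH']
        exact fun g hg => hom_eq_one_of_omega Q _ hg
      have heq : Cfsg.Omega F (⇑Q) = H.map e.toMonoidHom := by
        refine le_antisymm hle (Subgroup.relIndex_eq_one.mp ?_)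
        have := Subgroup.relIndex_mul_index hle
        rw [hH', hidx] at this
        omega
      rw [heq, Subgroup.comap_map_eq_self_of_injective e.injective]
  · obtain ⟨α, β, hα, hβ, hne⟩ := exists_spin_ne Q h2 hQ hn
    let χ := (spin Q).comp (Cfsg.specialIsometryGroup F (⇑Q)).subtype
    let p : ∀ u v : ι → F, Q u ≠ 0 → Q v ≠ 0 → ↥(Cfsg.specialIsometryGroup F (⇑Q)) := fun u v hu hv =>
      ⟨refl Q u hu * refl Q v hv, by
        refine Units.ext ?_
        show Matrix.det _ = 1
        rw [Subgroup.subtype_apply, Subgroup.coe_mul, Units.val_mul, Matrix.det_mul, coe_refl, coe_refl,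
          det_eq Q u hu, det_eq Q v hv]
        ring⟩
    refine ⟨χ.ker, ker_index_two χ (p α β hα hβ) ?_, fun H hH => ?_⟩
    · show spin Q (refl Q α hα * refl Q β hβ) = -1
      rw [map_mul]
      rcases Int.units_eq_one_or (spin Q (refl Q α hα)) with h | h <;>
        rcases Int.units_eq_one_or (spin Q (refl Q β hβ)) with h' | h' <;> simp [h, h'] at hne ⊢
    have split : ∀ u w v hu hw hv, p u v hu hv = p u w hu hw * p w v hw hv := by
      intro u w v hu hw hv
      apply Subtype.ext
      show refl Q u hu * refl Q v hv = refl Q u hu * refl Q w hw * (refl Q w hw * refl Q v hv)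
      rw [mul_assoc, ← mul_assoc (refl Q w hw), refl_mul_self, one_mul]
    have symm : ∀ u v hu hv, p v u hv hu = (p u v hu hv)⁻¹ := by
      intro u v hu hv
      apply Subtype.ext
      show refl Q v hv * refl Q u hu = (refl Q u hu * refl Q v hv)⁻¹
      rw [_root_.mul_inv_rev, inv_eq_of_mul_eq_one_left (refl_mul_self Q u hu),
        inv_eq_of_mul_eq_one_left (refl_mul_self Q v hv)]
    have same : ∀ u v hu hv, IsSquare (Q u * Q v) → p v u hv hu ∈ H := by
      intro u v hu hv hsq
      obtain ⟨r, hr⟩ := hsq
      set t := r / Q v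
      set v' := t • v
      have ht : Q v' = Q u := by
        rw [QuadraticMap.map_smul, smul_eq_mul]
        simp only [t]
        field_simp
        linear_combination -hr
      have hv' : Q v' ≠ 0 := ht ▸ hu
      have hcongr : refl Q v hv = refl Q v' hv' := (refl_congr Q hv hv' rfl).symm
      have key : ∀ w hw, mat Q (refl Q w hw) *ᵥ u = v' ∨ mat Q (refl Q w hw) *ᵥ u = (-1 : F) • v' →
          p v u hv hu ∈ H := by
        intro w hw hwv
        have e : refl Q v hv = refl Q w hw * refl Q u hu * (refl Q w hw)⁻¹ := by
          rw [refl_conj, hcongr]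
          rcases hwv with h | h
          · exact refl_congr Q _ hv' (t := 1) (by rw [one_smul, h])
          · exact refl_congr Q _ hv' (t := -1) (by rw [h, smul_smul]; simp)
        have : p v u hv hu = p w u hw hu ^ 2 := by
          apply Subtype.ext
          show refl Q v hv * refl Q u hu = _
          rw [e, inv_eq_of_mul_eq_one_left (refl_mul_self Q w hw), Subgroup.coe_pow, pow_two]
          simp only [p, mul_assoc]
        rw [this]
        exact Subgroup.sq_mem_of_index_two hH _
      have e1 := QuadraticMap.map_add (f := Q) u (-v')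
      have e2 := QuadraticMap.map_add (f := Q) u v'
      rw [QuadraticMap.map_neg, QuadraticMap.polar_neg_right] at e1
      have act : ∀ w, Q w ≠ 0 → QuadraticMap.polar (⇑Q) w u = Q w → ∀ hw, mat Q (refl Q w hw) *ᵥ u = u - w := by
        intro w hw hp hw'
        show Cfsg.reflectionMatrix (⇑Q) w *ᵥ u = u - w
        rw [mulVec_eq, hp, inv_mul_cancel₀ hw, one_smul]
      by_cases hd : Q (u + -v') = 0
      · have hs : Q (u + v') ≠ 0 := by
          intro hs
          have : 2 * (2 * Q u) = 0 := by linear_combination hs + hd - e1 - e2 - 2 * ht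
          simp [h2, hu] at this
        refine key _ hs (Or.inr ?_)
        rw [act _ hs (by rw [QuadraticMap.polar_add_left, polar_self_two, QuadraticMap.polar_comm (⇑Q) v' u]
                         linear_combination -e2 - ht) hs]
        module
      · refine key _ hd (Or.inl ?_)
        rw [act _ hd (by rw [QuadraticMap.polar_add_left, polar_self_two, QuadraticMap.polar_neg_left,
                           QuadraticMap.polar_comm (⇑Q) v' u]
                         linear_combination -e1 - ht) hd]
        module
    have hab : p α β hα hβ ∉ H := by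
      intro hin
      have hall : ∀ u v hu hv, p u v hu hv ∈ H := by
        intro u v hu hv
        have base : ∀ x hx, p x α hx hα ∈ H := by
          intro x hx
          by_cases hxa : IsSquare (Q α * Q x)
          · exact same α x hα hx hxa
          · rw [split x β α hx hβ hα, symm α β hα hβ]
            refine mul_mem (same β x hβ hx ?_) (inv_mem hin)
            have hns : ¬ IsSquare (Q α * Q β) := fun h => hne ((spin_eq_iff Q h2 hQ hn hα hβ).mpr h)
            exact isSquare_trans h2 hβ hx hα (by rwa [mul_comm]) hxa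
        rw [split u α v hu hα hv, symm v α hv hα]
        exact mul_mem (base u hu) (inv_mem (base v hv))
      have : H = ⊤ := by
        refine (Subgroup.eq_top_iff' H).mpr fun g => ?_
        obtain ⟨g, hg⟩ := g
        have hg' := hg
        rw [special_eq Q h2 hQ] at hg'
        suffices ∀ hh : g ∈ Cfsg.specialIsometryGroup F (⇑Q), (⟨g, hh⟩ : ↥(Cfsg.specialIsometryGroup F (⇑Q))) ∈ H from
          this hg
        induction hg' using Subgroup.closure_induction with
        | mem x hx =>
          intro hh
          obtain ⟨u, v, hu, hv, e⟩ := hx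
          have : (⟨x, hh⟩ : ↥(Cfsg.specialIsometryGroup F (⇑Q))) = p u v hu hv :=
            Subtype.ext (Subtype.ext (Units.ext (e.trans (by rw [Subgroup.coe_mul, Units.val_mul, coe_refl, coe_refl]))))
          rw [this]; exact hall u v hu hv
        | one => intro hh; exact one_mem H
        | mul a b ha hb iha ihb =>
          intro hh
          rw [← special_eq Q h2 hQ] at ha hb
          exact mul_mem (iha ha ha) (ihb hb hb)
        | inv a ha iha =>
          intro hh
          rw [← special_eq Q h2 hQ] at ha
          exact inv_mem (iha ha ha)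
      rw [this, Subgroup.index_top] at hH
      omega
    rw [← indexTwoHom_ker H hH]
    congr 1
    set ψ := indexTwoHom H hH
    have hψ : ∀ u v hu hv, ψ (p u v hu hv) = χ (p u v hu hv) := by
      have hns : ¬ IsSquare (Q α * Q β) := fun h => hne ((spin_eq_iff Q h2 hQ hn hα hβ).mpr h)
      have base : ∀ x hx, ψ (p x α hx hα) = χ (p x α hx hα) := by
        intro x hx
        by_cases hxa : IsSquare (Q α * Q x)
        · have h1 : χ (p x α hx hα) = 1 := by
            show spin Q (refl Q x hx * refl Q α hα) = 1
            rw [map_mul, ← refl_same_class Q hQ (spin Q) hα hx hxa, ← map_mul, refl_mul_self, map_one]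
          rw [h1]
          exact indexTwoHom_pos H hH (same α x hα hx hxa)
        · have hbx : IsSquare (Q β * Q x) := isSquare_trans h2 hβ hx hα (by rwa [mul_comm]) hxa
          rw [split x β α hx hβ hα, symm α β hα hβ, map_mul, map_mul]
          have h1 : ψ (p x β hx hβ) = 1 := by
            exact indexTwoHom_pos H hH (same β x hβ hx hbx)
          have h1' : χ (p x β hx hβ) = 1 := by
            show spin Q (refl Q x hx * refl Q β hβ) = 1
            rw [map_mul, ← refl_same_class Q hQ (spin Q) hβ hx hbx, ← map_mul, refl_mul_self, map_one]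
          have h3 : ψ (p α β hα hβ) = -1 := by
            exact indexTwoHom_neg H hH hab
          have h3' : χ (p α β hα hβ) = -1 := by
            show spin Q (refl Q α hα * refl Q β hβ) = -1
            rw [map_mul]
            rcases Int.units_eq_one_or (spin Q (refl Q α hα)) with h | h <;>
              rcases Int.units_eq_one_or (spin Q (refl Q β hβ)) with h' | h' <;> simp [h, h'] at hne ⊢
          simp [h1, h1', h3, h3', map_inv]
      intro u v hu hv
      rw [split u α v hu hα hv, symm v α hv hα]
      simp [map_mul, map_inv, base u hu, base v hv]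
    refine MonoidHom.ext fun g => ?_
    obtain ⟨g, hg⟩ := g
    have hg' := hg
    rw [special_eq Q h2 hQ] at hg'
    suffices ∀ hh : g ∈ Cfsg.specialIsometryGroup F (⇑Q), ψ ⟨g, hh⟩ = χ ⟨g, hh⟩ from this hg
    induction hg' using Subgroup.closure_induction with
    | mem x hx =>
      intro hh
      obtain ⟨u, v, hu, hv, e⟩ := hx
      have : (⟨x, hh⟩ : ↥(Cfsg.specialIsometryGroup F (⇑Q))) = p u v hu hv :=
        Subtype.ext (Subtype.ext (Units.ext (e.trans (by rw [Subgroup.coe_mul, Units.val_mul, coe_refl, coe_refl]))))
      rw [this]; exact hψ u v hu hv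
    | one => intro hh; exact (map_one ψ).trans (map_one χ).symm
    | mul a b ha hb iha ihb =>
      intro hh
      rw [← special_eq Q h2 hQ] at ha hb
      have : (⟨a * b, hh⟩ : ↥(Cfsg.specialIsometryGroup F (⇑Q))) = ⟨a, ha⟩ * ⟨b, hb⟩ := rfl
      rw [this, map_mul, map_mul, iha ha, ihb hb]
    | inv a ha iha =>
      intro hh
      rw [← special_eq Q h2 hQ] at ha
      have : (⟨a⁻¹, hh⟩ : ↥(Cfsg.specialIsometryGroup F (⇑Q))) = (⟨a, ha⟩)⁻¹ := rfl
      rw [this, map_inv, map_inv, iha ha]

end Cfsg.Lib.Classical.Refl
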