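import Mathlib
import Cfsg.Agent.Classical.Misc.OrthGen

/-! Siegel transformations, their generation of `Ω`, and reflections of one square class. -/

set_option autoImplicit false
set_option linter.style.haveILetI false

namespace Cfsg.Lib.Classical.Refl

open Matrix
open scoped commutatorElement

universe u

variable {F : Type u} [Field F] {ι : Type} [Fintype ι] [DecidableEq ι] (Q : QuadraticForm F (ι → F))

theorem siegelMatrix_mulVec {u v : ι → F} (hv : Q v = 0) (c : F) (x : ι → F) :
    Cfsg.siegelMatrix (⇑Q) u v c *ᵥ x = siegelMap Q u (c • v) x := by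
  funext i
  simp [Cfsg.siegelMatrix, siegelMap, Matrix.add_mulVec, Matrix.smul_mulVec, Matrix.sub_mulVec,
    Matrix.vecMulVec_mulVec, polarVec_dot, QuadraticMap.polar_smul_left, QuadraticMap.map_smul, hv]
  ring

theorem siegel_preserve {u z : ι → F} (hu : Q u = 0) (huz : QuadraticMap.polar (⇑Q) u z = 0) (x : ι → F) :
    Q (siegelMap Q u z x) = Q x := by
  have hzu : QuadraticMap.polar (⇑Q) z u = 0 := by rw [QuadraticMap.polar_comm]; exact huz
  simp only [siegelMap, QuadraticMap.map_add (f := Q), QuadraticMap.map_smul, QuadraticMap.polar_add_left,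
    QuadraticMap.polar_smul_left, QuadraticMap.polar_smul_right, QuadraticMap.polar_comm (⇑Q) x u,
    QuadraticMap.polar_comm (⇑Q) x z, hzu, hu, smul_eq_mul]
  ring

theorem siegelMatrix_mul {u v : ι → F} (hu : Q u = 0) (hv : Q v = 0) (huv : QuadraticMap.polar (⇑Q) u v = 0)
    (c d : F) :
    Cfsg.siegelMatrix (⇑Q) u v c * Cfsg.siegelMatrix (⇑Q) u v d = Cfsg.siegelMatrix (⇑Q) u v (c + d) := by
  refine Matrix.toLin'.injective (LinearMap.ext fun x => ?_)
  rw [Matrix.toLin'_apply, Matrix.toLin'_apply, ← Matrix.mulVec_mulVec, siegelMatrix_mulVec Q hv,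
    siegelMatrix_mulVec Q hv, siegelMatrix_mulVec Q hv,
    siegel_add Q hu (by rw [QuadraticMap.polar_smul_right, huv, smul_zero])
      (by rw [QuadraticMap.polar_smul_right, huv, smul_zero]), add_smul]

theorem siegelMatrix_zero (u v : ι → F) : Cfsg.siegelMatrix (⇑Q) u v 0 = 1 := by
  simp [Cfsg.siegelMatrix]

/-- The Siegel transformation as an isometry. -/
def siegelElt {u v : ι → F} (hu : Q u = 0) (hv : Q v = 0) (huv : QuadraticMap.polar (⇑Q) u v = 0) (c : F) :
    Cfsg.isometryGroup F (⇑Q) :=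
  ⟨⟨Cfsg.siegelMatrix (⇑Q) u v c, Cfsg.siegelMatrix (⇑Q) u v (-c),
      by rw [siegelMatrix_mul Q hu hv huv, add_neg_cancel, siegelMatrix_zero],
      by rw [siegelMatrix_mul Q hu hv huv, neg_add_cancel, siegelMatrix_zero]⟩,
    (mem_iff Q).mpr fun x => by
      show Q (Cfsg.siegelMatrix (⇑Q) u v c *ᵥ x) = Q x
      rw [siegelMatrix_mulVec Q hv]
      exact siegel_preserve Q hu (by rw [QuadraticMap.polar_smul_right, huv, smul_zero]) x⟩

theorem mat_siegelElt {u v : ι → F} (hu : Q u = 0) (hv : Q v = 0) (huv : QuadraticMap.polar (⇑Q) u v = 0) (c : F) :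
    mat Q (siegelElt Q hu hv huv c) = Cfsg.siegelMatrix (⇑Q) u v c := rfl

theorem siegelMap_conj (g : Cfsg.isometryGroup F (⇑Q)) (u z x : ι → F) :
    mat Q g *ᵥ siegelMap Q u z x = siegelMap Q (mat Q g *ᵥ u) (mat Q g *ᵥ z) (mat Q g *ᵥ x) := by
  simp only [siegelMap, Matrix.mulVec_add, Matrix.mulVec_smul, polar_act, (mem_iff Q).mp g.2]

theorem siegel_mem_commutatorSet (h2 : (2 : F) ≠ 0) (hQ : (QuadraticMap.polarBilin Q).Nondegenerate) {u v : ι → F}
    (hu : Q u = 0) (hv : Q v = 0) (huv : QuadraticMap.polar (⇑Q) u v = 0) (c : F)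
    (g : Cfsg.isometryGroup F (⇑Q)) (hg : mat Q g = Cfsg.siegelMatrix (⇑Q) u v c) :
    g ∈ commutatorSet (Cfsg.isometryGroup F (⇑Q)) := by
  by_cases hli : LinearIndependent F ![u, v]
  · obtain ⟨f, hf1, hf2⟩ : ∃ f : Module.Dual F (ι → F), f u = 1 ∧ f v = 0 := by
      have hu0 : u ∉ Submodule.span F {v} := by
        intro h
        obtain ⟨t, ht⟩ := Submodule.mem_span_singleton.mp h
        have := (LinearIndependent.pair_iff.mp hli) 1 (-t) (by rw [← ht]; module)
        exact one_ne_zero this.1
      obtain ⟨f, hf, hker⟩ := Submodule.exists_dual_map_eq_bot_of_notMem hu0 inferInstance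
      refine ⟨(f u)⁻¹ • f, by simp [inv_mul_cancel₀ hf], ?_⟩
      have : f v = 0 := by
        have := Submodule.mem_map_of_mem (f := f) (Submodule.mem_span_singleton_self v)
        rwa [hker, Submodule.mem_bot] at this
      simp [this]
    obtain ⟨y', hy'⟩ : ∃ y', QuadraticMap.polarBilin Q y' = f :=
      ⟨(LinearMap.BilinForm.toDual (QuadraticMap.polarBilin Q) hQ).symm f,
        LinearMap.ext fun w => LinearMap.BilinForm.apply_toDual_symm_apply f w⟩
    have p1 : QuadraticMap.polar (⇑Q) u y' = 1 := by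
      rw [QuadraticMap.polar_comm, ← hf1, ← hy']; rfl
    have p2 : QuadraticMap.polar (⇑Q) v y' = 0 := by
      rw [QuadraticMap.polar_comm, ← hf2, ← hy']; rfl
    set y := y' + (-Q y') • u
    have huu : QuadraticMap.polar (⇑Q) u u = 0 := by rw [QuadraticMap.polar_self, hu, smul_zero]
    have hvu : QuadraticMap.polar (⇑Q) v u = 0 := by rw [QuadraticMap.polar_comm]; exact huv
    have q1 : QuadraticMap.polar (⇑Q) u y = 1 := by
      simp [y, QuadraticMap.polar_add_right, QuadraticMap.polar_smul_right, p1, huu]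
    have q2 : QuadraticMap.polar (⇑Q) v y = 0 := by
      simp [y, QuadraticMap.polar_add_right, QuadraticMap.polar_smul_right, p2, hvu]
    have qy : Q y = 0 := by
      simp [y, QuadraticMap.map_add (f := Q), QuadraticMap.map_smul, hu, QuadraticMap.polar_smul_right,
        QuadraticMap.polar_comm (⇑Q) y' u, p1]
    have hp : Q (u + y) ≠ 0 := by rw [QuadraticMap.map_add (f := Q), hu, qy, q1]; simp
    have hm : Q (u - y) ≠ 0 := by
      rw [sub_eq_add_neg, QuadraticMap.map_add (f := Q), QuadraticMap.map_neg, QuadraticMap.polar_neg_right, hu, qy, q1]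
      simp
    set h := refl Q (u + y) hp * refl Q (u - y) hm with hh
    have hum : Cfsg.reflectionMatrix (⇑Q) (u - y) *ᵥ u = y := by
      rw [mulVec_eq, QuadraticMap.polar_sub_left, huu, QuadraticMap.polar_comm (⇑Q) y u, q1, sub_eq_add_neg u y,
        QuadraticMap.map_add (f := Q), QuadraticMap.map_neg, QuadraticMap.polar_neg_right, hu, qy, q1]
      simp
    have hyp : Cfsg.reflectionMatrix (⇑Q) (u + y) *ᵥ y = -u := by
      rw [mulVec_eq, QuadraticMap.polar_add_left, q1, polar_self_two, qy, QuadraticMap.map_add (f := Q), hu, qy, q1]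
      simp
    have hhu : mat Q h *ᵥ u = (-1 : F) • u := by
      rw [hh, mat, mulVec_mul, coe_refl, coe_refl, hum, hyp, neg_one_smul]
    have hhv : mat Q h *ᵥ v = v := by
      rw [hh, mat, mulVec_mul, coe_refl, coe_refl,
        fix Q (u - y) v (by rw [QuadraticMap.polar_sub_left, huv, QuadraticMap.polar_comm (⇑Q) y v, q2, sub_zero]),
        fix Q (u + y) v (by rw [QuadraticMap.polar_add_left, huv, QuadraticMap.polar_comm (⇑Q) y v, q2, add_zero])]
    set a := -c / 2 with ha
    set T := siegelElt Q hu hv huv a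
    have hconj : h * T * h⁻¹ = siegelElt Q hu hv huv (-a) := by
      refine ext_mulVec Q fun x => ?_
      rw [mat, mulVec_mul, mulVec_mul]
      change mat Q h *ᵥ (Cfsg.siegelMatrix (⇑Q) u v a *ᵥ (mat Q h⁻¹ *ᵥ x)) = Cfsg.siegelMatrix (⇑Q) u v (-a) *ᵥ x
      rw [siegelMatrix_mulVec Q hv, siegelMatrix_mulVec Q hv, siegelMap_conj, hhu, Matrix.mulVec_smul, hhv,
        show mat Q h *ᵥ (mat Q h⁻¹ *ᵥ x) = x by rw [← mulVec_mul, mul_inv_cancel]; exact Matrix.one_mulVec x]
      funext i
      simp [siegelMap, QuadraticMap.polar_smul_left, QuadraticMap.map_smul, hv]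
      try ring
    refine ⟨h, T, ?_⟩
    have hT : T⁻¹ = siegelElt Q hu hv huv (-a) := Subtype.ext (Units.ext rfl)
    rw [commutatorElement_def, hconj, hT]
    refine Subtype.ext (Units.ext ?_)
    show Cfsg.siegelMatrix (⇑Q) u v (-a) * Cfsg.siegelMatrix (⇑Q) u v (-a) = mat Q g
    rw [siegelMatrix_mul Q hu hv huv, hg, show -a + -a = c by rw [ha]; field_simp; ring]
  · refine ⟨1, 1, ?_⟩
    rw [commutatorElement_one_left]
    refine (ext_mulVec Q fun x => ?_).symm
    rw [hg, siegelMatrix_mulVec Q hv, show mat Q 1 = 1 from rfl, Matrix.one_mulVec]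
    rw [LinearIndependent.pair_iff] at hli
    push Not at hli
    obtain ⟨s, t, hst, hne⟩ := hli
    by_cases ht : t = 0
    · have hs : s ≠ 0 := fun h => hne h ht
      rw [ht, zero_smul, add_zero, smul_eq_zero] at hst
      rw [hst.resolve_left hs]
      funext i
      simp [siegelMap, QuadraticMap.map_smul, hv]
    · have hv' : v = (-s / t) • u := by
        have : t • v = t • ((-s / t) • u) := by
          rw [smul_smul, mul_div_cancel₀ _ ht, neg_smul]
          exact eq_neg_of_add_eq_zero_right hst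
        exact (smul_right_injective _ ht) this
      funext i
      simp [siegelMap, hv', QuadraticMap.map_smul, QuadraticMap.polar_smul_left, hu, smul_smul]
      try ring

/-- The set of Siegel transformations. -/
def siegelSet : Set (Cfsg.isometryGroup F (⇑Q)) :=
  {g | ∃ (u v : ι → F) (c : F), Q u = 0 ∧ Q v = 0 ∧ QuadraticMap.polar (⇑Q) u v = 0 ∧
    ((g : Matrix.GeneralLinearGroup ι F) : Matrix ι ι F) = Cfsg.siegelMatrix (⇑Q) u v c}

theorem siegelSet_normal : (Subgroup.closure (siegelSet Q)).Normal := by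
  refine ⟨fun a ha g => ?_⟩
  induction ha using Subgroup.closure_induction with
  | mem x hx =>
    obtain ⟨u, v, c, hu, hv, huv, e⟩ := hx
    refine Subgroup.subset_closure ⟨mat Q g *ᵥ u, mat Q g *ᵥ v, c, by rw [(mem_iff Q).mp g.2, hu],
      by rw [(mem_iff Q).mp g.2, hv], by rw [polar_act, huv], ?_⟩
    refine Matrix.toLin'.injective (LinearMap.ext fun y => ?_)
    rw [Matrix.toLin'_apply, Matrix.toLin'_apply, mulVec_mul, mulVec_mul, e, siegelMatrix_mulVec Q hv,
      siegelMatrix_mulVec Q (by rw [(mem_iff Q).mp g.2, hv])]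
    change mat Q g *ᵥ siegelMap Q u (c • v) (mat Q g⁻¹ *ᵥ y) = _
    rw [siegelMap_conj, Matrix.mulVec_smul,
      show mat Q g *ᵥ (mat Q g⁻¹ *ᵥ y) = y by rw [← mulVec_mul, mul_inv_cancel]; exact Matrix.one_mulVec y]
  | one => simp
  | mul a b _ _ iha ihb =>
    rw [show g * (a * b) * g⁻¹ = (g * a * g⁻¹) * (g * b * g⁻¹) by group]
    exact mul_mem iha ihb
  | inv a _ iha =>
    rw [show g * a⁻¹ * g⁻¹ = (g * a * g⁻¹)⁻¹ by group]
    exact inv_mem iha

theorem omega_eq_closure [Fintype F] (h2 : (2 : F) ≠ 0) (hQ : (QuadraticMap.polarBilin Q).Nondegenerate)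
    (hn : 5 ≤ Fintype.card ι) : Cfsg.Omega F (⇑Q) = Subgroup.closure (siegelSet Q) := by
  set K := Subgroup.closure (siegelSet Q)
  haveI hK : K.Normal := siegelSet_normal Q
  refine le_antisymm ?_ ?_
  swap
  · rw [Subgroup.closure_le]
    rintro g ⟨u, v, c, hu, hv, huv, e⟩
    have := siegel_mem_commutatorSet Q h2 hQ hu hv huv c g e
    show g ∈ commutator (Cfsg.isometryGroup F (⇑Q))
    rw [commutator_eq_closure]
    exact Subgroup.subset_closure this
  have sing : ∀ u w, Q u = 0 → Q w = 0 → QuadraticMap.polar (⇑Q) u w = 0 → InR Q K (siegelMap Q u w) := by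
    intro u w hu hw huw
    refine ⟨siegelElt Q hu hw huw 1, Subgroup.subset_closure ⟨u, w, 1, hu, hw, huw, rfl⟩, fun x => ?_⟩
    have := siegelMatrix_mulVec Q (u := u) hw 1 x
    rwa [one_smul] at this
  have any : ∀ u z, Q u = 0 → QuadraticMap.polar (⇑Q) u z = 0 → InR Q K (siegelMap Q u z) := by
    intro u z hu huz
    by_cases hz : Q z = 0
    · exact sing u z hu hz huz
    obtain ⟨a, hza, hua, hQa⟩ := exists_norm_perp Q h2 hQ hn hz (r := u)
      (by rw [QuadraticMap.polar_comm]; exact huz) (-Q z)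
    have w1 : Q ((2 : F)⁻¹ • (z + a)) = 0 := by
      rw [QuadraticMap.map_smul, QuadraticMap.map_add (f := Q), hQa, hza]; simp
    have w2 : Q ((2 : F)⁻¹ • (z - a)) = 0 := by
      rw [QuadraticMap.map_smul, sub_eq_add_neg, QuadraticMap.map_add (f := Q), QuadraticMap.map_neg,
        QuadraticMap.polar_neg_right, hQa, hza]; simp
    have p1 : QuadraticMap.polar (⇑Q) u ((2 : F)⁻¹ • (z + a)) = 0 := by
      simp [QuadraticMap.polar_smul_right, QuadraticMap.polar_add_right, huz, hua]
    have p2 : QuadraticMap.polar (⇑Q) u ((2 : F)⁻¹ • (z - a)) = 0 := by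
      simp [QuadraticMap.polar_smul_right, QuadraticMap.polar_sub_right, huz, hua]
    obtain ⟨r₁, hr₁, e₁⟩ := sing u _ hu w1 p1
    obtain ⟨r₂, hr₂, e₂⟩ := sing u _ hu w2 p2
    refine ⟨r₁ * r₂, mul_mem hr₁ hr₂, fun x => ?_⟩
    rw [mulVec_mul, e₁, e₂, siegel_add Q hu p1 p2]
    congr 1
    rw [← smul_add, show z + a + (z - a) = (2 : F) • z by module, smul_smul, inv_mul_cancel₀ h2, one_smul]
  set π := QuotientGroup.mk' K
  have step : ∀ v (hv : Q v ≠ 0) r (hr : Q r = 0) (hvr : QuadraticMap.polar (⇑Q) v r = 0) (hs : Q (v + r) ≠ 0),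
      π (refl Q (v + r) hs) = π (refl Q v hv) := by
    intro v hv r hr hvr hs
    have hrv : QuadraticMap.polar (⇑Q) r v = 0 := by rw [QuadraticMap.polar_comm]; exact hvr
    obtain ⟨k, hk, ek⟩ := any r ((1 * (Q v)⁻¹) • v) hr (by rw [QuadraticMap.polar_smul_right, hrv, smul_zero])
    have : refl Q v hv * refl Q (v + r) hs = k := by
      refine ext_mulVec Q fun x => ?_
      rw [mat, mulVec_mul, coe_refl, coe_refl, mat, ek, ← pair_eq Q hr hrv hv 1 x, one_smul]
    have h1 : π (refl Q v hv) * π (refl Q (v + r) hs) = 1 := by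
      rw [← map_mul, this]; exact (QuotientGroup.eq_one_iff k).mpr hk
    rw [eq_inv_of_mul_eq_one_right h1, ← map_inv, inv_eq_of_mul_eq_one_left (refl_mul_self Q v hv)]
  have conn : ∀ v v' (hv : Q v ≠ 0) (hv' : Q v' ≠ 0), Q v = Q v' → π (refl Q v hv) = π (refl Q v' hv') := by
    intro v v' hv hv' heq
    set t := QuadraticMap.polar (⇑Q) v v' / (2 * Q v) with ht
    set y := v' - t • v with hy
    have hvy : QuadraticMap.polar (⇑Q) v y = 0 := by
      rw [hy, QuadraticMap.polar_sub_right, QuadraticMap.polar_smul_right, polar_self_two, smul_eq_mul, ht]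
      field_simp; ring
    have hv'y : v' = t • v + y := by rw [hy]; abel
    have hQv' : Q v' = t * t * Q v + Q y := by
      rw [hv'y, QuadraticMap.map_add (f := Q), QuadraticMap.map_smul, QuadraticMap.polar_smul_left, hvy, smul_eq_mul]
      simp
    by_cases hQy : Q y = 0
    · have htt : t * t = 1 := by
        have : (t * t - 1) * Q v = 0 := by linear_combination -hQv' - hQy - heq
        exact sub_eq_zero.mp ((mul_eq_zero.mp this).resolve_right hv)
      have h1 : Q (v + t • y) ≠ 0 := by
        rw [QuadraticMap.map_add (f := Q), QuadraticMap.map_smul, QuadraticMap.polar_smul_right, hvy, hQy]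
        simpa using hv
      rw [← step v hv (t • y) (by rw [QuadraticMap.map_smul, hQy, smul_zero])
        (by rw [QuadraticMap.polar_smul_right, hvy, smul_zero]) h1]
      congr 1
      refine (refl_congr Q h1 hv' (t := t) ?_).symm
      rw [smul_add, smul_smul, htt, one_smul]
      exact hv'y
    · set e := 2 * Q v - QuadraticMap.polar (⇑Q) v v'
      set β := e / (2 * Q y) with hβ
      obtain ⟨x, hvx, hyx, hQx⟩ := exists_norm_perp Q h2 hQ hn hv hvy (-(β * β * Q y))
      set w := v + β • y + x with hw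
      have hyv : QuadraticMap.polar (⇑Q) y v = 0 := by rw [QuadraticMap.polar_comm]; exact hvy
      have pv : QuadraticMap.polar (⇑Q) v w = 2 * Q v := by
        simp [hw, QuadraticMap.polar_add_right, QuadraticMap.polar_smul_right, polar_self_two, hvy, hvx]
      have py : QuadraticMap.polar (⇑Q) y w = 2 * β * Q y := by
        simp only [hw, QuadraticMap.polar_add_right, QuadraticMap.polar_smul_right, polar_self_two, hyv, hyx,
          smul_eq_mul]
        ring
      have pv' : QuadraticMap.polar (⇑Q) v' w = 2 * Q v := by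
        rw [hv'y, QuadraticMap.polar_add_left, QuadraticMap.polar_smul_left, pv, py, smul_eq_mul, hβ, ht]
        simp only [e]
        field_simp; ring
      have hQw : Q w = Q v := by
        simp only [hw, QuadraticMap.map_add (f := Q), QuadraticMap.map_smul, QuadraticMap.polar_add_left,
          QuadraticMap.polar_smul_left, QuadraticMap.polar_smul_right, hvy, hvx, hyx, hQx, smul_eq_mul]
        ring
      have hw0 : Q w ≠ 0 := hQw ▸ hv
      have one : ∀ a (ha : Q a ≠ 0), Q a = Q v → QuadraticMap.polar (⇑Q) a w = 2 * Q v →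
          π (refl Q w hw0) = π (refl Q a ha) := by
        intro a ha hQa hpa
        have hs : Q (a + (w - a)) ≠ 0 := by rw [add_sub_cancel]; exact hw0
        have h1 := step a ha (w - a) (by
          rw [sub_eq_add_neg, QuadraticMap.map_add (f := Q), QuadraticMap.map_neg, QuadraticMap.polar_neg_right,
            QuadraticMap.polar_comm (⇑Q) w a, hpa, hQw, hQa]; ring)
          (by rw [QuadraticMap.polar_sub_right, hpa, polar_self_two, hQa, sub_self]) hs
        rw [← h1]
        congr 1
        exact refl_congr Q hs hw0 (t := 1) (by rw [one_smul, add_sub_cancel])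
      exact (one v hv rfl pv).symm.trans (one v' hv' heq.symm pv')
  have comm : ∀ u v (hu : Q u ≠ 0) (hv : Q v ≠ 0), Commute (π (refl Q u hu)) (π (refl Q v hv)) := by
    intro u v hu hv
    have h1 := refl_conj Q (refl Q u hu) v hv
    have h3 := congrArg π h1
    rw [map_mul, map_mul, map_inv, conn _ v _ hv ((mem_iff Q).mp (refl Q u hu).2 v)] at h3
    exact mul_inv_eq_iff_eq_mul.mp h3
  have hall : ∀ h g : Cfsg.isometryGroup F (⇑Q), Commute (π g) (π h) := by
    have h1 : ∀ v (hv : Q v ≠ 0) g, Commute (π g) (π (refl Q v hv)) := by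
      intro v hv g
      have := eq_top_of_refl Q ((Subgroup.centralizer {π (refl Q v hv)}).comap π)
        (fun u hu => Subgroup.mem_centralizer_singleton_iff.mpr (comm u v hu hv).eq) hQ (Or.inl (card_ne_two h2))
      exact Subgroup.mem_centralizer_singleton_iff.mp (show π g ∈ Subgroup.centralizer {π (refl Q v hv)} from
        (this ▸ Subgroup.mem_top g : g ∈ (Subgroup.centralizer {π (refl Q v hv)}).comap π))
    intro h g
    have := eq_top_of_refl Q ((Subgroup.centralizer {π g}).comap π)
      (fun u hu => Subgroup.mem_centralizer_singleton_iff.mpr (h1 u hu g).eq.symm) hQ (Or.inl (card_ne_two h2))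
    exact (Subgroup.mem_centralizer_singleton_iff.mp (show π h ∈ Subgroup.centralizer {π g} from
      (this ▸ Subgroup.mem_top h : h ∈ (Subgroup.centralizer {π g}).comap π))).symm
  show commutator (Cfsg.isometryGroup F (⇑Q)) ≤ K
  rw [commutator_def, Subgroup.commutator_le]
  intro a _ b _
  refine (QuotientGroup.eq_one_iff _).mp ?_
  show π ⁅a, b⁆ = 1
  rw [map_commutatorElement, commutatorElement_eq_one_iff_mul_comm]
  exact (hall b a).eq

end Cfsg.Lib.Classical.Refl
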