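import Mathlib
import Cfsg.Agent.Classical.Misc.OrthGen

/-! When `-1` lies in `Ω`, for even-dimensional orthogonal groups in odd characteristic. -/

set_option autoImplicit false
set_option linter.style.haveILetI false

namespace Cfsg.Lib.Classical.Refl

open Matrix

universe u

variable {F : Type u} [Field F] {ι : Type} [Fintype ι] [DecidableEq ι] (Q : QuadraticForm F (ι → F))

theorem refl_prod_apply {κ : Type} [DecidableEq κ] (e : κ → ι → F) (he : ∀ i, Q (e i) ≠ 0)
    (hort : Pairwise fun i j => QuadraticMap.polar (⇑Q) (e i) (e j) = 0) (l : List κ) (j : κ) :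
    mat Q (l.map fun i => refl Q (e i) (he i)).prod *ᵥ e j = (-1 : F) ^ l.count j • e j := by
  induction l with
  | nil => simp [mat]
  | cons i l ih =>
    rw [List.map_cons, List.prod_cons, mat, mulVec_mul]
    change mat Q (refl Q (e i) (he i)) *ᵥ (mat Q (l.map fun i => refl Q (e i) (he i)).prod *ᵥ e j) = _
    rw [ih, Matrix.mulVec_smul]
    show (-1 : F) ^ l.count j • (Cfsg.reflectionMatrix (⇑Q) (e i) *ᵥ e j) = _
    by_cases hij : i = j
    · subst hij
      rw [self Q _ (he i), List.count_cons_self, pow_succ, mul_smul]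
      simp
    · rw [fix Q _ _ (hort hij), List.count_cons_of_ne hij]

theorem exists_spin_scale [Fintype F] [DecidableEq F] (h2 : (2 : F) ≠ 0)
    (hQ : (QuadraticMap.polarBilin Q).Nondegenerate) (hn : 2 ≤ Fintype.card ι) :
    ∃ κ : ℤˣ, ∀ v (hv : Q v ≠ 0), ((spin Q (refl Q v hv) : ℤˣ) : ℤ) = κ * quadraticChar F (Q v) := by
  obtain ⟨a, b, ha, hb, hab⟩ := exists_orth_pair Q h2 hQ hn
  obtain ⟨x, y, hxy⟩ := exists_nonsquare_norm Q h2 ha hb hab 1
  set γ := x • a + y • b
  have hγ : Q γ ≠ 0 := hxy ▸ one_ne_zero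
  refine ⟨spin Q (refl Q γ hγ), fun v hv => ?_⟩
  by_cases h : IsSquare (Q v)
  · rw [(quadraticChar_one_iff_isSquare hv).mpr h, mul_one,
      refl_same_class Q hQ (spin Q) hv hγ (by rw [hxy, mul_one]; exact h)]
  · rw [quadraticChar_neg_one_iff_not_isSquare.mpr h]
    have hne : spin Q (refl Q v hv) ≠ spin Q (refl Q γ hγ) := fun he => h (by
      have := (spin_eq_iff Q h2 hQ hn hv hγ).mp he
      rwa [hxy, mul_one] at this)
    rcases Int.units_eq_one_or (spin Q (refl Q v hv)) with e | e <;>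
      rcases Int.units_eq_one_or (spin Q (refl Q γ hγ)) with e' | e' <;> simp [e, e'] at hne ⊢

theorem neg_one_omega_iff [Fintype F] [DecidableEq F] (h2 : (2 : F) ≠ 0)
    (hQ : (QuadraticMap.polarBilin Q).Nondegenerate) (hn : 2 ≤ Fintype.card ι) (heven : Even (Fintype.card ι))
    {κ : Type} [Fintype κ] [DecidableEq κ] (e : κ → ι → F) (he : ∀ i, Q (e i) ≠ 0)
    (hort : Pairwise fun i j => QuadraticMap.polar (⇑Q) (e i) (e j) = 0) (hcard : Fintype.card κ = Fintype.card ι) :
    (∃ g : Cfsg.isometryGroup F (⇑Q), g ∈ Cfsg.Omega F (⇑Q) ∧ mat Q g = -1) ↔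
      quadraticChar F (∏ i, Q (e i)) = 1 := by
  haveI : Nonempty κ := Fintype.card_pos_iff.mp (by omega)
  have hli : LinearIndependent F e := by
    rw [Fintype.linearIndependent_iff]
    intro c hc i
    have h1 := congrArg (QuadraticMap.polarBilin Q (e i)) hc
    rw [map_sum, map_zero, Finset.sum_eq_single i (fun j _ hji => by
      rw [map_smul]
      change c j • QuadraticMap.polar (⇑Q) (e i) (e j) = 0
      rw [hort (Ne.symm hji), smul_zero]) (by simp), map_smul] at h1
    change c i • QuadraticMap.polar (⇑Q) (e i) (e i) = 0 at h1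
    rw [smul_eq_mul, polar_self_two] at h1
    exact (mul_eq_zero.mp h1).resolve_right (mul_ne_zero h2 (he i))
  let B := basisOfLinearIndependentOfCardEqFinrank hli (by rw [hcard, Module.finrank_fintype_fun_eq_card])
  set P := ((Finset.univ : Finset κ).toList.map fun i => refl Q (e i) (he i)).prod
  have hP : mat Q P = -1 := by
    refine Matrix.toLin'.injective (B.ext fun j => ?_)
    rw [show B j = e j from congrFun (coe_basisOfLinearIndependentOfCardEqFinrank hli _) j, Matrix.toLin'_apply,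
      Matrix.toLin'_apply, refl_prod_apply Q e he hort, List.count_eq_one_of_mem (Finset.nodup_toList _) (by simp)]
    simp [Matrix.neg_mulVec]
  have hdet : detHom Q P = 1 := by
    refine Units.ext ?_
    show (mat Q P).det = 1
    rw [hP, Matrix.det_neg, Matrix.det_one, heven.neg_one_pow, one_mul]
  obtain ⟨k, hk⟩ := exists_spin_scale Q h2 hQ hn
  have hspin : ((spin Q P : ℤˣ) : ℤ) = quadraticChar F (∏ i, Q (e i)) := by
    rw [map_prod, map_list_prod, List.map_map,
      show ((Finset.univ : Finset κ).toList.map ((spin Q) ∘ fun i => refl Q (e i) (he i))).prod =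
        ∏ i : κ, spin Q (refl Q (e i) (he i)) from Finset.prod_map_toList _ _]
    rw [Units.coe_prod]
    simp only [hk]
    rw [Finset.prod_mul_distrib, Finset.prod_const, Finset.card_univ, hcard]
    obtain ⟨m, hm⟩ := heven
    rw [hm, ← two_mul, pow_mul, show ((k : ℤ)) ^ 2 = 1 by rw [pow_two, ← Units.val_mul, Int.units_mul_self]; rfl,
      one_pow, one_mul]
  constructor
  · rintro ⟨g, hg, hgm⟩
    have hgP : g = P := Subtype.ext (Units.ext (hgm.trans hP.symm))
    have := ((mem_omega_iff Q h2 hQ hn).mp (hgP ▸ hg)).2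
    rw [← hspin, this]; rfl
  · intro h
    refine ⟨P, (mem_omega_iff Q h2 hQ hn).mpr ⟨hdet, Units.ext ?_⟩, hP⟩
    rw [hspin, h]; rfl

/-- The minus-type form. -/
def minusForm (m : ℕ) (F : Type u) [Field F] (a b : F) : QuadraticForm F ((Fin m ⊕ Fin m) ⊕ Fin 2 → F) :=
  (∑ i : Fin m, QuadraticMap.linMulLin (LinearMap.proj (Sum.inl (Sum.inl i))) (LinearMap.proj (Sum.inl (Sum.inr i)))) +
    (QuadraticMap.linMulLin (LinearMap.proj (Sum.inr 0)) (LinearMap.proj (Sum.inr 0)) +
      a • QuadraticMap.linMulLin (LinearMap.proj (Sum.inr 0)) (LinearMap.proj (Sum.inr 1)) +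
      b • QuadraticMap.linMulLin (LinearMap.proj (Sum.inr 1)) (LinearMap.proj (Sum.inr 1)))

theorem minusForm_coe (m : ℕ) (a b : F) : ⇑(minusForm m F a b) = Cfsg.quadFormMinus m F a b := by
  funext x
  simp [minusForm, Cfsg.quadFormMinus]
  ring

theorem minusForm_nondegenerate (h2 : (2 : F) ≠ 0) (m : ℕ) {a b : F} (hab : 4 * b - a ^ 2 ≠ 0) :
    (QuadraticMap.polarBilin (minusForm m F a b)).Nondegenerate := by
  have h1 : ∀ x : (Fin m ⊕ Fin m) ⊕ Fin 2 → F,
      (∀ y, QuadraticMap.polar (⇑(minusForm m F a b)) x y = 0) → x = 0 := by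
    intro x hx
    have e0 := hx (Pi.single (Sum.inr 0) 1)
    have e1 := hx (Pi.single (Sum.inr 1) 1)
    simp [QuadraticMap.polar, minusForm_coe, Cfsg.quadFormMinus] at e0 e1
    have f0 : x (Sum.inr 0) = 0 := by
      have : (4 * b - a ^ 2) * x (Sum.inr 0) = 0 := by linear_combination (2 * b) * e0 - a * e1
      exact (mul_eq_zero.mp this).resolve_left hab
    have f1 : x (Sum.inr 1) = 0 := by
      have : (4 * b - a ^ 2) * x (Sum.inr 1) = 0 := by linear_combination -a * e0 + 2 * e1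
      exact (mul_eq_zero.mp this).resolve_left hab
    funext i
    rcases i with (j | j) | j
    · have := hx (Pi.single (Sum.inl (Sum.inr j)) 1)
      simp [QuadraticMap.polar, minusForm_coe, Cfsg.quadFormMinus, Pi.single_apply, mul_add, Finset.sum_add_distrib] at this
      exact this
    · have := hx (Pi.single (Sum.inl (Sum.inl j)) 1)
      simp [QuadraticMap.polar, minusForm_coe, Cfsg.quadFormMinus, Pi.single_apply, add_mul, Finset.sum_add_distrib] at this
      exact this
    · fin_cases j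
      · exact f0
      · exact f1
  exact ⟨h1, fun x hx => h1 x fun y => by rw [QuadraticMap.polar_comm]; exact hx y⟩

/-- The orthogonal basis of the split part. -/
def pairVec {m : ℕ} : Fin m ⊕ Fin m → (Fin m ⊕ Fin m → F) :=
  Sum.elim (fun i => Pi.single (Sum.inl i) 1 + Pi.single (Sum.inr i) 1)
    (fun i => Pi.single (Sum.inl i) 1 - Pi.single (Sum.inr i) 1)

theorem quadFormPlus_pairVec {m : ℕ} (k : Fin m ⊕ Fin m) :
    Cfsg.quadFormPlus m F (pairVec k) = Sum.elim (fun _ => 1) (fun _ => -1) k := by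
  classical
  rcases k with i | i <;> simp [Cfsg.quadFormPlus, pairVec, Pi.single_apply]

theorem polar_pairVec {m : ℕ} {j k : Fin m ⊕ Fin m} (h : j ≠ k) :
    QuadraticMap.polar (Cfsg.quadFormPlus m F) (pairVec j) (pairVec k) = 0 := by
  classical
  have key : ∀ x y : Fin m ⊕ Fin m → F, QuadraticMap.polar (Cfsg.quadFormPlus m F) x y =
      ∑ i, (x (.inl i) * y (.inr i) + y (.inl i) * x (.inr i)) := by
    intro x y
    simp only [QuadraticMap.polar, Cfsg.quadFormPlus, Pi.add_apply, ← Finset.sum_sub_distrib]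
    exact Finset.sum_congr rfl fun i _ => by ring
  rw [key]
  refine Finset.sum_eq_zero fun i _ => ?_
  rcases j with j | j <;> rcases k with k | k <;> rcases eq_or_ne i j with rfl | h1 <;>
    rcases eq_or_ne i k with rfl | h3 <;> simp_all [pairVec, Pi.single_apply]

theorem prod_pairVec (m : ℕ) :
    ∏ k : Fin m ⊕ Fin m, Cfsg.quadFormPlus m F (pairVec k) = (-1 : F) ^ m := by
  simp [quadFormPlus_pairVec, Fintype.prod_sum_type]

theorem quadraticChar_neg_one_pow [Fintype F] [DecidableEq F] (h2 : (2 : F) ≠ 0) (m : ℕ) :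
    quadraticChar F ((-1 : F) ^ m) = if Fintype.card F ^ m % 4 = 1 then 1 else -1 := by
  have hc2 : ringChar F ≠ 2 := fun h => h2 (by haveI := ringChar.of_eq h; exact CharTwo.two_eq_zero)
  have hodd := FiniteField.odd_card_of_char_ne_two hc2
  rw [map_pow, Nat.pow_mod]
  have hq : Fintype.card F % 4 = 1 ∨ Fintype.card F % 4 = 3 := by omega
  rcases hq with hq | hq
  · rw [hq, (quadraticChar_one_iff_isSquare (neg_ne_zero.mpr one_ne_zero)).mpr
      (FiniteField.isSquare_neg_one_iff.mpr (by omega))]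
    simp
  · rw [hq, quadraticChar_neg_one_iff_not_isSquare.mpr (fun h => FiniteField.isSquare_neg_one_iff.mp h hq)]
    rcases Nat.even_or_odd m with ⟨k, rfl⟩ | ⟨k, rfl⟩
    · rw [if_pos (by rw [← two_mul, pow_mul]; simp [Nat.pow_mod]), ← two_mul, pow_mul]; simp
    · rw [if_neg (by rw [pow_succ, pow_mul]; simp [Nat.pow_mod, Nat.mul_mod]), pow_succ, pow_mul]; simp

theorem pow_mod_four {q : ℕ} (hodd : Odd q) (m : ℕ) : q ^ m % 4 = 1 ∨ q ^ m % 4 = 3 := by
  have : (q ^ m) % 2 = 1 := Nat.odd_iff.mp hodd.pow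
  omega

theorem neg_one_omega_plus [Fintype F] {q : ℕ} (hF : Fintype.card F = q) (hodd : Odd q) (m : ℕ) (hm : 1 ≤ m) :
    (∃ g : ↥(Cfsg.isometryGroup F (Cfsg.quadFormPlus m F)), g ∈ Cfsg.Omega F (Cfsg.quadFormPlus m F) ∧
      ((g : Matrix.GeneralLinearGroup (Fin m ⊕ Fin m) F) : Matrix (Fin m ⊕ Fin m) (Fin m ⊕ Fin m) F) = -1) ↔
      q ^ m % 4 = 1 := by
  classical
  have h2 : (2 : F) ≠ 0 := fun h => by
    haveI : CharP F 2 := CharTwo.of_one_ne_zero_of_two_eq_zero one_ne_zero h
    have := FiniteField.even_card_iff_char_two.mp (ringChar.eq F 2)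
    rw [hF] at this; have := Nat.odd_iff.mp hodd; omega
  set Q := HypQuad.plusForm m F
  have hc : Cfsg.quadFormPlus m F = ⇑Q := (funext (HypQuad.plusForm_apply m)).symm
  rw [hc]
  rw [neg_one_omega_iff Q h2 (HypQuad.plusForm_nondegenerate m) (by simp; omega) (by simp) pairVec
    (fun k => by rw [← hc, quadFormPlus_pairVec]; rcases k with k | k <;> simp)
    (fun j k h => by rw [← hc]; exact polar_pairVec h) rfl]
  rw [show (∏ k, Q (pairVec k)) = (-1 : F) ^ m by rw [← prod_pairVec, hc], quadraticChar_neg_one_pow h2, hF]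
  constructor
  · intro h; by_contra h'; rw [if_neg h'] at h; exact absurd h (by decide)
  · intro h; rw [if_pos h]

theorem neg_one_omega_minus [Fintype F] {q : ℕ} (hF : Fintype.card F = q) (hodd : Odd q) (k : ℕ)
    (a b : F) (hab : ∀ z₁ z₂ : F, z₁ ^ 2 + a * z₁ * z₂ + b * z₂ ^ 2 = 0 → z₁ = 0 ∧ z₂ = 0) :
    (∃ g : ↥(Cfsg.isometryGroup F (Cfsg.quadFormMinus k F a b)),
      g ∈ Cfsg.Omega F (Cfsg.quadFormMinus k F a b) ∧
      ((g : Matrix.GeneralLinearGroup ((Fin k ⊕ Fin k) ⊕ Fin 2) F) :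
        Matrix ((Fin k ⊕ Fin k) ⊕ Fin 2) ((Fin k ⊕ Fin k) ⊕ Fin 2) F) = -1) ↔
      q ^ (k + 1) % 4 = 3 := by
  classical
  have h2 : (2 : F) ≠ 0 := fun h => by
    haveI : CharP F 2 := CharTwo.of_one_ne_zero_of_two_eq_zero one_ne_zero h
    have := FiniteField.even_card_iff_char_two.mp (ringChar.eq F 2)
    rw [hF] at this; have := Nat.odd_iff.mp hodd; omega
  set D := b - a ^ 2 / 4 with hD
  have h4 : (4 : F) ≠ 0 := by rw [show (4 : F) = 2 * 2 by norm_num]; exact mul_ne_zero h2 h2
  have hns : ¬ IsSquare (-D) := by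
    rintro ⟨r, hr⟩
    refine one_ne_zero (hab (r - a / 2) 1 ?_).2
    rw [hD] at hr
    field_simp at hr ⊢
    linear_combination -hr
  have hD0 : D ≠ 0 := fun h => hns (by rw [h, neg_zero]; exact IsSquare.zero)
  have hab' : 4 * b - a ^ 2 ≠ 0 := fun h => hD0 (by rw [hD]; field_simp; linear_combination h)
  set Q := minusForm k F a b
  have hc : Cfsg.quadFormMinus k F a b = ⇑Q := (minusForm_coe k a b).symm
  rw [hc]
  let e : (Fin k ⊕ Fin k) ⊕ Fin 2 → ((Fin k ⊕ Fin k) ⊕ Fin 2 → F) :=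
    Sum.elim (fun i => Sum.elim (pairVec i) 0) (fun j => Sum.elim 0 (![![1, 0], ![-a / 2, 1]] j))
  have hval : ∀ (x : Fin k ⊕ Fin k → F) (z : Fin 2 → F), Q (Sum.elim x z) =
      Cfsg.quadFormPlus k F x + (z 0 ^ 2 + a * z 0 * z 1 + b * z 1 ^ 2) := fun x z => by
    rw [← hc]; simp [Cfsg.quadFormMinus, Cfsg.quadFormPlus]
  have hadd : ∀ (x x' : Fin k ⊕ Fin k → F) (z z' : Fin 2 → F),
      Sum.elim x z + Sum.elim x' z' = Sum.elim (x + x') (z + z') := fun x x' z z' => by
    funext i; rcases i with i | i <;> rfl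
  have hpol : ∀ (x x' : Fin k ⊕ Fin k → F) (z z' : Fin 2 → F), QuadraticMap.polar (⇑Q) (Sum.elim x z) (Sum.elim x' z') =
      QuadraticMap.polar (Cfsg.quadFormPlus k F) x x' +
        (2 * z 0 * z' 0 + a * (z 0 * z' 1 + z 1 * z' 0) + 2 * b * z 1 * z' 1) := fun x x' z z' => by
    simp only [QuadraticMap.polar, hadd, hval, Pi.add_apply]
    ring
  have hp0 : ∀ x, QuadraticMap.polar (Cfsg.quadFormPlus k F) x 0 = 0 := fun x => by
    simp [QuadraticMap.polar, Cfsg.quadFormPlus]
  have hp0' : ∀ x, QuadraticMap.polar (Cfsg.quadFormPlus k F) 0 x = 0 := fun x => by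
    simp [QuadraticMap.polar, Cfsg.quadFormPlus]
  have hq0 : Cfsg.quadFormPlus k F 0 = 0 := by simp [Cfsg.quadFormPlus]
  have hQe : ∀ i, Q (e i) = Sum.elim (fun i => Cfsg.quadFormPlus k F (pairVec i)) ![1, D] i := by
    rintro (i | i)
    · simp [e, hval]
    · fin_cases i
      · simp [e, hval, hq0]
      · simp [e, hval, hq0, hD]; field_simp; ring
  rw [neg_one_omega_iff Q h2 (minusForm_nondegenerate h2 k hab') (by simp) (by simp [parity_simps]) e
    (fun i => by
      rw [hQe]
      rcases i with (i | i) | i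
      · simp [quadFormPlus_pairVec]
      · simp [quadFormPlus_pairVec]
      · fin_cases i <;> simp [hD0])
    (by
      rintro (i | i) (j | j) h
      · show QuadraticMap.polar (⇑Q) _ _ = 0
        simp only [e, Sum.elim_inl, hpol, polar_pairVec (fun h' => h (congrArg Sum.inl h'))]
        simp
      · show QuadraticMap.polar (⇑Q) _ _ = 0
        simp [e, hpol, hp0]
      · show QuadraticMap.polar (⇑Q) _ _ = 0
        simp [e, hpol, hp0']
      · show QuadraticMap.polar (⇑Q) _ _ = 0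
        fin_cases i <;> fin_cases j <;> simp [e, hpol, hp0] at h ⊢ <;> field_simp <;> ring) rfl]
  rw [show (∏ i, Q (e i)) = (-1 : F) ^ k * D by
    simp [hQe, Fintype.prod_sum_type, quadFormPlus_pairVec],
    show (-1 : F) ^ k * D = (-1) ^ (k + 1) * (-D) by ring, map_mul, quadraticChar_neg_one_iff_not_isSquare.mpr hns,
    quadraticChar_neg_one_pow h2, hF]
  rcases pow_mod_four hodd (k + 1) with h | h <;> simp [h]

end Cfsg.Lib.Classical.Refl
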