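import Mathlib
import Cfsg.Agent.Classical.Symp.SymEmbedding
import Cfsg.Agent.Classical.Orth.Orders
import Cfsg.Prelude.Def_Classical

/-! `O⁺_6(2)` is `S_8`. -/

set_option autoImplicit false
set_option linter.unusedSimpArgs false
set_option linter.style.haveILetI false

namespace Cfsg.Lib.Classical.SymEightOrth

open Equiv Matrix Cfsg.Lib.Classical.SymEmbedding

/-- The field with two elements. -/
local notation "B" => ZMod 2

/-- The coordinates turning half the weight into the hyperbolic form. -/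
def T : (Fin 3 ⊕ Fin 3 → B) ≃ₗ[B] (Fin 3 ⊕ Fin 3 → B) where
  toFun v := Sum.elim ![v (.inl 0) + v (.inr 0), v (.inl 1), v (.inl 0) + v (.inr 0) + v (.inr 2)]
    ![v (.inr 0) + v (.inl 2) + v (.inr 2), v (.inl 1) + v (.inr 1), v (.inl 2) + v (.inr 2)]
  invFun w := Sum.elim ![w (.inl 0) + w (.inr 0) + w (.inr 2), w (.inl 1), w (.inr 2) + w (.inl 0) + w (.inl 2)]
    ![w (.inr 0) + w (.inr 2), w (.inl 1) + w (.inr 1), w (.inl 2) + w (.inl 0)]
  map_add' u v := by ext (i | i) <;> fin_cases i <;> simp <;> ring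
  map_smul' c u := by ext (i | i) <;> fin_cases i <;> simp <;> ring
  left_inv v := by
    have h2 : ∀ a : B, a + a = 0 := by decide
    ext (i | i) <;> fin_cases i <;> simp <;> ring_nf <;> simp [show (2 : B) = 0 by decide]
  right_inv w := by
    ext (i | i) <;> fin_cases i <;> simp <;> ring_nf <;> simp [show (2 : B) = 0 by decide]

/-- Half the weight, modulo two. -/
def hw (y : Fin (2 * 3 + 2) → B) : B := (((Finset.univ.filter fun x => y x ≠ 0).card / 2 : ℕ) : B)

theorem hw_perm (σ : Perm (Fin (2 * 3 + 2))) (y : Fin (2 * 3 + 2) → B) : hw (perm σ y) = hw y := by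
  rw [hw, hw]
  congr 2
  refine Finset.card_equiv σ.symm fun x => ?_
  exact ⟨fun h => Finset.mem_filter.mpr ⟨Finset.mem_univ _, (Finset.mem_filter.mp h).2⟩,
    fun h => Finset.mem_filter.mpr ⟨Finset.mem_univ _, (Finset.mem_filter.mp h).2⟩⟩

theorem hw_add_one : ∀ y : Fin (2 * 3 + 2) → B, (∑ x, y x) = 0 → hw (y + 1) = hw y := by
  decide +kernel

theorem hw_T : ∀ v : Fin 3 ⊕ Fin 3 → B, hw (inc 3 (T v)) = Cfsg.quadFormPlus 3 B v := by
  decide +kernel

theorem hw_rho (σ : Perm (Fin (2 * 3 + 2))) (u : Fin 3 ⊕ Fin 3 → B) : hw (inc 3 (rho σ u)) = hw (inc 3 u) := by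
  obtain ⟨c, hc⟩ := exists_const _ (perm_even σ u)
  show hw (inc 3 (prj 3 (perm σ (inc 3 u)))) = _
  rw [hc]
  rcases (by decide : ∀ c : B, c = 0 ∨ c = 1) c with rfl | rfl
  · rw [zero_smul, add_zero, hw_perm]
  · rw [one_smul, hw_add_one _ (by simpa [dotProduct] using perm_even σ u), hw_perm]

/-- The representation in the hyperbolic coordinates. -/
def conj (σ : Perm (Fin (2 * 3 + 2))) : (Fin 3 ⊕ Fin 3 → B) →ₗ[B] (Fin 3 ⊕ Fin 3 → B) :=
  T.symm.toLinearMap.comp ((rho σ).comp T.toLinearMap)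

theorem conj_form (σ : Perm (Fin (2 * 3 + 2))) (v : Fin 3 ⊕ Fin 3 → B) :
    Cfsg.quadFormPlus 3 B (conj σ v) = Cfsg.quadFormPlus 3 B v := by
  rw [← hw_T, ← hw_T]
  show hw (inc 3 (T (T.symm (rho σ (T v))))) = _
  rw [LinearEquiv.apply_symm_apply, hw_rho]

theorem conj_comp {R V : Type*} [CommRing R] [AddCommGroup V] [Module R V] (e : V ≃ₗ[R] V) (f g h : V →ₗ[R] V)
    (hh : h = f.comp g) : e.symm.toLinearMap.comp (h.comp e.toLinearMap) =
      (e.symm.toLinearMap.comp (f.comp e.toLinearMap)).comp (e.symm.toLinearMap.comp (g.comp e.toLinearMap)) := by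
  subst hh
  exact LinearMap.ext fun v => by simp

theorem conj_id {R V : Type*} [CommRing R] [AddCommGroup V] [Module R V] (e : V ≃ₗ[R] V) (h : V →ₗ[R] V)
    (hh : h = LinearMap.id) : e.symm.toLinearMap.comp (h.comp e.toLinearMap) = LinearMap.id := by
  subst hh
  exact LinearMap.ext fun v => by simp

/-- The representation by matrices. -/
noncomputable def mat : Perm (Fin (2 * 3 + 2)) →* Matrix (Fin 3 ⊕ Fin 3) (Fin 3 ⊕ Fin 3) B where
  toFun σ := LinearMap.toMatrix' (conj σ)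
  map_one' := (congrArg LinearMap.toMatrix' (conj_id T (rho 1) rho_one)).trans LinearMap.toMatrix'_id
  map_mul' σ τ := (congrArg LinearMap.toMatrix' (conj_comp T (rho σ) (rho τ) (rho (σ * τ)) (rho_mul σ τ))).trans
    (LinearMap.toMatrix'_comp _ _)

theorem mat_injective : Function.Injective mat := by
  intro σ τ h
  have h1 : conj σ = conj τ := LinearMap.toMatrix'.injective h
  have h2 : rho σ = rho τ := LinearMap.ext fun u => by
    have h3 := congrArg T (LinearMap.congr_fun h1 (T.symm u))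
    simpa [conj] using h3
  refine embed_injective (k := 3) (by norm_num) (Subtype.ext ?_)
  show LinearMap.toMatrix' (rho σ) = LinearMap.toMatrix' (rho τ)
  rw [h2]

theorem mat_form (σ : Perm (Fin (2 * 3 + 2))) (v : Fin 3 ⊕ Fin 3 → B) :
    Cfsg.quadFormPlus 3 B (mat σ *ᵥ v) = Cfsg.quadFormPlus 3 B v :=
  (congrArg (Cfsg.quadFormPlus 3 B) (LinearMap.toMatrix'_mulVec (conj σ) v)).trans (conj_form σ v)

theorem quadFormPlus_map {F : Type*} [Field F] (e : B →+* F) (v : Fin 3 ⊕ Fin 3 → B) :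
    Cfsg.quadFormPlus 3 F (fun i => e (v i)) = e (Cfsg.quadFormPlus 3 B v) := by
  simp [Cfsg.quadFormPlus, map_sum]

theorem equiv {F : Type*} [Field F] [Fintype F] (hF : Fintype.card F = 2) :
    Nonempty (↥(Cfsg.isometryGroup F (Cfsg.quadFormPlus 3 F)) ≃* Perm (Fin 8)) := by
  let e : B ≃+* F := FiniteField.ringEquivOfCardEq (by rw [hF, ZMod.card])
  let f : Perm (Fin (2 * 3 + 2)) →* GL (Fin 3 ⊕ Fin 3) F :=
    (e.toRingHom.mapMatrix.toMonoidHom.comp mat).toHomUnits
  have hfval : ∀ σ, ((f σ : GL (Fin 3 ⊕ Fin 3) F) : Matrix (Fin 3 ⊕ Fin 3) (Fin 3 ⊕ Fin 3) F) =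
      (mat σ).map e := fun σ => rfl
  have hmem : ∀ σ, f σ ∈ Cfsg.isometryGroup F (Cfsg.quadFormPlus 3 F) := by
    intro σ u _
    show Cfsg.quadFormPlus 3 F ((f σ).val *ᵥ u) = Cfsg.quadFormPlus 3 F u
    obtain ⟨v, rfl⟩ : ∃ v : Fin 3 ⊕ Fin 3 → B, (fun i => e (v i)) = u :=
      ⟨fun i => e.symm (u i), funext fun i => e.apply_symm_apply _⟩
    have hmul : (f σ).val *ᵥ (fun i => e (v i)) = fun i => e ((mat σ *ᵥ v) i) := by
      funext i
      rw [hfval]
      exact (RingHom.map_mulVec e.toRingHom (mat σ) v i).symm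
    refine (congrArg (Cfsg.quadFormPlus 3 F) hmul).trans ?_
    refine (quadFormPlus_map e.toRingHom (mat σ *ᵥ v)).trans (Eq.trans ?_ (quadFormPlus_map e.toRingHom v).symm)
    exact congrArg e.toRingHom (mat_form σ v)
  let g : Perm (Fin (2 * 3 + 2)) →* Cfsg.isometryGroup F (Cfsg.quadFormPlus 3 F) := f.codRestrict _ hmem
  have hg : Function.Injective g := fun a b h => mat_injective (Matrix.map_injective e.injective (by
    have h' := congrArg (fun x : GL (Fin 3 ⊕ Fin 3) F => x.val) (congrArg Subtype.val h)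
    simpa only [g, MonoidHom.codRestrict_apply, hfval] using h'))
  refine ⟨(MulEquiv.ofBijective g ((Nat.bijective_iff_injective_and_card g).mpr ⟨hg, ?_⟩)).symm⟩
  rw [Cfsg.Lib.Classical.OrthCard.card_plus (F := F) 2, Nat.card_eq_fintype_card (α := F), hF, Nat.card_perm, Nat.card_fin]
  decide

end Cfsg.Lib.Classical.SymEightOrth
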