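import Mathlib
import Cfsg.Agent.Classical.Misc.SymEightOrth
import Cfsg.Agent.Classical.Misc.SmallPSL
import Cfsg.Agent.Classical.SL

/-! `PSL_4(2)` is `A_8`, through the exterior square. -/

set_option autoImplicit false
set_option linter.unusedSimpArgs false
set_option linter.style.haveILetI false

namespace Cfsg.Lib.Classical.PSLFourTwo

open Matrix

universe u

variable {F : Type u} [Field F]

/-- The pairs labelling the coordinates of the exterior square. -/
def pr : Fin 3 ⊕ Fin 3 → Fin 4 × Fin 4 :=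
  Sum.elim ![(0, 1), (0, 2), (0, 3)] ![(2, 3), (3, 1), (1, 2)]

/-- A two-by-two minor. -/
def minor (g : Matrix (Fin 4) (Fin 4) F) (p r : Fin 4 × Fin 4) : F :=
  g p.1 r.1 * g p.2 r.2 - g p.1 r.2 * g p.2 r.1

/-- The exterior square. -/
def ext2 (g : Matrix (Fin 4) (Fin 4) F) : Matrix (Fin 3 ⊕ Fin 3) (Fin 3 ⊕ Fin 3) F :=
  Matrix.of fun p r => minor g (pr p) (pr r)

theorem minor_mul (g h : Matrix (Fin 4) (Fin 4) F) (p r : Fin 4 × Fin 4) :
    minor (g * h) p r = ∑ s, minor g p (pr s) * minor h (pr s) r := by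
  simp [minor, pr, Matrix.mul_apply, Fintype.sum_sum_type, Fin.sum_univ_three, Fin.sum_univ_four]
  ring

theorem ext2_mul (g h : Matrix (Fin 4) (Fin 4) F) : ext2 (g * h) = ext2 g * ext2 h := by
  ext p r
  rw [Matrix.mul_apply]
  exact minor_mul g h (pr p) (pr r)

theorem ext2_one : ext2 (1 : Matrix (Fin 4) (Fin 4) F) = 1 := by
  ext (i | i) (j | j) <;> fin_cases i <;> fin_cases j <;> simp [ext2, minor, pr, Matrix.one_apply]

theorem det_four (g : Matrix (Fin 4) (Fin 4) F) : g.det =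
    minor g (0, 1) (0, 1) * minor g (2, 3) (2, 3) - minor g (0, 1) (0, 2) * minor g (2, 3) (1, 3)
    + minor g (0, 1) (0, 3) * minor g (2, 3) (1, 2) + minor g (0, 1) (1, 2) * minor g (2, 3) (0, 3)
    - minor g (0, 1) (1, 3) * minor g (2, 3) (0, 2) + minor g (0, 1) (2, 3) * minor g (2, 3) (0, 1) := by
  simp [Matrix.det_succ_row_zero, Fin.sum_univ_succ, Fin.succAbove, minor]
  ring

theorem ext2_form (g : Matrix (Fin 4) (Fin 4) F) (v : Fin 3 ⊕ Fin 3 → F) :
    Cfsg.quadFormPlus 3 F (ext2 g *ᵥ v) = g.det * Cfsg.quadFormPlus 3 F v := by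
  rw [det_four]
  simp [Cfsg.quadFormPlus, Matrix.mulVec, dotProduct, ext2, minor, pr, Fintype.sum_sum_type, Fin.sum_univ_three]
  ring

/-- The exterior square as a homomorphism into the orthogonal group. -/
def hom : SpecialLinearGroup (Fin 4) F →* Cfsg.isometryGroup F (Cfsg.quadFormPlus 3 F) :=
  (({ toFun := fun g => ext2 (g : Matrix (Fin 4) (Fin 4) F)
      map_one' := by rw [Matrix.SpecialLinearGroup.coe_one, ext2_one]
      map_mul' := fun g h => by rw [Matrix.SpecialLinearGroup.coe_mul, ext2_mul] } :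
    SpecialLinearGroup (Fin 4) F →* Matrix (Fin 3 ⊕ Fin 3) (Fin 3 ⊕ Fin 3) F).toHomUnits).codRestrict _
    fun g => fun u _ => by
      show Cfsg.quadFormPlus 3 F (ext2 (g : Matrix (Fin 4) (Fin 4) F) *ᵥ u) = _
      rw [ext2_form, g.2, one_mul]

theorem equiv [Fintype F] (hF : Fintype.card F = 2) :
    Nonempty (ProjectiveSpecialLinearGroup (Fin 4) F ≃* alternatingGroup (Fin 8)) := by
  classical
  obtain ⟨φ⟩ := SymEightOrth.equiv hF
  have hN : Nat.card F = 2 := by rw [Nat.card_eq_fintype_card, hF]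
  have hbot : Subgroup.center (SpecialLinearGroup (Fin 4) F) = ⊥ := by
    rw [← Subgroup.card_eq_one, Cfsg.Lib.Classical.card_center_SL, hN]
    rfl
  let π := QuotientGroup.mk' (Subgroup.center (SpecialLinearGroup (Fin 4) F))
  have hπ : Function.Bijective π := ⟨by rw [← MonoidHom.ker_eq_bot_iff, QuotientGroup.ker_mk', hbot],
    QuotientGroup.mk'_surjective _⟩
  let e : SpecialLinearGroup (Fin 4) F ≃* ProjectiveSpecialLinearGroup (Fin 4) F := MulEquiv.ofBijective π hπ
  have hsimp := Cfsg.Lib.Classical.isSimpleGroup_PSL_fin (F := F) (n := 4) (by norm_num) (by omega)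
  let f : ProjectiveSpecialLinearGroup (Fin 4) F →* Cfsg.isometryGroup F (Cfsg.quadFormPlus 3 F) :=
    hom.comp e.symm.toMonoidHom
  have hf : Function.Injective f := by
    rw [← MonoidHom.ker_eq_bot_iff]
    refine (hsimp.eq_bot_or_eq_top_of_normal _ inferInstance).resolve_right fun h => ?_
    let t : SpecialLinearGroup (Fin 4) F := ⟨Matrix.transvection 0 1 1, Matrix.det_transvection_of_ne _ _ (by decide) _⟩
    have h1 : e t ∈ f.ker := h ▸ Subgroup.mem_top _
    rw [MonoidHom.mem_ker] at h1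
    simp only [f, MonoidHom.comp_apply, MulEquiv.coe_toMonoidHom, MulEquiv.symm_apply_apply] at h1
    have h2 : ext2 (Matrix.transvection (0 : Fin 4) 1 (1 : F)) (Sum.inl 1) (Sum.inr 2) =
        (1 : Matrix (Fin 3 ⊕ Fin 3) (Fin 3 ⊕ Fin 3) F) (Sum.inl 1) (Sum.inr 2) :=
      congrArg (fun x : Matrix (Fin 3 ⊕ Fin 3) (Fin 3 ⊕ Fin 3) F => x (Sum.inl 1) (Sum.inr 2))
        (congrArg Units.val (congrArg Subtype.val h1))
    simp [ext2, minor, pr, Matrix.transvection, Matrix.one_apply, Matrix.single_apply] at h2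
  refine SmallPSL.alt_iso (Ω := Fin 8) (n := 8) (Nat.card_fin 8) (φ.toMonoidHom.comp f)
    (φ.injective.comp hf) ?_
  have hc := Cfsg.Lib.Classical.card_SL_mul_eq_prod (F := F) (n := 4) (by norm_num)
  rw [Nat.card_congr e.toEquiv.symm]
  norm_num [Fin.prod_univ_four, hF, Nat.factorial, -Nat.card_eq_fintype_card] at hc ⊢
  omega

end Cfsg.Lib.Classical.PSLFourTwo
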