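import Mathlib
import Cfsg.Agent.Classical.SL
import Cfsg.Agent.Classical.Unitary.UThreeTwo

/-! Involutions and elements of order five in `PSL_3(4)`. -/

set_option autoImplicit false
set_option linter.unusedSimpArgs false
set_option linter.style.haveILetI false

namespace Cfsg.Lib.Classical.PSLThreeFour

open Matrix Cfsg.Lib.Classical.UThreeTwo

universe u

variable {F : Type u} [Field F]

theorem exists_transv_basis [CharP F 2] (g : SpecialLinearGroup (Fin 3) F) (hg : g ^ 2 = 1) (h1 : g ≠ 1) :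
    ∃ P : SpecialLinearGroup (Fin 3) F,
      g * P = P * SpecialLinearGroup.transvection (show (0 : Fin 3) ≠ 1 by decide) (1 : F) := by
  classical
  set N : Matrix (Fin 3) (Fin 3) F := (g : Matrix (Fin 3) (Fin 3) F) - 1 with hN
  have hgg : (g : Matrix (Fin 3) (Fin 3) F) * g = 1 := by
    rw [← Matrix.SpecialLinearGroup.coe_mul, ← pow_two, hg, Matrix.SpecialLinearGroup.coe_one]
  have hNN : N * N = 0 := by
    have h2 : (2 : F) = 0 := CharTwo.two_eq_zero
    rw [hN, sub_mul, mul_sub, mul_sub, hgg, one_mul, mul_one, one_mul]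
    ext i j
    simp only [Matrix.sub_apply, Matrix.zero_apply]
    linear_combination (((1 : Matrix (Fin 3) (Fin 3) F) i j) - (g : Matrix (Fin 3) (Fin 3) F) i j) * h2
  set L := Matrix.toLin' N with hL
  have hle : LinearMap.range L ≤ LinearMap.ker L := by
    rintro _ ⟨x, rfl⟩
    rw [LinearMap.mem_ker, hL, ← LinearMap.comp_apply, ← Matrix.toLin'_mul, hNN, map_zero, LinearMap.zero_apply]
  obtain ⟨w, hw⟩ : ∃ w, L w ≠ 0 := by
    by_contra hcon
    push Not at hcon
    apply h1
    have hN0 : N = 0 := Matrix.toLin'.injective (by rw [map_zero]; exact LinearMap.ext fun x => hcon x)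
    exact Subtype.ext (sub_eq_zero.mp (hN ▸ hN0))
  have hker : 2 ≤ Module.finrank F (LinearMap.ker L) := by
    have e := L.finrank_range_add_finrank_ker
    rw [Module.finrank_fin_fun] at e
    have := Submodule.finrank_mono hle
    omega
  obtain ⟨z, hz, hzu⟩ : ∃ z ∈ LinearMap.ker L, z ∉ Submodule.span F {L w} := by
    by_contra hcon
    push Not at hcon
    have := Submodule.finrank_mono (show LinearMap.ker L ≤ Submodule.span F {L w} from hcon)
    rw [finrank_span_singleton hw] at this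
    omega
  let cols : F → Fin 3 → (Fin 3 → F) := fun c => ![L w, w, c • z]
  have hindep : LinearIndependent F (cols 1) := by
    rw [Fintype.linearIndependent_iff]
    intro a ha
    simp only [cols, Fin.sum_univ_three, Matrix.cons_val_zero, Matrix.cons_val_one, Matrix.head_cons,
      Matrix.cons_val_two, Matrix.tail_cons, one_smul] at ha
    have hb := congrArg L ha
    simp only [map_add, map_smul, map_zero, LinearMap.mem_ker.mp hz, LinearMap.mem_ker.mp (hle ⟨w, rfl⟩),
      smul_zero, zero_add, add_zero] at hb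
    have a1 : a 1 = 0 := (smul_eq_zero.mp hb).resolve_right hw
    rw [a1, zero_smul, add_zero] at ha
    have a2 : a 2 = 0 := by
      by_contra hne
      refine hzu (Submodule.mem_span_singleton.mpr ⟨-((a 2)⁻¹ * a 0), ?_⟩)
      have h' : z = -((a 2)⁻¹ • (a 0 • L w)) := by
        rw [eq_neg_of_add_eq_zero_left ha, smul_neg, neg_neg, smul_smul, inv_mul_cancel₀ hne, one_smul]
      rw [h', neg_smul, smul_smul]
    rw [a2, zero_smul, add_zero] at ha
    have a0 : a 0 = 0 := (smul_eq_zero.mp ha).resolve_right hw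
    intro i
    fin_cases i
    · exact a0
    · exact a1
    · exact a2
  let P : F → Matrix (Fin 3) (Fin 3) F := fun c => Matrix.of fun i j => cols c j i
  have hd : (P 1).det ≠ 0 :=
    ((Matrix.isUnit_iff_isUnit_det _).mp ((Matrix.linearIndependent_cols_iff_isUnit (A := P 1)).mp hindep)).ne_zero
  have hdet : (P ((P 1).det)⁻¹).det = 1 := by
    have e : (P ((P 1).det)⁻¹).det = ((P 1).det)⁻¹ * (P 1).det := by
      generalize ((P 1).det)⁻¹ = c
      simp [P, cols, Matrix.det_fin_three]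
      ring
    rw [e, inv_mul_cancel₀ hd]
  refine ⟨⟨P ((P 1).det)⁻¹, hdet⟩, Subtype.ext ?_⟩
  show (g : Matrix (Fin 3) (Fin 3) F) * P ((P 1).det)⁻¹ = P ((P 1).det)⁻¹ * Matrix.transvection 0 1 1
  generalize ((P 1).det)⁻¹ = c
  have hg' : (g : Matrix (Fin 3) (Fin 3) F) = 1 + N := by rw [hN]; abel
  have hcol : ∀ j i, (N * P c) i j = L (cols c j) i := fun j i => by
    simp [hL, Matrix.toLin'_apply, Matrix.mulVec, dotProduct, Matrix.mul_apply, P]
  rw [hg', add_mul, one_mul, Matrix.transvection, mul_add, mul_one]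
  congr 1
  ext i j
  rw [hcol]
  fin_cases j <;> simp [cols, Matrix.mul_apply, Fin.sum_univ_three, Matrix.single_apply, P,
    LinearMap.mem_ker.mp (hle ⟨w, rfl⟩), LinearMap.mem_ker.mp hz]

theorem isConj_involutions [Fintype F] (hF : Fintype.card F = 4)
    (x y : ProjectiveSpecialLinearGroup (Fin 3) F) (hx : orderOf x = 2) (hy : orderOf y = 2) : _root_.IsConj x y := by
  obtain ⟨_, -⟩ := exists_omega hF
  let π := QuotientGroup.mk' (Subgroup.center (SpecialLinearGroup (Fin 3) F))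
  have hlift : ∀ z : ProjectiveSpecialLinearGroup (Fin 3) F, orderOf z = 2 →
      ∃ g, π g = z ∧ g ^ 2 = 1 ∧ g ≠ 1 := by
    intro z hz
    obtain ⟨g, rfl⟩ := QuotientGroup.mk'_surjective _ z
    have hz2 : (g ^ 2 : SpecialLinearGroup (Fin 3) F) ∈ Subgroup.center _ := (QuotientGroup.eq_one_iff _).mp (by
      show π (g ^ 2) = 1
      rw [map_pow, ← hz, pow_orderOf_eq_one])
    have hc3 : (g ^ 2) ^ 3 = 1 := by
      have h : (⟨g ^ 2, hz2⟩ : Subgroup.center (SpecialLinearGroup (Fin 3) F)) ^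
          Nat.card (Subgroup.center (SpecialLinearGroup (Fin 3) F)) = 1 := pow_card_eq_one'
      rw [Cfsg.Lib.Classical.card_center_SL, Nat.card_eq_fintype_card, hF] at h
      exact congrArg Subtype.val h
    refine ⟨g * g ^ 2, ?_, ?_, fun h => ?_⟩
    · rw [map_mul, show π (g ^ 2) = 1 from (QuotientGroup.eq_one_iff _).mpr hz2, mul_one]
    · rw [← pow_succ', ← pow_mul, ← hc3, ← pow_mul]
    · have h' : π g = 1 := by
        have e1 : π (g ^ 2) = 1 := (QuotientGroup.eq_one_iff _).mpr hz2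
        calc π g = π g * π (g ^ 2) := by rw [e1, mul_one]
          _ = 1 := by rw [← map_mul, h, map_one]
      rw [h', orderOf_one] at hz
      omega
  obtain ⟨g, rfl, hg2, hg1⟩ := hlift x hx
  obtain ⟨h, rfl, hh2, hh1⟩ := hlift y hy
  obtain ⟨P, hP⟩ := exists_transv_basis g hg2 hg1
  obtain ⟨Q, hQ⟩ := exists_transv_basis h hh2 hh1
  refine π.map_isConj (_root_.isConj_iff.mpr ⟨Q * P⁻¹, ?_⟩)
  have e1 : P⁻¹ * g * P = SpecialLinearGroup.transvection (show (0 : Fin 3) ≠ 1 by decide) (1 : F) := by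
    rw [mul_assoc, hP, inv_mul_cancel_left]
  calc Q * P⁻¹ * g * (Q * P⁻¹)⁻¹ = Q * (P⁻¹ * g * P) * Q⁻¹ := by group
    _ = h := by rw [e1, ← hQ, mul_inv_cancel_right]

/-- The code of an element of order five. -/
def mX : Code := !![1, 0, 0; 0, 0, 1; 0, 1, 2]

theorem mX_facts : cdet mX = 1 ∧ cpow mX 5 = scal 1 ∧ mX ≠ scal 1 := by decide +kernel

theorem row_zero : ∀ a b : Fin 4, a = b → cadd a (cmul b 2) = b → a = 0 ∧ b = 0 := by decide +kernel

theorem block_power : ∀ a b c d e : Fin 4,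
    mmul !![a, 0, 0; 0, b, c; 0, d, e] mX = mmul mX !![a, 0, 0; 0, b, c; 0, d, e] →
    cdet !![a, 0, 0; 0, b, c; 0, d, e] = 1 → ∃ s, cpow !![a, 0, 0; 0, b, c; 0, d, e] 5 = scal s := by
  decide +kernel

theorem entry_facts : ∀ a b : Fin 4,
    cadd (cadd (cmul a 0) (cmul b 0)) (cmul 0 0) = 0 ∧ cmul 1 a = a ∧ cmul 0 a = 0 ∧ cmul a 1 = a ∧ cmul a 0 = 0 ∧
      cadd 0 a = a ∧ cadd a 0 = a ∧ cadd a b = cadd b a ∧ cmul a b = cmul b a := by decide +kernel

theorem centraliser_power (M : Code) (h : mmul M mX = mmul mX M) (hd : cdet M = 1) :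
    ∃ s, cpow M 5 = scal s := by
  have e := fun i j => congrFun (congrFun h i) j
  have h01 := e 0 1
  have h02 := e 0 2
  have h10 := e 1 0
  have h20 := e 2 0
  simp [mmul, mX, (entry_facts _ 0).2] at h01 h02 h10 h20
  obtain ⟨r1, r2⟩ := row_zero (M 0 1) (M 0 2) h01.symm h02
  obtain ⟨c1, c2⟩ := row_zero (M 1 0) (M 2 0) h10 (by rw [(entry_facts (M 2 0) 2).2.2.2.2.2.2.2.2]; exact h20.symm)
  have hM : M = !![M 0 0, 0, 0; 0, M 1 1, M 1 2; 0, M 2 1, M 2 2] := by
    ext i j
    fin_cases i <;> fin_cases j <;> simp [r1, r2, c1, c2]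
  rw [hM] at h hd ⊢
  exact block_power _ _ _ _ _ h hd

theorem no_fifteen [Fintype F] (hF : Fintype.card F = 4) (x : ProjectiveSpecialLinearGroup (Fin 3) F) :
    orderOf x ≠ 15 := by
  classical
  obtain ⟨_, ω, hω⟩ := exists_omega hF
  intro hx
  haveI : Fact (Nat.Prime 5) := ⟨by norm_num⟩
  let π := QuotientGroup.mk' (Subgroup.center (SpecialLinearGroup (Fin 3) F))
  have hsurj : Function.Surjective (ev ω) := (Fintype.bijective_iff_injective_and_card (ev ω)).mpr
    ⟨ev_injective hω, by rw [hF]; rfl⟩ |>.2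
  obtain ⟨g, hgx⟩ := QuotientGroup.mk'_surjective (Subgroup.center (SpecialLinearGroup (Fin 3) F)) x
  change π g = x at hgx
  have hN : Nat.card F = 4 := by rw [Nat.card_eq_fintype_card, hF]
  have hcard : Nat.card (SpecialLinearGroup (Fin 3) F) = 60480 := by
    have hc := Cfsg.Lib.Classical.card_SL_mul_eq_prod (F := F) (n := 3) (by norm_num)
    norm_num [Fin.prod_univ_three, hF, -Nat.card_eq_fintype_card] at hc ⊢
    omega
  have hg15 : (g ^ 15) ^ 3 = 1 := by
    have hz : g ^ 15 ∈ Subgroup.center (SpecialLinearGroup (Fin 3) F) := (QuotientGroup.eq_one_iff _).mp (by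
      show π (g ^ 15) = 1
      rw [map_pow, hgx, ← hx, pow_orderOf_eq_one])
    have h : (⟨g ^ 15, hz⟩ : Subgroup.center (SpecialLinearGroup (Fin 3) F)) ^
        Nat.card (Subgroup.center (SpecialLinearGroup (Fin 3) F)) = 1 := pow_card_eq_one'
    rw [Cfsg.Lib.Classical.card_center_SL, hN] at h
    exact congrArg Subtype.val h
  set k := g ^ 18 with hk
  have hk5 : k ^ 5 = 1 := by
    rw [hk, ← pow_mul, show (18 : ℕ) * 5 = 15 * 3 * 2 by norm_num, pow_mul, pow_mul, hg15, one_pow]
  have hk1 : k ≠ 1 := fun h => by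
    have : x ^ 18 = 1 := by rw [← hgx, ← map_pow, ← hk, h, map_one]
    rw [← orderOf_dvd_iff_pow_eq_one, hx] at this
    omega
  let k0 : SpecialLinearGroup (Fin 3) F := ⟨mX.map (ev ω), by rw [det_map hω, mX_facts.1]; rfl⟩
  have hcpow : ∀ (M : Code) (G : SpecialLinearGroup (Fin 3) F), (G : Matrix (Fin 3) (Fin 3) F) = M.map (ev ω) →
      ∀ n, ((G ^ n : SpecialLinearGroup (Fin 3) F) : Matrix (Fin 3) (Fin 3) F) = (cpow M n).map (ev ω) := by
    intro M G hG n
    induction n with
    | zero => rw [pow_zero, Matrix.SpecialLinearGroup.coe_one, cpow, map_scal_one hω]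
    | succ n ih => rw [pow_succ, Matrix.SpecialLinearGroup.coe_mul, ih, hG, cpow, map_mmul hω]
  have h05 : k0 ^ 5 = 1 := Subtype.ext (by
    rw [hcpow mX k0 rfl, mX_facts.2.1, map_scal_one hω]; rfl)
  have h01 : k0 ≠ 1 := fun h => mX_facts.2.2 (Matrix.map_injective (ev_injective hω) (by
    show mX.map (ev ω) = (scal 1).map (ev ω)
    rw [map_scal_one hω]; exact congrArg Subtype.val h))
  have hsyl : ∀ a : SpecialLinearGroup (Fin 3) F, a ^ 5 = 1 → a ≠ 1 →
      ∃ S : Sylow 5 (SpecialLinearGroup (Fin 3) F), S.toSubgroup = Subgroup.zpowers a := by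
    intro a ha ha1
    refine ⟨Sylow.ofCard (Subgroup.zpowers a) ?_, rfl⟩
    rw [Nat.card_zpowers, orderOf_eq_prime ha ha1, hcard]
    rw [show (60480 : ℕ) = 5 * 12096 by norm_num, Nat.factorization_mul (by norm_num) (by norm_num)]
    simp [Nat.Prime.factorization_self (by norm_num : Nat.Prime 5),
      Nat.factorization_eq_zero_of_not_dvd (by norm_num : ¬ (5 ∣ 12096))]
  obtain ⟨S, hS⟩ := hsyl k hk5 hk1
  obtain ⟨T, hT⟩ := hsyl k0 h05 h01
  obtain ⟨c, hc⟩ := MulAction.exists_smul_eq (SpecialLinearGroup (Fin 3) F) S T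
  set g' := c * g * c⁻¹ with hg'
  have hcomm : Commute g' k0 := by
    have hmem : k0 ∈ (c • S : Sylow 5 (SpecialLinearGroup (Fin 3) F)).toSubgroup := by
      rw [hc, hT]; exact Subgroup.mem_zpowers _
    rw [Sylow.smul_def, Sylow.pointwise_smul_def, Subgroup.mem_pointwise_smul_iff_inv_smul_mem, hS,
      Subgroup.mem_zpowers_iff] at hmem
    obtain ⟨j, hj⟩ := hmem
    have hj' : k0 = c * k ^ j * c⁻¹ := by
      rw [hj]
      simp [MulAut.smul_def, ← map_inv, MulAut.conj_apply]
      group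
    rw [hj', hg']
    have hgk : Commute g (k ^ j) := (Commute.pow_right (Commute.refl g) 18).zpow_right j
    show c * g * c⁻¹ * (c * k ^ j * c⁻¹) = c * k ^ j * c⁻¹ * (c * g * c⁻¹)
    calc c * g * c⁻¹ * (c * k ^ j * c⁻¹) = c * (g * k ^ j) * c⁻¹ := by group
      _ = c * (k ^ j * g) * c⁻¹ := by rw [hgk.eq]
      _ = _ := by group
  choose f hf using hsurj
  let M : Code := (g' : Matrix (Fin 3) (Fin 3) F).map f
  have hM : (g' : Matrix (Fin 3) (Fin 3) F) = M.map (ev ω) := by
    ext i j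
    simp [M, hf]
  have hMX : mmul M mX = mmul mX M := Matrix.map_injective (ev_injective hω) (by
    show (mmul M mX).map (ev ω) = (mmul mX M).map (ev ω)
    rw [map_mmul hω, map_mmul hω, ← hM]
    exact congrArg Subtype.val hcomm.eq)
  have hMd : cdet M = 1 := ev_injective hω (by rw [← det_map hω, ← hM, g'.2]; rfl)
  obtain ⟨s, hs⟩ := centraliser_power M hMX hMd
  have hcen : g' ^ 5 ∈ Subgroup.center (SpecialLinearGroup (Fin 3) F) := by
    rw [Subgroup.mem_center_iff]
    intro A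
    refine Subtype.ext ?_
    rw [Matrix.SpecialLinearGroup.coe_mul, Matrix.SpecialLinearGroup.coe_mul, hcpow M g' hM, hs, map_scal hω]
    exact ((Matrix.scalar_commute (ev ω s) (fun r => mul_comm _ r) _).eq).symm
  have h5 : π (g' ^ 5) = 1 := (QuotientGroup.eq_one_iff _).mpr hcen
  rw [hg', conj_pow, map_mul, map_mul, map_inv, conj_eq_one_iff, map_pow, hgx] at h5
  rw [← orderOf_dvd_iff_pow_eq_one, hx] at h5
  omega

end Cfsg.Lib.Classical.PSLThreeFour
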