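import Mathlib
import Cfsg.Agent.Classical.Misc.SmallPSL

/-! `PSL₂(7) ≅ PSL₃(2)`: the linear part of an affine action on eight points. -/

set_option autoImplicit false
set_option linter.unusedSimpArgs false
set_option linter.style.haveILetI false

namespace Cfsg.Lib.Classical.PSLSeven

open Equiv Matrix
open scoped LinearAlgebra.Projectivization MatrixGroups

/-- Eight points. -/
abbrev V : Type := Fin 3 → ZMod 2

/-- The affine group of `V`. -/
def aff : Subgroup (Perm V) where
  carrier := {σ | ∀ x y, σ (x + y) + σ 0 = σ x + σ y}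
  one_mem' := fun x y => by simp
  mul_mem' := by
    intro σ τ hσ hτ x y
    simp only [Perm.mul_apply]
    have h1 := hσ (τ (x + y)) (τ 0)
    rw [hτ] at h1
    have h2 := hσ (τ x) (τ y)
    rw [← h1, h2]
  inv_mem' := by
    intro σ hσ x y
    apply σ.injective
    have e : ∀ a b : V, σ (a + b) = σ a + σ b - σ 0 := fun a b => eq_sub_of_add_eq (hσ a b)
    simp [e]

/-- The matrix of the linear part. -/
def lin (σ : Perm V) : Matrix (Fin 3) (Fin 3) (ZMod 2) := fun i j => σ (Pi.single j 1) i + σ 0 i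

theorem vec_cases : ∀ x : V, x = x 0 • Pi.single 0 1 + x 1 • Pi.single 1 1 + x 2 • Pi.single 2 1 := by decide

theorem lin_mulVec {σ : Perm V} (h : σ ∈ aff) (x : V) : lin σ *ᵥ x = σ x + σ 0 := by
  have hd : ∀ a : V, a + a = 0 := fun a => funext fun i => CharTwo.add_self_eq_zero (a i)
  let f : V →+ V :=
    { toFun := fun v => σ v + σ 0
      map_zero' := hd _
      map_add' := fun a b => by rw [h a b, add_add_add_comm, hd (σ 0), add_zero] }
  show lin σ *ᵥ x = f x
  have hf : ∀ (t : ZMod 2) (v : V), f (t • v) = t • f v := fun t v => by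
    rcases (by decide : ∀ t : ZMod 2, t = 0 ∨ t = 1) t with rfl | rfl <;> simp
  conv_rhs => rw [vec_cases x]
  rw [map_add, map_add, hf, hf, hf]
  funext i
  simp [Matrix.mulVec, dotProduct, Fin.sum_univ_three, lin, f]
  ring

/-- The linear part as a homomorphism. -/
def linHom : aff →* Matrix (Fin 3) (Fin 3) (ZMod 2) where
  toFun σ := lin σ.1
  map_one' := by decide
  map_mul' σ τ := by
    apply Matrix.toLin'.injective
    refine LinearMap.ext fun x => ?_
    rw [Matrix.toLin'_apply, Matrix.toLin'_apply, ← Matrix.mulVec_mulVec, lin_mulVec (σ * τ).2, lin_mulVec τ.2,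
      lin_mulVec σ.2]
    show σ.1 (τ.1 x) + σ.1 (τ.1 0) = _
    rw [← σ.2 (τ.1 x) (τ.1 0)]

/-- The labelling of the line. -/
def lab : Option (ZMod 7) → V
  | none => ![0, 0, 0]
  | some a => match a.val with
    | 0 => ![1, 0, 0] | 1 => ![0, 1, 0] | 2 => ![0, 0, 1] | 3 => ![1, 1, 0]
    | 4 => ![0, 1, 1] | 5 => ![1, 1, 1] | _ => ![1, 0, 1]

theorem lab_inj : ∀ x y, lab x = lab y → x = y := by decide

theorem lab_surj : ∀ v, ∃ x, lab x = v := by decide

/-- `x ↦ -1/x`. -/
def moveW : Option (ZMod 7) → Option (ZMod 7)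
  | none => some 0
  | some a => if a = 0 then none else some (-a ^ 5)

/-- The linear map realising a translation. -/
def tMap (v : V) : V := ![v 2, v 0 + v 2, v 1]

/-- The affine map realising the inversion. -/
def wMap (v : V) : V := ![v 0 + 1, v 2, v 1]

theorem t_spec : Function.Bijective tMap ∧ (∀ x y, tMap (x + y) + tMap 0 = tMap x + tMap y) ∧
    ∀ x, tMap (lab x) = lab (Option.map (fun a => a + 1) x) := by
  refine ⟨⟨?_, ?_⟩, ?_, ?_⟩ <;> decide

theorem w_spec : Function.Bijective wMap ∧ (∀ x y, wMap (x + y) + wMap 0 = wMap x + wMap y) ∧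
    ∀ x, wMap (lab x) = lab (moveW x) := by
  refine ⟨⟨?_, ?_⟩, ?_, ?_⟩ <;> decide

theorem inv_spec : ∀ a : ZMod 7, a ≠ 0 → -a ^ 5 * a = -1 := by decide

universe u v

theorem psl_seven {F : Type u} {K : Type v} [Field F] [Fintype F] [Field K] [Fintype K]
    (hF : Fintype.card F = 7) (hK : Fintype.card K = 2) :
    Nonempty (ProjectiveSpecialLinearGroup (Fin 2) F ≃* ProjectiveSpecialLinearGroup (Fin 3) K) := by
  classical
  haveI : Fact (Nat.Prime 7) := ⟨by norm_num⟩
  let c : ZMod 7 ≃+* F := FiniteField.ringEquivOfCardEq (by rw [hF, ZMod.card])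
  let k : ZMod 2 ≃+* K := FiniteField.ringEquivOfCardEq (by rw [hK, ZMod.card])
  let pt : Option (ZMod 7) → ℙ F (Fin 2 → F) := fun o => match o with
    | none => Projectivization.mk F ![1, 0] (fun h => by simpa using congrFun h 0)
    | some p => Projectivization.mk F ![c p, 1] (fun h => by simpa using congrFun h 1)
  have hptinj : Function.Injective pt := by
    intro x y h
    match x, y with
    | none, none => rfl
    | none, some p =>
      obtain ⟨a, ha⟩ := (Projectivization.mk_eq_mk_iff' F _ _ _ _).mp h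
      have h0 := congrFun ha 0
      have h1 := congrFun ha 1
      simp at h0 h1
      exact absurd (by rw [← h0, h1, zero_mul] : (0 : F) = 1) zero_ne_one
    | some p, none =>
      obtain ⟨a, ha⟩ := (Projectivization.mk_eq_mk_iff' F _ _ _ _).mp h
      have h1 := congrFun ha 1
      simp at h1
    | some p, some r =>
      obtain ⟨a, ha⟩ := (Projectivization.mk_eq_mk_iff' F _ _ _ _).mp h
      have h0 := congrFun ha 0
      have h1 := congrFun ha 1
      simp at h0 h1
      rw [h1, one_mul] at h0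
      exact congrArg some (c.injective h0.symm)
  have hptbij : Function.Bijective pt := by
    refine (Nat.bijective_iff_injective_and_card pt).mpr ⟨hptinj, ?_⟩
    rw [Cfsg.Lib.Classical.SmallPSL.card_line hF]
    simp
  let e : V ≃ ℙ F (Fin 2 → F) := (Equiv.ofBijective lab ⟨lab_inj, lab_surj⟩).symm.trans (Equiv.ofBijective pt hptbij)
  have he : ∀ x, e (lab x) = pt x := fun x => by
    show Equiv.ofBijective pt hptbij ((Equiv.ofBijective lab ⟨lab_inj, lab_surj⟩).symm (lab x)) = pt x
    rw [(Equiv.symm_apply_eq _).mpr (rfl : lab x = Equiv.ofBijective lab ⟨lab_inj, lab_surj⟩ x)]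
    rfl
  let P := ProjectiveSpecialLinearGroup (Fin 2) F
  let Ψ : P →* Perm V := e.symm.permCongrHom.toMonoidHom.comp (MulAction.toPermHom P (ℙ F (Fin 2 → F)))
  have hΨ : Function.Injective Ψ := e.symm.permCongrHom.injective.comp Cfsg.Lib.Classical.SmallPSL.psl_injective
  let N : Subgroup (SpecialLinearGroup (Fin 2) F) := aff.comap (Ψ.comp (QuotientGroup.mk' _))
  have key : ∀ (g : SpecialLinearGroup (Fin 2) F) (m : V → V) (mv : Option (ZMod 7) → Option (ZMod 7)),
      (∀ x y, m (x + y) + m 0 = m x + m y) → (∀ x, m (lab x) = lab (mv x)) →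
      (∀ x, g • pt x = pt (mv x)) → g ∈ N ∧ ∀ x, Ψ (QuotientGroup.mk' _ g) x = m x := by
    intro g m mv hm hlab hg
    have heq : ∀ x, Ψ (QuotientGroup.mk' _ g) x = m x := fun x => by
      obtain ⟨o, rfl⟩ := lab_surj x
      show e.symm (g • e (lab o)) = m (lab o)
      rw [he, hg, hlab, ← he, Equiv.symm_apply_apply]
    refine ⟨fun x y => ?_, heq⟩
    simp only [MonoidHom.comp_apply, heq]
    exact hm x y
  have mk_eq : ∀ (g : SpecialLinearGroup (Fin 2) F) (v w : Fin 2 → F) (hv : v ≠ 0) (hw : w ≠ 0) (t : F),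
      t • w = (g : Matrix (Fin 2) (Fin 2) F) *ᵥ v → g • Projectivization.mk F v hv = Projectivization.mk F w hw :=
    fun g v w hv hw t h => (Projectivization.mk_eq_mk_iff' F _ _ _ _).mpr ⟨t, h⟩
  let E : F → SpecialLinearGroup (Fin 2) F := fun t => ⟨!![1, t; 0, 1], by simp [Matrix.det_fin_two]⟩
  let W : SpecialLinearGroup (Fin 2) F := ⟨!![0, -1; 1, 0], by simp [Matrix.det_fin_two]⟩
  have hEc : ∀ t, (E t : Matrix (Fin 2) (Fin 2) F) = !![1, t; 0, 1] := fun _ => rfl
  have hWc : (W : Matrix (Fin 2) (Fin 2) F) = !![0, -1; 1, 0] := rfl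
  have h1 := key (E 1) tMap _ t_spec.2.1 t_spec.2.2 fun x => by
    match x with
    | none => exact mk_eq _ _ _ _ _ 1 (by ext j; fin_cases j <;> simp [hEc, Matrix.mulVec, dotProduct, Fin.sum_univ_two])
    | some a =>
      exact mk_eq _ _ _ _ _ 1 (by
        ext j; fin_cases j <;> simp [hEc, Matrix.mulVec, dotProduct, Fin.sum_univ_two])
  have hW := key W wMap _ w_spec.2.1 w_spec.2.2 fun x => by
    match x with
    | none => exact mk_eq _ _ _ _ _ 1 (by ext j; fin_cases j <;> simp [hWc, Matrix.mulVec, dotProduct, Fin.sum_univ_two])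
    | some a =>
      by_cases hz : a = 0
      · subst hz
        exact mk_eq _ _ _ _ _ (-1) (by ext j; fin_cases j <;> simp [hWc, Matrix.mulVec, dotProduct, Fin.sum_univ_two])
      · simp only [moveW, if_neg hz]
        refine mk_eq _ _ _ _ _ (c a) ?_
        have hinv : c a * c (-a ^ 5) = -1 := by
          rw [← map_mul, mul_comm, inv_spec a hz, map_neg, map_one]
        ext j
        fin_cases j <;> simp [hWc, Matrix.mulVec, dotProduct, Fin.sum_univ_two] at hinv ⊢
        linear_combination hinv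
  have hE : ∀ t, E t ∈ N := by
    intro t
    obtain ⟨a, rfl⟩ := c.surjective t
    obtain ⟨n, rfl⟩ : ∃ n : ℕ, (n : ZMod 7) = a := ⟨a.val, ZMod.natCast_zmod_val a⟩
    rw [map_natCast]
    induction n with
    | zero =>
      rw [Nat.cast_zero, show E 0 = 1 from Subtype.ext (Matrix.one_fin_two).symm]
      exact N.one_mem
    | succ n ih =>
      rw [show E ((n + 1 : ℕ) : F) = E (n : F) * E 1 from Subtype.ext (by
        ext j l; fin_cases j <;> fin_cases l <;> simp [hEc, Matrix.SpecialLinearGroup.coe_mul, add_comm])]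
      exact N.mul_mem ih h1.1
  have htop : N = ⊤ := by
    apply Cfsg.Lib.Classical.eq_top_of_transvection_mem
    intro j l hjl t
    fin_cases j <;> fin_cases l <;> first | exact absurd rfl hjl | skip
    · convert hE t using 1
      refine Subtype.ext ?_
      ext r s
      fin_cases r <;> fin_cases s <;>
        simp [hEc, Matrix.SpecialLinearGroup.transvection, Matrix.transvection, Matrix.single]
    · convert N.mul_mem (N.mul_mem hW.1 (hE (-t))) (N.inv_mem hW.1) using 1
      refine Subtype.ext ?_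
      ext r s
      fin_cases r <;> fin_cases s <;>
        simp [hEc, hWc, Matrix.SpecialLinearGroup.coe_mul, Matrix.SpecialLinearGroup.transvection, Matrix.transvection,
          Matrix.single, Matrix.SpecialLinearGroup.coe_inv, Matrix.adjugate_fin_two]
  have hmem : ∀ g : P, Ψ g ∈ aff := fun g => by
    obtain ⟨g, rfl⟩ := QuotientGroup.mk_surjective g
    exact (htop ▸ Subgroup.mem_top g : g ∈ N)
  let L : P →* GL (Fin 3) (ZMod 2) := (linHom.comp (Ψ.codRestrict aff hmem)).toHomUnits
  let Lsl : P →* SpecialLinearGroup (Fin 3) (ZMod 2) :=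
    { toFun := fun g => ⟨(L g : Matrix (Fin 3) (Fin 3) (ZMod 2)),
        ((by decide : ∀ t : ZMod 2, t = 0 ∨ t = 1) _).resolve_left (GeneralLinearGroup.det (L g)).ne_zero⟩
      map_one' := Subtype.ext (by simp)
      map_mul' := fun a b => Subtype.ext (congrArg Units.val (map_mul L a b)) }
  let Θ : P →* ProjectiveSpecialLinearGroup (Fin 3) K :=
    (QuotientGroup.mk' _).comp ((SpecialLinearGroup.map k.toRingHom).comp Lsl)
  haveI : IsSimpleGroup P := Cfsg.Lib.Classical.isSimpleGroup_PSL_fin le_rfl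
    (fun _ => by rw [Nat.card_eq_fintype_card, hF]; norm_num)
  have hcent : Subgroup.center (SpecialLinearGroup (Fin 3) K) = ⊥ := by
    rw [← Subgroup.card_eq_one, Cfsg.Lib.Classical.card_center_SL, Nat.card_eq_fintype_card, hK]
    rfl
  have hΘ : Function.Injective Θ := by
    rw [← MonoidHom.ker_eq_bot_iff]
    refine Θ.normal_ker.eq_bot_or_eq_top.resolve_right fun h => ?_
    have h0 : Θ (QuotientGroup.mk' _ (E 1)) = 1 := by
      rw [← MonoidHom.mem_ker, h]; exact Subgroup.mem_top _
    have h2 : SpecialLinearGroup.map k.toRingHom (Lsl (QuotientGroup.mk' _ (E 1))) = 1 := by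
      rw [← Subgroup.mem_bot, ← hcent]
      exact (QuotientGroup.eq_one_iff _).mp h0
    have h3 : lin (Ψ (QuotientGroup.mk' _ (E 1))) 0 0 = 1 := by
      refine k.injective ?_
      rw [map_one]
      exact congrArg (fun M : SpecialLinearGroup (Fin 3) K => (M : Matrix (Fin 3) (Fin 3) K) 0 0) h2
    rw [lin, h1.2, h1.2] at h3
    exact absurd h3 (by decide)
  refine ⟨MulEquiv.ofBijective Θ ((Nat.bijective_iff_injective_and_card Θ).mpr ⟨hΘ, ?_⟩)⟩
  have h7 := Cfsg.Lib.Classical.SmallPSL.card_psl hF
  have h3' := Cfsg.Lib.Classical.gcd_mul_card_PSL (ι := Fin 3) (F := K)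
  have h3'' := Cfsg.Lib.Classical.card_SL_mul_eq_prod (F := K) (n := 3) (by norm_num)
  rw [Fintype.card_fin, Nat.card_eq_fintype_card (α := K), hK] at h3'
  rw [hK, Fin.prod_univ_three] at h3''
  norm_num [-Nat.card_eq_fintype_card] at h7 h3' h3''
  show Nat.card (ProjectiveSpecialLinearGroup (Fin 2) F) = Nat.card (ProjectiveSpecialLinearGroup (Fin 3) K)
  omega

end Cfsg.Lib.Classical.PSLSeven
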