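import Mathlib
import Cfsg.Agent.Classical.Misc.PSLFourGroupsMain

/-! Subfield subgroups of `PSL₂`. -/

set_option autoImplicit false
set_option linter.unusedSimpArgs false
set_option linter.unusedSectionVars false
set_option linter.style.haveILetI false

namespace Cfsg.Lib.Classical.PSLSubfield

open Matrix
open scoped MatrixGroups
open Cfsg.Lib.Classical.PSLFour

universe u v

variable {F : Type u} [Field F] {K : Type v} [Field K]

theorem mem_center_iff (g : SL(2, F)) : g ∈ Subgroup.center SL(2, F) ↔ g = 1 ∨ g = -1 := by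
  rw [← π_one_iff, ← MonoidHom.mem_ker, QuotientGroup.ker_mk']

theorem exists_psl (i : K →+* F) : ∃ H : Subgroup (Matrix.ProjectiveSpecialLinearGroup (Fin 2) F),
    Nonempty (H ≃* Matrix.ProjectiveSpecialLinearGroup (Fin 2) K) := by
  let ψ : SL(2, K) →* Matrix.ProjectiveSpecialLinearGroup (Fin 2) F :=
    π.comp (Matrix.SpecialLinearGroup.map i)
  have hinj : Function.Injective (Matrix.SpecialLinearGroup.map (n := Fin 2) i) := fun g h e => by
    refine Subtype.ext (Matrix.ext fun a b => i.injective ?_)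
    exact congrFun (congrFun (congrArg Subtype.val e) a) b
  have hneg : Matrix.SpecialLinearGroup.map (n := Fin 2) i (-1) = -1 := Subtype.ext (by
    ext a b
    fin_cases a <;> fin_cases b <;> simp)
  have hker : Subgroup.center SL(2, K) = ψ.ker := by
    ext g
    rw [mem_center_iff, MonoidHom.mem_ker, MonoidHom.comp_apply, π_one_iff]
    constructor
    · rintro (rfl | rfl)
      · exact Or.inl (map_one _)
      · exact Or.inr hneg
    · rintro (h | h)
      · exact Or.inl (hinj (h.trans (map_one _).symm))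
      · exact Or.inr (hinj (h.trans hneg.symm))
  exact ⟨ψ.range, ⟨((QuotientGroup.quotientMulEquivOfEq hker).trans
    (QuotientGroup.quotientKerEquivRange ψ)).symm⟩⟩

theorem exists_pgl (i : K →+* F) (hsq : ∀ x : K, ∃ r : F, r * r = i x) :
    ∃ H : Subgroup (Matrix.ProjectiveSpecialLinearGroup (Fin 2) F),
      Nonempty (H ≃* Matrix.ProjGenLinGroup (Fin 2) K) := by
  choose r hr using hsq
  have hr0 : ∀ g : GL (Fin 2) K, r (g : Matrix (Fin 2) (Fin 2) K).det ≠ 0 := fun g h0 => by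
    have h := hr (g : Matrix (Fin 2) (Fin 2) K).det
    rw [h0, zero_mul, eq_comm, map_eq_zero] at h
    exact (Matrix.GeneralLinearGroup.det g).ne_zero h
  let s : GL (Fin 2) K → SL(2, F) := fun g =>
    sl (i ((g : Matrix (Fin 2) (Fin 2) K) 0 0) / r (g : Matrix (Fin 2) (Fin 2) K).det)
      (i ((g : Matrix (Fin 2) (Fin 2) K) 0 1) / r (g : Matrix (Fin 2) (Fin 2) K).det)
      (i ((g : Matrix (Fin 2) (Fin 2) K) 1 0) / r (g : Matrix (Fin 2) (Fin 2) K).det)
      (i ((g : Matrix (Fin 2) (Fin 2) K) 1 1) / r (g : Matrix (Fin 2) (Fin 2) K).det) (by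
        have h0 := hr0 g
        field_simp
        rw [← map_mul, ← map_mul, ← map_sub, ← Matrix.det_fin_two, ← hr, pow_two])
  have hmul : ∀ g h, π (s (g * h)) = π (s g) * π (s h) := fun g h => by
    rw [← map_mul, π_eq_iff]
    have ha : (r (g : Matrix (Fin 2) (Fin 2) K).det) ≠ 0 := hr0 g
    have hb : (r (h : Matrix (Fin 2) (Fin 2) K).det) ≠ 0 := hr0 h
    have e : (r ((g : Matrix (Fin 2) (Fin 2) K) * (h : Matrix (Fin 2) (Fin 2) K)).det) * (r ((g : Matrix (Fin 2) (Fin 2) K) * (h : Matrix (Fin 2) (Fin 2) K)).det) = (r (g : Matrix (Fin 2) (Fin 2) K).det) * (r (h : Matrix (Fin 2) (Fin 2) K).det) * ((r (g : Matrix (Fin 2) (Fin 2) K).det) * (r (h : Matrix (Fin 2) (Fin 2) K).det)) := by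
      rw [show (r (g : Matrix (Fin 2) (Fin 2) K).det) * (r (h : Matrix (Fin 2) (Fin 2) K).det) * ((r (g : Matrix (Fin 2) (Fin 2) K).det) * (r (h : Matrix (Fin 2) (Fin 2) K).det)) = ((r (g : Matrix (Fin 2) (Fin 2) K).det) * (r (g : Matrix (Fin 2) (Fin 2) K).det)) * ((r (h : Matrix (Fin 2) (Fin 2) K).det) * (r (h : Matrix (Fin 2) (Fin 2) K).det)) by ring, hr, hr, hr, ← map_mul, Matrix.det_mul]
    rcases mul_self_eq_mul_self_iff.mp e with e' | e'
    · left
      refine ext_four ?_ ?_ ?_ ?_ <;>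
        simp only [s, val_mul, sl00, sl01, sl10, sl11, Units.val_mul, Matrix.mul_apply, Fin.sum_univ_two,
          map_add, map_mul] <;> rw [e'] <;> field_simp
    · right
      refine ext_four ?_ ?_ ?_ ?_ <;>
        simp only [s, val_mul, val_neg, sl00, sl01, sl10, sl11, Units.val_mul, Matrix.mul_apply, Fin.sum_univ_two,
          map_add, map_mul] <;> rw [e'] <;> field_simp
  let χ : GL (Fin 2) K →* Matrix.ProjectiveSpecialLinearGroup (Fin 2) F := MonoidHom.mk' (fun g => π (s g)) hmul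
  have hker : Subgroup.center (GL (Fin 2) K) = χ.ker := by
    ext g
    rw [MonoidHom.mem_ker, Matrix.GeneralLinearGroup.center_eq_range_scalar, MonoidHom.mem_range]
    show _ ↔ π (s g) = 1
    rw [π_one_iff]
    have h0 := hr0 g
    constructor
    · rintro ⟨u, rfl⟩
      have hu : (i (u : K)) * i (u : K) = r ((u : K) * u) * r ((u : K) * u) := by rw [hr, map_mul]
      have hdet : ((Matrix.GeneralLinearGroup.scalar (Fin 2) u : GL (Fin 2) K) : Matrix (Fin 2) (Fin 2) K).det =
          (u : K) * u := by simp [Matrix.det_fin_two, pow_two]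
      rw [hdet] at h0
      rcases mul_self_eq_mul_self_iff.mp hu with e | e
      · left
        refine ext_four ?_ ?_ ?_ ?_ <;> simp [s, sl00, sl01, sl10, sl11, hdet, e, h0, pow_two]
      · right
        refine ext_four ?_ ?_ ?_ ?_ <;> simp [s, val_neg, sl00, sl01, sl10, sl11, hdet, e, h0, neg_div, pow_two]
    · intro h
      have hoff : (g : Matrix (Fin 2) (Fin 2) K) 0 1 = 0 ∧ (g : Matrix (Fin 2) (Fin 2) K) 1 0 = 0 ∧
          (g : Matrix (Fin 2) (Fin 2) K) 0 0 = (g : Matrix (Fin 2) (Fin 2) K) 1 1 := by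
        obtain ⟨e00, e01, e10, e11⟩ := val_one (F := F)
        rcases h with h | h
        all_goals
          have h1 := congrArg (fun y : SL(2, F) => y.1 0 1) h
          have h2 := congrArg (fun y : SL(2, F) => y.1 1 0) h
          have h3 := congrArg (fun y : SL(2, F) => y.1 0 0) h
          have h4 := congrArg (fun y : SL(2, F) => y.1 1 1) h
          simp only [s, val_neg, e00, e01, e10, e11, sl00, sl01, sl10, sl11, neg_zero, div_eq_zero_iff, h0,
            or_false, map_eq_zero] at h1 h2 h3 h4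
          refine ⟨h1, h2, i.injective ?_⟩
          rw [← h4] at h3
          exact (div_left_inj' h0).mp h3
      have hd : ((g : Matrix (Fin 2) (Fin 2) K)).det ≠ 0 := (Matrix.GeneralLinearGroup.det g).ne_zero
      rw [Matrix.det_fin_two, hoff.1, hoff.2.2] at hd
      refine ⟨Units.mk0 ((g : Matrix (Fin 2) (Fin 2) K) 1 1) (fun hz => hd (by rw [hz]; ring)), Units.ext ?_⟩
      ext a b
      fin_cases a <;> fin_cases b <;> simp [hoff]
  exact ⟨χ.range, ⟨((QuotientGroup.quotientMulEquivOfEq hker).trans (QuotientGroup.quotientKerEquivRange χ)).symm⟩⟩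

theorem exists_emb [Fintype F] [Fintype K] {q : ℕ} (hF : Fintype.card F = q) {m : ℕ}
    (hK : Fintype.card K ^ m = q) : Nonempty (K →+* F) := by
  obtain ⟨p, hp⟩ := CharP.exists K
  obtain ⟨a, hpp, ha⟩ := FiniteField.card K p
  obtain ⟨p', hp'⟩ := CharP.exists F
  obtain ⟨b, hpp', hb⟩ := FiniteField.card F p'
  have hpow : p' ^ (b : ℕ) = p ^ ((a : ℕ) * m) := by rw [← hb, hF, ← hK, ha, pow_mul]
  have hpe : p' = p := by
    have h1 : p' ∣ p ^ ((a : ℕ) * m) := hpow ▸ dvd_pow_self p' b.pos.ne'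
    exact (Nat.prime_dvd_prime_iff_eq hpp' hpp).mp (hpp'.dvd_of_dvd_pow h1)
  subst hpe
  haveI := Fact.mk hpp
  letI := ZMod.algebra K p'
  letI := ZMod.algebra F p'
  have hab : (b : ℕ) = (a : ℕ) * m := Nat.pow_right_injective hpp.two_le hpow
  have h1 : Module.finrank (ZMod p') K = a := by
    refine Nat.pow_right_injective hpp.two_le ?_
    show p' ^ Module.finrank (ZMod p') K = p' ^ (a : ℕ)
    rw [← ha, Module.card_eq_pow_finrank (K := ZMod p') (V := K), ZMod.card]
  have h2 : Module.finrank (ZMod p') F = b := by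
    refine Nat.pow_right_injective hpp.two_le ?_
    show p' ^ Module.finrank (ZMod p') F = p' ^ (b : ℕ)
    rw [← hb, Module.card_eq_pow_finrank (K := ZMod p') (V := F), ZMod.card]
  obtain ⟨f⟩ := FiniteField.nonempty_algHom_of_finrank_dvd (F := ZMod p') (K := K) (L := F)
    (by rw [h1, h2, hab]; exact dvd_mul_right _ _)
  exact ⟨f.toRingHom⟩

theorem main [Fintype F] [Fintype K] {q : ℕ} (hF : Fintype.card F = q) (hodd : Odd q) (m : ℕ) (hm : 1 ≤ m)
    (hK : Fintype.card K ^ m = q) :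
    (∃ H : Subgroup (Matrix.ProjectiveSpecialLinearGroup (Fin 2) F),
      Nonempty (H ≃* Matrix.ProjectiveSpecialLinearGroup (Fin 2) K)) ∧
    ((∃ H : Subgroup (Matrix.ProjectiveSpecialLinearGroup (Fin 2) F),
      Nonempty (H ≃* Matrix.ProjGenLinGroup (Fin 2) K)) ↔ Even m) := by
  classical
  obtain ⟨i⟩ := exists_emb hF hK
  set q₀ := Fintype.card K with hq₀
  have hq₀2 : 2 ≤ q₀ := Fintype.one_lt_card
  have hq₀odd : Odd q₀ := by
    rw [← hK] at hodd
    exact (Nat.odd_pow_iff (by omega)).mp hodd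
  refine ⟨exists_psl i, ⟨fun ⟨H, ⟨e⟩⟩ => ?_, fun hme => exists_pgl i fun x => ?_⟩⟩
  · by_contra hme
    rw [Nat.not_even_iff_odd] at hme
    have h1 := Subgroup.card_subgroup_dvd_card H
    rw [Nat.card_congr e.toEquiv, Cfsg.Lib.Classical.card_PGL, SLTwoTori.card_SL2] at h1
    have h2 := Cfsg.Lib.Classical.gcd_mul_card_PSL (ι := Fin 2) (F := F)
    rw [SLTwoTori.card_SL2, Nat.card_eq_fintype_card (α := F), hF, Fintype.card_fin,
      Nat.gcd_eq_left (show 2 ∣ q - 1 by rw [Nat.odd_iff] at hodd; omega)] at h2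
    obtain ⟨S, hS, hSodd⟩ : ∃ S, q ^ 2 - 1 = (q₀ ^ 2 - 1) * S ∧ Odd S := by
      refine ⟨∑ j ∈ Finset.range m, (q₀ ^ 2) ^ j, ?_, ?_⟩
      · have h := geom_sum_mul_of_one_le (R := ℕ) (Nat.one_le_pow 2 q₀ (by omega)) m
        rw [← hK, ← pow_mul, mul_comm m 2, pow_mul, ← h, mul_comm]
      · rw [Finset.odd_sum_iff_odd_card_odd, Finset.filter_true_of_mem fun j _ => (hq₀odd.pow).pow,
          Finset.card_range]
        exact hme
    rw [hS] at h2
    have h3 : 2 * (q₀ * (q₀ ^ 2 - 1)) ∣ q * ((q₀ ^ 2 - 1) * S) := h2 ▸ Nat.mul_dvd_mul_left 2 h1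
    have hA : 0 < q₀ ^ 2 - 1 := by
      have : 2 ^ 2 ≤ q₀ ^ 2 := Nat.pow_le_pow_left hq₀2 2
      omega
    rw [show 2 * (q₀ * (q₀ ^ 2 - 1)) = (q₀ ^ 2 - 1) * (2 * q₀) by ring,
      show q * ((q₀ ^ 2 - 1) * S) = (q₀ ^ 2 - 1) * (q * S) by ring] at h3
    have h4 : 2 ∣ q * S := dvd_trans (dvd_mul_right 2 q₀) ((Nat.mul_dvd_mul_iff_left hA).mp h3)
    exact (Nat.not_even_iff_odd.mpr (hodd.mul hSodd)) (even_iff_two_dvd.mpr h4)
  · by_cases hx : i x = 0
    · exact ⟨0, by rw [hx, zero_mul]⟩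
    have hsq : IsSquare (i x) := by
      have h2 : ringChar F ≠ 2 := fun h => by
        have := FiniteField.even_card_of_char_two (F := F) h
        rw [hF] at this
        rw [Nat.odd_iff] at hodd
        omega
      rw [FiniteField.isSquare_iff h2 hx, hF]
      obtain ⟨j, rfl⟩ := hme
      have hdvd : q₀ - 1 ∣ q / 2 := by
        have h1 : q₀ ^ 2 - 1 ∣ q - 1 := by
          rw [← hK, ← two_mul, pow_mul]
          simpa only [one_pow] using Nat.sub_dvd_pow_sub_pow (q₀ ^ 2) 1 j
        have h2' : (q₀ - 1) * 2 ∣ q₀ ^ 2 - 1 := by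
          rw [show q₀ ^ 2 - 1 = (q₀ + 1) * (q₀ - 1) by
            have := Nat.sq_sub_sq q₀ 1
            rwa [one_pow] at this, mul_comm (q₀ + 1)]
          refine Nat.mul_dvd_mul_left _ ?_
          rw [Nat.odd_iff] at hq₀odd
          omega
        have h3 := h2'.trans h1
        rw [Nat.odd_iff] at hodd
        rw [show q / 2 = (q - 1) / 2 by omega]
        exact Nat.dvd_div_of_mul_dvd (by rwa [mul_comm])
      obtain ⟨d, hd⟩ := hdvd
      have hx0 : x ≠ 0 := fun h => hx (by rw [h, map_zero])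
      rw [hd, ← map_pow, pow_mul, FiniteField.pow_card_sub_one_eq_one x hx0, one_pow, map_one]
    obtain ⟨r, hr⟩ := hsq
    exact ⟨r, hr.symm⟩

end Cfsg.Lib.Classical.PSLSubfield
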