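import Mathlib
import Cfsg.Agent.Classical.Misc.PSLFull
import Cfsg.Agent.Classical.Misc.PSLSubfield

/-! The icosahedral subgroup of `PSL₂(q)`. -/

set_option autoImplicit false
set_option linter.unusedSimpArgs false
set_option linter.unusedSectionVars false
set_option linter.style.haveILetI false
set_option linter.flexible false

namespace Cfsg.Lib.Classical.Icosian

open Matrix
open scoped MatrixGroups
open Cfsg.Lib.Classical.PSLFour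

universe u

/-- Four coordinates with respect to `1, i, j, k`. -/
structure Q (R : Type*) where
  w : R
  x : R
  y : R
  z : R
  deriving DecidableEq

/-- Product in `ℤ[φ]`, `φ² = φ + 1`. -/
def zm (a b : ℤ × ℤ) : ℤ × ℤ := (a.1 * b.1 + a.2 * b.2, a.1 * b.2 + a.2 * b.1 + a.2 * b.2)

/-- Quaternion product over `ℤ[φ]`. -/
def qz (p q : Q (ℤ × ℤ)) : Q (ℤ × ℤ) :=
  ⟨zm p.w q.w - zm p.x q.x - zm p.y q.y - zm p.z q.z,
   zm p.w q.x + zm p.x q.w + zm p.y q.z - zm p.z q.y,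
   zm p.w q.y - zm p.x q.z + zm p.y q.w + zm p.z q.x,
   zm p.w q.z + zm p.x q.y - zm p.y q.x + zm p.z q.w⟩

/-- Scaling by an integer. -/
def qs (c : ℤ) (p : Q (ℤ × ℤ)) : Q (ℤ × ℤ) :=
  ⟨(c * p.w.1, c * p.w.2), (c * p.x.1, c * p.x.2), (c * p.y.1, c * p.y.2), (c * p.z.1, c * p.z.2)⟩

/-- The norm. -/
def nz (p : Q (ℤ × ℤ)) : ℤ × ℤ := zm p.w p.w + zm p.x p.x + zm p.y p.y + zm p.z p.z

/-- Twice the icosians, indexed by the images of `0, 1, 2`. -/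
def table : List (Q (ℤ × ℤ)) :=
  [⟨(2, 0), (0, 0), (0, 0), (0, 0)⟩, ⟨(2, 0), (0, 0), (0, 0), (0, 0)⟩,
    ⟨(2, 0), (0, 0), (0, 0), (0, 0)⟩, ⟨(2, 0), (0, 0), (0, 0), (0, 0)⟩,
    ⟨(2, 0), (0, 0), (0, 0), (0, 0)⟩, ⟨(2, 0), (0, 0), (0, 0), (0, 0)⟩,
    ⟨(2, 0), (0, 0), (0, 0), (0, 0)⟩, ⟨(2, 0), (0, 0), (0, 0), (0, 0)⟩,
    ⟨(-1, 0), (0, 0), (0, 1), (-1, 1)⟩, ⟨(1, 0), (0, 0), (0, 1), (-1, 1)⟩,
    ⟨(2, 0), (0, 0), (0, 0), (0, 0)⟩, ⟨(0, 0), (0, 1), (-1, 0), (1, -1)⟩,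
    ⟨(2, 0), (0, 0), (0, 0), (0, 0)⟩, ⟨(1, 0), (1, 0), (-1, 0), (1, 0)⟩,
    ⟨(-1, 0), (-1, 1), (0, 0), (0, -1)⟩, ⟨(2, 0), (0, 0), (0, 0), (0, 0)⟩,
    ⟨(-1, 0), (1, 0), (-1, 0), (1, 0)⟩, ⟨(1, 0), (0, -1), (1, -1), (0, 0)⟩,
    ⟨(2, 0), (0, 0), (0, 0), (0, 0)⟩, ⟨(0, 0), (-1, 1), (0, 1), (-1, 0)⟩,
    ⟨(2, 0), (0, 0), (0, 0), (0, 0)⟩, ⟨(-1, 0), (1, -1), (0, 0), (0, 1)⟩,
    ⟨(-1, 0), (0, -1), (1, -1), (0, 0)⟩, ⟨(0, 0), (-1, 0), (1, -1), (0, -1)⟩,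
    ⟨(2, 0), (0, 0), (0, 0), (0, 0)⟩, ⟨(2, 0), (0, 0), (0, 0), (0, 0)⟩,
    ⟨(2, 0), (0, 0), (0, 0), (0, 0)⟩, ⟨(0, 0), (1, 0), (-1, 1), (0, -1)⟩,
    ⟨(0, 0), (2, 0), (0, 0), (0, 0)⟩, ⟨(0, 0), (1, 0), (1, -1), (0, 1)⟩,
    ⟨(2, 0), (0, 0), (0, 0), (0, 0)⟩, ⟨(2, 0), (0, 0), (0, 0), (0, 0)⟩,
    ⟨(2, 0), (0, 0), (0, 0), (0, 0)⟩, ⟨(2, 0), (0, 0), (0, 0), (0, 0)⟩,
    ⟨(2, 0), (0, 0), (0, 0), (0, 0)⟩, ⟨(-1, 0), (-1, 0), (-1, 0), (-1, 0)⟩,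
    ⟨(2, 0), (0, 0), (0, 0), (0, 0)⟩, ⟨(2, 0), (0, 0), (0, 0), (0, 0)⟩,
    ⟨(0, 1), (1, 0), (0, 0), (1, -1)⟩, ⟨(-1, 1), (0, 0), (-1, 0), (0, -1)⟩,
    ⟨(0, -1), (0, 0), (-1, 1), (-1, 0)⟩, ⟨(2, 0), (0, 0), (0, 0), (0, 0)⟩,
    ⟨(1, 0), (-1, 0), (1, 0), (1, 0)⟩, ⟨(2, 0), (0, 0), (0, 0), (0, 0)⟩,
    ⟨(1, -1), (-1, 0), (0, 1), (0, 0)⟩, ⟨(-1, 1), (-1, 0), (0, -1), (0, 0)⟩,
    ⟨(2, 0), (0, 0), (0, 0), (0, 0)⟩, ⟨(1, 0), (0, 0), (0, 1), (1, -1)⟩,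
    ⟨(0, -1), (1, 0), (0, 0), (-1, 1)⟩, ⟨(2, 0), (0, 0), (0, 0), (0, 0)⟩,
    ⟨(2, 0), (0, 0), (0, 0), (0, 0)⟩, ⟨(-1, 0), (1, 0), (1, 0), (1, 0)⟩,
    ⟨(2, 0), (0, 0), (0, 0), (0, 0)⟩, ⟨(1, -1), (-1, 0), (0, -1), (0, 0)⟩,
    ⟨(0, -1), (0, 0), (1, -1), (1, 0)⟩, ⟨(0, 0), (1, -1), (0, 1), (-1, 0)⟩,
    ⟨(2, 0), (0, 0), (0, 0), (0, 0)⟩, ⟨(2, 0), (0, 0), (0, 0), (0, 0)⟩,
    ⟨(-1, 0), (1, 0), (1, 0), (-1, 0)⟩, ⟨(1, 0), (0, -1), (-1, 1), (0, 0)⟩,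
    ⟨(2, 0), (0, 0), (0, 0), (0, 0)⟩, ⟨(2, 0), (0, 0), (0, 0), (0, 0)⟩,
    ⟨(2, 0), (0, 0), (0, 0), (0, 0)⟩, ⟨(2, 0), (0, 0), (0, 0), (0, 0)⟩,
    ⟨(2, 0), (0, 0), (0, 0), (0, 0)⟩, ⟨(0, 0), (0, 0), (0, 0), (2, 0)⟩,
    ⟨(-1, 1), (0, 1), (0, 0), (1, 0)⟩, ⟨(2, 0), (0, 0), (0, 0), (0, 0)⟩,
    ⟨(2, 0), (0, 0), (0, 0), (0, 0)⟩, ⟨(1, -1), (0, -1), (0, 0), (1, 0)⟩,
    ⟨(0, 0), (-1, 1), (0, -1), (-1, 0)⟩, ⟨(0, 1), (-1, 1), (-1, 0), (0, 0)⟩,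
    ⟨(2, 0), (0, 0), (0, 0), (0, 0)⟩, ⟨(0, -1), (0, 0), (1, -1), (-1, 0)⟩,
    ⟨(2, 0), (0, 0), (0, 0), (0, 0)⟩, ⟨(2, 0), (0, 0), (0, 0), (0, 0)⟩,
    ⟨(-1, 1), (0, 0), (1, 0), (0, 1)⟩, ⟨(1, 0), (1, 0), (-1, 0), (-1, 0)⟩,
    ⟨(2, 0), (0, 0), (0, 0), (0, 0)⟩, ⟨(0, -1), (-1, 0), (0, 0), (1, -1)⟩,
    ⟨(1, 0), (1, 0), (1, 0), (-1, 0)⟩, ⟨(2, 0), (0, 0), (0, 0), (0, 0)⟩,
    ⟨(1, 0), (1, -1), (0, 0), (0, -1)⟩, ⟨(2, 0), (0, 0), (0, 0), (0, 0)⟩,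
    ⟨(0, 0), (0, -1), (-1, 0), (1, -1)⟩, ⟨(0, -1), (-1, 1), (-1, 0), (0, 0)⟩,
    ⟨(0, 0), (0, 0), (-2, 0), (0, 0)⟩, ⟨(2, 0), (0, 0), (0, 0), (0, 0)⟩,
    ⟨(2, 0), (0, 0), (0, 0), (0, 0)⟩, ⟨(0, -1), (-1, 1), (1, 0), (0, 0)⟩,
    ⟨(2, 0), (0, 0), (0, 0), (0, 0)⟩, ⟨(2, 0), (0, 0), (0, 0), (0, 0)⟩,
    ⟨(2, 0), (0, 0), (0, 0), (0, 0)⟩, ⟨(2, 0), (0, 0), (0, 0), (0, 0)⟩,
    ⟨(2, 0), (0, 0), (0, 0), (0, 0)⟩, ⟨(-1, 1), (0, -1), (0, 0), (1, 0)⟩,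
    ⟨(-1, 1), (0, 0), (-1, 0), (0, 1)⟩, ⟨(0, 0), (0, -1), (1, 0), (1, -1)⟩,
    ⟨(2, 0), (0, 0), (0, 0), (0, 0)⟩, ⟨(2, 0), (0, 0), (0, 0), (0, 0)⟩,
    ⟨(2, 0), (0, 0), (0, 0), (0, 0)⟩, ⟨(0, 1), (-1, 0), (0, 0), (-1, 1)⟩,
    ⟨(1, 0), (0, 0), (0, -1), (-1, 1)⟩, ⟨(-1, 1), (-1, 0), (0, 1), (0, 0)⟩,
    ⟨(2, 0), (0, 0), (0, 0), (0, 0)⟩, ⟨(-1, 0), (0, -1), (-1, 1), (0, 0)⟩,
    ⟨(2, 0), (0, 0), (0, 0), (0, 0)⟩, ⟨(1, 0), (-1, 1), (0, 0), (0, 1)⟩,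
    ⟨(0, 0), (1, 0), (1, -1), (0, -1)⟩, ⟨(2, 0), (0, 0), (0, 0), (0, 0)⟩,
    ⟨(1, -1), (0, 1), (0, 0), (1, 0)⟩, ⟨(0, 0), (0, 1), (1, 0), (1, -1)⟩,
    ⟨(2, 0), (0, 0), (0, 0), (0, 0)⟩, ⟨(-1, 1), (0, 0), (1, 0), (0, -1)⟩,
    ⟨(2, 0), (0, 0), (0, 0), (0, 0)⟩, ⟨(0, -1), (0, 0), (-1, 1), (1, 0)⟩,
    ⟨(0, -1), (1, -1), (-1, 0), (0, 0)⟩, ⟨(0, 0), (1, -1), (0, -1), (-1, 0)⟩,
    ⟨(2, 0), (0, 0), (0, 0), (0, 0)⟩, ⟨(2, 0), (0, 0), (0, 0), (0, 0)⟩,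
    ⟨(2, 0), (0, 0), (0, 0), (0, 0)⟩, ⟨(2, 0), (0, 0), (0, 0), (0, 0)⟩,
    ⟨(2, 0), (0, 0), (0, 0), (0, 0)⟩, ⟨(2, 0), (0, 0), (0, 0), (0, 0)⟩,
    ⟨(2, 0), (0, 0), (0, 0), (0, 0)⟩]

/-- Twice a lift of a permutation. -/
def f (g : alternatingGroup (Fin 5)) : Q (ℤ × ℤ) :=
  table.getD (((g : Equiv.Perm (Fin 5)) 0).val * 25 + ((g : Equiv.Perm (Fin 5)) 1).val * 5 +
    ((g : Equiv.Perm (Fin 5)) 2).val) ⟨0, 0, 0, 0⟩

/-- An involution. -/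
def genA : alternatingGroup (Fin 5) :=
  ⟨Equiv.swap 0 1 * Equiv.swap 2 3, Equiv.Perm.mem_alternatingGroup.mpr (by decide +kernel)⟩

/-- An element of order three. -/
def genB : alternatingGroup (Fin 5) :=
  ⟨Equiv.swap 1 2 * Equiv.swap 2 4, Equiv.Perm.mem_alternatingGroup.mpr (by decide +kernel)⟩

set_option maxRecDepth 20000 in
theorem check_norm : ∀ g, nz (f g) = (4, 0) := by decide +kernel

set_option maxRecDepth 20000 in
theorem check_a : ∀ g, qz (f g) (f genA) = qs 2 (f (g * genA)) ∨ qz (f g) (f genA) = qs (-2) (f (g * genA)) := by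
  decide +kernel

set_option maxRecDepth 20000 in
theorem check_b : ∀ g, qz (f g) (f genB) = qs 2 (f (g * genB)) ∨ qz (f g) (f genB) = qs (-2) (f (g * genB)) := by
  decide +kernel

theorem f_one : f 1 = ⟨(2, 0), (0, 0), (0, 0), (0, 0)⟩ := by decide +kernel

theorem f_genA : f genA = ⟨(0, 0), (2, 0), (0, 0), (0, 0)⟩ := by decide +kernel

/-- Words of bounded length. -/
def reach : ℕ → Finset (alternatingGroup (Fin 5))
  | 0 => {1}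
  | n + 1 => reach n ∪ (reach n).image (· * genA) ∪ (reach n).image (· * genB)

set_option maxRecDepth 20000 in
theorem reach_all : ∀ g, g ∈ reach 12 := by decide +kernel

variable {F : Type u} [Field F]

/-- Evaluation at a root `φ`. -/
def ev (φ : F) (c : ℤ × ℤ) : F := (c.1 : F) + (c.2 : F) * φ

theorem ev_zm {φ : F} (hφ : φ * φ = φ + 1) (a b : ℤ × ℤ) : ev φ (zm a b) = ev φ a * ev φ b := by
  simp only [ev, zm]
  push_cast
  linear_combination (-(a.2 : F) * b.2) * hφ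

theorem ev_add (φ : F) (a b : ℤ × ℤ) : ev φ (a + b) = ev φ a + ev φ b := by
  simp only [ev, Prod.fst_add, Prod.snd_add]; push_cast; ring

theorem ev_sub (φ : F) (a b : ℤ × ℤ) : ev φ (a - b) = ev φ a - ev φ b := by
  simp only [ev, Prod.fst_sub, Prod.snd_sub]; push_cast; ring

theorem ev_smul (φ : F) (c : ℤ) (a : ℤ × ℤ) : ev φ (c * a.1, c * a.2) = (c : F) * ev φ a := by
  simp only [ev]; push_cast; ring

/-- The lift in `SL₂`. -/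
noncomputable def M {φ a b : F} (h2 : (2 : F) ≠ 0) (hφ : φ * φ = φ + 1) (hab : a ^ 2 + b ^ 2 = -1)
    (g : alternatingGroup (Fin 5)) : SL(2, F) :=
  sl ((ev φ (f g).w + ev φ (f g).y * a + ev φ (f g).z * b) / 2)
    ((ev φ (f g).x + ev φ (f g).y * b - ev φ (f g).z * a) / 2)
    ((-ev φ (f g).x + ev φ (f g).y * b - ev φ (f g).z * a) / 2)
    ((ev φ (f g).w - ev φ (f g).y * a - ev φ (f g).z * b) / 2) (by
      have h := congrArg (ev φ) (check_norm g)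
      simp only [nz, ev_add, ev_zm hφ] at h
      rw [show ev φ ((4 : ℤ), (0 : ℤ)) = (4 : F) by simp [ev]] at h
      field_simp
      linear_combination h - (ev φ (f g).y ^ 2 + ev φ (f g).z ^ 2) * hab)

variable {φ a b : F} (h2 : (2 : F) ≠ 0) (hφ : φ * φ = φ + 1) (hab : a ^ 2 + b ^ 2 = -1)
include h2 hφ hab

theorem M_mul (g h : alternatingGroup (Fin 5))
    (hc : qz (f g) (f h) = qs 2 (f (g * h)) ∨ qz (f g) (f h) = qs (-2) (f (g * h))) :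
    π (M h2 hφ hab (g * h)) = π (M h2 hφ hab g * M h2 hφ hab h) := by
  have key : ∀ ε : F, ∀ c : ℤ, (c : F) = 2 * ε → qz (f g) (f h) = qs c (f (g * h)) →
      ∀ r s, (M h2 hφ hab g * M h2 hφ hab h).1 r s = ε * (M h2 hφ hab (g * h)).1 r s := by
    intro ε c hcε he r s
    have hw := congrArg (fun q => ev φ q.w) he
    have hx := congrArg (fun q => ev φ q.x) he
    have hy := congrArg (fun q => ev φ q.y) he
    have hz := congrArg (fun q => ev φ q.z) he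
    simp only [qz, qs, ev_sub, ev_add, ev_zm hφ, ev_smul, hcε] at hw hx hy hz
    rw [val_mul]
    simp only [M]
    fin_cases r <;> fin_cases s <;> simp [sl00, sl01, sl10, sl11] <;> field_simp
    · linear_combination hw + a * hy + b * hz + (ev φ (f g).y * ev φ (f h).y + ev φ (f g).z * ev φ (f h).z) * hab
    · linear_combination hx + b * hy - a * hz + (ev φ (f g).y * ev φ (f h).z - ev φ (f g).z * ev φ (f h).y) * (-hab)
    · linear_combination -hx + b * hy - a * hz + (ev φ (f g).y * ev φ (f h).z - ev φ (f g).z * ev φ (f h).y) * hab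
    · linear_combination hw - a * hy - b * hz + (ev φ (f g).y * ev φ (f h).y + ev φ (f g).z * ev φ (f h).z) * hab
  rcases hc with hc | hc
  · refine π_eq_iff.mpr (Or.inl ?_)
    have k := key 1 2 (by norm_num) hc
    exact ext_four (by simpa using k 0 0) (by simpa using k 0 1) (by simpa using k 1 0) (by simpa using k 1 1)
  · refine π_eq_iff.mpr (Or.inr ?_)
    have k := key (-1) (-2) (by norm_num) hc
    exact ext_four (by simpa [val_neg] using k 0 0) (by simpa [val_neg] using k 0 1)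
      (by simpa [val_neg] using k 1 0) (by simpa [val_neg] using k 1 1)

theorem exists_of_root : ∃ H : Subgroup (Matrix.ProjectiveSpecialLinearGroup (Fin 2) F),
    Nonempty (H ≃* alternatingGroup (Fin 5)) := by
  let r : alternatingGroup (Fin 5) → Matrix.ProjectiveSpecialLinearGroup (Fin 2) F := fun g => π (M h2 hφ hab g)
  have r1 : r 1 = 1 := by
    refine π_one_iff.mpr (Or.inl ?_)
    obtain ⟨e00, e01, e10, e11⟩ := val_one (F := F)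
    refine ext_four ?_ ?_ ?_ ?_ <;> simp [M, sl00, sl01, sl10, sl11, f_one, ev, e00, e01, e10, e11, h2]
  have ha : ∀ g, r (g * genA) = r g * r genA := fun g => by
    show π _ = π _ * π _
    rw [← map_mul]; exact M_mul h2 hφ hab g genA (check_a g)
  have hb : ∀ g, r (g * genB) = r g * r genB := fun g => by
    show π _ = π _ * π _
    rw [← map_mul]; exact M_mul h2 hφ hab g genB (check_b g)
  have hmul : ∀ n, ∀ h ∈ reach n, ∀ g, r (g * h) = r g * r h := by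
    intro n
    induction n with
    | zero =>
      intro h hh g
      rw [reach, Finset.mem_singleton] at hh
      rw [hh, mul_one, r1, mul_one]
    | succ n ih =>
      intro h hh g
      simp only [reach, Finset.mem_union, Finset.mem_image] at hh
      rcases hh with (hh | ⟨h', hh', rfl⟩) | ⟨h', hh', rfl⟩
      · exact ih h hh g
      · rw [← mul_assoc, ha, ha, ih h' hh', mul_assoc]
      · rw [← mul_assoc, hb, hb, ih h' hh', mul_assoc]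
  let ρ : alternatingGroup (Fin 5) →* Matrix.ProjectiveSpecialLinearGroup (Fin 2) F :=
    MonoidHom.mk' r fun g h => hmul 12 h (reach_all h) g
  have hinj : Function.Injective ρ := by
    rw [← MonoidHom.ker_eq_bot_iff]
    haveI := alternatingGroup.isSimpleGroup_five
    rcases ρ.normal_ker.eq_bot_or_eq_top with h | h
    · exact h
    · exfalso
      have h1 : r genA = 1 := (h ▸ Subgroup.mem_top genA : genA ∈ ρ.ker)
      obtain ⟨e00, e01, e10, e11⟩ := val_one (F := F)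
      rcases π_one_iff.mp h1 with e | e <;>
        have e' := congrArg (fun s : SL(2, F) => s.1 0 1) e <;>
        simp [M, sl01, f_genA, ev, val_neg, e01, h2] at e'
  exact ⟨ρ.range, ⟨(MonoidHom.ofInjective hinj).symm⟩⟩

omit h2 hφ hab

/-- An element of order five gives the golden ratio. -/
theorem exists_phi [Fintype F] (h5 : 5 ∣ Fintype.card F * (Fintype.card F ^ 2 - 1)) :
    ∃ φ : F, φ * φ = φ + 1 := by
  classical
  haveI : Fact (Nat.Prime 5) := ⟨Nat.prime_five⟩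
  rw [← SLTwoTori.card_SL2 (F := F)] at h5
  obtain ⟨g, hg⟩ := exists_prime_orderOf_dvd_card' 5 h5
  set t := g.1.trace with ht
  have hsq : g.1 * g.1 = t • g.1 - 1 := by
    have hd := det_eq_one g
    ext r c
    fin_cases r <;> fin_cases c <;> simp [ht, Matrix.mul_apply, Fin.sum_univ_two, Matrix.trace_fin_two] <;>
      (first | ring1 | linear_combination hd | linear_combination -hd)
  have h5' : g.1 ^ 5 = 1 := by
    rw [← Matrix.SpecialLinearGroup.coe_pow, ← hg, pow_orderOf_eq_one, Matrix.SpecialLinearGroup.coe_one]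
  have hlin : (t ^ 4 - 3 * t ^ 2 + 1) • g.1 = (t ^ 3 - 2 * t + 1) • (1 : Matrix (Fin 2) (Fin 2) F) := by
    have h2' : g.1 ^ 2 = t • g.1 - 1 := by rw [pow_two, hsq]
    have h3 : g.1 ^ 3 = (t ^ 2 - 1) • g.1 - t • 1 := by
      rw [pow_succ, h2', sub_mul, smul_mul_assoc, hsq, one_mul]; module
    have h4 : g.1 ^ 4 = (t ^ 3 - 2 * t) • g.1 - (t ^ 2 - 1) • 1 := by
      rw [pow_succ, h3, sub_mul, smul_mul_assoc, smul_mul_assoc, hsq, one_mul]; module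
    have e : g.1 ^ 5 = (t ^ 4 - 3 * t ^ 2 + 1) • g.1 - (t ^ 3 - 2 * t) • 1 := by
      rw [pow_succ, h4, sub_mul, smul_mul_assoc, smul_mul_assoc, hsq, one_mul]; module
    rw [h5'] at e
    rw [show (t ^ 4 - 3 * t ^ 2 + 1) • g.1 =
      ((t ^ 4 - 3 * t ^ 2 + 1) • g.1 - (t ^ 3 - 2 * t) • 1) + (t ^ 3 - 2 * t) • 1 by abel, ← e]
    module
  have hzero : (t ^ 2 - t - 1) * (t ^ 2 + t - 1) = 0 := by
    by_contra hne
    have hne' : t ^ 4 - 3 * t ^ 2 + 1 ≠ 0 := fun e => hne (by linear_combination e)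
    have hc : ∀ r c, (t ^ 4 - 3 * t ^ 2 + 1) * g.1 r c = (t ^ 3 - 2 * t + 1) * (1 : Matrix (Fin 2) (Fin 2) F) r c :=
      fun r c => by simpa using congrFun (congrFun hlin r) c
    have h01 : g.1 0 1 = 0 := (mul_eq_zero.mp ((hc 0 1).trans (by simp))).resolve_left hne'
    have h10 : g.1 1 0 = 0 := (mul_eq_zero.mp ((hc 1 0).trans (by simp))).resolve_left hne'
    have hdiag : g.1 0 0 = g.1 1 1 := mul_left_cancel₀ hne' (by rw [hc, hc]; simp)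
    have hd := det_eq_one g
    rw [h01, hdiag, zero_mul, sub_zero] at hd
    have hg2 : g ^ 2 = 1 := by
      obtain ⟨e00, e01, e10, e11⟩ := val_one (F := F)
      refine ext_four ?_ ?_ ?_ ?_ <;> simp [pow_two, val_mul, h01, h10, hdiag, hd, e00, e01, e10, e11]
    have := orderOf_dvd_of_pow_eq_one hg2
    rw [hg] at this
    norm_num at this
  rcases mul_eq_zero.mp hzero with e | e
  · exact ⟨t, by linear_combination e⟩
  · exact ⟨-t, by linear_combination e⟩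

/-- `A₅` in `PSL₂(q)`. -/
theorem iff_A5 [Fintype F] {q : ℕ} (hF : Fintype.card F = q) :
    (∃ H : Subgroup (Matrix.ProjectiveSpecialLinearGroup (Fin 2) F), Nonempty (H ≃* alternatingGroup (Fin 5))) ↔
      5 ∣ q * (q ^ 2 - 1) := by
  constructor
  · rintro ⟨H, ⟨ψ⟩⟩
    have h1 := H.card_subgroup_dvd_card
    rw [Nat.card_congr ψ.toEquiv, nat_card_alternatingGroup, Nat.card_fin] at h1
    rw [← SmallPSL.card_psl hF]
    exact dvd_mul_of_dvd_right ((show 5 ∣ Nat.factorial 5 / 2 by decide).trans h1) _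
  intro h5
  by_cases h2 : (2 : F) = 0
  · obtain ⟨p, hp⟩ := CharP.exists F
    obtain ⟨n, hpp, hn⟩ := FiniteField.card F p
    have hp2 : p = 2 := by
      have : p ∣ 2 := (CharP.cast_eq_zero_iff F p 2).mp (by exact_mod_cast h2)
      exact (Nat.prime_dvd_prime_iff_eq hpp Nat.prime_two).mp this
    subst hp2
    rw [hF] at hn
    obtain ⟨m, hm⟩ | ⟨m, hm⟩ := Nat.even_or_odd (n : ℕ)
    · have hK : Fintype.card F = 4 ^ m := by rw [hF, hn, hm, ← two_mul, pow_mul]; norm_num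
      haveI : Fintype (GaloisField 2 2) := Fintype.ofFinite _
      have hK4 : Fintype.card (GaloisField 2 2) = 4 := by
        rw [← Nat.card_eq_fintype_card, GaloisField.card 2 2 (by norm_num)]; norm_num
      obtain ⟨i⟩ := PSLSubfield.exists_emb (F := F) (K := GaloisField 2 2) (m := m) hF (by rw [hK4, ← hK, hF])
      obtain ⟨H, ⟨ψ⟩⟩ := PSLSubfield.exists_psl i
      obtain ⟨χ⟩ := SmallPSL.psl_four hK4
      exact ⟨H, ⟨ψ.trans χ⟩⟩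
    · exfalso
      have hq : q = 2 * 4 ^ m := by rw [hn, hm, pow_succ, pow_mul]; ring
      have h16 : q ^ 2 = 4 * 16 ^ m := by
        rw [hq, mul_pow, ← pow_mul, mul_comm m 2, pow_mul]; norm_num
      have hmod : q ^ 2 % 5 = 4 := by rw [h16, Nat.mul_mod, Nat.pow_mod]; norm_num
      rcases Nat.prime_five.dvd_mul.mp h5 with h | h
      · rw [hn] at h
        exact absurd (Nat.prime_five.dvd_of_dvd_pow h) (by norm_num)
      · omega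
  · obtain ⟨φ, hφ⟩ := exists_phi (F := F) (hF.symm ▸ h5)
    have hodd : Odd (Fintype.card F) := by
      have h : ringChar F ≠ 2 := fun h => h2 (by
        haveI := ringChar.of_eq h
        exact CharTwo.two_eq_zero)
      rw [Nat.odd_iff]; exact FiniteField.odd_card_of_char_ne_two h
    obtain ⟨a, b, hab⟩ := exists_sum_sq hodd (-1)
    exact exists_of_root h2 hφ hab

end Cfsg.Lib.Classical.Icosian
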