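import Mathlib
import Cfsg.Agent.Classical.Misc.PSLRat
import Cfsg.Agent.Classical.Misc.PSLBounds

/-! Frames for four-groups, traces of elements of small order, and the size of a rational group. -/

set_option autoImplicit false
set_option linter.unusedSimpArgs false
set_option linter.unusedSectionVars false
set_option linter.style.haveILetI false
set_option linter.flexible false

namespace Cfsg.Lib.Classical.PSLFrame

open Matrix
open scoped MatrixGroups
open Cfsg.Lib.Classical.PSLFour Cfsg.Lib.Classical.PSLEmbed Cfsg.Lib.Classical.PSLRat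

universe u v

local notation "PSL₂" k => Matrix.ProjectiveSpecialLinearGroup (Fin 2) k

variable {F : Type u} [Field F]

/-- `J`. -/
def JM : Matrix (Fin 2) (Fin 2) F := !![0, 1; -1, 0]

/-- The second generator. -/
def BM (a b : F) : Matrix (Fin 2) (Fin 2) F := !![a, b; b, -a]

/-- A basis for a pair of anticommuting square roots of `-1`. -/
theorem exists_basis (g h : SL(2, F)) (hg : g * g = -1) (hh : h * h = -1) (hgh : g * h = -(h * g))
    (h2 : (2 : F) ≠ 0) {a b : F} (hab : a ^ 2 + b ^ 2 = -1) :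
    ∃ c : Matrix (Fin 2) (Fin 2) F, c.det ≠ 0 ∧ g.1 * c = c * JM ∧ h.1 * c = c * BM a b := by
  have hg11 := (sq_iff g).mp hg
  have hh11 := (sq_iff h).mp hh
  have dg := det_eq_one g
  have dh := det_eq_one h
  rw [hg11] at dg
  rw [hh11] at dh
  have hac : 2 * (g.1 0 0 * h.1 0 0) + g.1 0 1 * h.1 1 0 + g.1 1 0 * h.1 0 1 = 0 := by
    have e := congrArg (fun x : SL(2, F) => x.1 0 0) hgh
    simp only [val_mul, val_neg] at e
    linear_combination e
  set T : Matrix (Fin 2) (Fin 2) F := h.1 + b • g.1 - a • 1 with hT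
  have hdet : T.det = 0 := by
    simp [hT, Matrix.det_fin_two, hg11, hh11]
    linear_combination dh + b ^ 2 * dg + hab - b * hac
  obtain ⟨v, hv, hTv⟩ := Matrix.exists_mulVec_eq_zero_iff.mpr hdet
  have e0 := congrFun hTv 0
  have e1 := congrFun hTv 1
  simp [hT, Matrix.mulVec, dotProduct, Fin.sum_univ_two, hh11, hg11] at e0 e1
  set w0 := g.1 0 0 * v 0 + g.1 0 1 * v 1 with hw0
  set w1 := g.1 1 0 * v 0 + g.1 1 1 * v 1 with hw1
  refine ⟨!![v 0, -w0; v 1, -w1], ?_, ?_, ?_⟩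
  · intro hd
    simp [Matrix.det_fin_two] at hd
    obtain ⟨l, l0, l1⟩ : ∃ l : F, w0 = l * v 0 ∧ w1 = l * v 1 := by
      by_cases hv0 : v 0 = 0
      · have hv1 : v 1 ≠ 0 := fun e => hv (funext fun j => by fin_cases j <;> simp [hv0, e])
        refine ⟨w1 / v 1, ?_, by field_simp⟩
        rw [hv0] at hd ⊢
        simp only [zero_mul, neg_zero, zero_add] at hd
        rw [mul_zero]
        exact (mul_eq_zero.mp hd).resolve_right hv1
      · refine ⟨w0 / v 0, by field_simp, ?_⟩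
        field_simp
        linear_combination -hd
    rw [hw0] at l0
    rw [hw1, hg11] at l1
    have hl : (l * l + 1) * v 0 = 0 ∧ (l * l + 1) * v 1 = 0 := by
      constructor
      · linear_combination -(l + g.1 0 0) * l0 - g.1 0 1 * l1 - v 0 * dg
      · linear_combination -(g.1 1 0) * l0 - (l - g.1 0 0) * l1 - v 1 * dg
    have hl1 : l * l + 1 = 0 := by
      by_contra hne
      exact hv (funext fun j => by
        fin_cases j
        · exact (mul_eq_zero.mp hl.1).resolve_left hne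
        · exact (mul_eq_zero.mp hl.2).resolve_left hne)
    set μ := a - b * l with hμ
    have f0 : h.1 0 0 * v 0 + h.1 0 1 * v 1 = μ * v 0 := by rw [hμ]; linear_combination e0 - b * l0
    have f1 : h.1 1 0 * v 0 - h.1 0 0 * v 1 = μ * v 1 := by rw [hμ]; linear_combination e1 - b * l1
    have hμ0 : μ ≠ 0 := by
      intro e
      rw [e] at f0 f1
      have g0 : v 0 = 0 := by linear_combination (-(v 0)) * dh - h.1 0 0 * f0 - h.1 0 1 * f1
      have g1 : v 1 = 0 := by linear_combination (-(v 1)) * dh - h.1 1 0 * f0 + h.1 0 0 * f1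
      exact hv (funext fun j => by fin_cases j <;> assumption)
    have hz : 2 * l * μ = 0 ∨ v 0 = 0 ∧ v 1 = 0 := by
      by_contra hne
      push Not at hne
      refine hne.1 ?_
      have z0 : 2 * l * μ * v 0 = 0 := by
        linear_combination (-l) * f0 - μ * l0 - (g.1 0 1) * f1 + v 0 * hac - h.1 0 1 * l1 - g.1 0 0 * f0 - h.1 0 0 * l0
      have z1 : 2 * l * μ * v 1 = 0 := by
        linear_combination (-l) * f1 - μ * l1 - (g.1 1 0) * f0 + v 1 * hac - h.1 1 0 * l0 + g.1 0 0 * f1 + h.1 0 0 * l1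
      by_contra hn
      exact hne.2 ((mul_eq_zero.mp z0).resolve_left hn) ((mul_eq_zero.mp z1).resolve_left hn)
    rcases hz with e | ⟨g0, g1⟩
    · rcases mul_eq_zero.mp e with e | e
      · rcases mul_eq_zero.mp e with e | e
        · exact h2 e
        · rw [e] at hl1; simp at hl1
      · exact hμ0 e
    · exact hv (funext fun j => by fin_cases j <;> assumption)
  · ext r s
    fin_cases r <;> fin_cases s <;> simp [JM, Matrix.mul_apply, Fin.sum_univ_two, hw0, hw1, hg11]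
    · linear_combination v 0 * dg
    · linear_combination v 1 * dg
  · ext r s
    fin_cases r <;> fin_cases s <;> simp [BM, Matrix.mul_apply, Fin.sum_univ_two, hw0, hw1, hg11, hh11]
    · linear_combination e0
    · linear_combination g.1 0 0 * e0 + g.1 0 1 * e1 - v 0 * hac + b * v 0 * dg
    · linear_combination e1
    · linear_combination g.1 1 0 * e0 - g.1 0 0 * e1 - v 1 * hac + b * v 1 * dg

section trace

variable (s : SL(2, F))

theorem sq_val : s.1 * s.1 = s.1.trace • s.1 - 1 := by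
  have hd := det_eq_one s
  ext r c
  fin_cases r <;> fin_cases c <;> simp [Matrix.mul_apply, Fin.sum_univ_two, Matrix.trace_fin_two] <;>
    (first | ring1 | linear_combination hd | linear_combination -hd)

theorem scalar_or {α β : F} (h : α • s.1 = β • (1 : Matrix (Fin 2) (Fin 2) F)) : α = 0 ∨ s.1.trace ^ 2 = 4 := by
  by_cases hα : α = 0
  · exact Or.inl hα
  right
  have hc : ∀ r c, α * s.1 r c = β * (1 : Matrix (Fin 2) (Fin 2) F) r c :=
    fun r c => by simpa using congrFun (congrFun h r) c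
  have h01 : s.1 0 1 = 0 := (mul_eq_zero.mp ((hc 0 1).trans (by simp))).resolve_left hα
  have hdiag : s.1 0 0 = s.1 1 1 := mul_left_cancel₀ hα (by rw [hc, hc]; simp)
  have hd := det_eq_one s
  rw [h01, hdiag, zero_mul, sub_zero] at hd
  rw [Matrix.trace_fin_two, hdiag]
  linear_combination 4 * hd

/-- Traces of the lifts of elements of order two, three and five. -/
theorem trace_cases (h : π s ^ 2 = 1 ∨ π s ^ 3 = 1 ∨ π s ^ 5 = 1) :
    s.1.trace = 0 ∨ s.1.trace ^ 2 = 4 ∨ s.1.trace ^ 2 = 1 ∨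
      (s.1.trace ^ 2 - s.1.trace - 1) * (s.1.trace ^ 2 + s.1.trace - 1) = 0 := by
  set t := s.1.trace with ht
  have key : ∀ n : ℕ, π s ^ n = 1 → ∃ β : F, s.1 ^ n = β • (1 : Matrix (Fin 2) (Fin 2) F) := by
    intro n hn
    rw [← map_pow] at hn
    rcases π_one_iff.mp hn with e | e <;> rw [← Matrix.SpecialLinearGroup.coe_pow, e]
    · exact ⟨1, by simp⟩
    · exact ⟨-1, by simp⟩
  have hsq : s.1 * s.1 = t • s.1 - 1 := sq_val s
  have h2 : s.1 ^ 2 = t • s.1 - 1 := by rw [pow_two, hsq]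
  have h3 : s.1 ^ 3 = (t ^ 2 - 1) • s.1 - t • 1 := by
    rw [pow_succ, h2, sub_mul, smul_mul_assoc, hsq, one_mul]; module
  have h4 : s.1 ^ 4 = (t ^ 3 - 2 * t) • s.1 - (t ^ 2 - 1) • 1 := by
    rw [pow_succ, h3, sub_mul, smul_mul_assoc, smul_mul_assoc, hsq, one_mul]; module
  have h5 : s.1 ^ 5 = (t ^ 4 - 3 * t ^ 2 + 1) • s.1 - (t ^ 3 - 2 * t) • 1 := by
    rw [pow_succ, h4, sub_mul, smul_mul_assoc, smul_mul_assoc, hsq, one_mul]; module
  rcases h with h | h | h <;> obtain ⟨β, hβ⟩ := key _ h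
  · rw [h2] at hβ
    rcases scalar_or s (α := t) (β := β + 1) (by rw [add_smul, one_smul, ← hβ, sub_add_cancel]) with e | e
    · exact Or.inl e
    · exact Or.inr (Or.inl e)
  · rw [h3] at hβ
    rcases scalar_or s (α := t ^ 2 - 1) (β := β + t) (by rw [add_smul, ← hβ, sub_add_cancel]) with e | e
    · exact Or.inr (Or.inr (Or.inl (by linear_combination e)))
    · exact Or.inr (Or.inl e)
  · rw [h5] at hβ
    rcases scalar_or s (α := t ^ 4 - 3 * t ^ 2 + 1) (β := β + (t ^ 3 - 2 * t)) (by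
      rw [add_smul β, ← hβ, sub_add_cancel]) with e | e
    · exact Or.inr (Or.inr (Or.inr (by linear_combination e)))
    · exact Or.inr (Or.inl e)

end trace

variable {K : Type v} [Field K] (φ : K →+* F)

/-- Traces against the frame determine the entries. -/
theorem entries_of_traces (h2 : (2 : F) ≠ 0) (a b : K) (hab : φ a ^ 2 + φ b ^ 2 = -1) (Y : Matrix (Fin 2) (Fin 2) F)
    (t0 : ∃ y, Y.trace = φ y) (t1 : ∃ y, (Y * JM).trace = φ y) (t2 : ∃ y, (Y * BM (φ a) (φ b)).trace = φ y)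
    (t3 : ∃ y, (Y * (JM * BM (φ a) (φ b))).trace = φ y) : ∀ r c, ∃ y, Y r c = φ y := by
  obtain ⟨u0, e0⟩ := t0
  obtain ⟨u1, e1⟩ := t1
  obtain ⟨u2, e2⟩ := t2
  obtain ⟨u3, e3⟩ := t3
  simp [JM, BM, Matrix.trace_fin_two, Matrix.mul_apply, Fin.sum_univ_two] at e0 e1 e2 e3
  have hK2 : (2 : K) ≠ 0 := fun e => h2 (by rw [← map_ofNat φ 2, e, map_zero])
  intro r c
  fin_cases r <;> fin_cases c <;> simp only [Fin.zero_eta, Fin.mk_one]
  · refine ⟨(u0 - (a * u2 + b * u3)) / 2, ?_⟩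
    simp only [map_div₀, map_sub, map_add, map_mul, map_ofNat]
    rw [eq_div_iff h2]
    linear_combination e0 - φ a * e2 - φ b * e3 + (Y 0 0 - Y 1 1) * hab
  · refine ⟨(-u1 - (b * u2 - a * u3)) / 2, ?_⟩
    simp only [map_div₀, map_sub, map_add, map_mul, map_neg, map_ofNat]
    rw [eq_div_iff h2]
    linear_combination -e1 - φ b * e2 + φ a * e3 + (Y 0 1 + Y 1 0) * hab
  · refine ⟨(u1 - (b * u2 - a * u3)) / 2, ?_⟩
    simp only [map_div₀, map_sub, map_add, map_mul, map_neg, map_ofNat]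
    rw [eq_div_iff h2]
    linear_combination e1 - φ b * e2 + φ a * e3 + (Y 0 1 + Y 1 0) * hab
  · refine ⟨(u0 + (a * u2 + b * u3)) / 2, ?_⟩
    simp only [map_div₀, map_sub, map_add, map_mul, map_ofNat]
    rw [eq_div_iff h2]
    linear_combination e0 + φ a * e2 + φ b * e3 - (Y 0 0 - Y 1 1) * hab

/-- A matrix carrying the frame to rational matrices is rational up to a scalar. -/
theorem rat_of_normalizing (h2 : (2 : F) ≠ 0) (a b : K) (hab : φ a ^ 2 + φ b ^ 2 = -1) (Y : SL(2, F))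
    (hJ : ∀ r c, ∃ y, (Y.1 * (JM (F := F)) * (Y⁻¹).1) r c = φ y)
    (hB : ∀ r c, ∃ y, (Y.1 * BM (φ a) (φ b) * (Y⁻¹).1) r c = φ y)
    (hJB : ∀ r c, ∃ y, (Y.1 * ((JM (F := F)) * BM (φ a) (φ b)) * (Y⁻¹).1) r c = φ y) : π Y ∈ rat φ := by
  obtain ⟨r₀, c₀, h0⟩ : ∃ r c, Y.1 r c ≠ 0 := by
    by_contra hall
    push Not at hall
    have := det_eq_one Y
    simp [hall] at this
  set R : Subfield F := φ.fieldRange
  have hmem : ∀ {z : F}, (∃ y, z = φ y) → z ∈ R := fun ⟨y, hy⟩ => ⟨y, hy.symm⟩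
  have hid : ∀ r c, (Y.1 * (1 : Matrix (Fin 2) (Fin 2) F) * (Y⁻¹).1) r c ∈ R := fun r c => by
    rw [Matrix.mul_one, ← Matrix.SpecialLinearGroup.coe_mul, mul_inv_cancel, Matrix.SpecialLinearGroup.coe_one]
    fin_cases r <;> fin_cases c <;> simp [one_mem, zero_mem]
  have hφ : ∀ y, φ y ∈ R := fun y => ⟨y, rfl⟩
  have h2R : (2 : F) ∈ R := by rw [show (2 : F) = φ 2 from (map_ofNat φ 2).symm]; exact hφ _
  have hE : ∀ p q : Fin 2, ∀ r c, (Y.1 * Matrix.single p q (1 : F) * (Y⁻¹).1) r c ∈ R := by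
    intro p q r c
    have hlin : ∀ (x0 x1 x2 x3 : F), x0 ∈ R → x1 ∈ R → x2 ∈ R → x3 ∈ R →
        (Y.1 * (x0 • (1 : Matrix (Fin 2) (Fin 2) F) + x1 • (JM (F := F)) + x2 • BM (φ a) (φ b) + x3 • ((JM (F := F)) * BM (φ a) (φ b))) * (Y⁻¹).1) r c ∈ R := by
      intro x0 x1 x2 x3 m0 m1 m2 m3
      simp only [Matrix.mul_add, Matrix.add_mul, Matrix.mul_smul, Matrix.smul_mul, Matrix.add_apply,
        Matrix.smul_apply, smul_eq_mul]
      exact add_mem (add_mem (add_mem (mul_mem m0 (hid r c)) (mul_mem m1 (hmem (hJ r c))))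
        (mul_mem m2 (hmem (hB r c)))) (mul_mem m3 (hmem (hJB r c)))
    have hh : ∀ z ∈ R, z / 2 ∈ R := fun z hz => div_mem hz h2R
    fin_cases p <;> fin_cases q <;> simp only [Fin.zero_eta, Fin.mk_one]
    · have e : Matrix.single (0 : Fin 2) (0 : Fin 2) (1 : F) = (1 / 2 : F) • (1 : Matrix (Fin 2) (Fin 2) F) + (0 : F) • JM +
          (-φ a / 2) • BM (φ a) (φ b) + (-φ b / 2) • (JM * BM (φ a) (φ b)) := by
        ext i j
        fin_cases i <;> fin_cases j <;> simp [JM, BM, Matrix.single, Matrix.mul_apply, Fin.sum_univ_two] <;> field_simp <;>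
          (first | ring1 | linear_combination hab | linear_combination -hab)
      rw [e]
      exact hlin _ _ _ _ (hh _ (one_mem R)) (zero_mem R) (hh _ (neg_mem (hφ a))) (hh _ (neg_mem (hφ b)))
    · have e : Matrix.single (0 : Fin 2) (1 : Fin 2) (1 : F) = (0 : F) • (1 : Matrix (Fin 2) (Fin 2) F) + (1 / 2 : F) • JM +
          (-φ b / 2) • BM (φ a) (φ b) + (φ a / 2) • (JM * BM (φ a) (φ b)) := by
        ext i j
        fin_cases i <;> fin_cases j <;> simp [JM, BM, Matrix.single, Matrix.mul_apply, Fin.sum_univ_two] <;> field_simp <;>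
          (first | ring1 | linear_combination hab | linear_combination -hab)
      rw [e]
      exact hlin _ _ _ _ (zero_mem R) (hh _ (one_mem R)) (hh _ (neg_mem (hφ b))) (hh _ (hφ a))
    · have e : Matrix.single (1 : Fin 2) (0 : Fin 2) (1 : F) = (0 : F) • (1 : Matrix (Fin 2) (Fin 2) F) + (-1 / 2 : F) • JM +
          (-φ b / 2) • BM (φ a) (φ b) + (φ a / 2) • (JM * BM (φ a) (φ b)) := by
        ext i j
        fin_cases i <;> fin_cases j <;> simp [JM, BM, Matrix.single, Matrix.mul_apply, Fin.sum_univ_two] <;> field_simp <;>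
          (first | ring1 | linear_combination hab | linear_combination -hab)
      rw [e]
      exact hlin _ _ _ _ (zero_mem R) (hh _ (neg_mem (one_mem R))) (hh _ (neg_mem (hφ b))) (hh _ (hφ a))
    · have e : Matrix.single (1 : Fin 2) (1 : Fin 2) (1 : F) = (1 / 2 : F) • (1 : Matrix (Fin 2) (Fin 2) F) + (0 : F) • JM +
          (φ a / 2) • BM (φ a) (φ b) + (φ b / 2) • (JM * BM (φ a) (φ b)) := by
        ext i j
        fin_cases i <;> fin_cases j <;> simp [JM, BM, Matrix.single, Matrix.mul_apply, Fin.sum_univ_two] <;> field_simp <;>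
          (first | ring1 | linear_combination hab | linear_combination -hab)
      rw [e]
      exact hlin _ _ _ _ (hh _ (one_mem R)) (zero_mem R) (hh _ (hφ a)) (hh _ (hφ b))
  have hprod : ∀ r p q c, Y.1 r p * (Y⁻¹).1 q c ∈ R := fun r p q c => by
    have := hE p q r c
    rwa [Matrix.mul_apply, Fin.sum_univ_two, Matrix.mul_apply, Matrix.mul_apply, Fin.sum_univ_two, Fin.sum_univ_two,
      show (Y.1 r 0 * Matrix.single p q (1 : F) 0 0 + Y.1 r 1 * Matrix.single p q (1 : F) 1 0) * (Y⁻¹).1 0 c +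
        (Y.1 r 0 * Matrix.single p q (1 : F) 0 1 + Y.1 r 1 * Matrix.single p q (1 : F) 1 1) * (Y⁻¹).1 1 c =
        Y.1 r p * (Y⁻¹).1 q c by fin_cases p <;> fin_cases q <;> simp [Matrix.single]] at this
  refine mem_rat.mpr ⟨Y, Y.1 r₀ c₀, h0, rfl, fun r c => ?_⟩
  have hinv : ∃ q p, (Y⁻¹).1 q p = Y.1 r₀ c₀ ∨ (Y⁻¹).1 q p = -Y.1 r₀ c₀ := by
    rw [Matrix.SpecialLinearGroup.coe_inv, Matrix.adjugate_fin_two]
    fin_cases r₀ <;> fin_cases c₀
    · exact ⟨1, 1, Or.inl (by simp)⟩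
    · exact ⟨0, 1, Or.inr (by simp)⟩
    · exact ⟨1, 0, Or.inr (by simp)⟩
    · exact ⟨0, 0, Or.inl (by simp)⟩
  obtain ⟨q, p, e | e⟩ := hinv
  · obtain ⟨y, hy⟩ := hprod r c q p
    exact ⟨y, by rw [← e, hy]⟩
  · obtain ⟨y, hy⟩ := hprod r c q p
    exact ⟨-y, by rw [map_neg, hy, e, mul_neg, neg_neg]⟩

/-- The size of the rational group. -/
theorem card_rat [Fintype F] [Fintype K] {P : ℕ} (hK : Fintype.card K = P) :
    Nat.card (rat φ) ≤ P * (P ^ 2 - 1) ∧ P * (P ^ 2 - 1) ≤ Nat.gcd 2 (P - 1) * Nat.card (rat φ) ∧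
      ((∀ y : K, ∃ r : F, r * r = φ y) → Nat.card (rat φ) = P * (P ^ 2 - 1)) := by
  classical
  have hex : ∀ g : rat φ, ∃ (s : SL(2, F)) (ρ : F) (Y : GL (Fin 2) K), ρ ≠ 0 ∧ π s = (g : PSL₂ F) ∧
      ∀ r c, s.1 r c * ρ = φ ((Y : Matrix (Fin 2) (Fin 2) K) r c) := by
    rintro ⟨g, s, ρ, hρ, hs, hse⟩
    have hse' := hse
    choose S hS using hse'
    refine ⟨s, ρ, Matrix.GeneralLinearGroup.mkOfDetNeZero !![S 0 0, S 0 1; S 1 0, S 1 1] (fun h => ?_), hρ, hs,
      fun r c => by fin_cases r <;> fin_cases c <;> simp [hS]⟩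
    have h' := congrArg φ h
    simp [Matrix.det_fin_two, ← hS] at h'
    have hd := det_eq_one s
    exact hρ (mul_self_eq_zero.mp (by linear_combination h' - ρ * ρ * hd))
  choose S R Y hR hS hY using hex
  let f : rat φ → Matrix.ProjGenLinGroup (Fin 2) K := fun g => Matrix.ProjGenLinGroup.mk (Y g)
  have huniq : ∀ (g : rat φ) (s : SL(2, F)) (ρ : F) (Z : GL (Fin 2) K), ρ ≠ 0 →
      (∀ r c, s.1 r c * ρ = φ ((Z : Matrix (Fin 2) (Fin 2) K) r c)) →
      Matrix.ProjGenLinGroup.mk Z = Matrix.ProjGenLinGroup.mk (Y g) → (g : PSL₂ F) = π s := by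
    intro g s ρ Z hρ hZ e
    obtain ⟨u, hu⟩ : ∃ u : Kˣ, (Y g : Matrix (Fin 2) (Fin 2) K) = (u : K) • (Z : Matrix (Fin 2) (Fin 2) K) := by
      have hc : Z⁻¹ * Y g ∈ Subgroup.center (GL (Fin 2) K) := QuotientGroup.eq.mp e
      rw [Matrix.GeneralLinearGroup.center_eq_range_scalar] at hc
      obtain ⟨u, hu⟩ := hc
      refine ⟨u, ?_⟩
      have := congrArg (fun M : GL (Fin 2) K => (Z : Matrix (Fin 2) (Fin 2) K) * (M : Matrix (Fin 2) (Fin 2) K)) hu
      simp only [Units.val_mul, ← Matrix.mul_assoc, Units.mul_inv, Matrix.one_mul] at this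
      rw [← this]
      ext r c
      fin_cases c <;> simp [Matrix.mul_apply, Fin.sum_univ_two, mul_comm]
    rw [← hS g]
    refine PSLLie.π_eq_of_proportional (σ := φ (u : K) * ρ) (hR g) fun r c => ?_
    rw [hY, hu, Matrix.smul_apply, smul_eq_mul, map_mul, ← hZ]
    ring
  have hinj : Function.Injective f := fun g g' e =>
    Subtype.ext ((huniq g (S g') (R g') (Y g') (hR g') (hY g') e.symm).trans (hS g'))
  have hle : Nat.card (rat φ) ≤ P * (P ^ 2 - 1) := by
    rw [← hK, ← PSLBounds.card_pgl_two (K := K)]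
    haveI : Finite (Matrix.ProjGenLinGroup (Fin 2) K) := Finite.of_surjective _ Matrix.ProjGenLinGroup.mk_surjective
    exact Nat.card_le_card_of_injective f hinj
  refine ⟨hle, ?_, fun hsq => ?_⟩
  · rw [← SmallPSL.card_psl hK]
    refine Nat.mul_le_mul_left _ (Nat.card_le_card_of_injective
      (fun g : PSL₂ K => (⟨pslMap φ g, ?_⟩ : rat φ)) fun g g' e => pslMap_injective φ (congrArg Subtype.val e))
    obtain ⟨t, rfl⟩ := QuotientGroup.mk'_surjective (Subgroup.center SL(2, K)) g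
    exact ⟨slMap φ t, 1, one_ne_zero, rfl, fun r c => ⟨t.1 r c, by rw [mul_one]; rfl⟩⟩
  · refine le_antisymm hle ?_
    rw [← hK, ← PSLBounds.card_pgl_two (K := K)]
    refine Nat.card_le_card_of_surjective f fun x => ?_
    obtain ⟨Z, rfl⟩ := Matrix.ProjGenLinGroup.mk_surjective x
    obtain ⟨ρ, hρ⟩ := hsq (Z : Matrix (Fin 2) (Fin 2) K).det
    have hρ0 : ρ ≠ 0 := fun e => (Matrix.GeneralLinearGroup.det Z).ne_zero (by
      rw [e, zero_mul, eq_comm, map_eq_zero] at hρ; exact hρ)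
    let s : SL(2, F) := sl (φ ((Z : Matrix (Fin 2) (Fin 2) K) 0 0) / ρ) (φ ((Z : Matrix (Fin 2) (Fin 2) K) 0 1) / ρ)
      (φ ((Z : Matrix (Fin 2) (Fin 2) K) 1 0) / ρ) (φ ((Z : Matrix (Fin 2) (Fin 2) K) 1 1) / ρ) (by
        field_simp
        rw [← map_mul, ← map_mul, ← map_sub, ← Matrix.det_fin_two, ← hρ, pow_two])
    have hs : ∀ r c, s.1 r c * ρ = φ ((Z : Matrix (Fin 2) (Fin 2) K) r c) := fun r c => by
      fin_cases r <;> fin_cases c <;> simp [s, sl00, sl01, sl10, sl11, hρ0]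
    let g : rat φ := ⟨π s, s, ρ, hρ0, rfl, fun r c => ⟨_, hs r c⟩⟩
    refine ⟨g, ?_⟩
    show Matrix.ProjGenLinGroup.mk (Y g) = Matrix.ProjGenLinGroup.mk Z
    have hprop : ∃ t : K, t ≠ 0 ∧ ∀ r c, (Y g : Matrix (Fin 2) (Fin 2) K) r c = t * (Z : Matrix (Fin 2) (Fin 2) K) r c := by
      obtain ⟨ε, hε⟩ : ∃ ε : F, ∀ r c, (S g).1 r c = ε * s.1 r c := by
        rcases π_eq_iff.mp (hS g) with e | e
        · exact ⟨1, fun r c => by rw [one_mul, e]⟩
        · exact ⟨-1, fun r c => by rw [e, val_neg]; ring⟩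
      obtain ⟨r₀, c₀, h0⟩ : ∃ r c, (Z : Matrix (Fin 2) (Fin 2) K) r c ≠ 0 := by
        by_contra hall
        push Not at hall
        exact (Matrix.GeneralLinearGroup.det Z).ne_zero (by
          show (Z : Matrix (Fin 2) (Fin 2) K).det = 0
          rw [Matrix.det_fin_two]; simp [hall])
      set t := (Y g : Matrix (Fin 2) (Fin 2) K) r₀ c₀ / (Z : Matrix (Fin 2) (Fin 2) K) r₀ c₀ with ht
      have hall : ∀ r c, (Y g : Matrix (Fin 2) (Fin 2) K) r c = t * (Z : Matrix (Fin 2) (Fin 2) K) r c := by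
        intro r c
        refine φ.injective ?_
        have h00 : φ ((Z : Matrix (Fin 2) (Fin 2) K) r₀ c₀) ≠ 0 := by rwa [map_ne_zero]
        rw [ht, map_mul, map_div₀, div_mul_eq_mul_div, eq_div_iff h00, ← hY, ← hY, ← hs, ← hs, hε, hε]
        ring
      refine ⟨t, fun e => ?_, hall⟩
      exact (Matrix.GeneralLinearGroup.det (Y g)).ne_zero (by
        show (Y g : Matrix (Fin 2) (Fin 2) K).det = 0
        rw [Matrix.det_fin_two]; simp [hall, e])
    obtain ⟨t, ht, hall⟩ := hprop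
    refine (QuotientGroup.eq.mpr ?_).symm
    rw [Matrix.GeneralLinearGroup.center_eq_range_scalar]
    refine ⟨Units.mk0 t ht, Units.ext ?_⟩
    show Matrix.scalar (Fin 2) t = ((Z⁻¹ * Y g : GL (Fin 2) K) : Matrix (Fin 2) (Fin 2) K)
    rw [Units.val_mul, show ((Y g : GL (Fin 2) K) : Matrix (Fin 2) (Fin 2) K) = t • (Z : Matrix (Fin 2) (Fin 2) K) from
      Matrix.ext hall, Matrix.mul_smul, Units.inv_mul, Matrix.scalar_apply, ← Matrix.smul_one_eq_diagonal]

end Cfsg.Lib.Classical.PSLFrame
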