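import Mathlib
import Cfsg.Agent.Classical.Misc.PSLFourGroupsMain

/-! `A₄` and `S₄` inside `PSL₂`. -/

set_option autoImplicit false
set_option linter.unusedSimpArgs false
set_option linter.unusedSectionVars false
set_option linter.style.haveILetI false
set_option linter.flexible false

namespace Cfsg.Lib.Classical.PSLSolvable

open Matrix
open scoped MatrixGroups
open Cfsg.Lib.Classical.PSLFour

universe u

/-- A finite group with a self-centralising normal four-group moved freely by an element of order three. -/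
theorem iso_four {G : Type*} [Group G] [Finite G] (V : Subgroup G) [V.Normal] (hV : Nat.card V = 4)
    (hC : ∀ g : G, (∀ v ∈ V, g * v = v * g) → g ∈ V) (x : G) (hx : orderOf x = 3)
    (hfix : ∀ v ∈ V, x * v = v * x → v = 1) (hG : Nat.card G = 12 ∨ Nat.card G = 24) :
    (Nat.card G = 12 → Nonempty (G ≃* alternatingGroup (Fin 4))) ∧
      (Nat.card G = 24 → Nonempty (G ≃* Equiv.Perm (Fin 4))) := by
  classical
  haveI := Fact.mk Nat.prime_three
  obtain ⟨P⟩ : Nonempty (Sylow 3 G) := inferInstance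
  have hPc : Nat.card P = 3 := by
    rw [P.card_eq_multiplicity]
    rcases hG with h | h <;> rw [h]
    · rw [show (12 : ℕ) = 3 ^ 1 * 4 from rfl, Nat.factorization_mul (by norm_num) (by norm_num),
        Nat.Prime.factorization_pow Nat.prime_three]
      simp [Nat.factorization_eq_zero_of_not_dvd (show ¬ 3 ∣ 4 by norm_num)]
    · rw [show (24 : ℕ) = 3 ^ 1 * 8 from rfl, Nat.factorization_mul (by norm_num) (by norm_num),
        Nat.Prime.factorization_pow Nat.prime_three]
      simp [Nat.factorization_eq_zero_of_not_dvd (show ¬ 3 ∣ 8 by norm_num)]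
  have hcard3 : Nat.card (Subgroup.zpowers x) = 3 ^ (Nat.card G).factorization 3 := by
    rw [Nat.card_zpowers, hx, ← P.card_eq_multiplicity, hPc]
  let Q : Sylow 3 G := Sylow.ofCard (Subgroup.zpowers x) hcard3
  have hQ : (Q : Subgroup G) = Subgroup.zpowers x := rfl
  have hVK : ∀ v ∈ V, v ∈ Subgroup.normalizer ((Q : Subgroup G) : Set G) → v = 1 := by
    intro v hv hvN
    refine hfix v hv ?_
    have h1 : v * x * v⁻¹ ∈ Subgroup.zpowers x :=
      (Subgroup.mem_normalizer_iff.mp hvN x).mp (hQ ▸ Subgroup.mem_zpowers x)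
    have h2 : v * x * v⁻¹ * x⁻¹ ∈ V := by
      rw [show v * x * v⁻¹ * x⁻¹ = v * (x * v⁻¹ * x⁻¹) by group]
      exact mul_mem hv (Subgroup.Normal.conj_mem ‹_› _ (inv_mem hv) x)
    have h3 : v * x * v⁻¹ * x⁻¹ ∈ Subgroup.zpowers x := mul_mem h1 (inv_mem (Subgroup.mem_zpowers x))
    have h4 : Subgroup.zpowers x ⊓ V = ⊥ := by
      rw [← disjoint_iff]
      exact Subgroup.disjoint_of_coprime_natCard (by rw [Nat.card_zpowers, hx, hV]; norm_num)
    have h5 : v * x * v⁻¹ * x⁻¹ = 1 := (Subgroup.mem_bot).mp (h4 ▸ Subgroup.mem_inf.mpr ⟨h3, h2⟩)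
    rw [mul_inv_eq_one, mul_inv_eq_iff_eq_mul] at h5
    exact h5.symm
  have hn3 : Nat.card (Sylow 3 G) = 4 := by
    have hdvd := Q.card_dvd_index
    have hidx : (Q : Subgroup G).index * 3 = Nat.card G := by
      have := (Q : Subgroup G).index_mul_card
      rwa [hQ, Nat.card_zpowers, hx] at this
    have hmod : Nat.card (Sylow 3 G) % 3 = 1 := card_sylow_modEq_one 3 G
    have hne : Nat.card (Sylow 3 G) ≠ 1 := by
      intro h1
      haveI : Subsingleton (Sylow 3 G) := (Nat.card_eq_one_iff_unique.mp h1).1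
      have hnor : (Q : Subgroup G).Normal := Q.normal_of_subsingleton
      have hall : ∀ v ∈ V, v = 1 := fun v hv => hVK v hv
        (by rw [Subgroup.normalizer_eq_top_iff.mpr hnor]; trivial)
      have : V = ⊥ := (Subgroup.eq_bot_iff_forall V).mpr hall
      rw [this, Subgroup.card_bot] at hV
      omega
    have h8 : Nat.card (Sylow 3 G) ∣ 8 := hdvd.trans (by
      rcases hG with h | h <;> rw [h] at hidx
      · exact ⟨2, by omega⟩
      · exact ⟨1, by omega⟩)
    have hle := Nat.le_of_dvd (by norm_num) h8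
    obtain ⟨c, hc⟩ := h8
    interval_cases hN : Nat.card (Sylow 3 G) <;> omega
  let e : Sylow 3 G ≃ Fin 4 := Finite.equivFinOfCardEq hn3
  let φ : G →* Equiv.Perm (Fin 4) :=
    (Equiv.permCongrHom e).toMonoidHom.comp (MulAction.toPermHom G (Sylow 3 G))
  have hinj : Function.Injective φ := by
    rw [← MonoidHom.ker_eq_bot_iff, Subgroup.eq_bot_iff_forall]
    intro g hg
    have hg' : MulAction.toPermHom G (Sylow 3 G) g = 1 :=
      (Equiv.permCongrHom e).injective ((MonoidHom.mem_ker.mp hg).trans (map_one _).symm)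
    have hall : ∀ S : Sylow 3 G, g • S = S := fun S => by
      have := congrArg (fun p : Equiv.Perm (Sylow 3 G) => p S) hg'
      simpa using this
    have hN : ∀ g : G, (∀ S : Sylow 3 G, g • S = S) → g ∈ Subgroup.normalizer ((Q : Subgroup G) : Set G) :=
      fun g h => Sylow.smul_eq_iff_mem_normalizer.mp (h Q)
    have hgV : g ∈ V := by
      refine hC g fun v hv => ?_
      have hw : g * v * g⁻¹ * v⁻¹ ∈ V := mul_mem (Subgroup.Normal.conj_mem ‹_› _ hv g) (inv_mem hv)
      have hw' : ∀ S : Sylow 3 G, (g * v * g⁻¹ * v⁻¹) • S = S := fun S => by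
        have hgi : ∀ T : Sylow 3 G, g⁻¹ • T = T := fun T => by rw [inv_smul_eq_iff, hall T]
        rw [mul_smul, mul_smul, mul_smul, hgi, smul_inv_smul, hall]
      have h1 := hVK _ hw (hN _ hw')
      rw [mul_inv_eq_one, mul_inv_eq_iff_eq_mul] at h1
      exact h1
    exact hVK g hgV (hN g hall)
  refine ⟨fun h12 => ?_, fun h24 => ?_⟩
  · have hr : φ.range = alternatingGroup (Fin 4) := by
      refine Equiv.Perm.eq_alternatingGroup_of_index_eq_two ?_
      have h := φ.range.index_mul_card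
      rw [← Nat.card_congr (MonoidHom.ofInjective hinj).toEquiv, h12, Nat.card_perm, Nat.card_fin] at h
      norm_num [Nat.factorial] at h
      omega
    exact ⟨(MonoidHom.ofInjective hinj).trans (MulEquiv.subgroupCongr hr)⟩
  · refine ⟨MulEquiv.ofBijective φ ((Nat.bijective_iff_injective_and_card φ).mpr ⟨hinj, ?_⟩)⟩
    rw [h24, Nat.card_perm, Nat.card_fin]
    rfl

variable {F : Type u} [Field F]

local notation "PSL₂" F => Matrix.ProjectiveSpecialLinearGroup (Fin 2) F

section odd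

variable [Fintype F] (hodd : Odd (Fintype.card F))
include hodd

theorem exists_omega {h : SL(2, F)} (hp : IsPair PSLFour.J h) :
    ∃ w : SL(2, F), w * PSLFour.J = h * w ∧ w * h = PSLFour.J * h * w ∧ w * (PSLFour.J * h) = PSLFour.J * w := by
  have h2 := two_ne hodd
  have ht := (sq_iff h).mp hp.2.1
  have e := congrArg (fun y : SL(2, F) => y.1 0 0) hp.2.2
  simp only [val_mul, val_neg, PSLFour.J, sl00, sl01, sl10, sl11] at e
  have hd := det_eq_one h
  rw [ht] at hd
  set a := h.1 0 0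
  set b := h.1 0 1
  have hbc : h.1 1 0 = b := by linear_combination e
  rw [hbc] at hd
  refine ⟨sl ((1 + a + b) / 2) ((1 + b - a) / 2) ((-1 + b - a) / 2) ((1 - a - b) / 2)
    (by field_simp; linear_combination 2 * hd), ?_, ?_, ?_⟩
  all_goals
    refine ext_four ?_ ?_ ?_ ?_ <;>
      simp only [val_mul, PSLFour.J, sl00, sl01, sl10, sl11, ht, hbc] <;> field_simp <;> grind

theorem main_odd :
    (∃ H : Subgroup (PSL₂ F), Nonempty (H ≃* alternatingGroup (Fin 4))) ∧
      (IsSquare (2 : F) → ∃ H : Subgroup (PSL₂ F), Nonempty (H ≃* Equiv.Perm (Fin 4))) := by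
  classical
  obtain ⟨h, hh, hJh, -⟩ := exists_anti (F := F) hodd
  have hp : IsPair PSLFour.J h := ⟨J_sq, hh, hJh⟩
  obtain ⟨w, w1, w2, w3⟩ := exists_omega hodd hp
  set V := Vof PSLFour.J h with hV
  let N : Subgroup (PSL₂ F) := Subgroup.normalizer (V : Set (PSL₂ F))
  let W : Subgroup N := V.subgroupOf N
  haveI : W.Normal := Subgroup.normal_in_normalizer
  have hWc : Nat.card W = 4 := by
    rw [Nat.card_congr (Subgroup.subgroupOfEquivOfLe (Subgroup.le_normalizer)).toEquiv]
    exact (Vof_klein hodd hp).card_four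
  obtain ⟨pa, pb, pc, na, nb, nab⟩ := pair_facts hodd hp
  have hconj : ∀ {x g g' : SL(2, F)}, x * g = g' * x → π x * π g * (π x)⁻¹ = π g' := fun {x g g'} e => by
    rw [π_conj, e, mul_inv_cancel_right]
  have cJ := hconj w1
  have ch := hconj w2
  have cJh := hconj w3
  have hJh' : π (PSLFour.J * h) ≠ 1 := by
    rw [map_mul]
    intro h0
    apply nab
    calc π (PSLFour.J : SL(2, F)) = π PSLFour.J * (π h * π h) := by rw [pb, mul_one]
      _ = π h := by rw [← mul_assoc, h0, one_mul]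
  have hwN : π w ∈ N := by
    refine Subgroup.mem_normalizer_fintype fun v hv => ?_
    rw [SetLike.mem_coe, hV, mem_Vof hodd hp] at hv ⊢
    rcases hv with rfl | rfl | rfl | rfl
    · exact Or.inl (by rw [mul_one, mul_inv_cancel])
    · exact Or.inr (Or.inr (Or.inl cJ))
    · exact Or.inr (Or.inr (Or.inr ch))
    · exact Or.inr (Or.inl cJh)
  have hfix : ∀ v ∈ W, (⟨π w, hwN⟩ : N) * v = v * ⟨π w, hwN⟩ → v = 1 := by
    intro v hv hc
    have hc' : π w * (v : PSL₂ F) * (π w)⁻¹ = v := by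
      rw [mul_inv_eq_iff_eq_mul]; exact congrArg Subtype.val hc
    have hv' : (v : PSL₂ F) ∈ Vof PSLFour.J h := hv
    rw [mem_Vof hodd hp] at hv'
    refine Subtype.ext ?_
    rcases hv' with e | e | e | e <;> rw [e] at hc'
    · exact e
    · exact absurd (cJ.symm.trans hc').symm nab
    · rw [ch, map_mul] at hc'
      exact absurd (mul_right_cancel (hc'.trans (one_mul _).symm)) na
    · rw [cJh, map_mul] at hc'
      exact absurd (mul_left_cancel ((mul_one _).trans hc').symm) nb
  have hCW : ∀ g : N, (∀ v ∈ W, g * v = v * g) → g ∈ W := by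
    intro g hg
    have key : ∀ k : SL(2, F), π k ∈ Vof PSLFour.J h → (g : PSL₂ F) * π k * (g : PSL₂ F)⁻¹ = π k := fun k hk => by
      rw [mul_inv_eq_iff_eq_mul]
      exact congrArg Subtype.val (hg ⟨π k, Subgroup.le_normalizer hk⟩ hk)
    obtain ⟨x, hx⟩ := QuotientGroup.mk'_surjective (Subgroup.center SL(2, F)) (g : PSL₂ F)
    have k1 := key PSLFour.J (Subgroup.subset_closure (Set.mem_insert _ _))
    have k2 := key h (Subgroup.subset_closure (Set.mem_insert_of_mem _ rfl))
    rw [← hx, π_conj, eq_comm, π_eq_iff] at k1 k2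
    show (g : PSL₂ F) ∈ Vof PSLFour.J h
    rw [← hx, mem_Vof hodd hp]
    obtain ⟨t, ht, htJ, hth⟩ : ∃ t : SL(2, F), (t = x ∨ t = PSLFour.J * x ∨ t = h * x ∨ t = PSLFour.J * h * x) ∧
        t * PSLFour.J * t⁻¹ = PSLFour.J ∧ t * h * t⁻¹ = h := by
      have hJ1 : (PSLFour.J : SL(2, F)) * PSLFour.J * PSLFour.J⁻¹ = PSLFour.J := mul_inv_cancel_right _ _
      have hJ2 : (PSLFour.J : SL(2, F)) * h * PSLFour.J⁻¹ = -h := by rw [mul_inv_eq_iff_eq_mul, neg_mul, hJh]
      have hh1 : h * PSLFour.J * h⁻¹ = -PSLFour.J := by rw [mul_inv_eq_iff_eq_mul, neg_mul, hJh, neg_neg]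
      have hh2 : h * h * h⁻¹ = h := mul_inv_cancel_right _ _
      have hcj : ∀ y k k' : SL(2, F), x * k * x⁻¹ = k' → y * x * k * (y * x)⁻¹ = y * k' * y⁻¹ := fun y k k' e => by
        rw [← e]; group
      have hJh1 : PSLFour.J * h * PSLFour.J * (PSLFour.J * h)⁻¹ = -PSLFour.J := by
        calc PSLFour.J * h * PSLFour.J * (PSLFour.J * h)⁻¹ = PSLFour.J * (h * PSLFour.J * h⁻¹) * PSLFour.J⁻¹ := by group
          _ = -PSLFour.J := by rw [hh1]; simp
      have hJh2 : PSLFour.J * h * h * (PSLFour.J * h)⁻¹ = -h := by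
        calc PSLFour.J * h * h * (PSLFour.J * h)⁻¹ = PSLFour.J * (h * h * h⁻¹) * PSLFour.J⁻¹ := by group
          _ = -h := by rw [hh2, hJ2]
      rcases k1 with e1 | e1 <;> rcases k2 with e2 | e2
      · exact ⟨x, Or.inl rfl, e1, e2⟩
      · exact ⟨PSLFour.J * x, Or.inr (Or.inl rfl), by rw [hcj _ _ _ e1, hJ1],
          by rw [hcj _ _ _ e2, mul_neg, neg_mul, hJ2, neg_neg]⟩
      · exact ⟨h * x, Or.inr (Or.inr (Or.inl rfl)), by rw [hcj _ _ _ e1, mul_neg, neg_mul, hh1, neg_neg],
          by rw [hcj _ _ _ e2, hh2]⟩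
      · exact ⟨PSLFour.J * h * x, Or.inr (Or.inr (Or.inr rfl)), by rw [hcj _ _ _ e1, mul_neg, neg_mul, hJh1, neg_neg],
          by rw [hcj _ _ _ e2, mul_neg, neg_mul, hJh2, neg_neg]⟩
    have h1 := mul_inv_eq_iff_eq_mul.mp htJ
    have h2 := mul_inv_eq_iff_eq_mul.mp hth
    have htC : t ∈ C := Subgroup.mem_centralizer_singleton_iff.mpr h1
    have htt : t * t = 1 := by
      obtain ⟨c0, c1⟩ := mem_C.mp htC
      have a0 := congrArg (fun y : SL(2, F) => y.1 0 0) h2
      have a1 := congrArg (fun y : SL(2, F) => y.1 0 1) h2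
      have e := congrArg (fun y : SL(2, F) => y.1 0 0) hp.2.2
      have hd := det_eq_one h
      have hdt := det_eq_one t
      have hht := (sq_iff h).mp hh
      simp only [val_mul, val_neg, PSLFour.J, sl00, sl01, sl10, sl11, c0, c1, hht] at a0 a1 e hd hdt
      have h2' := two_ne hodd
      obtain ⟨e00, e01, e10, e11⟩ := val_one (F := F)
      refine ext_four ?_ ?_ ?_ ?_ <;> simp only [val_mul, c0, c1, e00, e01, e10, e11] <;> grind
    have hπt : π t = 1 := π_one_iff.mpr (eq_or_neg hodd htt)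
    rcases ht with rfl | rfl | rfl | rfl
    · exact Or.inl hπt
    · rw [map_mul] at hπt
      exact Or.inr (Or.inl ((eq_inv_of_mul_eq_one_right hπt).trans (inv_eq_of_mul_eq_one_left pa)))
    · rw [map_mul] at hπt
      exact Or.inr (Or.inr (Or.inl ((eq_inv_of_mul_eq_one_right hπt).trans (inv_eq_of_mul_eq_one_left pb))))
    · rw [map_mul] at hπt
      refine Or.inr (Or.inr (Or.inr ((eq_inv_of_mul_eq_one_right hπt).trans (inv_eq_of_mul_eq_one_left ?_))))
      rw [map_mul]
      calc π PSLFour.J * π h * (π PSLFour.J * π h) = π PSLFour.J * (π h * π PSLFour.J) * π h := by group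
        _ = π PSLFour.J * π PSLFour.J * (π h * π h) := by rw [← pc]; group
        _ = 1 := by rw [pa, pb, mul_one]
  let X : N := ⟨π w, hwN⟩
  let a₁ : W := ⟨⟨π PSLFour.J, Subgroup.le_normalizer (Subgroup.subset_closure (Set.mem_insert _ _))⟩,
    Subgroup.subset_closure (Set.mem_insert _ _)⟩
  let b₁ : W := ⟨⟨π h, Subgroup.le_normalizer (Subgroup.subset_closure (Set.mem_insert_of_mem _ rfl))⟩,
    Subgroup.subset_closure (Set.mem_insert_of_mem _ rfl)⟩
  have hX3 : X ^ 3 = 1 := by
    have hc : ∀ v : W, X ^ 3 * v.1 = v.1 * X ^ 3 := by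
      intro v
      refine Subtype.ext ?_
      rw [Subgroup.coe_mul, Subgroup.coe_mul, SubmonoidClass.coe_pow, ← mul_inv_eq_iff_eq_mul]
      have hv : (v.1 : PSL₂ F) ∈ Vof PSLFour.J h := v.2
      have e3 : ∀ y : PSL₂ F, π w ^ 3 * y * (π w ^ 3)⁻¹ =
          π w * (π w * (π w * y * (π w)⁻¹) * (π w)⁻¹) * (π w)⁻¹ := fun y => by
        simp [pow_succ, mul_assoc]
      rw [show (X : PSL₂ F) = π w from rfl, e3]
      rcases (mem_Vof hodd hp _).mp hv with e | e | e | e <;> rw [e]
      · simp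
      · rw [cJ, ch, cJh]
      · rw [ch, cJh, cJ]
      · rw [cJh, cJ, ch]
    obtain hm := hCW (X ^ 3) (fun v hv => hc ⟨v, hv⟩)
    refine hfix _ hm ?_
    rw [← pow_succ', ← pow_succ]
  have hX1 : X ≠ 1 := fun h0 => by
    have := hfix a₁ a₁.2 (by rw [show (⟨π w, hwN⟩ : N) = 1 from h0, one_mul, mul_one])
    exact na (congrArg Subtype.val this)
  have hord : orderOf X = 3 := orderOf_eq_prime (hp := ⟨Nat.prime_three⟩) hX3 hX1
  have hperm : Nat.card N = 12 ∨ Nat.card N = 24 := by
    let S := {p : (PSL₂ F) × (PSL₂ F) // p.1 ∈ Vof PSLFour.J h ∧ p.2 ∈ Vof PSLFour.J h ∧ p.1 ≠ 1 ∧ p.2 ≠ 1 ∧ p.1 ≠ p.2}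
    let f : N → S := fun g => ⟨((g : PSL₂ F) * π PSLFour.J * (g : PSL₂ F)⁻¹, (g : PSL₂ F) * π h * (g : PSL₂ F)⁻¹),
      (Subgroup.mem_normalizer_iff.mp g.2 _).mp (Subgroup.subset_closure (Set.mem_insert _ _)),
      (Subgroup.mem_normalizer_iff.mp g.2 _).mp (Subgroup.subset_closure (Set.mem_insert_of_mem _ rfl)),
      fun h0 => na (conj_eq_one_iff.mp h0), fun h0 => nb (conj_eq_one_iff.mp h0),
      fun h0 => nab (mul_left_cancel (mul_right_cancel h0))⟩
    have hS : Nat.card S = 6 := by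
      haveI : Fintype (Vof PSLFour.J h : Subgroup (PSL₂ F)) := Fintype.ofFinite _
      have hc4 : Fintype.card (Vof PSLFour.J h : Subgroup (PSL₂ F)) = 4 := by
        rw [← Nat.card_eq_fintype_card]; exact (Vof_klein hodd hp).card_four
      let T := {p : ↥(Vof PSLFour.J h) × ↥(Vof PSLFour.J h) //
        p.1 ≠ 1 ∧ p.2 ≠ 1 ∧ p.1 ≠ p.2}
      have he : S ≃ T :=
        { toFun := fun s => ⟨(⟨s.1.1, s.2.1⟩, ⟨s.1.2, s.2.2.1⟩), fun e => s.2.2.2.1 (congrArg Subtype.val e),
            fun e => s.2.2.2.2.1 (congrArg Subtype.val e), fun e => s.2.2.2.2.2 (congrArg Subtype.val e)⟩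
          invFun := fun t => ⟨((t.1.1 : PSL₂ F), (t.1.2 : PSL₂ F)), t.1.1.2, t.1.2.2,
            fun e => t.2.1 (Subtype.ext e), fun e => t.2.2.1 (Subtype.ext e), fun e => t.2.2.2 (Subtype.ext e)⟩
          left_inv := fun _ => rfl
          right_inv := fun _ => rfl }
      rw [Nat.card_congr he, Nat.card_eq_fintype_card, Fintype.card_subtype,
        show (Finset.univ.filter fun p : ↥(Vof PSLFour.J h) × ↥(Vof PSLFour.J h) =>
            p.1 ≠ 1 ∧ p.2 ≠ 1 ∧ p.1 ≠ p.2) =
          ((Finset.univ : Finset (Vof PSLFour.J h : Subgroup (PSL₂ F))).erase 1).offDiag from by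
            ext ⟨a, b⟩; simp [Finset.mem_offDiag],
        Finset.offDiag_card, Finset.card_erase_of_mem (Finset.mem_univ _), Finset.card_univ, hc4]
    have hker : ∀ g g' : N, f g = f g' → g'⁻¹ * g ∈ W := by
      intro g g' hgg
      have e1 := congrArg (fun s : S => s.1.1) hgg
      have e2 := congrArg (fun s : S => s.1.2) hgg
      simp only [f] at e1 e2
      refine hCW _ fun v hv => Subtype.ext ?_
      have hv' : (v : PSL₂ F) ∈ Vof PSLFour.J h := hv
      have tr : ∀ y : PSL₂ F, (g : PSL₂ F) * y * (g : PSL₂ F)⁻¹ = g' * y * (g' : PSL₂ F)⁻¹ →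
          ((g'⁻¹ * g : N) : PSL₂ F) * y = y * ((g'⁻¹ * g : N) : PSL₂ F) := fun y e => by
        rw [Subgroup.coe_mul, Subgroup.coe_inv]
        calc (g' : PSL₂ F)⁻¹ * g * y = (g' : PSL₂ F)⁻¹ * ((g : PSL₂ F) * y * (g : PSL₂ F)⁻¹) * g := by group
          _ = (g' : PSL₂ F)⁻¹ * ((g' : PSL₂ F) * y * (g' : PSL₂ F)⁻¹) * g := by rw [e]
          _ = y * ((g' : PSL₂ F)⁻¹ * g) := by group
      show ((g'⁻¹ * g : N) : PSL₂ F) * (v : PSL₂ F) = (v : PSL₂ F) * ((g'⁻¹ * g : N) : PSL₂ F)
      rcases (mem_Vof hodd hp _).mp hv' with e | e | e | e <;> rw [e] <;> apply tr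
      · simp
      · exact e1
      · exact e2
      · rw [map_mul]
        calc (g : PSL₂ F) * (π PSLFour.J * π h) * (g : PSL₂ F)⁻¹ =
              ((g : PSL₂ F) * π PSLFour.J * (g : PSL₂ F)⁻¹) * ((g : PSL₂ F) * π h * (g : PSL₂ F)⁻¹) := by group
          _ = (g' : PSL₂ F) * (π PSLFour.J * π h) * (g' : PSL₂ F)⁻¹ := by rw [e1, e2]; group
    let F' : N ⧸ W → S := fun c => f c.out
    have hF' : Function.Injective F' := fun c c' hcc => by
      rw [← c.out_eq', ← c'.out_eq']
      exact (QuotientGroup.eq.mpr (hker _ _ hcc)).symm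
    have hle := Nat.card_le_card_of_injective F' hF'
    rw [hS] at hle
    have hN := W.card_eq_card_quotient_mul_card_subgroup
    rw [hWc] at hN
    have h3 : 3 ∣ Nat.card N := hord ▸ orderOf_dvd_natCard X
    rw [hN] at h3
    have h3' : 3 ∣ Nat.card (N ⧸ W) := (Nat.Coprime.dvd_of_dvd_mul_right (by norm_num) h3)
    have hpos : 0 < Nat.card (N ⧸ W) := Nat.card_pos
    obtain ⟨k, hk⟩ := h3'
    rw [hN, hk]
    omega
  obtain ⟨i12, i24⟩ := iso_four W hWc hCW X hord hfix hperm
  have hA : ∀ {H : Subgroup (PSL₂ F)}, Nonempty (H ≃* Equiv.Perm (Fin 4)) →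
      ∃ H' : Subgroup (PSL₂ F), Nonempty (H' ≃* alternatingGroup (Fin 4)) := by
    rintro H ⟨e⟩
    let ψ : alternatingGroup (Fin 4) →* PSL₂ F :=
      H.subtype.comp (e.symm.toMonoidHom.comp (alternatingGroup (Fin 4)).subtype)
    have hψ : Function.Injective ψ :=
      H.subtype_injective.comp (e.symm.injective.comp (alternatingGroup (Fin 4)).subtype_injective)
    exact ⟨ψ.range, ⟨(MonoidHom.ofInjective hψ).symm⟩⟩
  refine ⟨hperm.elim (fun h12 => ⟨N, i12 h12⟩) (fun h24 => hA (i24 h24)), fun hsq => ⟨N, i24 ?_⟩⟩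
  refine hperm.resolve_left fun h12 => ?_
  obtain ⟨s, hs⟩ := hsq
  obtain ⟨u, hu1, hu2⟩ := swap_pair hp hs.symm (two_ne hodd)
  have e1 : π u * π PSLFour.J * (π u)⁻¹ = π h := by rw [π_conj, hu1]
  have e2 : π u * π h * (π u)⁻¹ = π PSLFour.J := by rw [π_conj, hu2]
  have huN : π u ∈ N := by
    refine Subgroup.mem_normalizer_fintype fun v hv => ?_
    rw [SetLike.mem_coe, hV, mem_Vof hodd hp] at hv ⊢
    rcases hv with rfl | rfl | rfl | rfl
    · exact Or.inl (by rw [mul_one, mul_inv_cancel])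
    · exact Or.inr (Or.inr (Or.inl e1))
    · exact Or.inr (Or.inl e2)
    · refine Or.inr (Or.inr (Or.inr ?_))
      calc π u * π (PSLFour.J * h) * (π u)⁻¹ = (π u * π PSLFour.J * (π u)⁻¹) * (π u * π h * (π u)⁻¹) := by rw [map_mul]; group
        _ = π (PSLFour.J * h) := by rw [e1, e2, ← pc, map_mul]
  let U : N := ⟨π u, huN⟩
  -- the image of `U` in `N ⧸ W` has order two
  have hU2 : U ^ 2 ∈ W := by
    refine hCW _ fun v hv => Subtype.ext ?_
    rw [Subgroup.coe_mul, Subgroup.coe_mul, SubmonoidClass.coe_pow, ← mul_inv_eq_iff_eq_mul,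
      show (U : PSL₂ F) = π u from rfl]
    have e4 : ∀ y : PSL₂ F, π u ^ 2 * y * (π u ^ 2)⁻¹ = π u * (π u * y * (π u)⁻¹) * (π u)⁻¹ := fun y => by
      simp [pow_succ, mul_assoc]
    rw [e4]
    have hv' : (v : PSL₂ F) ∈ Vof PSLFour.J h := hv
    rcases (mem_Vof hodd hp _).mp hv' with e | e | e | e <;> rw [e]
    · simp
    · rw [e1, e2]
    · rw [e2, e1]
    · calc π u * (π u * π (PSLFour.J * h) * (π u)⁻¹) * (π u)⁻¹ = (π u * (π u * π PSLFour.J * (π u)⁻¹) * (π u)⁻¹) *
            (π u * (π u * π h * (π u)⁻¹) * (π u)⁻¹) := by rw [map_mul]; group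
        _ = π (PSLFour.J * h) := by simp only [e1, e2, map_mul]
  have hUnot : U ∉ W := fun hU => by
    have hmem : (U : PSL₂ F) ∈ Vof PSLFour.J h := hU
    have hfix1 : π u * π PSLFour.J * (π u)⁻¹ = π PSLFour.J := by
      rcases (mem_Vof hodd hp _).mp hmem with e | e | e | e <;>
        rw [show (π u : PSL₂ F) = (U : PSL₂ F) from rfl, e]
      · simp
      · exact mul_inv_cancel_right _ _
      · rw [← pc, mul_inv_cancel_right]
      · rw [map_mul, mul_inv_eq_iff_eq_mul, mul_assoc, ← pc]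
    exact nab (hfix1.symm.trans e1)
  have hordU : orderOf (QuotientGroup.mk' W U) = 2 := orderOf_eq_prime (hp := ⟨Nat.prime_two⟩)
    (by rw [← map_pow]; exact (QuotientGroup.eq_one_iff _).mpr hU2)
    (fun h0 => hUnot ((QuotientGroup.eq_one_iff _).mp h0))
  have h2 := orderOf_dvd_natCard (QuotientGroup.mk' W U)
  rw [hordU] at h2
  have hN := W.card_eq_card_quotient_mul_card_subgroup
  rw [hWc, h12] at hN
  omega

end odd

theorem no_order_four [Fintype F] (hchar : (2 : F) = 0) (y : PSL₂ F) (h4 : y ^ 4 = 1) : y ^ 2 = 1 := by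
  obtain ⟨g, rfl⟩ := QuotientGroup.mk'_surjective _ y
  change (π g) ^ 4 = 1 at h4
  change (π g) ^ 2 = 1
  rw [← map_pow, π_one_iff] at h4 ⊢
  have hneg : (-1 : SL(2, F)) = 1 := by
    refine ext_four ?_ ?_ ?_ ?_ <;> simp <;> linear_combination -hchar
  rw [hneg, or_self] at h4 ⊢
  rw [pow_two]
  conv_rhs => rw [← hneg]
  rw [sq_iff]
  have e : g ^ 4 = g * g * (g * g) := by rw [pow_succ, pow_succ, pow_succ, pow_one]; group
  rw [e] at h4
  have hd := det_eq_one g
  have a0 := congrArg (fun y : SL(2, F) => y.1 0 0) h4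
  have a3 := congrArg (fun y : SL(2, F) => y.1 1 1) h4
  simp [val_mul] at a0 a3
  have hsq : (g.1 0 0 + g.1 1 1) ^ 4 = 0 := by grind
  exact eq_neg_of_add_eq_zero_right (eq_zero_of_pow_eq_zero hsq)

theorem S4_even [Fintype F] (hchar : (2 : F) = 0) (H : Subgroup (PSL₂ F)) :
    ¬ Nonempty (H ≃* Equiv.Perm (Fin 4)) := by
  rintro ⟨e⟩
  let c : Equiv.Perm (Fin 4) := finRotate 4
  have h4 : c ^ 4 = 1 := by decide
  have h2 : c ^ 2 ≠ 1 := by decide
  apply h2
  have h := no_order_four hchar ((e.symm c : H) : PSL₂ F)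
    (by rw [← SubmonoidClass.coe_pow, ← map_pow, h4, map_one, OneMemClass.coe_one])
  rw [← SubmonoidClass.coe_pow, ← map_pow, OneMemClass.coe_eq_one, map_eq_one_iff _ e.symm.injective] at h
  exact h

theorem A4_two_odd [Fintype F] (hchar : (2 : F) = 0) (h3 : ¬ 3 ∣ Fintype.card F - 1) (H : Subgroup (PSL₂ F)) :
    ¬ Nonempty (H ≃* alternatingGroup (Fin 4)) := by
  classical
  rintro ⟨e⟩
  have hneg : (-1 : SL(2, F)) = 1 := by
    refine ext_four ?_ ?_ ?_ ?_ <;> simp <;> linear_combination -hchar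
  have hπ : Function.Injective (π (F := F)) := fun a b hab => by
    rcases π_eq_iff.mp hab with h | h
    · exact h.symm
    · rw [h, ← neg_one_mul, hneg, one_mul]
  let tA : alternatingGroup (Fin 4) := ⟨Equiv.swap 0 1 * Equiv.swap 2 3, Equiv.Perm.mem_alternatingGroup.mpr (by decide)⟩
  let xA : alternatingGroup (Fin 4) := ⟨Equiv.swap 0 1 * Equiv.swap 1 2, Equiv.Perm.mem_alternatingGroup.mpr (by decide)⟩
  let F' : alternatingGroup (Fin 4) →* PSL₂ F := H.subtype.comp e.symm.toMonoidHom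
  have hF' : Function.Injective F' := H.subtype_injective.comp e.symm.injective
  obtain ⟨t, ht⟩ := QuotientGroup.mk'_surjective (Subgroup.center SL(2, F)) (F' tA)
  obtain ⟨x, hx⟩ := QuotientGroup.mk'_surjective (Subgroup.center SL(2, F)) (F' xA)
  have htt : t * t = 1 := hπ (by rw [map_mul, ht, map_one, ← map_mul, show tA * tA = 1 by decide, map_one])
  have hxx : x * x * x = 1 := hπ (by
    rw [map_mul, map_mul, hx, map_one, ← map_mul, ← map_mul, show xA * xA * xA = 1 by decide, map_one])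
  have ht1 : t ≠ 1 := fun h => by
    rw [h, map_one, eq_comm] at ht
    exact absurd (hF' (ht.trans (map_one F').symm)) (by decide)
  have hx1 : x * x ≠ 1 := fun h => by
    have h' : F' (xA * xA) = F' 1 := by rw [map_mul, ← hx, ← map_mul, h, map_one, map_one]
    exact absurd (hF' h') (by decide)
  have hc : x * t * x⁻¹ * t = t * (x * t * x⁻¹) := hπ (by
    simp only [map_mul, map_inv]
    rw [ht, hx, ← map_inv F', ← map_mul, ← map_mul, ← map_mul, ← map_mul,
      show xA * tA * xA⁻¹ * tA = tA * (xA * tA * xA⁻¹) by decide])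
  -- the fixed line of `t`
  have htr : t.1 1 1 = -t.1 0 0 := (sq_iff t).mp (by rw [htt, hneg])
  have hd := det_eq_one t
  rw [htr] at hd
  have ex : ∃ v : Fin 2 → F, v ≠ 0 ∧ t.1 *ᵥ v = v ∧ ∀ z, t.1 *ᵥ z = z → ∃ k : F, z = k • v := by
    by_cases hb : t.1 0 1 = 0
    · have hsq1 : (t.1 0 0 - 1) ^ 2 = 0 := by
        rw [hb] at hd
        linear_combination -hd - t.1 0 0 * hchar
      have ha : t.1 0 0 = 1 := sub_eq_zero.mp (eq_zero_of_pow_eq_zero hsq1)
      have hc0 : t.1 1 0 ≠ 0 := fun hc0 => ht1 (ext_four (by simp [ha]) (by simp [hb]) (by simp [hc0])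
        (by simp [htr, ha]; linear_combination -hchar))
      refine ⟨![0, 1], fun h => by simpa using congrFun h 1, ?_, fun z hz => ⟨z 1, ?_⟩⟩
      · funext i
        fin_cases i <;> simp [Matrix.mulVec, dotProduct, Fin.sum_univ_two, hb, htr, ha]
        linear_combination -hchar
      · have h1 := congrFun hz 1
        simp [Matrix.mulVec, dotProduct, Fin.sum_univ_two, htr, ha] at h1
        have hz0 : z 0 = 0 := (mul_eq_zero.mp (by linear_combination h1 + z 1 * hchar : t.1 1 0 * z 0 = 0)).resolve_left hc0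
        funext i
        fin_cases i <;> simp [hz0]
    · refine ⟨![t.1 0 1, 1 - t.1 0 0], fun h => hb (by simpa using congrFun h 0), ?_, fun z hz =>
        ⟨z 0 / t.1 0 1, ?_⟩⟩
      · funext i
        fin_cases i <;> simp [Matrix.mulVec, dotProduct, Fin.sum_univ_two, htr]
        · ring
        · linear_combination -hd - hchar
      · have h0 := congrFun hz 0
        simp [Matrix.mulVec, dotProduct, Fin.sum_univ_two] at h0
        funext i
        fin_cases i <;> simp
        · field_simp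
        · field_simp
          linear_combination h0
  obtain ⟨v, hv0, htv, hline⟩ := ex
  set s := x * t * x⁻¹ with hs
  have hsv : s.1 *ᵥ v = v := by
    have h1 : t.1 *ᵥ (s.1 *ᵥ v) = s.1 *ᵥ v := by
      rw [Matrix.mulVec_mulVec, ← Matrix.SpecialLinearGroup.coe_mul, ← hc, Matrix.SpecialLinearGroup.coe_mul,
        ← Matrix.mulVec_mulVec, htv]
    obtain ⟨k, hk⟩ := hline _ h1
    have hss : s * s = 1 := by
      rw [hs, show x * t * x⁻¹ * (x * t * x⁻¹) = x * (t * t) * x⁻¹ by group, htt]; group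
    have h2 : (s * s).1 *ᵥ v = v := by rw [hss]; simp
    rw [Matrix.SpecialLinearGroup.coe_mul, ← Matrix.mulVec_mulVec, hk, Matrix.mulVec_smul, hk, smul_smul] at h2
    have hk2 : k * k = 1 := smul_left_injective F hv0 (h2.trans (one_smul F v).symm)
    have hsq1 : (k - 1) ^ 2 = 0 := by linear_combination hk2 - (k - 1) * hchar
    have hk1 : k = 1 := sub_eq_zero.mp (eq_zero_of_pow_eq_zero hsq1)
    rw [hk, hk1, one_smul]
  have hxi : x⁻¹.1 *ᵥ v = v ∨ ∃ k : F, x⁻¹.1 *ᵥ v = k • v := by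
    right
    refine hline _ ?_
    have e : t * x⁻¹ = x⁻¹ * s := by rw [hs]; group
    rw [Matrix.mulVec_mulVec, ← Matrix.SpecialLinearGroup.coe_mul, e, Matrix.SpecialLinearGroup.coe_mul,
      ← Matrix.mulVec_mulVec, hsv]
  obtain ⟨k, hk⟩ : ∃ k : F, x⁻¹.1 *ᵥ v = k • v := by
    rcases hxi with h | h
    · exact ⟨1, by rw [h, one_smul]⟩
    · exact h
  have hxi3 : x⁻¹ * x⁻¹ * x⁻¹ = 1 := by
    rw [← _root_.mul_inv_rev, ← _root_.mul_inv_rev, ← mul_assoc, hxx, inv_one]
  have hk3 : k * (k * k) = 1 := by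
    have h2 : (x⁻¹ * x⁻¹ * x⁻¹).1 *ᵥ v = v := by rw [hxi3]; simp
    rw [Matrix.SpecialLinearGroup.coe_mul, Matrix.SpecialLinearGroup.coe_mul, ← Matrix.mulVec_mulVec,
      ← Matrix.mulVec_mulVec, hk, Matrix.mulVec_smul, hk, Matrix.mulVec_smul, Matrix.mulVec_smul, hk,
      smul_smul, smul_smul] at h2
    exact smul_left_injective F hv0 ((by rw [← h2]; congr 1; ring : (k * (k * k)) • v = v).trans (one_smul F v).symm)
  have hk1 : k = 1 := by
    have hk0 : k ≠ 0 := left_ne_zero_of_mul (hk3 ▸ one_ne_zero)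
    have hu : Units.mk0 k hk0 ^ 3 = 1 := Units.ext (by simp; linear_combination hk3)
    have hd : orderOf (Units.mk0 k hk0) ∣ 3 := orderOf_dvd_of_pow_eq_one hu
    rcases (Nat.dvd_prime Nat.prime_three).mp hd with h | h
    · simpa using congrArg Units.val (orderOf_eq_one_iff.mp h)
    · exfalso
      apply h3
      rw [← h, ← Fintype.card_units]
      exact orderOf_dvd_card
  rw [hk1, one_smul] at hk
  -- an element with a fixed vector and determinant one has trace two
  set y := x⁻¹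
  have hdet : (y.1 - 1).det = 0 := by
    rw [← Matrix.exists_mulVec_eq_zero_iff]
    exact ⟨v, hv0, by rw [Matrix.sub_mulVec, Matrix.one_mulVec, hk, sub_self]⟩
  have hdy := det_eq_one y
  rw [Matrix.det_fin_two] at hdet
  simp at hdet
  have hy : y.1 1 1 = -y.1 0 0 := by linear_combination -hdet + hdy + hchar
  have hyy : y * y = 1 := by rw [(sq_iff y).mpr hy, hneg]
  apply hx1
  rw [← _root_.inv_inj, _root_.mul_inv_rev, inv_one]
  exact hyy

theorem A4_two_even [Fintype F] (hchar : (2 : F) = 0) (h3 : 3 ∣ Fintype.card F - 1) :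
    ∃ H : Subgroup (PSL₂ F), Nonempty (H ≃* alternatingGroup (Fin 4)) := by
  classical
  haveI := Fact.mk Nat.prime_three
  obtain ⟨z, hz⟩ := exists_prime_orderOf_dvd_card (G := Fˣ) 3 (by rw [Fintype.card_units]; exact h3)
  set w : F := (z : F) with hw
  have hw3 : w * w * w = 1 := by
    have h := congrArg Units.val (hz ▸ pow_orderOf_eq_one z : z ^ 3 = 1)
    push_cast at h
    linear_combination h
  have hw1 : w ≠ 1 := fun h => by
    rw [show z = 1 from Units.ext h, orderOf_one] at hz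
    omega
  have hww : w * w + w + 1 = 0 :=
    (mul_eq_zero.mp (by linear_combination hw3 : (w - 1) * (w * w + w + 1) = 0)).resolve_left (sub_ne_zero.mpr hw1)
  have hneg : (-1 : SL(2, F)) = 1 := by
    refine ext_four ?_ ?_ ?_ ?_ <;> simp <;> linear_combination -hchar
  have hπ : Function.Injective (π (F := F)) := fun a b hab => by
    rcases π_eq_iff.mp hab with h | h
    · exact h.symm
    · rw [h, ← neg_one_mul, hneg, one_mul]
  let U : F → SL(2, F) := fun b => sl 1 b 0 1 (by ring)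
  let D : SL(2, F) := sl w 0 0 (w * w) (by linear_combination hw3)
  let i₁ : Fin 3 → F := ![1, w, w * w]
  let μ : Finset F := {1, w, w * w}
  let K4 : Finset F := {0, 1, w, w * w}
  have hsum : ∀ a ∈ K4, ∀ b ∈ K4, a + b ∈ K4 := by
    intro a ha b hb
    simp only [K4, Finset.mem_insert, Finset.mem_singleton] at ha hb ⊢
    grind
  have hprod : ∀ a ∈ μ, ∀ b ∈ μ, a * b ∈ μ := by
    intro a ha b hb
    simp only [μ, Finset.mem_insert, Finset.mem_singleton] at ha hb ⊢
    grind
  have hact : ∀ a ∈ μ, ∀ b ∈ K4, a * b ∈ K4 := by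
    intro a ha b hb
    simp only [μ, K4, Finset.mem_insert, Finset.mem_singleton] at ha hb ⊢
    grind
  have hinv : ∀ a ∈ μ, a * a * a = 1 := by
    intro a ha
    simp only [μ, Finset.mem_insert, Finset.mem_singleton] at ha
    grind
  let B : Subgroup SL(2, F) :=
    { carrier := {g | g.1 1 0 = 0 ∧ g.1 0 0 ∈ μ ∧ g.1 0 1 ∈ K4}
      one_mem' := by simp [μ, K4]
      mul_mem' := by
        rintro g g' ⟨g0, g1, g2⟩ ⟨k0, k1, k2⟩
        have hd := det_eq_one g'
        rw [k0, mul_zero, sub_zero] at hd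
        have hk11 : g'.1 1 1 = g'.1 0 0 * g'.1 0 0 := by
          linear_combination (g'.1 0 0 * g'.1 0 0) * hd - g'.1 1 1 * hinv _ k1
        refine ⟨by simp [val_mul, g0, k0], by simpa [val_mul, k0] using hprod _ g1 _ k1, ?_⟩
        rw [val_mul, hk11]
        exact hsum _ (hact _ g1 _ k2) _ (by rw [mul_comm]; exact hact _ (hprod _ k1 _ k1) _ g2)
      inv_mem' := by
        rintro g ⟨g0, g1, g2⟩
        have hd := det_eq_one g
        rw [g0, mul_zero, sub_zero] at hd
        have hg11 : g.1 1 1 = g.1 0 0 * g.1 0 0 := by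
          linear_combination (g.1 0 0 * g.1 0 0) * hd - g.1 1 1 * hinv _ g1
        have e : g⁻¹.1 = !![g.1 1 1, -g.1 0 1; -g.1 1 0, g.1 0 0] := by
          rw [Matrix.SpecialLinearGroup.coe_inv, Matrix.adjugate_fin_two]
        show g⁻¹.1 1 0 = 0 ∧ g⁻¹.1 0 0 ∈ μ ∧ g⁻¹.1 0 1 ∈ K4
        rw [e]
        refine ⟨by simp [g0], by simpa [hg11] using hprod _ g1 _ g1, ?_⟩
        simpa [show -g.1 0 1 = g.1 0 1 by linear_combination -(g.1 0 1) * hchar] using g2 }
  have hBcard : Nat.card B = 12 := by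
    have he : B ≃ ↥μ × ↥K4 :=
      { toFun := fun g => (⟨g.1.1 0 0, g.2.2.1⟩, ⟨g.1.1 0 1, g.2.2.2⟩)
        invFun := fun p => ⟨sl p.1 p.2 0 ((p.1 : F) * p.1) (by linear_combination hinv _ p.1.2),
          sl10 _ _ _ _ _, by rw [sl00]; exact p.1.2, by rw [sl01]; exact p.2.2⟩
        left_inv := fun g => Subtype.ext (by
          have hd := det_eq_one g.1
          rw [g.2.1, mul_zero, sub_zero] at hd
          refine ext_four (by simp [sl00]) (by simp [sl01]) (by simp [sl10, g.2.1]) ?_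
          simp [sl11]
          linear_combination -(g.1.1 0 0 * g.1.1 0 0) * hd + g.1.1 1 1 * hinv _ g.2.2.1)
        right_inv := fun p => Prod.ext (Subtype.ext (by simp [sl00])) (Subtype.ext (by simp [sl01])) }
    rw [Nat.card_congr he, Nat.card_prod, Nat.card_eq_finsetCard, Nat.card_eq_finsetCard]
    have hμ : μ.card = 3 := Finset.card_eq_three.mpr ⟨1, w, w * w, hw1.symm, by grind, by grind, rfl⟩
    have hK : K4.card = 4 := by
      show (insert (0 : F) μ).card = 4
      rw [Finset.card_insert_of_notMem, hμ]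
      simp only [μ, Finset.mem_insert, Finset.mem_singleton, not_or]
      exact ⟨zero_ne_one, by grind, by grind⟩
    rw [hμ, hK]
  let W : Subgroup B :=
    { carrier := {g | g.1.1 0 0 = 1}
      one_mem' := by simp
      mul_mem' := by
        rintro g g' hg hg'
        simp only [Set.mem_setOf_eq, Subgroup.coe_mul, val_mul, g'.2.1] at hg hg' ⊢
        rw [hg, hg']; ring
      inv_mem' := by
        rintro g hg
        simp only [Set.mem_setOf_eq] at hg ⊢
        have hd := det_eq_one g.1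
        rw [g.2.1, hg] at hd
        simp [Matrix.SpecialLinearGroup.coe_inv, Matrix.adjugate_fin_two]
        linear_combination hd }
  haveI : W.Normal := ⟨by
    rintro n hn g
    have hn' : n.1.1 0 0 = 1 := hn
    have hd := det_eq_one g.1
    rw [g.2.1, mul_zero, sub_zero] at hd
    show (g * n * g⁻¹).1.1 0 0 = 1
    simp [val_mul, g.2.1, n.2.1, hn', Matrix.SpecialLinearGroup.coe_inv, Matrix.adjugate_fin_two]
    linear_combination hd⟩
  have hmemW : ∀ b ∈ K4, ∃ v : W, v.1.1.1 0 1 = b := fun b hb =>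
    ⟨⟨⟨U b, sl10 _ _ _ _ _, by rw [sl00]; simp [μ], by rw [sl01]; exact hb⟩, by show (U b).1 0 0 = 1; simp [U, sl00]⟩, by show (U b).1 0 1 = b; simp [U, sl01]⟩
  have hW4 : Nat.card W = 4 := by
    have he : W ≃ ↥K4 :=
      { toFun := fun g => ⟨g.1.1.1 0 1, g.1.2.2.2⟩
        invFun := fun b => ⟨⟨U b, sl10 _ _ _ _ _, by rw [sl00]; simp [μ], by rw [sl01]; exact b.2⟩, by show (U b).1 0 0 = 1; simp [U, sl00]⟩
        left_inv := fun g => Subtype.ext (Subtype.ext (by
          have hd := det_eq_one g.1.1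
          have hg : g.1.1.1 0 0 = 1 := g.2
          rw [g.1.2.1, hg] at hd
          refine ext_four (by simp [U, sl00, hg]) (by simp [U, sl01]) (by simp [U, sl10, g.1.2.1]) ?_
          simp [U, sl11]
          linear_combination -hd))
        right_inv := fun b => Subtype.ext (by show (U b).1 0 1 = _; simp [U, sl01]) }
    rw [Nat.card_congr he, Nat.card_eq_finsetCard]
    have hμ : μ.card = 3 := Finset.card_eq_three.mpr ⟨1, w, w * w, hw1.symm, by grind, by grind, rfl⟩
    show (insert (0 : F) μ).card = 4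
    rw [Finset.card_insert_of_notMem, hμ]
    simp only [μ, Finset.mem_insert, Finset.mem_singleton, not_or]
    exact ⟨zero_ne_one, by grind, by grind⟩
  let X : B := ⟨D, sl10 _ _ _ _ _, by rw [sl00]; simp [μ], by rw [sl01]; simp [K4]⟩
  have hX3 : X ^ 3 = 1 := Subtype.ext (by
    rw [SubmonoidClass.coe_pow, pow_succ, pow_two]
    refine ext_four ?_ ?_ ?_ ?_ <;> simp [X, D, val_mul, sl00, sl01, sl10, sl11]
    · exact hw3
    · linear_combination (w * w * w + 1) * hw3)
  have hord : orderOf X = 3 := orderOf_eq_prime hX3 fun h => hw1 (by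
    have h' := congrArg (fun g : B => g.1.1 0 0) h
    simpa [X, D, sl00] using h')
  refine (fun iso => ?_) ((iso_four W hW4 (fun g hg => ?_) X hord (fun v hv hc => ?_) (Or.inl hBcard)).1 hBcard)
  · obtain ⟨e⟩ := iso
    have hψ : Function.Injective (π.comp B.subtype) := hπ.comp B.subtype_injective
    exact ⟨(π.comp B.subtype).range, ⟨(MonoidHom.ofInjective hψ).symm.trans e⟩⟩
  · obtain ⟨v, hv⟩ := hmemW 1 (by simp [K4])
    have h := congrArg (fun y : B => y.1.1 0 1) (hg v.1 v.2)
    have hv0 : v.1.1.1 0 0 = 1 := v.2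
    have hv10 := v.1.2.1
    have hdv := det_eq_one v.1.1
    rw [hv10, hv0] at hdv
    have hd := det_eq_one g.1
    rw [g.2.1, mul_zero, sub_zero] at hd
    simp [val_mul, hv, hv0] at h
    show g.1.1 0 0 = 1
    have hg3 := hinv _ g.2.2.1
    have hg11 : g.1.1 1 1 = g.1.1 0 0 := by
      have hv11 : v.1.1.1 1 1 = 1 := by linear_combination hdv
      rw [hv11] at h
      linear_combination -h
    rw [hg11] at hd
    linear_combination hg3 - g.1.1 0 0 * hd
  · have h := congrArg (fun y : B => y.1.1 0 1) hc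
    have hv0 : v.1.1 0 0 = 1 := hv
    have hdv := det_eq_one v.1
    rw [v.2.1, hv0] at hdv
    simp [X, D, val_mul, sl00, sl01, sl10, sl11, hv0] at h
    have hb : v.1.1 0 1 = 0 := by
      rcases mul_eq_zero.mp (by linear_combination h : (w - w * w) * v.1.1 0 1 = 0) with e | e
      · exact absurd (mul_left_cancel₀ z.ne_zero (show w * 1 = w * w by linear_combination e)) hw1.symm
      · exact e
    refine Subtype.ext (ext_four ?_ ?_ ?_ ?_)
    · simpa using hv0
    · simpa using hb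
    · simpa using v.2.1
    · have : v.1.1 1 1 = 1 := by linear_combination hdv
      simpa using this

theorem iff_A4 [Fintype F] (p n : ℕ) [Fact p.Prime] [CharP F p] (hF : Fintype.card F = p ^ n) :
    (∃ H : Subgroup (PSL₂ F), Nonempty (H ≃* alternatingGroup (Fin 4))) ↔ ¬ (p = 2 ∧ Odd n) := by
  constructor
  · rintro ⟨H, e⟩ ⟨rfl, hn⟩
    refine A4_two_odd (by exact_mod_cast CharP.cast_eq_zero F 2) ?_ H e
    rw [hF]
    obtain ⟨k, rfl⟩ := hn
    have hm : ∀ k : ℕ, (2 : ℕ) ^ (2 * k + 1) % 3 = 2 := fun k => by rw [pow_succ, pow_mul, Nat.mul_mod, Nat.pow_mod]; simp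
    have := hm k
    have h1 : 1 ≤ (2 : ℕ) ^ (2 * k + 1) := Nat.one_le_two_pow
    revert this h1
    generalize (2 : ℕ) ^ (2 * k + 1) = N
    omega
  · intro h
    by_cases hp : p = 2
    · subst hp
      have hn : Even n := Nat.not_odd_iff_even.mp fun h' => h ⟨rfl, h'⟩
      obtain ⟨k, rfl⟩ := hn
      refine A4_two_even (by exact_mod_cast CharP.cast_eq_zero F 2) ?_
      rw [hF, ← two_mul, pow_mul]
      have h4 := Nat.sub_dvd_pow_sub_pow (2 ^ 2) 1 k
      rw [one_pow] at h4
      exact h4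
    · refine (main_odd ?_).1
      rw [hF]
      exact ((Fact.out : p.Prime).eq_two_or_odd'.resolve_left hp).pow

theorem iff_S4 [Fintype F] {q : ℕ} (hF : Fintype.card F = q) :
    (∃ H : Subgroup (PSL₂ F), Nonempty (H ≃* Equiv.Perm (Fin 4))) ↔ q ^ 2 % 16 = 1 := by
  rcases Nat.even_or_odd q with hev | hodd
  · have hchar : (2 : F) = 0 := by
      by_contra h2
      have h : ringChar F ≠ 2 := fun hc => h2 (by
        haveI : CharP F 2 := ringChar.of_eq hc
        exact_mod_cast CharP.cast_eq_zero F 2)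
      have := FiniteField.odd_card_of_char_ne_two h
      rw [hF] at this
      rw [Nat.even_iff] at hev
      omega
    constructor
    · rintro ⟨H, e⟩
      exact absurd e (S4_even hchar H)
    · intro h
      exfalso
      obtain ⟨k, rfl⟩ := hev
      rw [show (k + k) ^ 2 = 4 * (k * k) by ring] at h
      omega
  · have h2 : IsSquare (2 : F) ↔ q % 8 ≠ 3 ∧ q % 8 ≠ 5 := by rw [FiniteField.isSquare_two_iff, hF]
    constructor
    · rintro ⟨H, ⟨e⟩⟩
      have h1 := Subgroup.card_subgroup_dvd_card H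
      rw [Nat.card_congr e.toEquiv, Nat.card_perm, Nat.card_fin] at h1
      have h2' := Cfsg.Lib.Classical.gcd_mul_card_PSL (ι := Fin 2) (F := F)
      rw [SLTwoTori.card_SL2, Nat.card_eq_fintype_card (α := F), hF, Fintype.card_fin,
        Nat.gcd_eq_left (show 2 ∣ q - 1 by rw [Nat.odd_iff] at hodd; omega)] at h2'
      have h16 : 16 ∣ q * (q ^ 2 - 1) := by
        rw [← h2']
        have := Nat.mul_dvd_mul_left 2 h1
        norm_num [Nat.factorial] at this
        exact (show (16 : ℕ) ∣ 48 by norm_num).trans this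
      have hco : Nat.Coprime 16 q := by
        rw [show (16 : ℕ) = 2 ^ 4 from rfl]
        exact (Nat.coprime_two_left.mpr hodd).pow_left 4
      obtain ⟨c, hc⟩ := hco.dvd_of_dvd_mul_left h16
      have hq : 1 ≤ q ^ 2 := Nat.one_le_pow _ _ (by rw [Nat.odd_iff] at hodd; omega)
      omega
    · intro h
      refine (main_odd (F := F) (hF ▸ hodd)).2 (h2.mpr ?_)
      rw [Nat.pow_mod] at h
      constructor <;> intro h8 <;>
        (rcases (by omega : q % 16 = q % 8 ∨ q % 16 = q % 8 + 8) with e | e <;> rw [e, h8] at h <;> norm_num at h)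

end Cfsg.Lib.Classical.PSLSolvable
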