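import Mathlib
import Cfsg.Agent.Classical.Misc.PSLOver
import Cfsg.Agent.Classical.Misc.Icosian
import Cfsg.Agent.Classical.Misc.PSLSolvableSubgroups

/-! Maximal `A₄`, `S₄`, `A₅` in `PSL₂(q)`. -/

set_option autoImplicit false
set_option linter.unusedSimpArgs false
set_option linter.unusedSectionVars false
set_option linter.style.haveILetI false
set_option linter.flexible false

namespace Cfsg.Lib.Classical.PSLSmallMax

open Matrix
open scoped MatrixGroups
open Cfsg.Lib.Classical.PSLOver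

universe u

variable {F : Type u} [Field F] [Fintype F] {q : ℕ}

local notation "PSL₂" k => Matrix.ProjectiveSpecialLinearGroup (Fin 2) k

/-- A subfield type below a prime or a prime square. -/
theorem prime_pow_cases {p j n P : ℕ} (hp : p.Prime) (hj : 2 ≤ j) (hn : n ≤ 2) (h : P ^ j = p ^ n) : P = p ∨ P = 1 := by
  obtain ⟨a, ha, rfl⟩ := (Nat.dvd_prime_pow hp).mp (h ▸ dvd_pow_self P (show j ≠ 0 by omega))
  rw [← pow_mul] at h
  have e := Nat.pow_right_injective hp.two_le h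
  rcases Nat.lt_or_ge a 2 with h2 | h2
  · interval_cases a <;> simp
  · have : 2 * 2 ≤ a * j := Nat.mul_le_mul h2 hj
    omega

theorem not_sub_prime {p : ℕ} [Fact p.Prime] (hF : Fintype.card F = p) {H : Subgroup (PSL₂ F)} (hH : H ≠ ⊤) :
    ¬ Sub p H := by
  intro h
  obtain ⟨K, _, _, j, h3, hj, hj2, -⟩ := sub_cases hF hH h
  obtain ⟨a, ha, e⟩ := (Nat.dvd_prime_pow (Fact.out : p.Prime)).mp
    (show Fintype.card K ∣ p ^ 1 by rw [pow_one, ← hj]; exact dvd_pow_self _ (by omega))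
  rw [e, ← pow_mul] at hj
  have := Nat.pow_right_injective (Fact.out : p.Prime).two_le (hj.trans (pow_one p).symm)
  rcases Nat.eq_zero_or_pos a with rfl | ha'
  · rw [pow_zero] at e; omega
  · have : 1 * 2 ≤ a * j := Nat.mul_le_mul ha' hj2
    omega

theorem card_A4 {H : Type*} [Group H] (φ : H ≃* alternatingGroup (Fin 4)) : Nat.card H = 12 := by
  rw [Nat.card_congr φ.toEquiv, nat_card_alternatingGroup, Nat.card_fin]; rfl

theorem card_S4 {H : Type*} [Group H] (φ : H ≃* Equiv.Perm (Fin 4)) : Nat.card H = 24 := by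
  rw [Nat.card_congr φ.toEquiv, Nat.card_perm, Nat.card_fin]; rfl

theorem card_A5 {H : Type*} [Group H] (φ : H ≃* alternatingGroup (Fin 5)) : Nat.card H = 60 := by
  rw [Nat.card_congr φ.toEquiv, nat_card_alternatingGroup, Nat.card_fin]; rfl

theorem strict {G : Type*} [Group G] [Finite G] {N H : Subgroup G} (h : N < H) :
    2 * Nat.card N ≤ Nat.card H ∧ Nat.card N ∣ Nat.card H := by
  obtain ⟨t, ht⟩ := Subgroup.card_dvd_of_le h.le
  refine ⟨?_, ⟨t, ht⟩⟩
  have h1 : t ≠ 1 := fun e => h.ne (Subgroup.eq_of_le_of_card_ge h.le (by rw [ht, e, mul_one]))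
  have h0 : t ≠ 0 := fun e => (Nat.card_pos (α := H)).ne' (by rw [ht, e, mul_zero])
  rw [ht, mul_comm 2]
  exact Nat.mul_le_mul_left _ (by omega)

theorem symFour_max (p : ℕ) [Fact p.Prime] (hF : Fintype.card F = p) (hp : p % 8 = 1 ∨ p % 8 = 7) :
    ∃ H : Subgroup (PSL₂ F), IsCoatom H ∧ Nonempty (H ≃* Equiv.Perm (Fin 4)) := by
  haveI : CharP F p := charP_of_card_eq_prime hF
  have h16 : p ^ 2 % 16 = 1 := by
    rw [Nat.pow_mod]
    have : p % 16 = 1 ∨ p % 16 = 7 ∨ p % 16 = 9 ∨ p % 16 = 15 := by omega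
    rcases this with e | e | e | e <;> rw [e]
  obtain ⟨N, ⟨ψ⟩⟩ := (PSLSolvable.iff_S4 hF).mpr h16
  have hc := card_S4 ψ
  have hp7 : 7 ≤ p := by have := (Fact.out : p.Prime).two_le; omega
  refine ⟨N, ⟨fun e => ?_, fun H hH => ?_⟩, ⟨ψ⟩⟩
  · rw [e, Subgroup.card_top] at hc
    have hG := PSLFull.card_mul hF
    have : 8 * 7 * 6 ≤ (p + 1) * p * (p - 1) := Nat.mul_le_mul (Nat.mul_le_mul (by omega) hp7) (by omega)
    rw [hc] at hG
    rcases PSLFull.gcd_cases (q := p) with e | e <;> rw [e] at hG <;> omega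
  by_contra hne
  obtain ⟨h2, hd⟩ := strict hH
  rw [hc] at h2 hd
  let f : alternatingGroup (Fin 4) →* H :=
    (Subgroup.inclusion hH.le).comp (ψ.symm.toMonoidHom.comp (alternatingGroup (Fin 4)).subtype)
  have hf : Function.Injective f :=
    (Subgroup.inclusion_injective hH.le).comp (ψ.symm.injective.comp Subtype.val_injective)
  rcases big_of_four p (by omega) hF H f hf with ⟨⟨φ⟩⟩ | ⟨⟨φ⟩⟩ | ⟨⟨φ⟩⟩ | h
  · rw [card_A4 φ] at h2; omega
  · rw [card_S4 φ] at h2; omega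
  · rw [card_A5 φ] at hd; omega
  · exact not_sub_prime hF hne h

theorem altFour_coatom (p : ℕ) [Fact p.Prime] (hF : Fintype.card F = p) (h5 : 5 ≤ p) (h8 : p % 8 = 3 ∨ p % 8 = 5)
    (h10 : p % 10 ≠ 1 ∧ p % 10 ≠ 9) (N : Subgroup (PSL₂ F)) (ψ : N ≃* alternatingGroup (Fin 4)) : IsCoatom N := by
  haveI : CharP F p := charP_of_card_eq_prime hF
  have hc := card_A4 ψ
  have hG := PSLFull.card_mul hF
  refine ⟨fun e => ?_, fun H hH => ?_⟩
  · rw [e, Subgroup.card_top] at hc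
    have : 6 * 5 * 4 ≤ (p + 1) * p * (p - 1) := Nat.mul_le_mul (Nat.mul_le_mul (by omega) h5) (by omega)
    rw [hc] at hG
    rcases PSLFull.gcd_cases (q := p) with e | e <;> rw [e] at hG <;> omega
  by_contra hne
  obtain ⟨h2, hd⟩ := strict hH
  rw [hc] at h2 hd
  let f : alternatingGroup (Fin 4) →* H := (Subgroup.inclusion hH.le).comp ψ.symm.toMonoidHom
  have hf : Function.Injective f := (Subgroup.inclusion_injective hH.le).comp ψ.symm.injective
  rcases big_of_four p (by omega) hF H f hf with ⟨⟨φ⟩⟩ | ⟨⟨φ⟩⟩ | ⟨⟨φ⟩⟩ | h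
  · rw [card_A4 φ] at h2; omega
  · have := (PSLSolvable.iff_S4 hF).mp ⟨H, ⟨φ⟩⟩
    rw [Nat.pow_mod] at this
    have h16 : p % 16 = 3 ∨ p % 16 = 5 ∨ p % 16 = 11 ∨ p % 16 = 13 := by omega
    rcases h16 with e | e | e | e <;> rw [e] at this <;> norm_num at this
  · have h5' := (Icosian.iff_A5 hF).mp ⟨H, ⟨φ⟩⟩
    have h55 : p = 5 := by
      by_contra hp5
      rcases Nat.prime_five.dvd_mul.mp h5' with h | h
      · exact hp5 ((Nat.prime_dvd_prime_iff_eq Nat.prime_five Fact.out).mp h).symm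
      · have hp0 : p % 5 ≠ 0 := fun e => hp5 ((Nat.prime_dvd_prime_iff_eq Nat.prime_five Fact.out).mp
          (Nat.dvd_of_mod_eq_zero e)).symm
        have h25 : p % 5 = 2 ∨ p % 5 = 3 := by omega
        have hmod : p ^ 2 % 5 = 4 := by
          rw [Nat.pow_mod]; rcases h25 with e | e <;> rw [e]
        omega
    apply hne
    refine Subgroup.eq_top_of_card_eq H ?_
    subst h55
    rw [card_A5 φ]
    norm_num at hG
    omega
  · exact not_sub_prime hF hne h

theorem altFour_max (p : ℕ) [Fact p.Prime] (hF : Fintype.card F = p) (h5 : 5 ≤ p) (h8 : p % 8 = 3 ∨ p % 8 = 5)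
    (h10 : p % 10 ≠ 1 ∧ p % 10 ≠ 9) : ∃ H : Subgroup (PSL₂ F), IsCoatom H ∧ Nonempty (H ≃* alternatingGroup (Fin 4)) := by
  haveI : CharP F p := charP_of_card_eq_prime hF
  obtain ⟨N, ⟨ψ⟩⟩ := (PSLSolvable.iff_A4 p 1 (by rw [pow_one, hF])).mpr (by omega)
  exact ⟨N, altFour_coatom p hF h5 h8 h10 N ψ, ⟨ψ⟩⟩

theorem altFive_max (p : ℕ) [Fact p.Prime] [CharP F p]
    (h : (Fintype.card F = p ∧ (p % 10 = 1 ∨ p % 10 = 9)) ∨ (Fintype.card F = p ^ 2 ∧ (p % 10 = 3 ∨ p % 10 = 7))) :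
    ∃ H : Subgroup (PSL₂ F), IsCoatom H ∧ Nonempty (H ≃* alternatingGroup (Fin 5)) := by
  generalize hF : Fintype.card F = q at h
  have h5 : 5 ∣ q ^ 2 - 1 := by
    have hmod : q ^ 2 % 5 = 1 := by
      rcases h with ⟨rfl, h⟩ | ⟨rfl, h⟩
      · rw [Nat.pow_mod]; rcases (show q % 5 = 1 ∨ q % 5 = 4 by omega) with e | e <;> rw [e]
      · rw [← pow_mul, Nat.pow_mod]; rcases (show p % 5 = 2 ∨ p % 5 = 3 by omega) with e | e <;> rw [e]
    omega
  have hq9 : 9 ≤ q := by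
    have := (Fact.out : p.Prime).two_le
    rcases h with ⟨rfl, h⟩ | ⟨rfl, h⟩
    · omega
    · have : 3 ^ 2 ≤ p ^ 2 := Nat.pow_le_pow_left (by omega) 2
      omega
  obtain ⟨N, ⟨ψ⟩⟩ := (Icosian.iff_A5 hF).mpr (dvd_mul_of_dvd_right h5 q)
  have hc := card_A5 ψ
  refine ⟨N, ⟨fun e => ?_, fun H hH => ?_⟩, ⟨ψ⟩⟩
  · rw [e, Subgroup.card_top] at hc
    have hG := PSLFull.card_mul hF
    have : 10 * 9 * 8 ≤ (q + 1) * q * (q - 1) := Nat.mul_le_mul (Nat.mul_le_mul (by omega) hq9) (by omega)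
    rw [hc] at hG
    rcases PSLFull.gcd_cases (q := q) with e | e <;> rw [e] at hG <;> omega
  by_contra hne
  obtain ⟨h2, hd⟩ := strict hH
  rw [hc] at h2 hd
  have hns : ¬ Group.IsSolvable H := fun hs => by
    haveI := hs
    exact not_solvable_five ψ (Group.isSolvable_of_isSolvable_injective (Subgroup.inclusion_injective hH.le))
  rcases big_of_not_solvable hF H hns with ⟨⟨φ⟩⟩ | hsub
  · rw [card_A5 φ] at h2; omega
  · obtain ⟨K, _, _, j, h3, hj, hj2, hcs⟩ := sub_cases hF hne hsub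
    have hK5 : 5 ∣ Fintype.card K * (Fintype.card K ^ 2 - 1) := by
      have : (5 : ℕ) ∣ Nat.card H := dvd_trans (by norm_num) hd
      rcases hcs with ⟨-, -, e⟩ | ⟨-, e⟩
      · rw [← e]; exact dvd_mul_of_dvd_left this 2
      · rwa [← e]
    rcases h with ⟨rfl, h⟩ | ⟨rfl, h⟩
    · exact not_sub_prime hF hne hsub
    · rcases prime_pow_cases Fact.out hj2 le_rfl hj with e | e
      · rw [e] at hK5
        rcases Nat.prime_five.dvd_mul.mp hK5 with h' | h'
        · have := (Nat.prime_dvd_prime_iff_eq Nat.prime_five (Fact.out : p.Prime)).mp h'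
          omega
        · have hmod : p ^ 2 % 5 = 4 := by
            rw [Nat.pow_mod]; rcases (show p % 5 = 2 ∨ p % 5 = 3 by omega) with e | e <;> rw [e]
          omega
      · omega

end Cfsg.Lib.Classical.PSLSmallMax
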