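import Mathlib
import Cfsg.Prelude.Def_CaseTheorems
import Cfsg.Agent.Classical.Misc.PSLSmallMax
import Cfsg.Agent.Classical.Misc.PSLSubfield

/-! Maximal subfield subgroups and the minimal simple `PSL₂(q)`. -/

set_option autoImplicit false
set_option linter.unusedSimpArgs false
set_option linter.unusedSectionVars false
set_option linter.style.haveILetI false
set_option linter.flexible false

namespace Cfsg.Lib.Classical.PSLSubfieldMax

open Matrix
open scoped MatrixGroups
open Cfsg.Lib.Classical.PSLOver Cfsg.Lib.Classical.PSLSmallMax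

universe u v

local notation "PSL₂" k => Matrix.ProjectiveSpecialLinearGroup (Fin 2) k

/-- A subfield whose group divides a bigger subfield group is that subfield. -/
theorem base_eq {p a b j r : ℕ} (hp : p.Prime) (ha : 0 < a) (hj : 2 ≤ j) (hr : r.Prime)
    (h : (p ^ b) ^ j = (p ^ a) ^ r)
    (hdvd : p ^ a * ((p ^ a) ^ 2 - 1) ∣ 2 * (p ^ b * ((p ^ b) ^ 2 - 1))) : p ^ b = p ^ a ∧ j = r := by
  rw [← pow_mul, ← pow_mul] at h
  have e : b * j = a * r := Nat.pow_right_injective hp.two_le h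
  have hcop : Nat.Coprime ((p ^ a) ^ 2 - 1) (p ^ b) := by
    refine Nat.Coprime.pow_right _ (Nat.Coprime.symm ((Nat.Prime.coprime_iff_not_dvd hp).mpr fun hd => ?_))
    have h1 : p ∣ (p ^ a) ^ 2 := dvd_pow (dvd_pow_self p ha.ne') two_ne_zero
    have h2 := Nat.one_le_pow 2 _ (Nat.pow_pos (n := a) hp.pos)
    exact hp.not_dvd_one (by
      have h3 := Nat.dvd_sub h1 hd
      rwa [show (p ^ a) ^ 2 - ((p ^ a) ^ 2 - 1) = 1 by omega] at h3)
  have h2 : (p ^ a) ^ 2 - 1 ∣ 2 * ((p ^ b) ^ 2 - 1) := by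
    refine hcop.dvd_of_dvd_mul_left ?_
    rw [mul_left_comm]
    exact dvd_trans (dvd_mul_left _ _) hdvd
  rw [← pow_mul, ← pow_mul, mul_comm a 2, mul_comm b 2] at h2
  have h3 : p ^ (2 * a) - 1 ∣ 2 * (p ^ (2 * Nat.gcd a b) - 1) := by
    rw [← Nat.gcd_mul_left, ← Nat.pow_sub_one_gcd_pow_sub_one]
    exact dvd_trans (Nat.dvd_gcd (dvd_mul_left _ _) h2) (by rw [Nat.gcd_mul_left])
  have hg : Nat.gcd a b = a := by
    by_contra hne
    obtain ⟨t, ht⟩ := Nat.gcd_dvd_left a b
    have hg0 : 0 < Nat.gcd a b := Nat.gcd_pos_of_pos_left b ha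
    have ht2 : 2 * Nat.gcd a b ≤ a := by
      have : t ≠ 1 := fun e1 => hne (by rw [e1, mul_one] at ht; exact ht.symm)
      have : t ≠ 0 := fun e1 => by rw [e1, mul_zero] at ht; omega
      calc 2 * Nat.gcd a b = Nat.gcd a b * 2 := mul_comm _ _
        _ ≤ Nat.gcd a b * t := Nat.mul_le_mul_left _ (by omega)
        _ = a := ht.symm
    have h4 : p ^ (2 * Nat.gcd a b) ≤ p ^ a := Nat.pow_le_pow_right hp.pos ht2
    have h5 : 4 ≤ p ^ (2 * Nat.gcd a b) :=
      le_trans (Nat.pow_le_pow_left hp.two_le 2) (Nat.pow_le_pow_right hp.pos (by omega))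
    have h6 : 4 * p ^ a ≤ p ^ (2 * a) := by
      rw [two_mul a, pow_add]; exact Nat.mul_le_mul_right _ (by omega)
    have := Nat.le_of_dvd (by omega) h3
    omega
  obtain ⟨c, hc⟩ : a ∣ b := hg ▸ Nat.gcd_dvd_right a b
  subst hc
  rw [mul_assoc] at e
  have e' : c * j = r := Nat.eq_of_mul_eq_mul_left ha e
  rcases hr.eq_one_or_self_of_dvd j (e' ▸ dvd_mul_left j c) with h1 | h1
  · omega
  · refine ⟨?_, h1⟩
    have hc1 : c = 1 := by
      rw [h1] at e'
      exact Nat.eq_of_mul_eq_mul_right hr.pos (e'.trans (one_mul r).symm)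
    rw [hc1, mul_one]

variable {F : Type u} {K : Type v} [Field F] [Fintype F] [Field K] [Fintype K] {q r : ℕ}

theorem sub_base (hK : Fintype.card K = q) (hF : Fintype.card F = q ^ r) (hr : r.Prime)
    {H : Subgroup (PSL₂ F)} (hH : H ≠ ⊤) (h : Sub (q ^ r) H) (hdvd : q * (q ^ 2 - 1) ∣ 2 * Nat.card H) :
    ∃ (L : Type) (_ : Field L) (_ : Fintype L), Fintype.card L = q ∧
      ((Odd q ∧ Nat.card H * 2 = q * (q ^ 2 - 1)) ∨
        (Nonempty (H ≃* Matrix.ProjGenLinGroup (Fin 2) L) ∧ Nat.card H = q * (q ^ 2 - 1))) := by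
  obtain ⟨L, _, _, j, h3, hj, hj2, hc⟩ := sub_cases hF hH h
  obtain ⟨p, hp⟩ := CharP.exists K
  obtain ⟨a, hpp, ha⟩ := FiniteField.card K p
  rw [hK] at ha
  obtain ⟨b, hb, eb⟩ := (Nat.dvd_prime_pow hpp).mp (show Fintype.card L ∣ p ^ ((a : ℕ) * r) by
    rw [pow_mul, ← ha, ← hj]; exact dvd_pow_self _ (by omega))
  have hd' : q * (q ^ 2 - 1) ∣ 2 * (Fintype.card L * (Fintype.card L ^ 2 - 1)) := by
    rcases hc with ⟨-, -, e⟩ | ⟨-, e⟩
    · rw [← e, ← mul_assoc]; exact dvd_mul_of_dvd_left hdvd 2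
    · rwa [← e]
  rw [ha, eb] at hd'
  rw [ha, eb] at hj
  obtain ⟨e1, -⟩ := base_eq hpp a.pos hj2 hr hj hd'
  have e2 : Fintype.card L = q := by rw [eb, e1, ha]
  refine ⟨L, inferInstance, inferInstance, e2, ?_⟩
  rw [e2] at hc
  exact hc.imp (fun h => ⟨h.1, h.2.2⟩) id

theorem four_in_psl (hK : Fintype.card K = q) (hq : Odd q) :
    ∃ f : alternatingGroup (Fin 4) →* (PSL₂ K), Function.Injective f := by
  obtain ⟨p, hp⟩ := CharP.exists K
  obtain ⟨a, hpp, ha⟩ := FiniteField.card K p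
  haveI := Fact.mk hpp
  obtain ⟨A, ⟨ψ⟩⟩ := (PSLSolvable.iff_A4 p a ha).mpr (fun h => by
    obtain ⟨rfl, -⟩ := h
    rw [← hK, ha, Nat.odd_pow_iff a.pos.ne'] at hq
    exact absurd hq (by decide))
  exact ⟨A.subtype.comp ψ.symm.toMonoidHom, Subtype.val_injective.comp ψ.symm.injective⟩

theorem char_odd (hF : Fintype.card F = q ^ r) (hq : Odd q) (p : ℕ) [Fact p.Prime] [CharP F p] : p ≠ 2 := by
  rintro rfl
  obtain ⟨n, -, hn⟩ := FiniteField.card F 2
  have h1 : Odd (q ^ r) := hq.pow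
  rw [← hF, hn, Nat.odd_pow_iff n.pos.ne'] at h1
  exact absurd h1 (by decide)

theorem pgl_max (hK : Fintype.card K = q) (hF : Fintype.card F = q ^ 2) (hq : Odd q) :
    ∃ H : Subgroup (PSL₂ F), IsCoatom H ∧ Nonempty (H ≃* Matrix.ProjGenLinGroup (Fin 2) K) := by
  obtain ⟨p, hp⟩ := CharP.exists F
  haveI : Fact p.Prime := ⟨CharP.char_is_prime F p⟩
  obtain ⟨N, ⟨ψ⟩⟩ := (PSLSubfield.main (F := F) (K := K) hF hq.pow 2 (by omega) (by rw [hK])).2.mpr even_two
  have hc : Nat.card N = q * (q ^ 2 - 1) := by rw [Nat.card_congr ψ.toEquiv, PSLBounds.card_pgl_two, hK]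
  have hq3 : 3 ≤ q := by
    have := Fintype.one_lt_card (α := K)
    obtain ⟨t, ht⟩ := hq
    omega
  have h9 : 3 ^ 2 ≤ q ^ 2 := Nat.pow_le_pow_left hq3 2
  have h24 : 24 ≤ q * (q ^ 2 - 1) := le_trans (by norm_num) (Nat.mul_le_mul hq3 (show 8 ≤ q ^ 2 - 1 by omega))
  refine ⟨N, ⟨fun e => ?_, fun H hH => ?_⟩, ⟨ψ⟩⟩
  · rw [e, Subgroup.card_top] at hc
    have hG := SmallPSL.card_psl hF
    rw [hc, Nat.gcd_eq_left (show 2 ∣ q ^ 2 - 1 by have h : Odd (q ^ 2) := hq.pow; obtain ⟨t, ht⟩ := h; omega)] at hG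
    have h81 : 9 ^ 2 ≤ (q ^ 2) ^ 2 := Nat.pow_le_pow_left h9 2
    have h1 : q * (q ^ 2 - 1) ≤ q ^ 2 * ((q ^ 2) ^ 2 - 1) / 9 := by
      rw [Nat.le_div_iff_mul_le (by norm_num)]
      have : 9 * q ≤ q ^ 2 * 9 := by rw [mul_comm]; exact Nat.mul_le_mul_right _ (Nat.le_self_pow two_ne_zero q)
      calc q * (q ^ 2 - 1) * 9 = 9 * q * (q ^ 2 - 1) := by ring
        _ ≤ q ^ 2 * 9 * (q ^ 2 - 1) := Nat.mul_le_mul_right _ this
        _ = q ^ 2 * (9 * (q ^ 2 - 1)) := by ring
        _ ≤ q ^ 2 * ((q ^ 2) ^ 2 - 1) := Nat.mul_le_mul_left _ (by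
          have h10 : 9 * q ^ 2 ≤ (q ^ 2) ^ 2 := by rw [pow_two (q ^ 2)]; exact Nat.mul_le_mul_right _ h9
          omega)
    omega
  by_contra hne
  obtain ⟨h2, hd⟩ := strict hH
  rw [hc] at h2 hd
  obtain ⟨f₀, hf₀⟩ := four_in_psl hK hq
  let f : alternatingGroup (Fin 4) →* H :=
    (Subgroup.inclusion hH.le).comp (ψ.symm.toMonoidHom.comp (Matrix.ProjectiveSpecialLinearGroup.toPGL.comp f₀))
  have hf : Function.Injective f :=
    (Subgroup.inclusion_injective hH.le).comp (ψ.symm.injective.comp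
      (Matrix.ProjectiveSpecialLinearGroup.toPGL_injective.comp hf₀))
  rcases big_of_four p (char_odd hF hq p) hF H f hf with ⟨⟨φ⟩⟩ | ⟨⟨φ⟩⟩ | ⟨⟨φ⟩⟩ | h
  · rw [card_A4 φ] at h2; omega
  · rw [card_S4 φ] at h2; omega
  · rw [card_A5 φ] at h2 hd
    rcases (show q = 3 ∨ 5 ≤ q by obtain ⟨t, ht⟩ := hq; omega) with rfl | h5
    · norm_num at hd
    · have : 5 * 24 ≤ q * (q ^ 2 - 1) := Nat.mul_le_mul h5 (by
        have : 5 ^ 2 ≤ q ^ 2 := Nat.pow_le_pow_left h5 2
        omega)
      omega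
  · obtain ⟨L, _, _, -, hc'⟩ := sub_base hK hF Nat.prime_two hne h (dvd_mul_of_dvd_right hd 2)
    rcases hc' with ⟨-, e⟩ | ⟨-, e⟩ <;> omega

theorem psl_coatom_odd (hK : Fintype.card K = q) (hF : Fintype.card F = q ^ r) (hq : Odd q) (hr : r.Prime) (hr2 : r ≠ 2)
    (N : Subgroup (PSL₂ F)) (ψ : N ≃* PSL₂ K) : IsCoatom N := by
  obtain ⟨p, hp⟩ := CharP.exists F
  haveI : Fact p.Prime := ⟨CharP.char_is_prime F p⟩
  have hc : Nat.card N * 2 = q * (q ^ 2 - 1) := by
    rw [Nat.card_congr ψ.toEquiv, mul_comm, ← SmallPSL.card_psl hK]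
    congr 1
    exact (Nat.gcd_eq_left (by obtain ⟨t, ht⟩ := hq; omega)).symm
  have hq3 : 3 ≤ q := by
    have := Fintype.one_lt_card (α := K)
    obtain ⟨t, ht⟩ := hq
    omega
  have hr3 : 3 ≤ r := by have := hr.two_le; omega
  have hqr : q * q * q ≤ q ^ r := le_trans (by rw [pow_three, mul_assoc]) (Nat.pow_le_pow_right (by omega) hr3)
  refine ⟨fun e => ?_, fun H hH => ?_⟩
  · rw [e, Subgroup.card_top] at hc
    have hG := SmallPSL.card_psl hF
    rw [mul_comm] at hc
    rw [Nat.gcd_eq_left (show 2 ∣ q ^ r - 1 by have h : Odd (q ^ r) := hq.pow; obtain ⟨t, ht⟩ := h; omega), hc] at hG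
    have h9 : 3 * 3 ≤ q * q := Nat.mul_le_mul hq3 hq3
    have h27 : 3 * (3 * 3) ≤ q * (q * q) := Nat.mul_le_mul hq3 h9
    have hlt : q < q ^ r := by
      have : q * 9 ≤ q * (q * q) := Nat.mul_le_mul_left _ h9
      rw [mul_assoc] at hqr
      omega
    have hle : q ^ 2 - 1 ≤ (q ^ r) ^ 2 - 1 := Nat.sub_le_sub_right (Nat.pow_le_pow_left hlt.le 2) 1
    have hpos : 0 < q ^ 2 - 1 := by rw [pow_two]; omega
    have := Nat.mul_lt_mul_of_lt_of_le hlt hle (lt_of_lt_of_le hpos hle)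
    omega
  by_contra hne
  obtain ⟨h2, hd⟩ := strict hH
  obtain ⟨f₀, hf₀⟩ := four_in_psl hK hq
  let f : alternatingGroup (Fin 4) →* H := (Subgroup.inclusion hH.le).comp (ψ.symm.toMonoidHom.comp f₀)
  have hf : Function.Injective f := (Subgroup.inclusion_injective hH.le).comp (ψ.symm.injective.comp hf₀)
  have h53 : q = 3 ∨ 120 ≤ q * (q ^ 2 - 1) := by
    rcases (show q = 3 ∨ 5 ≤ q by obtain ⟨t, ht⟩ := hq; omega) with h | h5
    · exact Or.inl h
    · have h25 : 5 ^ 2 ≤ q ^ 2 := Nat.pow_le_pow_left h5 2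
      exact Or.inr (le_trans (by norm_num) (Nat.mul_le_mul h5 (show 24 ≤ q ^ 2 - 1 by omega)))
  obtain ⟨t, ht⟩ := (Nat.not_even_iff_odd.mp fun he => hr2 (hr.even_iff.mp he) : Odd r)
  rcases big_of_four p (char_odd hF hq p) hF H f hf with ⟨⟨φ⟩⟩ | ⟨⟨φ⟩⟩ | ⟨⟨φ⟩⟩ | h
  · rw [card_A4 φ] at h2
    rcases h53 with rfl | h53
    · norm_num at hc; omega
    · omega
  · rw [card_S4 φ] at h2
    rcases h53 with rfl | h53
    · have h16 := (PSLSolvable.iff_S4 hF).mp ⟨H, ⟨φ⟩⟩
      rw [← pow_mul, ht, show (2 * t + 1) * 2 = 4 * t + 2 by ring, pow_add, pow_mul, Nat.mul_mod, Nat.pow_mod] at h16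
      norm_num at h16
    · omega
  · rw [card_A5 φ] at h2
    rcases h53 with rfl | h53
    · rcases Nat.prime_five.dvd_mul.mp ((Icosian.iff_A5 hF).mp ⟨H, ⟨φ⟩⟩) with h5 | h5
      · exact absurd (Nat.prime_five.dvd_of_dvd_pow h5) (by norm_num)
      · have hmod : (3 ^ r) ^ 2 % 5 = 4 := by
          rw [← pow_mul, ht, show (2 * t + 1) * 2 = 4 * t + 2 by ring, pow_add, pow_mul, Nat.mul_mod, Nat.pow_mod]
          norm_num
        omega
    · have heq : Nat.card N * 2 = 60 → False := fun e => by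
        have : 2 * Nat.card N = 60 := by omega
        omega
      omega
  · obtain ⟨L, _, _, hL, hc'⟩ := sub_base hK hF hr hne h (by
      rw [← hc, mul_comm 2]; exact Nat.mul_dvd_mul_right hd 2)
    rcases hc' with ⟨-, e⟩ | ⟨hL', -⟩
    · have : 0 < Nat.card N := Nat.card_pos
      omega
    · have := ((PSLSubfield.main (F := F) (K := L) hF hq.pow r hr.one_lt.le (by rw [hL])).2).mp ⟨H, hL'⟩
      obtain ⟨s, hs⟩ := this
      omega

theorem psl_max_odd (hK : Fintype.card K = q) (hF : Fintype.card F = q ^ r) (hq : Odd q) (hr : r.Prime) (hr2 : r ≠ 2) :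
    ∃ H : Subgroup (PSL₂ F), IsCoatom H ∧ Nonempty (H ≃* PSL₂ K) := by
  obtain ⟨N, ⟨ψ⟩⟩ := (PSLSubfield.main (F := F) (K := K) hF hq.pow r hr.one_lt.le (by rw [hK])).1
  exact ⟨N, psl_coatom_odd hK hF hq hr hr2 N ψ, ⟨ψ⟩⟩

theorem psl_max_even (hK : Fintype.card K = q) (hF : Fintype.card F = q ^ r) (hq : Even q) (hq2 : q ≠ 2)
    (hr : r.Prime) : ∃ H : Subgroup (PSL₂ F), IsCoatom H ∧ Nonempty (H ≃* PSL₂ K) := by
  obtain ⟨i⟩ := PSLSubfield.exists_emb (F := F) (K := K) hF (m := r) (by rw [hK])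
  obtain ⟨N, ⟨ψ⟩⟩ := PSLSubfield.exists_psl i
  have hq4 : 4 ≤ q := by
    have := Fintype.one_lt_card (α := K)
    obtain ⟨t, ht⟩ := hq
    omega
  have hc : Nat.card N = q * (q ^ 2 - 1) := by
    rw [Nat.card_congr ψ.toEquiv, ← SmallPSL.card_psl hK]
    have : Nat.gcd 2 (q - 1) = 1 := by
      rcases PSLFull.gcd_cases (q := q) with e | e
      · exact e
      · have : 2 ∣ q - 1 := e ▸ Nat.gcd_dvd_right 2 (q - 1)
        obtain ⟨t, ht⟩ := hq
        omega
    rw [this, one_mul]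
  have h16 : 4 ^ 2 ≤ q ^ 2 := Nat.pow_le_pow_left hq4 2
  have h60 : 60 ≤ q * (q ^ 2 - 1) := le_trans (by norm_num) (Nat.mul_le_mul hq4 (show 15 ≤ q ^ 2 - 1 by omega))
  refine ⟨N, ⟨fun e => ?_, fun H hH => ?_⟩, ⟨ψ⟩⟩
  · rw [e, Subgroup.card_top] at hc
    have hG := SmallPSL.card_psl hF
    rw [hc] at hG
    have hlt : q < q ^ r := lt_of_eq_of_lt (pow_one q).symm (Nat.pow_lt_pow_right (by omega) hr.one_lt)
    have hg1 : Nat.gcd 2 (q ^ r - 1) = 1 := by
      rcases PSLFull.gcd_cases (q := q ^ r) with e | e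
      · exact e
      · have h1 : 2 ∣ q ^ r - 1 := e ▸ Nat.gcd_dvd_right 2 (q ^ r - 1)
        obtain ⟨t, ht⟩ : Even (q ^ r) := (Nat.even_pow).mpr ⟨hq, hr.ne_zero⟩
        omega
    rw [hg1, one_mul] at hG
    have hle : q ^ 2 - 1 ≤ (q ^ r) ^ 2 - 1 := Nat.sub_le_sub_right (Nat.pow_le_pow_left hlt.le 2) 1
    have := Nat.mul_lt_mul_of_lt_of_le hlt hle (lt_of_lt_of_le (by omega) hle)
    omega
  by_contra hne
  obtain ⟨h2, hd⟩ := strict hH
  rw [hc] at h2 hd
  have hns : ¬ Group.IsSolvable H := fun hs => by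
    haveI := hs
    haveI : Group.IsSolvable N := Group.isSolvable_of_isSolvable_injective (Subgroup.inclusion_injective hH.le)
    exact not_solvable_psl (K := K) (by omega) (Group.isSolvable_of_surjective (f := ψ.toMonoidHom) ψ.surjective)
  rcases big_of_not_solvable hF H hns with ⟨⟨φ⟩⟩ | h
  · rw [card_A5 φ] at h2; omega
  · obtain ⟨L, _, _, hL, hc'⟩ := sub_base hK hF hr hne h (dvd_mul_of_dvd_right hd 2)
    rcases hc' with ⟨-, e⟩ | ⟨-, e⟩ <;> omega

/-- Minimal simplicity. -/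
theorem minimal_simple_iff (hF : Fintype.card F = q) :
    Cfsg.IsMinimalSimple (PSL₂ F) ↔ ((∃ r : ℕ, r.Prime ∧ q = 2 ^ r) ∨ (∃ r : ℕ, r.Prime ∧ r ≠ 2 ∧ q = 3 ^ r) ∨
      (q.Prime ∧ 5 < q ∧ (q % 5 = 2 ∨ q % 5 = 3)) ∨ q = 5) := by
  classical
  obtain ⟨p, hp⟩ := CharP.exists F
  obtain ⟨⟨n, hn0⟩, hpp, hn⟩ := FiniteField.card F p
  haveI := Fact.mk hpp
  simp only [PNat.mk_coe, hF] at hn
  constructor
  · rintro ⟨hs, hnc, hsol⟩
    have hq4 : 4 ≤ q := by
      by_contra hlt
      haveI := hs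
      have hq23 : q = 2 ∨ q = 3 := by have := PSLFull.two_le hF; omega
      refine hnc ⟨⟨(IsSimpleGroup.comm_iff_isSolvable (G := PSL₂ F)).mpr ?_⟩⟩
      rcases hq23 with rfl | rfl
      · obtain ⟨e⟩ := SmallPSL.sl_two hF
        haveI := solvable_sym
        haveI : Group.IsSolvable (Equiv.Perm (Fin 3)) := Group.isSolvable_of_isSolvable_injective
          (f := Equiv.Perm.viaEmbeddingHom Fin.castSuccEmb) (Equiv.Perm.viaEmbeddingHom_injective Fin.castSuccEmb)
        haveI : Group.IsSolvable (Matrix.SpecialLinearGroup (Fin 2) F) :=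
          Group.isSolvable_of_isSolvable_injective (f := e.toMonoidHom) e.injective
        exact Group.isSolvable_of_surjective (QuotientGroup.mk'_surjective (Subgroup.center SL(2, F)))
      · obtain ⟨e⟩ := SmallPSL.psl_three hF
        haveI := solvable_four
        exact Group.isSolvable_of_isSolvable_injective (f := e.toMonoidHom) e.injective
    have hbig : ∀ a : ℕ, a ∣ n → a < n → p ^ a < 4 := by
      intro a ha han
      by_contra hlt
      push Not at hlt
      have ha0 : a ≠ 0 := fun e => by rw [e, pow_zero] at hlt; omega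
      haveI : Fintype (GaloisField p a) := Fintype.ofFinite _
      have hK : Fintype.card (GaloisField p a) = p ^ a := by
        rw [← Nat.card_eq_fintype_card, GaloisField.card p a ha0]
      obtain ⟨c, hc⟩ := ha
      obtain ⟨i⟩ := PSLSubfield.exists_emb (F := F) (K := GaloisField p a) hF (m := c) (by rw [hK, ← pow_mul, ← hc, hn])
      obtain ⟨N, ⟨ψ⟩⟩ := PSLSubfield.exists_psl i
      have hN : N ≠ ⊤ := by
        intro e
        have h1 := Nat.card_congr ψ.toEquiv
        rw [e, Subgroup.card_top] at h1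
        have hG := SmallPSL.card_psl hF
        have hg := SmallPSL.card_psl hK
        have hd : Nat.gcd 2 (p ^ a - 1) = Nat.gcd 2 (q - 1) := by
          have h2 : Even (p ^ a) ↔ Even (p ^ n) := by
            rw [Nat.even_pow, Nat.even_pow]
            simp [ha0, hn0.ne']
          have key : ∀ m : ℕ, 1 ≤ m → (Nat.gcd 2 (m - 1) = if Even m then 1 else 2) := fun m hm => by
            split_ifs with h
            · rcases PSLFull.gcd_cases (q := m) with e | e
              · exact e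
              · have : 2 ∣ m - 1 := e ▸ Nat.gcd_dvd_right 2 (m - 1)
                rw [Nat.even_iff] at h; omega
            · exact Nat.gcd_eq_left (by rw [Nat.even_iff] at h; omega)
          rw [key _ (by omega), key q (by omega), hn, if_congr h2 rfl rfl]
        rw [h1, ← hd, hg] at hG
        have hlt' : p ^ a < q := hn ▸ Nat.pow_lt_pow_right hpp.one_lt han
        have hle : (p ^ a) ^ 2 - 1 ≤ q ^ 2 - 1 := Nat.sub_le_sub_right (Nat.pow_le_pow_left hlt'.le 2) 1
        have hpos : 0 < q ^ 2 - 1 := by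
          have : 4 ^ 2 ≤ q ^ 2 := Nat.pow_le_pow_left hq4 2
          omega
        have := Nat.mul_lt_mul_of_lt_of_le hlt' hle hpos
        omega
      haveI := hsol N hN
      exact not_solvable_psl (K := GaloisField p a) (by omega)
        (Group.isSolvable_of_surjective (f := ψ.toMonoidHom) ψ.surjective)
    have h5 : 5 ∣ q * (q ^ 2 - 1) → q ≤ 5 := by
      intro h5
      by_contra hq5
      obtain ⟨N, ⟨ψ⟩⟩ := (Icosian.iff_A5 hF).mpr h5
      refine not_solvable_five ψ (hsol N fun e => ?_)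
      have h1 := card_A5 ψ
      rw [e, Subgroup.card_top] at h1
      have hG := PSLFull.card_mul hF
      rw [h1] at hG
      have : 7 * 6 * 5 ≤ (q + 1) * q * (q - 1) := Nat.mul_le_mul (Nat.mul_le_mul (by omega) (by omega)) (by omega)
      rcases PSLFull.gcd_cases (q := q) with e' | e' <;> rw [e'] at hG <;> omega
    have hp4 : 2 ≤ n → p < 4 := fun h => by simpa using hbig 1 (one_dvd n) (by omega)
    by_cases hn1 : n = 1
    · rw [hn1, pow_one] at hn
      subst hn
      rcases Nat.lt_or_ge 5 q with h | h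
      · refine Or.inr (Or.inr (Or.inl ⟨hpp, h, ?_⟩))
        by_contra hbad
        have hq5 : q % 5 ≠ 0 := fun e => by
          have := (Nat.prime_dvd_prime_iff_eq Nat.prime_five hpp).mp (Nat.dvd_of_mod_eq_zero e)
          omega
        have hmod : q ^ 2 % 5 = 1 := by
          rw [Nat.pow_mod]; rcases (show q % 5 = 1 ∨ q % 5 = 4 by omega) with e | e <;> rw [e]
        have := h5 (dvd_mul_of_dvd_right (by omega) _)
        omega
      · refine Or.inr (Or.inr (Or.inr ?_))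
        rcases (show q = 4 ∨ q = 5 by omega) with rfl | rfl
        · exact absurd hpp (by norm_num)
        · rfl
    have hn2 : 2 ≤ n := by omega
    have hp23 : p = 2 ∨ p = 3 := by have := hpp.two_le; have := hp4 hn2; omega
    have hnp : n.Prime := by
      rw [Nat.prime_def_lt]
      refine ⟨hn2, fun m hm hmd => ?_⟩
      by_contra hm1
      have hm0 : m ≠ 0 := fun e => by rw [e] at hmd; exact absurd (Nat.eq_zero_of_zero_dvd hmd) (by omega)
      have := hbig m hmd hm
      have : 2 ^ 2 ≤ p ^ m := le_trans (Nat.pow_le_pow_left hpp.two_le 2) (Nat.pow_le_pow_right hpp.pos (by omega))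
      omega
    rcases hp23 with rfl | rfl
    · exact Or.inl ⟨n, hnp, hn⟩
    · refine Or.inr (Or.inl ⟨n, hnp, fun e => ?_, hn⟩)
      subst e
      norm_num at hn
      subst hn
      have := h5 (by norm_num)
      omega
  · intro h
    have hq4 : 4 ≤ q := by
      rcases h with ⟨r, hr, rfl⟩ | ⟨r, hr, -, rfl⟩ | ⟨-, h, -⟩ | rfl
      · exact le_trans (by norm_num) (Nat.pow_le_pow_right (by norm_num) hr.two_le)
      · exact le_trans (by norm_num) (Nat.pow_le_pow_right (by norm_num) hr.two_le)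
      · omega
      · omega
    have hns : ¬ Group.IsSolvable (PSL₂ F) := not_solvable_psl (by omega)
    refine ⟨Cfsg.Lib.Classical.isSimpleGroup_PSL_fin le_rfl (fun _ => by rw [Nat.card_eq_fintype_card]; omega),
      fun hc => hns (Group.isSolvable_of_comm hc.is_comm.comm), fun H hH => ?_⟩
    by_contra hsol
    rcases big_of_not_solvable hF H hsol with ⟨⟨φ⟩⟩ | hsub
    · have h5 := (Icosian.iff_A5 hF).mp ⟨H, ⟨φ⟩⟩
      have htop : q = 4 ∨ q = 5 → False := fun hq => hH (Subgroup.eq_top_of_card_eq H (by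
        have hG := PSLFull.card_mul hF
        rw [card_A5 φ]
        rcases hq with e | e <;> subst e
        · rw [show Nat.gcd 2 (4 - 1) = 1 from rfl] at hG; omega
        · rw [show Nat.gcd 2 (5 - 1) = 2 from rfl] at hG; omega))
      rcases h with ⟨r, hr, rfl⟩ | ⟨r, hr, hr2, rfl⟩ | ⟨hq, hq5, hmod⟩ | rfl
      · rcases hr.eq_two_or_odd' with rfl | ⟨t, rfl⟩
        · exact htop (Or.inl rfl)
        · rcases Nat.prime_five.dvd_mul.mp h5 with h | h
          · exact absurd (Nat.prime_five.dvd_of_dvd_pow h) (by norm_num)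
          · have hm : (2 ^ (2 * t + 1)) ^ 2 % 5 = 4 := by
              rw [← pow_mul, show (2 * t + 1) * 2 = 4 * t + 2 by ring, pow_add, pow_mul, Nat.mul_mod, Nat.pow_mod]
              norm_num
            omega
      · obtain ⟨t, rfl⟩ := hr.eq_two_or_odd'.resolve_left hr2
        rcases Nat.prime_five.dvd_mul.mp h5 with h | h
        · exact absurd (Nat.prime_five.dvd_of_dvd_pow h) (by norm_num)
        · have hm : (3 ^ (2 * t + 1)) ^ 2 % 5 = 4 := by
            rw [← pow_mul, show (2 * t + 1) * 2 = 4 * t + 2 by ring, pow_add, pow_mul, Nat.mul_mod, Nat.pow_mod]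
            norm_num
          omega
      · rcases Nat.prime_five.dvd_mul.mp h5 with h | h
        · have := (Nat.prime_dvd_prime_iff_eq Nat.prime_five hq).mp h
          omega
        · have hm : q ^ 2 % 5 = 4 := by
            rw [Nat.pow_mod]; rcases hmod with e | e <;> rw [e]
          omega
      · exact htop (Or.inr rfl)
    · obtain ⟨L, _, _, j, h3, hj, hj2, hc⟩ := sub_cases hF hH hsub
      have small : ∀ b r : ℕ, ∀ s : ℕ, s.Prime → q = s ^ r → r.Prime → Fintype.card L = s ^ b →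
          Fintype.card L = s := by
        intro b r s hs hqs hr hb
        rw [hb, ← pow_mul, hqs] at hj
        have e := Nat.pow_right_injective hs.two_le hj
        rcases hr.eq_one_or_self_of_dvd b ⟨j, e.symm⟩ with h1 | h1
        · rw [hb, h1, pow_one]
        · exfalso
          rw [h1] at e
          have : r * 2 ≤ r * j := Nat.mul_le_mul_left r hj2
          have := hr.two_le
          omega
      have hdv : ∀ s r : ℕ, s.Prime → q = s ^ r → ∃ b, Fintype.card L = s ^ b := fun s r hs hqs => by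
        obtain ⟨b, -, hb⟩ := (Nat.dvd_prime_pow hs).mp (show Fintype.card L ∣ s ^ r by
          rw [← hqs, ← hj]; exact dvd_pow_self _ (by omega))
        exact ⟨b, hb⟩
      rcases h with ⟨r, hr, hqe⟩ | ⟨r, hr, hr2, hqe⟩ | ⟨hq, hq5, -⟩ | hqe
      · obtain ⟨b, hb⟩ := hdv 2 r Nat.prime_two hqe
        have := small b r 2 Nat.prime_two hqe hr hb
        omega
      · obtain ⟨b, hb⟩ := hdv 3 r Nat.prime_three hqe
        have hL := small b r 3 Nat.prime_three hqe hr hb
        rcases hc with ⟨-, ⟨φ⟩, -⟩ | ⟨⟨φ⟩, -⟩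
        · obtain ⟨e⟩ := SmallPSL.psl_three hL
          haveI := solvable_four
          exact hsol (Group.isSolvable_of_isSolvable_injective (f := (φ.trans e).toMonoidHom) (φ.trans e).injective)
        · obtain ⟨e⟩ := SmallPSL.perm_iso (n := 4) (SmallPSL.card_line hL) _ (SmallPSL.pgl_injective (F := L))
            (by rw [PSLBounds.card_pgl_two, hL]; rfl)
          haveI := solvable_sym
          exact hsol (Group.isSolvable_of_isSolvable_injective (f := (φ.trans e).toMonoidHom) (φ.trans e).injective)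
      · haveI := Fact.mk hq
        exact not_sub_prime hF hH hsub
      · subst hqe
        haveI := Fact.mk Nat.prime_five
        exact not_sub_prime hF hH hsub

end Cfsg.Lib.Classical.PSLSubfieldMax
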