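import Mathlib
import Cfsg.Agent.Classical.Misc.PSLBounds

/-! The maximal dihedral subgroups of `PSL₂(q)`. -/

set_option autoImplicit false
set_option linter.unusedSimpArgs false
set_option linter.unusedSectionVars false
set_option linter.style.haveILetI false
set_option linter.flexible false

namespace Cfsg.Lib.Classical.PSLTori

open Matrix MulAction
open scoped MatrixGroups LinearAlgebra.Projectivization
open Cfsg.Lib.Classical.SharpGeom Cfsg.Lib.Classical.PSLDickson Cfsg.Lib.Classical.PSLFull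
open Cfsg.Lib.Classical.PSLGeom (pinf)

universe u v

local notation "PSL₂" k => Matrix.ProjectiveSpecialLinearGroup (Fin 2) k

set_option maxRecDepth 20000 in
theorem alt_four_no_six {G : Type*} [Group G] (ψ : G ≃* alternatingGroup (Fin 4)) (N : Subgroup G)
    (h : Nat.card N = 6) : False := by
  classical
  set M := N.map ψ.toMonoidHom with hM
  have hc : Nat.card M = 6 := by rw [hM, Subgroup.card_map_of_injective ψ.injective, h]
  have hidx : M.index = 2 := by
    have := M.card_mul_index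
    rw [hc, nat_card_alternatingGroup, Nat.card_fin] at this
    norm_num [Nat.factorial] at this
    omega
  have hsub : (Finset.univ.image fun x : alternatingGroup (Fin 4) => x * x) ⊆ Finset.univ.filter (· ∈ M) := by
    intro y hy
    obtain ⟨x, -, rfl⟩ := Finset.mem_image.mp hy
    exact Finset.mem_filter.mpr ⟨Finset.mem_univ _, Subgroup.mul_self_mem_of_index_two hidx x⟩
  have h9 : (Finset.univ.image fun x : alternatingGroup (Fin 4) => x * x).card = 9 := by decide +kernel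
  have h6 : (Finset.univ.filter (· ∈ M)).card = 6 := by
    rw [← Fintype.card_subtype, ← Nat.card_eq_fintype_card]; exact hc
  have := Finset.card_le_card hsub
  omega

theorem orders_symFour (x : Equiv.Perm (Fin 4)) : orderOf x ≤ 4 := by
  have h : x ^ 4 = 1 ∨ x ^ 3 = 1 := by revert x; decide +kernel
  rcases h with h | h
  · exact Nat.le_of_dvd (by norm_num) (orderOf_dvd_of_pow_eq_one h)
  · exact (Nat.le_of_dvd (by norm_num) (orderOf_dvd_of_pow_eq_one h)).trans (by norm_num)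

set_option maxRecDepth 4000 in
theorem orders_altFive (x : alternatingGroup (Fin 5)) : orderOf x ≤ 5 := by
  have h : x ^ 5 = 1 ∨ x ^ 3 = 1 ∨ x ^ 2 = 1 := by revert x; decide +kernel
  rcases h with h | h | h
  · exact Nat.le_of_dvd (by norm_num) (orderOf_dvd_of_pow_eq_one h)
  · exact (Nat.le_of_dvd (by norm_num) (orderOf_dvd_of_pow_eq_one h)).trans (by norm_num)
  · exact (Nat.le_of_dvd (by norm_num) (orderOf_dvd_of_pow_eq_one h)).trans (by norm_num)

/-- The two families and their exceptions. -/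
def Good (q m d : ℕ) : Prop :=
  (m * d = q + 1 ∧ q ∉ ({2, 7, 9} : Finset ℕ)) ∨ (m * d = q - 1 ∧ q ∉ ({2, 3, 5, 7, 9, 11} : Finset ℕ))

variable {F : Type u} [Field F] [Fintype F] {q : ℕ}

theorem good_two_le (hF : Fintype.card F = q) {m : ℕ} (h : Good q m (Nat.gcd 2 (q - 1))) : 2 ≤ m := by
  have := PSLBounds.not_six_ten hF
  have := two_le hF
  simp only [Good, Finset.mem_insert, Finset.mem_singleton, not_or] at h
  rcases gcd_cases (q := q) with e | e <;> rw [e] at h <;> omega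

/-- A dihedral subgroup of the right size which fixes no point is maximal. -/
theorem coatom (hF : Fintype.card F = q) (m : ℕ) (hgood : Good q m (Nat.gcd 2 (q - 1)))
    (N : Subgroup (PSL₂ F)) (ψN : N ≃* DihedralGroup m)
    (hfix : ∀ (p : ℕ) [Fact p.Prime] [CharP F p], ∀ P : Sylow p (PSL₂ F),
      ¬ N ≤ Subgroup.normalizer ((P : Subgroup (PSL₂ F)) : Set (PSL₂ F))) : IsCoatom N := by
  obtain ⟨p, hp⟩ := CharP.exists F
  haveI : Fact p.Prime := ⟨CharP.char_is_prime F p⟩
  have hq2 := two_le hF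
  have hne := PSLBounds.not_six_ten hF
  have hm2 := good_two_le hF hgood
  have hG := card_mul hF
  have hgood' : (m * Nat.gcd 2 (q - 1) = q + 1 ∧ ¬(q = 2 ∨ q = 7 ∨ q = 9)) ∨
      (m * Nat.gcd 2 (q - 1) = q - 1 ∧ ¬(q = 2 ∨ q = 3 ∨ q = 5 ∨ q = 7 ∨ q = 9 ∨ q = 11)) := by
    simpa [Good, not_or] using hgood
  generalize hd : Nat.gcd 2 (q - 1) = d at hG hgood'
  have hdc : d = 1 ∨ d = 2 := hd ▸ gcd_cases
  have hcN : Nat.card N = 2 * m := by rw [Nat.card_congr ψN.toEquiv, DihedralGroup.nat_card]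
  have hbig : 2 * m < Nat.card (PSL₂ F) := by
    have h1 : 2 * (q + 1) < (q + 1) * q * (q - 1) := by
      have hq3 : 3 ≤ q := by rcases hgood' with ⟨-, h⟩ | ⟨-, h⟩ <;> omega
      have : 3 * 2 ≤ q * (q - 1) := Nat.mul_le_mul hq3 (by omega)
      rw [mul_assoc, mul_comm 2]
      exact Nat.mul_lt_mul_of_pos_left (by omega) (by omega)
    rcases hdc with e | e <;> rw [e] at hG hgood' <;> omega
  refine ⟨fun e => ?_, fun H hH => ?_⟩
  · rw [e, Subgroup.card_top] at hcN; omega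
  by_contra hHtop
  have hdvd : 2 * m ∣ Nat.card H := hcN ▸ Subgroup.card_dvd_of_le hH.le
  have hneq : Nat.card H ≠ 2 * m := fun e => hH.ne (Subgroup.eq_of_le_of_card_ge hH.le (by rw [e, hcN]))
  have h4m : 4 * m ≤ Nat.card H := by
    obtain ⟨t, ht⟩ := hdvd
    have : t ≠ 1 := fun e => hneq (by rw [ht, e, mul_one])
    have : t ≠ 0 := fun e => (Nat.card_pos (α := H)).ne' (by rw [ht, e, mul_zero])
    rw [ht]
    calc 4 * m = 2 * m * 2 := by ring
      _ ≤ 2 * m * t := Nat.mul_le_mul_left _ (by omega)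
  have hlt : Nat.card H < Nat.card (PSL₂ F) :=
    lt_of_le_of_ne (Nat.le_of_dvd Nat.card_pos H.card_subgroup_dvd_card) fun e => hHtop (Subgroup.eq_top_of_card_eq H e)
  have hHG := H.card_subgroup_dvd_card
  obtain ⟨r, hr⟩ : ∃ r : H, orderOf r = m := ⟨Subgroup.inclusion hH.le (ψN.symm (DihedralGroup.r 1)), by
    rw [orderOf_injective _ (Subgroup.inclusion_injective hH.le), MulEquiv.orderOf_eq, DihedralGroup.orderOf_r_one]⟩
  -- sizes for small groups
  have hcases : ∀ c, Nat.card H = c → m ≤ 5 → (q = 3 ∧ d = 2) ∨ (q = 4 ∧ d = 1) ∨ (q = 5 ∧ d = 2) := by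
    intro c hc hm5
    rcases hdc with e | e <;> subst e
    · have : q % 2 = 0 := by
        have h := Nat.gcd_dvd_left 2 (q - 1)
        rcases Nat.even_or_odd q with ⟨t, ht⟩ | ⟨t, ht⟩
        · omega
        · exfalso
          rw [Nat.gcd_eq_left (show 2 ∣ q - 1 by omega)] at hd
          omega
      rcases hgood' with ⟨h, h'⟩ | ⟨h, h'⟩ <;> omega
    · have : q % 2 = 1 := by
        have h : 2 ∣ q - 1 := hd ▸ Nat.gcd_dvd_right 2 (q - 1)
        omega
      rcases hgood' with ⟨h, h'⟩ | ⟨h, h'⟩ <;> omega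
  have hNle : ∃ N' : Subgroup H, Nat.card N' = 2 * m :=
    ⟨N.subgroupOf H, (Nat.card_congr (Subgroup.subgroupOfEquivOfLe hH.le).toEquiv).trans hcN⟩
  have hsub : ∀ P j : ℕ, 3 ≤ P → P ^ j = q →
      (Nat.card H * 2 = P * (P ^ 2 - 1) ∧ Odd P ∨ Nat.card H = P * (P ^ 2 - 1)) → m ≤ P + 1 → False := by
    intro P j h3 hPj hcard hmP
    rcases PSLBounds.subfield_le h3 hPj hq2 with ⟨rfl, rfl⟩ | hPq
    · have e : P * (P ^ 2 - 1) = (P + 1) * P * (P - 1) := by
        obtain ⟨s, rfl⟩ : ∃ s, P = s + 1 := ⟨P - 1, by omega⟩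
        rw [Nat.add_sub_cancel, show (s + 1) ^ 2 = (s + 1 + 1) * s + 1 by ring, Nat.add_sub_cancel]
        ring
      rw [e, ← hG] at hcard
      rcases hcard with ⟨hcard, hodd⟩ | hcard
      · have hd2 : d = 2 := by
          rw [← hd]; exact Nat.gcd_eq_left (by obtain ⟨t, ht⟩ := hodd; omega)
        rw [hd2] at hcard
        omega
      · rcases hdc with e' | e' <;> rw [e'] at hcard <;> omega
    · have hPP : 3 * P ≤ P * P := Nat.mul_le_mul_right _ h3
      rcases hdc with e | e <;> subst e <;> rcases hgood' with ⟨h, h'⟩ | ⟨h, h'⟩ <;> omega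
  rcases dickson p hF H with ⟨h, -⟩ | ⟨n, hn, ⟨φ⟩, hk⟩ | ⟨P, h⟩ | ⟨⟨φ⟩⟩ | ⟨⟨φ⟩⟩ | ⟨⟨φ⟩⟩ |
    ⟨K, j, h3, hodd, hj, ⟨φ⟩⟩ | ⟨K, j, h3, hj, ⟨φ⟩⟩
  · haveI := h
    haveI : IsCyclic (DihedralGroup m) :=
      isCyclic_of_injective ((Subgroup.inclusion hH.le).comp ψN.symm.toMonoidHom)
        ((Subgroup.inclusion_injective hH.le).comp ψN.symm.injective)
    exact DihedralGroup.not_isCyclic (show m ≠ 1 by omega) inferInstance
  · rw [Nat.card_congr φ.toEquiv, DihedralGroup.nat_card] at h4m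
    have hnle : n ≤ (q + 1) / d := by
      rw [hd] at hk
      rcases hk with hk | hk
      · exact Nat.le_of_dvd (by rcases hdc with e | e <;> rw [e] <;> omega) hk
      · refine (Nat.le_of_dvd ?_ hk).trans (Nat.div_le_div_right (by omega))
        rcases hdc with e | e <;> rw [e] <;> rcases hgood' with ⟨h, h'⟩ | ⟨h, h'⟩ <;> omega
    rcases hdc with e | e <;> rw [e] at hnle hgood' <;> rcases hgood' with ⟨h, h'⟩ | ⟨h, h'⟩ <;> omega
  · exact hfix p P (hH.le.trans h)
  · have hc : Nat.card H = 12 := by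
      rw [Nat.card_congr φ.toEquiv, nat_card_alternatingGroup, Nat.card_fin]; rfl
    have hm3 : m ≤ 3 := by omega
    obtain ⟨N', hN'⟩ := hNle
    rcases hcases _ hc (by omega) with ⟨rfl, rfl⟩ | ⟨rfl, rfl⟩ | ⟨rfl, rfl⟩
    · omega
    · exact alt_four_no_six φ N' (by omega)
    · exact alt_four_no_six φ N' (by omega)
  · have hc : Nat.card H = 24 := by rw [Nat.card_congr φ.toEquiv, Nat.card_perm, Nat.card_fin]; rfl
    have hm4 : m ≤ 4 := by rw [← hr, ← φ.orderOf_eq r]; exact orders_symFour _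
    rw [hc] at hHG
    obtain ⟨t, ht⟩ := hHG
    rcases hcases _ hc (by omega) with ⟨rfl, rfl⟩ | ⟨rfl, rfl⟩ | ⟨rfl, rfl⟩ <;> omega
  · have hc : Nat.card H = 60 := by
      rw [Nat.card_congr φ.toEquiv, nat_card_alternatingGroup, Nat.card_fin]; rfl
    have hm5 : m ≤ 5 := by rw [← hr, ← φ.orderOf_eq r]; exact orders_altFive _
    rw [hc] at hHG
    obtain ⟨t, ht⟩ := hHG
    rcases hcases _ hc (by omega) with ⟨rfl, rfl⟩ | ⟨rfl, rfl⟩ | ⟨rfl, rfl⟩ <;> omega
  · haveI : Finite (Matrix.ProjectiveSpecialLinearGroup (Fin 2) K) := Finite.of_equiv H φ.toEquiv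
    refine hsub (Fintype.card K) j h3 hj (Or.inl ⟨?_, hodd⟩) (by rw [← hr, ← φ.orderOf_eq r]; exact PSLBounds.orderOf_psl _)
    rw [Nat.card_congr φ.toEquiv, mul_comm, ← SmallPSL.card_psl (F := K) rfl]
    congr 1
    exact (Nat.gcd_eq_left (by obtain ⟨t, ht⟩ := hodd; omega)).symm
  · exact hsub (Fintype.card K) j h3 hj (Or.inr (by rw [Nat.card_congr φ.toEquiv, PSLBounds.card_pgl_two]))
      (by rw [← hr, ← φ.orderOf_eq r]; exact PSLBounds.orderOf_pgl _)

/-- A pair of points with stabiliser of the right order gives a maximal dihedral subgroup. -/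
theorem pair_coatom' {k : Type v} [Field k] [IsAlgClosed k] (i : F →+* k) (p₀ : ℕ) [Fact p₀.Prime] [CharP k p₀]
    (hF : Fintype.card F = q) {a b : ℙ k (Fin 2 → k)} (hab : a ≠ b) (m : ℕ)
    (hm : Nat.card ↥(stabilizer (PSLEmbed.pslMap i).range a ⊓ stabilizer (PSLEmbed.pslMap i).range b) = m)
    {w : (PSLEmbed.pslMap i).range} (hw : w • a = b) (hw' : w • b = a) (hgood : Good q m (Nat.gcd 2 (q - 1))) :
    IsCoatom (pull i (pairStab (G := (PSLEmbed.pslMap i).range) a b)) ∧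
      Nonempty (pull i (pairStab (G := (PSLEmbed.pslMap i).range) a b) ≃* DihedralGroup m) := by
  haveI : Finite (PSLEmbed.pslMap i).range := Finite.of_surjective _ (PSLEmbed.pslMap i).rangeRestrict_surjective
  have W := full i p₀ hF
  obtain ⟨-, ⟨ψ⟩⟩ := W.geom.pair_dihedral hab hw hw'
  rw [hm] at ψ
  let ψN := (pullEquiv i (pairStab (G := (PSLEmbed.pslMap i).range) a b)).trans ψ
  refine ⟨coatom hF m hgood _ ψN ?_, ⟨ψN⟩⟩
  intro p hp1 hp2 P hle
  obtain rfl : p = p₀ := CharP.eq F hp2 (i.charP i.injective p₀)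
  obtain ⟨z, -, hz⟩ := borel_fix i p hF P
  have hall : ∀ g ∈ pairStab (G := (PSLEmbed.pslMap i).range) a b, g • z = z := by
    intro g hg
    obtain ⟨g0, rfl⟩ := (eW i).surjective g
    exact hz g0 (hle ((mem_pull i).mpr hg))
  have hm2 := good_two_le hF hgood
  obtain ⟨c, hc, hc1⟩ : ∃ c ∈ stabilizer (PSLEmbed.pslMap i).range a ⊓ stabilizer (PSLEmbed.pslMap i).range b, c ≠ 1 := by
    by_contra hall'
    push Not at hall'
    rw [(Subgroup.eq_bot_iff_forall _).mpr hall', Subgroup.card_bot] at hm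
    omega
  have hwz := hall w (Or.inr ⟨hw, hw'⟩)
  rcases W.geom.eq_of_two hc1 hc.1 hc.2 hab (hall c (Or.inl ⟨hc.1, hc.2⟩)) with e | e
  · rw [e, hw] at hwz; exact hab hwz.symm
  · rw [e, hw'] at hwz; exact hab hwz

theorem pair_coatom {k : Type v} [Field k] [IsAlgClosed k] (i : F →+* k) (p₀ : ℕ) [Fact p₀.Prime] [CharP k p₀]
    (hF : Fintype.card F = q) {a b : ℙ k (Fin 2 → k)} (hab : a ≠ b) (m : ℕ)
    (hm : Nat.card ↥(stabilizer (PSLEmbed.pslMap i).range a ⊓ stabilizer (PSLEmbed.pslMap i).range b) = m)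
    {w : (PSLEmbed.pslMap i).range} (hw : w • a = b) (hw' : w • b = a) (hgood : Good q m (Nat.gcd 2 (q - 1))) :
    ∃ H : Subgroup (PSL₂ F), IsCoatom H ∧ Nonempty (H ≃* DihedralGroup m) :=
  ⟨_, pair_coatom' i p₀ hF hab m hm hw hw' hgood⟩

theorem exists_nonsplit (hF : Fintype.card F = q) (hq : q ∉ ({2, 7, 9} : Finset ℕ)) :
    ∃ H : Subgroup (PSL₂ F), IsCoatom H ∧ Nonempty (H ≃* DihedralGroup ((q + 1) / Nat.gcd 2 (q - 1))) := by
  obtain ⟨p, hp⟩ := CharP.exists F
  haveI : Fact p.Prime := ⟨CharP.char_is_prime F p⟩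
  let k := AlgebraicClosure F
  let i : F →+* k := algebraMap F k
  haveI : CharP k p := charP_of_injective_ringHom i.injective p
  haveI : Finite (PSLEmbed.pslMap i).range := Finite.of_surjective _ (PSLEmbed.pslMap i).rangeRestrict_surjective
  have W := full i p hF
  have hq2 := two_le hF
  have hq2' : q ≠ 2 := fun e => hq (by simp [e])
  have hd0 : 0 < Nat.gcd 2 (q - 1) := W.d_pos
  obtain ⟨a, b, hab, hc, w, hw, hw'⟩ := W.exists_nonsplit (by omega) (by rcases gcd_cases (q := q) with e | e <;> omega)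
  have hm : Nat.card ↥(stabilizer (PSLEmbed.pslMap i).range a ⊓ stabilizer (PSLEmbed.pslMap i).range b) =
      (q + 1) / Nat.gcd 2 (q - 1) := (Nat.div_eq_of_eq_mul_left hd0 hc.symm).symm
  exact pair_coatom i p hF hab _ hm hw hw' (Or.inl ⟨by rw [← hm, hc], hq⟩)

theorem exists_split (hF : Fintype.card F = q) (hq : q ∉ ({2, 3, 5, 7, 9, 11} : Finset ℕ)) :
    ∃ H : Subgroup (PSL₂ F), IsCoatom H ∧ Nonempty (H ≃* DihedralGroup ((q - 1) / Nat.gcd 2 (q - 1))) := by
  obtain ⟨p, hp⟩ := CharP.exists F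
  haveI : Fact p.Prime := ⟨CharP.char_is_prime F p⟩
  let k := AlgebraicClosure F
  let i : F →+* k := algebraMap F k
  haveI : CharP k p := charP_of_injective_ringHom i.injective p
  haveI : Finite (PSLEmbed.pslMap i).range := Finite.of_surjective _ (PSLEmbed.pslMap i).rangeRestrict_surjective
  have W := full i p hF
  obtain ⟨y, hy, -, hc, -, w, hw, hw'⟩ := W.wild_second
  have hm : Nat.card ↥(stabilizer (PSLEmbed.pslMap i).range (pinf : ℙ k (Fin 2 → k)) ⊓ stabilizer (PSLEmbed.pslMap i).range y) =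
      (q - 1) / Nat.gcd 2 (q - 1) := (Nat.div_eq_of_eq_mul_left W.d_pos hc.symm).symm
  exact pair_coatom i p hF (Ne.symm hy) _ hm hw hw' (Or.inr ⟨by rw [← hm, hc], hq⟩)

end Cfsg.Lib.Classical.PSLTori
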