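import Mathlib
import Cfsg.Agent.Classical.Misc.PSLTori
import Cfsg.Agent.Classical.Misc.PSLSubfieldMax

/-! Maximal subgroups of `PSL₂(q)` fixing a point or a pair of points. -/

set_option autoImplicit false
set_option linter.unusedSimpArgs false
set_option linter.unusedSectionVars false
set_option linter.style.haveILetI false
set_option linter.flexible false

namespace Cfsg.Lib.Classical.PSLMaxPoints

open Matrix MulAction
open scoped MatrixGroups LinearAlgebra.Projectivization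
open Cfsg.Lib.Classical.SharpGeom Cfsg.Lib.Classical.PSLEmbed Cfsg.Lib.Classical.PSLFull
open Cfsg.Lib.Classical.PSLGeom (pinf)

universe u v

local notation "PSL₂" k => Matrix.ProjectiveSpecialLinearGroup (Fin 2) k

variable {F : Type u} [Field F] [Fintype F] {k : Type v} [Field k] [IsAlgClosed k] (i : F →+* k)
  (p : ℕ) [Fact p.Prime] [CharP k p] {q : ℕ}

/-- The stabiliser of a pair of points fixed by a nontrivial element. -/
def Tor (M : Subgroup (PSL₂ F)) : Prop :=
  ∃ (a b : ℙ k (Fin 2 → k)) (w g : (pslMap i).range), a ≠ b ∧ w • a = b ∧ w • b = a ∧ g ≠ 1 ∧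
    g • a = a ∧ g • b = b ∧ M = pull i (pairStab a b)

theorem coatom_eq {G : Type*} [Group G] {M N : Subgroup G} (hM : IsCoatom M) (hle : M ≤ N) (hN : N ≠ ⊤) : M = N :=
  (hle.eq_or_lt).resolve_right fun h => hN (hM.2 _ h)

theorem map_coatom {G : Type*} [Group G] (τ : MulAut G) {M : Subgroup G} (hM : IsCoatom M) :
    IsCoatom (M.map τ.toMonoidHom) :=
  ((MulEquiv.mapSubgroup τ).isCoatom_iff M).mpr hM

theorem pull_ne_top {S : Subgroup (pslMap i).range} (h : Nat.card S < Nat.card (PSL₂ F)) : pull i S ≠ ⊤ := by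
  intro e
  have := Nat.card_congr (pullEquiv i S).toEquiv
  rw [e, Subgroup.card_top] at this
  omega

include p in
theorem pair_data (hF : Fintype.card F = q) (h4 : 4 ≤ q) {a b : ℙ k (Fin 2 → k)} (hab : a ≠ b)
    {g : (pslMap i).range} (hg : g ≠ 1) (ha : g • a = a) (hb : g • b = b) :
    ∃ (m : ℕ) (w : (pslMap i).range), w • a = b ∧ w • b = a ∧
      Nat.card ↥(stabilizer (pslMap i).range a ⊓ stabilizer (pslMap i).range b) = m ∧
      (m * Nat.gcd 2 (q - 1) = q - 1 ∨ m * Nat.gcd 2 (q - 1) = q + 1) ∧ 2 ≤ m ∧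
      Nonempty (pull i (pairStab (G := (pslMap i).range) a b) ≃* DihedralGroup m) ∧
      pull i (pairStab (G := (pslMap i).range) a b) ≠ ⊤ := by
  haveI : Finite (pslMap i).range := Finite.of_surjective _ (pslMap i).rangeRestrict_surjective
  have W := full i p hF
  obtain ⟨hc, w, hw, hw'⟩ := W.pair_cases hab hg ha hb
  obtain ⟨hcard, ⟨ψ⟩⟩ := W.geom.pair_dihedral hab hw hw'
  generalize hm : Nat.card ↥(stabilizer (pslMap i).range a ⊓ stabilizer (pslMap i).range b) = m at hc hcard ψ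
  have h2 : 2 ≤ m := by
    rcases gcd_cases (q := q) with e | e <;> rw [e] at hc <;> omega
  refine ⟨m, w, hw, hw', rfl, hc, h2, ⟨(pullEquiv i _).trans ψ⟩, pull_ne_top i ?_⟩
  rw [hcard]
  have hG := card_mul hF
  have h1 : 5 * 4 * (q - 1) ≤ (q + 1) * q * (q - 1) := Nat.mul_le_mul_right _ (Nat.mul_le_mul (by omega) h4)
  rcases gcd_cases (q := q) with e | e <;> rw [e] at hc hG <;> omega

include p in
theorem of_fix (hF : Fintype.card F = q) (h4 : 4 ≤ q) {M : Subgroup (PSL₂ F)} (hM : IsCoatom M) (hne : M ≠ ⊥)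
    {z : ℙ k (Fin 2 → k)} (hfix : ∀ g ∈ M, eW i g • z = z) :
    Nat.card M * Nat.gcd 2 (q - 1) = q * (q - 1) ∨ Tor i M := by
  haveI : Finite (pslMap i).range := Finite.of_surjective _ (pslMap i).rangeRestrict_surjective
  have W := full i p hF
  obtain ⟨g, hg, hg1⟩ : ∃ g ∈ M, g ≠ 1 := by
    by_contra hall
    push Not at hall
    exact hne ((Subgroup.eq_bot_iff_forall M).mpr hall)
  by_cases hzO : z ∈ orbit (pslMap i).range (pinf : ℙ k (Fin 2 → k))
  · left
    obtain ⟨a, ha⟩ := hzO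
    have ha' : a • (pinf : ℙ k (Fin 2 → k)) = z := ha
    have hc : Nat.card (stabilizer (pslMap i).range z) = Nat.card (stabilizer (pslMap i).range (pinf : ℙ k (Fin 2 → k))) := by
      rw [← ha', stabilizer_smul_eq_stabilizer_map_conj, Subgroup.card_map_of_injective (MulAut.conj a).injective]
    have hle : M ≤ pull i (stabilizer (pslMap i).range z) := fun g hg => (mem_pull i).mpr (hfix g hg)
    rw [coatom_eq hM hle (pull_ne_top i ?_), Nat.card_congr (pullEquiv i _).toEquiv, hc, W.card_stab]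
    rw [hc]
    have h1 := W.card_stab
    have h2 := card_mul hF
    have h3 : q * (q - 1) < (q + 1) * q * (q - 1) := by
      rw [mul_assoc]
      exact lt_mul_of_one_lt_left (Nat.mul_pos (by omega) (by omega)) (by omega)
    by_contra hcon
    push Not at hcon
    have := Nat.mul_le_mul_right (Nat.gcd 2 (q - 1)) hcon
    omega
  · right
    have hg' : eW i g ≠ 1 := fun e => hg1 ((eW i).injective (e.trans (map_one _).symm))
    obtain ⟨y, hy, hyO, hsz, w, hw, hw'⟩ := W.tame_structure ⟨eW i g, hg', hfix g hg⟩ hzO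
    have hfy : ∀ x ∈ M, eW i x • y = y := fun x hx => by
      have h : eW i x ∈ stabilizer (pslMap i).range z := hfix x hx
      rw [hsz] at h
      exact h.2
    obtain ⟨m, w', -, -, -, -, -, -, hne'⟩ := pair_data i p hF h4 (Ne.symm hy) hg' (hfix g hg) (hfy g hg)
    exact ⟨z, y, w, eW i g, Ne.symm hy, hw, hw', hg', hfix g hg, hfy g hg,
      coatom_eq hM (fun x hx => (mem_pull i).mpr (Or.inl ⟨hfix x hx, hfy x hx⟩)) hne'⟩

include p in
/-- A dihedral subgroup fixes a point or preserves a pair. -/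
theorem dihedral_sub (hF : Fintype.card F = q) (h4 : 4 ≤ q) {N : Subgroup (PSL₂ F)} {n : ℕ} (hn : 2 ≤ n)
    (ψ : N ≃* DihedralGroup n) :
    (n = p ∧ ∃ z : ℙ k (Fin 2 → k), ∀ g ∈ N, eW i g • z = z) ∨
      ∃ (a b : ℙ k (Fin 2 → k)) (w g : (pslMap i).range), a ≠ b ∧ w • a = b ∧ w • b = a ∧ g ≠ 1 ∧ g • a = a ∧
        g • b = b ∧ N ≤ pull i (pairStab a b) ∧
        n ∣ Nat.card ↥(stabilizer (pslMap i).range a ⊓ stabilizer (pslMap i).range b) := by
  haveI : Finite (pslMap i).range := Finite.of_surjective _ (pslMap i).rangeRestrict_surjective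
  haveI : NeZero n := ⟨by omega⟩
  have W := full i p hF
  let f : DihedralGroup n →* (pslMap i).range := ((eW i).toMonoidHom.comp N.subtype).comp ψ.symm.toMonoidHom
  have hf : Function.Injective f := ((eW i).injective.comp Subtype.val_injective).comp ψ.symm.injective
  have hfN : ∀ g (hg : g ∈ N), eW i g = f (ψ ⟨g, hg⟩) := fun g hg => by
    show eW i g = eW i ((ψ.symm (ψ ⟨g, hg⟩) : N) : PSL₂ F)
    rw [MulEquiv.symm_apply_apply]
  set c := f (DihedralGroup.r 1) with hc
  set s := f (DihedralGroup.sr 0) with hs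
  have hcn : orderOf c = n := by rw [hc, orderOf_injective f hf, DihedralGroup.orderOf_r_one]
  have hc1 : c ≠ 1 := fun e => by rw [e, orderOf_one] at hcn; omega
  have hgen : ∀ x : DihedralGroup n, (∃ j : ℕ, f x = c ^ j) ∨ (∃ j : ℕ, f x = s * c ^ j) := by
    rintro (j | j)
    · exact Or.inl ⟨j.val, by rw [hc, ← map_pow, DihedralGroup.r_one_pow, ZMod.natCast_zmod_val]⟩
    · exact Or.inr ⟨j.val, by
        rw [hc, hs, ← map_pow, ← map_mul, DihedralGroup.r_one_pow, ZMod.natCast_zmod_val, DihedralGroup.sr_mul_r,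
          zero_add]⟩
  have hsc : ∀ z : ℙ k (Fin 2 → k), c • z = z → c • (s • z) = s • z := by
    intro z hz
    have e : c * s = s * c⁻¹ := by
      rw [hc, hs, ← map_mul, ← map_inv, ← map_mul, DihedralGroup.r_mul_sr, DihedralGroup.inv_r,
        DihedralGroup.sr_mul_r, zero_sub, zero_add]
    rw [← mul_smul, e, mul_smul]
    congr 1
    rw [inv_smul_eq_iff, hz]
  obtain ⟨a, ha⟩ := W.geom.exists_fixed c
  have hpow : ∀ z : ℙ k (Fin 2 → k), c • z = z → ∀ j : ℕ, c ^ j • z = z := fun z hz j => W.geom.pow_smul_fixed hz j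
  by_cases hp : c ^ p = 1
  · refine Or.inl ⟨?_, a, fun g hg => ?_⟩
    · rw [← hcn]; exact orderOf_eq_prime hp hc1
    have hsa : s • a = a := W.geom.eq_of_unip hc1 hp ha (hsc a ha)
    rw [hfN g hg]
    rcases hgen (ψ ⟨g, hg⟩) with ⟨j, hj⟩ | ⟨j, hj⟩ <;> rw [hj]
    · exact hpow a ha j
    · rw [mul_smul, hpow a ha j, hsa]
  · obtain ⟨b, hba, hb⟩ := W.geom.semi_two c hp a ha
    have hsa : s • a = a ∨ s • a = b := W.geom.eq_of_two hc1 ha hb (Ne.symm hba) (hsc a ha)
    have hsb : s • b = a ∨ s • b = b := W.geom.eq_of_two hc1 ha hb (Ne.symm hba) (hsc b hb)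
    have hsmem : s ∈ pairStab (G := (pslMap i).range) a b := by
      rcases hsa with e | e <;> rcases hsb with e' | e'
      · exact absurd (smul_left_cancel s (e.trans e'.symm)) (Ne.symm hba)
      · exact Or.inl ⟨e, e'⟩
      · exact Or.inr ⟨e, e'⟩
      · exact absurd (smul_left_cancel s (e.trans e'.symm)) (Ne.symm hba)
    have hcmem : c ∈ pairStab (G := (pslMap i).range) a b := Or.inl ⟨ha, hb⟩
    obtain ⟨m, w, hw, hw', -⟩ := pair_data i p hF h4 (Ne.symm hba) hc1 ha hb
    refine Or.inr ⟨a, b, w, c, Ne.symm hba, hw, hw', hc1, ha, hb, fun g hg => (mem_pull i).mpr ?_, ?_⟩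
    · rw [hfN g hg]
      rcases hgen (ψ ⟨g, hg⟩) with ⟨j, hj⟩ | ⟨j, hj⟩ <;> rw [hj]
      · exact pow_mem hcmem j
      · exact mul_mem hsmem (pow_mem hcmem j)
    · rw [← hcn]
      exact Subgroup.orderOf_dvd_natCard _ ⟨ha, hb⟩

include p in
theorem pair_conj (hF : Fintype.card F = q) {a b a' b' : ℙ k (Fin 2 → k)} (hab : a ≠ b) (hab' : a' ≠ b')
    {g g' : (pslMap i).range} (hg : g ≠ 1) (ha : g • a = a) (hb : g • b = b)
    (hg' : g' ≠ 1) (ha' : g' • a' = a') (hb' : g' • b' = b')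
    (hcard : Nat.card ↥(stabilizer (pslMap i).range a ⊓ stabilizer (pslMap i).range b) =
      Nat.card ↥(stabilizer (pslMap i).range a' ⊓ stabilizer (pslMap i).range b')) :
    ∃ h : (pslMap i).range, h • a' = a ∧ h • b' = b := by
  haveI : Finite (pslMap i).range := Finite.of_surjective _ (pslMap i).rangeRestrict_surjective
  have W := full i p hF
  obtain ⟨y, hy, hyO, hc, hdec, w, hw, hw'⟩ := W.wild_second
  have inside : ∀ (u v : ℙ k (Fin 2 → k)) (e : (pslMap i).range), u ≠ v → e ≠ 1 → e • u = u → e • v = v →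
      u ∈ orbit (pslMap i).range (pinf : ℙ k (Fin 2 → k)) →
      ∃ c : (pslMap i).range, c • pinf = u ∧ c • y = v ∧
        Nat.card ↥(stabilizer (pslMap i).range u ⊓ stabilizer (pslMap i).range v) * Nat.gcd 2 (q - 1) = q - 1 := by
    intro u v e huv he heu hev huO
    obtain ⟨t, ht⟩ := huO
    have ht' : t • (pinf : ℙ k (Fin 2 → k)) = u := ht
    have hne : t⁻¹ • v ≠ (pinf : ℙ k (Fin 2 → k)) := fun e' => huv (by rw [← ht', ← e', smul_inv_smul])
    have he' : t⁻¹ * e * t ≠ 1 := fun e' => he (by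
      rw [mul_assoc, inv_mul_eq_one, eq_comm, mul_eq_right] at e'; exact e')
    obtain ⟨z, hz, hzy⟩ := W.geom.second_point hy hdec hne he'
      (by rw [mul_smul, mul_smul, ht', heu, ← ht', inv_smul_smul])
      (by rw [mul_smul, mul_smul, smul_inv_smul, hev])
    have hcu : (t * z) • (pinf : ℙ k (Fin 2 → k)) = u := by rw [mul_smul, hz.1, ht']
    have hcv : (t * z) • y = v := by rw [mul_smul, hzy, smul_inv_smul]
    refine ⟨t * z, hcu, hcv, ?_⟩
    rw [← hcu, ← hcv, stabilizer_smul_eq_stabilizer_map_conj, stabilizer_smul_eq_stabilizer_map_conj,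
      ← Subgroup.map_inf _ _ _ (MulAut.conj (t * z)).injective, Subgroup.card_map_of_injective (MulAut.conj (t * z)).injective]
    exact hc
  have outside : ∀ (u v : ℙ k (Fin 2 → k)) (e : (pslMap i).range), u ≠ v → e ≠ 1 → e • u = u → e • v = v →
      u ∉ orbit (pslMap i).range (pinf : ℙ k (Fin 2 → k)) →
      stabilizer (pslMap i).range u = stabilizer (pslMap i).range u ⊓ stabilizer (pslMap i).range v ∧
        Nat.card ↥(stabilizer (pslMap i).range u ⊓ stabilizer (pslMap i).range v) * Nat.gcd 2 (q - 1) = q + 1 := by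
    intro u v e huv he heu hev huO
    obtain ⟨z, hz, hzO, hsz, -⟩ := W.tame_structure ⟨e, he, heu⟩ huO
    have hez : e • z = z := by
      have h : e ∈ stabilizer (pslMap i).range u := heu
      rw [hsz] at h
      exact h.2
    rcases W.geom.eq_of_two he heu hez (Ne.symm hz) hev with e' | e'
    · exact absurd e'.symm huv
    · subst e'
      exact ⟨hsz, by rw [← hsz]; exact W.tame_card ⟨e, he, heu⟩ huO⟩
  have hq := W.two_le
  by_cases haO : a ∈ orbit (pslMap i).range (pinf : ℙ k (Fin 2 → k)) <;>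
    by_cases haO' : a' ∈ orbit (pslMap i).range (pinf : ℙ k (Fin 2 → k))
  · obtain ⟨c, h1, h2, -⟩ := inside a b g hab hg ha hb haO
    obtain ⟨c', h1', h2', -⟩ := inside a' b' g' hab' hg' ha' hb' haO'
    exact ⟨c * c'⁻¹, by rw [mul_smul, ← h1', inv_smul_smul, h1], by rw [mul_smul, ← h2', inv_smul_smul, h2]⟩
  · obtain ⟨c, -, -, h1⟩ := inside a b g hab hg ha hb haO
    have h2 := (outside a' b' g' hab' hg' ha' hb' haO').2
    rw [hcard] at h1
    omega
  · obtain ⟨c, -, -, h1⟩ := inside a' b' g' hab' hg' ha' hb' haO'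
    have h2 := (outside a b g hab hg ha hb haO).2
    rw [hcard] at h2
    omega
  · obtain ⟨t, ht⟩ := W.geom.tame_unique W.ne_bot ⟨g', hg', ha'⟩ haO' ⟨g, hg, ha⟩ haO
    have ht' : t • a' = a := ht
    refine ⟨t, ht', ?_⟩
    have h1 := (outside a b g hab hg ha hb haO).1
    have hgt : (t * g' * t⁻¹) • a = a := by rw [mul_smul, mul_smul, ← ht', inv_smul_smul, ha']
    have hgb : (t * g' * t⁻¹) • b = b := by
      have h : t * g' * t⁻¹ ∈ stabilizer (pslMap i).range a := hgt
      rw [h1] at h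
      exact h.2
    have hgt' : (t * g' * t⁻¹) • (t • b') = t • b' := by rw [mul_smul, mul_smul, inv_smul_smul, hb']
    rcases W.geom.eq_of_two (fun e => hg' (conj_eq_one_iff.mp e)) hgt hgb hab hgt' with e | e
    · exact absurd (smul_left_cancel t (e.trans ht'.symm)) (Ne.symm hab')
    · exact e

include p in
/-- A torus normaliser inside a larger proper subgroup is not maximal. -/
theorem tor_not (hF : Fintype.card F = q) (h4 : 4 ≤ q) {M : Subgroup (PSL₂ F)} (hM : IsCoatom M) (hT : Tor i M)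
    {m : ℕ} (ψM : M ≃* DihedralGroup m) (hm : m * Nat.gcd 2 (q - 1) + 1 = q ∨ m * Nat.gcd 2 (q - 1) = q + 1)
    (hmp : m ≠ p) (H N : Subgroup (PSL₂ F)) (hH : H ≠ ⊤) (hle : N ≤ H) (hlt : 2 * m < Nat.card H)
    (ψ : N ≃* DihedralGroup m) : False := by
  obtain ⟨a, b, w, g, hab, hw, hw', hg, ha, hb, hMeq⟩ := hT
  obtain ⟨m₀, w₀, -, -, hm₀, hm₀', h2, ⟨ψ₀⟩, -⟩ := pair_data i p hF h4 hab hg ha hb
  have hmm : m₀ = m := by
    have h1 := Nat.card_congr ψ₀.toEquiv
    rw [← hMeq, Nat.card_congr ψM.toEquiv, DihedralGroup.nat_card, DihedralGroup.nat_card] at h1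
    omega
  subst hmm
  rcases dihedral_sub i p hF h4 h2 ψ with ⟨e, -⟩ | ⟨a', b', w', g', hab', -, -, hg', ha', hb', hsub, hdvd⟩
  · exact hmp e
  obtain ⟨m₁, w₁, -, -, hm₁, hm₁', h21, ⟨ψ₁⟩, -⟩ := pair_data i p hF h4 hab' hg' ha' hb'
  have hmm' : m₁ = m₀ := by
    rw [hm₁] at hdvd
    obtain ⟨t, ht⟩ := hdvd
    rcases Nat.lt_or_ge t 2 with ht2 | ht2
    · interval_cases t
      · omega
      · omega
    · exfalso
      have h3 : m₀ * 2 ≤ m₁ := ht ▸ Nat.mul_le_mul_left _ ht2
      have h5 := Nat.mul_le_mul_right (Nat.gcd 2 (q - 1)) h3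
      rw [mul_right_comm] at h5
      omega
  subst hmm'
  have hN : N = pull i (pairStab (G := (pslMap i).range) a' b') := by
    refine Subgroup.eq_of_le_of_card_ge hsub ?_
    rw [Nat.card_congr ψ.toEquiv, Nat.card_congr ψ₁.toEquiv]
  obtain ⟨h, h1, h2'⟩ := pair_conj i p hF hab hab' hg ha hb hg' ha' hb' (hm₀.trans hm₁.symm)
  obtain ⟨h', rfl⟩ := (eW i).surjective h
  have hMle : M ≤ H.map (MulAut.conj h').toMonoidHom := by
    intro x hx
    rw [hMeq, mem_pull] at hx
    refine ⟨h'⁻¹ * x * h', hle (hN ▸ (mem_pull i).mpr ?_), by simp [mul_assoc]⟩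
    have hx1 : ∀ u v : ℙ k (Fin 2 → k), eW i x • (eW i h' • u) = eW i h' • v → eW i (h'⁻¹ * x * h') • u = v := fun u v e => by
      rw [map_mul, map_mul, map_inv, mul_smul, mul_smul, e, inv_smul_smul]
    rw [← h1, ← h2'] at hx
    rcases hx with ⟨x1, x2⟩ | ⟨x1, x2⟩
    · exact Or.inl ⟨hx1 _ _ x1, hx1 _ _ x2⟩
    · exact Or.inr ⟨hx1 _ _ x1, hx1 _ _ x2⟩
  have hc : Nat.card (H.map (MulAut.conj h').toMonoidHom) = Nat.card H :=
    Subgroup.card_map_of_injective (MulAut.conj h').injective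
  have hne : H.map (MulAut.conj h').toMonoidHom ≠ ⊤ := fun e => hH (Subgroup.eq_top_of_card_eq H (by
    rw [← hc, e, Subgroup.card_top]))
  have := coatom_eq hM hMle hne
  rw [← this, Nat.card_congr ψM.toEquiv, DihedralGroup.nat_card] at hc
  omega

end Cfsg.Lib.Classical.PSLMaxPoints
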