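import Mathlib
import Cfsg.Agent.Classical.Misc.PSLFrame
import Cfsg.Agent.Classical.Misc.PSLMaxPoints

/-! Containments of maximal subgroups in subfield groups. -/

set_option autoImplicit false
set_option linter.unusedSimpArgs false
set_option linter.unusedSectionVars false
set_option linter.style.haveILetI false
set_option linter.flexible false

namespace Cfsg.Lib.Classical.PSLMaxField

open Matrix
open scoped MatrixGroups
open Cfsg.Lib.Classical.PSLFour Cfsg.Lib.Classical.PSLRat Cfsg.Lib.Classical.PSLFrame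
open Cfsg.Lib.Classical.PSLMaxPoints (coatom_eq map_coatom)

universe u v

local notation "PSL₂" k => Matrix.ProjectiveSpecialLinearGroup (Fin 2) k

variable {F : Type u} [Field F] [Fintype F] {q : ℕ}

/-- Conjugation by a matrix moves a pair to the standard one. -/
theorem frame_aut (g h : SL(2, F)) (hp : IsPair g h) (h2 : (2 : F) ≠ 0) {a b : F} (hab : a ^ 2 + b ^ 2 = -1) :
    ∃ (C : SL(2, F) →* SL(2, F)) (τ : MulAut (PSL₂ F)), (∀ s, τ (π s) = π (C s)) ∧
      (∀ s, (C s).1.trace = s.1.trace) ∧ (C g).1 = JM ∧ (C h).1 = BM a b := by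
  obtain ⟨c, hc, hgc, hhc⟩ := exists_basis g h hp.1 hp.2.1 hp.2.2 h2 hab
  let u : GL (Fin 2) F := Matrix.GeneralLinearGroup.mkOfDetNeZero c hc
  have hu : ∀ m : Matrix (Fin 2) (Fin 2) F, (c * m).det = c.det * m.det := fun m => Matrix.det_mul c m
  let C : SL(2, F) →* SL(2, F) :=
    { toFun := fun s => ⟨(↑(u⁻¹) : Matrix (Fin 2) (Fin 2) F) * s.1 * c, by
        rw [Matrix.det_mul, Matrix.det_mul, s.2, mul_one, ← Matrix.det_mul,
          show c = ((u : GL (Fin 2) F) : Matrix (Fin 2) (Fin 2) F) from rfl, Units.inv_mul, Matrix.det_one]⟩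
      map_one' := Subtype.ext (by
        show (↑(u⁻¹) : Matrix (Fin 2) (Fin 2) F) * (1 : SL(2, F)).1 * c = (1 : SL(2, F)).1
        rw [Matrix.SpecialLinearGroup.coe_one, Matrix.mul_one,
          show c = ((u : GL (Fin 2) F) : Matrix (Fin 2) (Fin 2) F) from rfl, Units.inv_mul])
      map_mul' := fun s t => Subtype.ext (by
        show (↑(u⁻¹) : Matrix (Fin 2) (Fin 2) F) * (s * t).1 * c =
          (↑(u⁻¹) : Matrix (Fin 2) (Fin 2) F) * s.1 * c * ((↑(u⁻¹) : Matrix (Fin 2) (Fin 2) F) * t.1 * c)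
        rw [Matrix.SpecialLinearGroup.coe_mul]
        calc _ = (↑(u⁻¹) : Matrix (Fin 2) (Fin 2) F) * s.1 * (((u : GL (Fin 2) F) : Matrix (Fin 2) (Fin 2) F) *
              (↑(u⁻¹) : Matrix (Fin 2) (Fin 2) F)) * (t.1 * c) := by
              rw [Units.mul_inv, Matrix.mul_one]; simp only [Matrix.mul_assoc]
          _ = _ := by
              rw [show c = ((u : GL (Fin 2) F) : Matrix (Fin 2) (Fin 2) F) from rfl]
              simp only [Matrix.mul_assoc]) }
  have hinv : ∀ s : SL(2, F), c * (C s).1 = s.1 * c := fun s => by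
    show c * ((↑(u⁻¹) : Matrix (Fin 2) (Fin 2) F) * s.1 * c) = _
    rw [← Matrix.mul_assoc, ← Matrix.mul_assoc, show c * (↑(u⁻¹) : Matrix (Fin 2) (Fin 2) F) = 1 from
      Units.mul_inv u, Matrix.one_mul]
  have hval : ∀ (s : SL(2, F)) (m : Matrix (Fin 2) (Fin 2) F), s.1 * c = c * m → (C s).1 = m := fun s m e => by
    show (↑(u⁻¹) : Matrix (Fin 2) (Fin 2) F) * s.1 * c = m
    rw [Matrix.mul_assoc, e, ← Matrix.mul_assoc,
      show (↑(u⁻¹) : Matrix (Fin 2) (Fin 2) F) * c = 1 from Units.inv_mul u, Matrix.one_mul]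
  have hneg : C (-1) = -1 := Subtype.ext (hval (-1) _ (by simp))
  have hCinj : Function.Injective C := fun s t e => by
    apply Subtype.ext
    have h' := congrArg (fun m : Matrix (Fin 2) (Fin 2) F => m * (↑(u⁻¹) : Matrix (Fin 2) (Fin 2) F))
      ((hinv s).symm.trans ((congrArg (fun x : SL(2, F) => c * x.1) e).trans (hinv t)))
    simp only [Matrix.mul_assoc, show c * (↑(u⁻¹) : Matrix (Fin 2) (Fin 2) F) = 1 from Units.mul_inv u,
      Matrix.mul_one] at h'
    exact h'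
  have hcen : Subgroup.center SL(2, F) ≤ (π.comp C).ker := fun s hs => by
    rw [MonoidHom.mem_ker, MonoidHom.comp_apply, π_one_iff]
    rcases (PSLSubfield.mem_center_iff s).mp hs with rfl | rfl
    · exact Or.inl (map_one C)
    · exact Or.inr hneg
  let τ₀ : (PSL₂ F) →* (PSL₂ F) := QuotientGroup.lift _ (π.comp C) hcen
  have hτ₀ : Function.Injective τ₀ := by
    rw [injective_iff_map_eq_one]
    intro x hx
    obtain ⟨s, rfl⟩ := QuotientGroup.mk'_surjective (Subgroup.center SL(2, F)) x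
    change π (C s) = 1 at hx
    show π s = 1
    rw [π_one_iff] at hx ⊢
    rcases hx with e | e
    · exact Or.inl (hCinj (e.trans (map_one C).symm))
    · exact Or.inr (hCinj (e.trans hneg.symm))
  haveI : Finite (PSL₂ F) := Finite.of_surjective _ (QuotientGroup.mk'_surjective (Subgroup.center SL(2, F)))
  refine ⟨C, MulEquiv.ofBijective τ₀ (Finite.injective_iff_bijective.mp hτ₀), fun s => rfl, fun s => ?_,
    hval g _ hgc, hval h _ hhc⟩
  show ((↑(u⁻¹) : Matrix (Fin 2) (Fin 2) F) * s.1 * c).trace = _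
  rw [Matrix.trace_mul_cycle, show c * (↑(u⁻¹) : Matrix (Fin 2) (Fin 2) F) = 1 from Units.mul_inv u, Matrix.one_mul]

variable {K : Type v} [Field K]

/-- A subgroup permuting the four-group is rational in the frame. -/
theorem contain_norm (φ : K →+* F) (h2 : (2 : F) ≠ 0) (g h : SL(2, F)) (hp : IsPair g h) (a b : K)
    (hab : φ a ^ 2 + φ b ^ 2 = -1) (C : SL(2, F) →* SL(2, F)) (τ : MulAut (PSL₂ F)) (hτ : ∀ s, τ (π s) = π (C s))
    (hg : (C g).1 = JM) (hh : (C h).1 = BM (φ a) (φ b)) (M : Subgroup (PSL₂ F))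
    (hM : ∀ x ∈ M, ∀ v : PSL₂ F, (v = π g ∨ v = π h ∨ v = π g * π h) →
      (x * v * x⁻¹ = π g ∨ x * v * x⁻¹ = π h ∨ x * v * x⁻¹ = π g * π h)) :
    M.map τ.toMonoidHom ≤ rat φ := by
  rintro _ ⟨x, hx, rfl⟩
  obtain ⟨s, rfl⟩ := QuotientGroup.mk'_surjective (Subgroup.center SL(2, F)) x
  show τ (π s) ∈ rat φ
  rw [hτ]
  have hJ : ∀ r c, ∃ y, (JM (F := F)) r c = φ y := fun r c => ⟨(JM (F := K)) r c, by
    fin_cases r <;> fin_cases c <;> simp [JM]⟩
  have hB : ∀ r c, ∃ y, BM (φ a) (φ b) r c = φ y := fun r c => ⟨BM a b r c, by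
    fin_cases r <;> fin_cases c <;> simp [BM]⟩
  have hJB : ∀ r c, ∃ y, ((JM (F := F)) * BM (φ a) (φ b)) r c = φ y := fun r c => ⟨((JM (F := K)) * BM a b) r c, by
    fin_cases r <;> fin_cases c <;> simp [JM, BM, Matrix.mul_apply, Fin.sum_univ_two]⟩
  have key : ∀ v : SL(2, F), (π v = π g ∨ π v = π h ∨ π v = π g * π h) →
      ∀ r c, ∃ y, ((C s).1 * (C v).1 * ((C s)⁻¹).1) r c = φ y := by
    intro v hv r c
    have e := hM _ hx (π v) hv
    change π s * π v * (π s)⁻¹ = π g ∨ π s * π v * (π s)⁻¹ = π h ∨ π s * π v * (π s)⁻¹ = π g * π h at e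
    rw [π_conj, ← map_mul π g h] at e
    have hC : (C s).1 * (C v).1 * ((C s)⁻¹).1 = (C (s * v * s⁻¹)).1 := by
      rw [map_mul, map_mul, map_inv, Matrix.SpecialLinearGroup.coe_mul, Matrix.SpecialLinearGroup.coe_mul]
    rw [hC]
    have fin : ∀ (w : SL(2, F)) (m : Matrix (Fin 2) (Fin 2) F), π (s * v * s⁻¹) = π w → (C w).1 = m →
        (∀ r c, ∃ y, m r c = φ y) → ∃ y, (C (s * v * s⁻¹)).1 r c = φ y := by
      intro w m ew em hm
      obtain ⟨y, hy⟩ := hm r c
      have : π (C (s * v * s⁻¹)) = π (C w) := by rw [← hτ, ← hτ, ew]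
      rcases π_eq_iff.mp this with e' | e'
      · exact ⟨y, by rw [← e', em, hy]⟩
      · refine ⟨-y, ?_⟩
        rw [map_neg, ← hy, ← em, e', val_neg, neg_neg]
    rcases e with e | e | e
    · exact fin g _ e hg hJ
    · exact fin h _ e hh hB
    · exact fin (g * h) _ e (by rw [map_mul, Matrix.SpecialLinearGroup.coe_mul, hg, hh]) hJB
  refine rat_of_normalizing φ h2 a b hab (C s) ?_ ?_ ?_
  · intro r c; have := key g (Or.inl rfl) r c; rwa [hg] at this
  · intro r c; have := key h (Or.inr (Or.inl rfl)) r c; rwa [hh] at this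
  · intro r c
    have := key (g * h) (Or.inr (Or.inr (map_mul π g h))) r c
    rwa [map_mul, Matrix.SpecialLinearGroup.coe_mul, hg, hh] at this

/-- A subgroup with rational traces through the four-group is rational in the frame. -/
theorem contain_trace (φ : K →+* F) (h2 : (2 : F) ≠ 0) (g h : SL(2, F)) (a b : K)
    (hab : φ a ^ 2 + φ b ^ 2 = -1) (C : SL(2, F) →* SL(2, F)) (τ : MulAut (PSL₂ F)) (hτ : ∀ s, τ (π s) = π (C s))
    (htr : ∀ s, (C s).1.trace = s.1.trace) (hg : (C g).1 = JM) (hh : (C h).1 = BM (φ a) (φ b))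
    (M : Subgroup (PSL₂ F)) (hgM : π g ∈ M) (hhM : π h ∈ M)
    (hM : ∀ s : SL(2, F), π s ∈ M → ∃ y, s.1.trace = φ y) :
    M.map τ.toMonoidHom ≤ rat φ := by
  rintro _ ⟨x, hx, rfl⟩
  obtain ⟨s, rfl⟩ := QuotientGroup.mk'_surjective (Subgroup.center SL(2, F)) x
  show τ (π s) ∈ rat φ
  rw [hτ]
  have tr : ∀ v : SL(2, F), π v ∈ M → ∀ m, (C v).1 = m → ∃ y, ((C s).1 * m).trace = φ y := by
    intro v hv m hm
    obtain ⟨y, hy⟩ := hM (s * v) (by rw [map_mul]; exact mul_mem hx hv)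
    exact ⟨y, by rw [← hm, ← Matrix.SpecialLinearGroup.coe_mul, ← map_mul, htr, hy]⟩
  have hall := entries_of_traces φ h2 a b hab (C s).1
    (by obtain ⟨y, hy⟩ := hM s hx; exact ⟨y, (htr s).trans hy⟩)
    (tr g hgM _ hg) (tr h hhM _ hh)
    (tr (g * h) (by rw [map_mul]; exact mul_mem hgM hhM) _ (by rw [map_mul, Matrix.SpecialLinearGroup.coe_mul, hg, hh]))
  exact mem_rat.mpr ⟨C s, 1, one_ne_zero, rfl, fun r c => by
    obtain ⟨y, hy⟩ := hall r c
    exact ⟨y, by rw [mul_one, hy]⟩⟩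

/-- Intermediate fields. -/
theorem exists_mid (p : ℕ) [Fact p.Prime] [CharP F p] {n a r : ℕ} (hF : Fintype.card F = p ^ n) (ha : a ≠ 0)
    (h : a * r = n) : ∃ (K : Type) (_ : Field K) (_ : Fintype K) (φ : K →+* F),
      Fintype.card K = p ^ a ∧ ∀ x : F, x ^ p ^ a = x → ∃ y, φ y = x := by
  classical
  let K := GaloisField p a
  haveI : Fintype K := Fintype.ofFinite K
  have hK : Fintype.card K = p ^ a := by rw [← Nat.card_eq_fintype_card, GaloisField.card p a ha]
  obtain ⟨φ⟩ := PSLSubfield.exists_emb (F := F) (K := K) hF (m := r) (by rw [hK, ← pow_mul, h])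
  refine ⟨K, inferInstance, inferInstance, φ, hK, fun x hx => ?_⟩
  have hN : 1 < p ^ a := Nat.one_lt_pow ha (Fact.out : p.Prime).one_lt
  let P : Polynomial F := Polynomial.X ^ p ^ a - Polynomial.X
  have hP : P ≠ 0 := FiniteField.X_pow_card_sub_X_ne_zero F hN
  have hdeg : P.natDegree = p ^ a := FiniteField.X_pow_card_sub_X_natDegree_eq F hN
  have himg : Finset.univ.image φ = P.roots.toFinset := by
    refine Finset.eq_of_subset_of_card_le ?_ ?_
    · intro z hz
      obtain ⟨y, -, rfl⟩ := Finset.mem_image.mp hz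
      rw [Multiset.mem_toFinset, Polynomial.mem_roots hP]
      simp [P, sub_eq_zero, ← map_pow, ← hK, FiniteField.pow_card]
    · rw [Finset.card_image_of_injective _ φ.injective, Finset.card_univ, hK]
      exact (Multiset.toFinset_card_le _).trans ((Polynomial.card_roots' P).trans hdeg.le)
  have : x ∈ P.roots.toFinset := by
    rw [Multiset.mem_toFinset, Polynomial.mem_roots hP]
    simp [P, hx]
  rw [← himg] at this
  obtain ⟨y, -, hy⟩ := Finset.mem_image.mp this
  exact ⟨y, hy⟩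

/-- Sums of two squares in the prime field. -/
theorem prime_squares (p : ℕ) [Fact p.Prime] [CharP F p] :
    ∃ (φ : ZMod p →+* F) (a b : ZMod p), φ a ^ 2 + φ b ^ 2 = -1 := by
  obtain ⟨a, b, h⟩ := ZMod.sq_add_sq p (-1 : ZMod p)
  refine ⟨ZMod.castHom dvd_rfl F, a, b, ?_⟩
  rw [← map_pow, ← map_pow, ← map_add, h, map_neg, map_one]

/-- A maximal subgroup inside a subfield group is that group. -/
theorem escape [Fintype K] (hF : Fintype.card F = q) (φ : K →+* F) {P r : ℕ} (hK : Fintype.card K = P)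
    (hr : 2 ≤ r) (hP : P ^ r = q) {M : Subgroup (PSL₂ F)} (hM : IsCoatom M) (τ : MulAut (PSL₂ F))
    (hle : M.map τ.toMonoidHom ≤ rat φ) :
    P * (P ^ 2 - 1) ≤ Nat.gcd 2 (P - 1) * Nat.card M ∧ Nat.card M ≤ P * (P ^ 2 - 1) ∧
      (2 ∣ r → Odd P → Nat.card M = P * (P ^ 2 - 1)) := by
  haveI : Finite (PSL₂ F) := Finite.of_surjective _ (QuotientGroup.mk'_surjective (Subgroup.center SL(2, F)))
  obtain ⟨h1, h2, h3⟩ := card_rat φ hK
  have hP2 : 2 ≤ P := hK ▸ Fintype.one_lt_card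
  have hne : rat φ ≠ ⊤ := by
    intro e
    rw [e, Subgroup.card_top] at h1
    have hG := SmallPSL.card_psl hF
    have hsq : P ^ 2 ≤ q := hP ▸ Nat.pow_le_pow_right (by omega) hr
    have hq2 : q ≤ q ^ 2 := Nat.le_self_pow two_ne_zero q
    have h4 : P * (P ^ 2 - 1) * 2 < q * (q ^ 2 - 1) := by
      have h5 : 2 * P ≤ q := le_trans (by rw [pow_two]; exact Nat.mul_le_mul_right _ hP2) hsq
      have h6 : P ^ 2 - 1 < q ^ 2 - 1 := by
        have : P ^ 2 < q ^ 2 := Nat.pow_lt_pow_left (by omega) two_ne_zero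
        have : 1 ≤ P ^ 2 := Nat.one_le_pow _ _ (by omega)
        omega
      calc P * (P ^ 2 - 1) * 2 = 2 * P * (P ^ 2 - 1) := by ring
        _ ≤ q * (P ^ 2 - 1) := Nat.mul_le_mul_right _ h5
        _ < q * (q ^ 2 - 1) := Nat.mul_lt_mul_of_pos_left h6 (by omega)
    rcases PSLFull.gcd_cases (q := q) with e | e <;> rw [e] at hG <;> omega
  have heq := coatom_eq (map_coatom τ hM) hle hne
  have hc : Nat.card (rat φ) = Nat.card M := by rw [← heq, Subgroup.card_map_of_injective τ.injective]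
  rw [hc] at h1 h2 h3
  refine ⟨h2, h1, fun h2r hodd => h3 fun y => ?_⟩
  obtain ⟨s, rfl⟩ := h2r
  by_cases hy : y = 0
  · exact ⟨0, by simp [hy]⟩
  have hq_odd : Odd q := hP ▸ hodd.pow
  have hchar : ringChar F ≠ 2 := fun e => by
    have := FiniteField.even_card_of_char_two e
    rw [hF] at this
    exact (Nat.not_even_iff_odd.mpr hq_odd) (Nat.even_iff.mpr this)
  obtain ⟨r, hr'⟩ := (FiniteField.isSquare_iff hchar ((map_ne_zero φ).mpr hy)).mpr (show φ y ^ (Fintype.card F / 2) = 1 by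
    rw [hF]
    have hd : P - 1 ∣ q / 2 := by
      have h5 : P ^ 2 - 1 ∣ q - 1 := by rw [← hP, pow_mul]; simpa only [one_pow] using Nat.sub_dvd_pow_sub_pow (P ^ 2) 1 s
      have h6 : (P - 1) * 2 ∣ P ^ 2 - 1 := by
        rw [show P ^ 2 - 1 = (P + 1) * (P - 1) by
          have := Nat.sq_sub_sq P 1
          rwa [one_pow] at this, mul_comm (P + 1)]
        exact Nat.mul_dvd_mul_left _ (by obtain ⟨t, ht⟩ := hodd; omega)
      obtain ⟨t, ht⟩ := h6.trans h5
      exact ⟨t, by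
        rw [mul_assoc, mul_left_comm] at ht
        obtain ⟨z, hz⟩ := hq_odd
        omega⟩
    obtain ⟨t, ht⟩ := hd
    rw [ht, pow_mul, ← map_pow, ← hK, FiniteField.pow_card_sub_one_eq_one y hy, map_one, one_pow])
  exact ⟨r, hr'.symm⟩

end Cfsg.Lib.Classical.PSLMaxField
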