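import Mathlib
import Cfsg.Agent.Classical.Misc.PSLMaxField
import Cfsg.Agent.Classical.Misc.Icosian
import Cfsg.Agent.Classical.Misc.PSLSolvableSubgroups

/-! The maximal subgroups of `PSL₂(q)` of tetrahedral, octahedral, icosahedral and subfield type. -/

set_option autoImplicit false
set_option linter.unusedSimpArgs false
set_option linter.unusedSectionVars false
set_option linter.style.haveILetI false
set_option linter.flexible false
set_option maxRecDepth 20000

namespace Cfsg.Lib.Classical.PSLMaxExceptional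

open Matrix
open scoped MatrixGroups
open Cfsg.Lib.Classical.PSLFour Cfsg.Lib.Classical.PSLRat Cfsg.Lib.Classical.PSLFrame
open Cfsg.Lib.Classical.PSLMaxField Cfsg.Lib.Classical.PSLSmallMax
open Cfsg.Lib.Classical.PSLMaxPoints (coatom_eq map_coatom)
open Cfsg.Lib.Classical.PSLDickson (RatSub)

universe u

local notation "PSL₂" k => Matrix.ProjectiveSpecialLinearGroup (Fin 2) k

/-- The elements permuting a triple. -/
def perm3 {G : Type*} [Group G] [Finite G] (a b : G) : Subgroup G where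
  carrier := {x | ∀ v, (v = a ∨ v = b ∨ v = a * b) → (x * v * x⁻¹ = a ∨ x * v * x⁻¹ = b ∨ x * v * x⁻¹ = a * b)}
  one_mem' v hv := by simpa using hv
  mul_mem' {x y} hx hy v hv := by
    rw [show x * y * v * (x * y)⁻¹ = x * (y * v * y⁻¹) * x⁻¹ by group]
    exact hx _ (hy v hv)
  inv_mem' {x} hx := by
    have hpow : ∀ j : ℕ, ∀ v, (v = a ∨ v = b ∨ v = a * b) →
        (x ^ j * v * (x ^ j)⁻¹ = a ∨ x ^ j * v * (x ^ j)⁻¹ = b ∨ x ^ j * v * (x ^ j)⁻¹ = a * b) := by
      intro j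
      induction j with
      | zero => intro v hv; simpa using hv
      | succ j ih =>
        intro v hv
        rw [show x ^ (j + 1) * v * (x ^ (j + 1))⁻¹ = x ^ j * (x * v * x⁻¹) * (x ^ j)⁻¹ by rw [pow_succ]; group]
        exact ih _ (hx v hv)
    have e : x⁻¹ = x ^ (orderOf x - 1) := by
      refine inv_eq_of_mul_eq_one_right ?_
      rw [← pow_succ', Nat.sub_add_cancel (orderOf_pos x), pow_orderOf_eq_one]
    show ∀ v, _
    rw [e]
    exact hpow _

/-- An image of a group permuting its triple. -/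
theorem image_perm3 {A G : Type*} [Group A] [Group G] [Finite G] (f : A →* G) (a b : A) (σ : A)
    (h : ∀ v, (v = a ∨ v = b ∨ v = a * b) → (σ * v * σ⁻¹ = a ∨ σ * v * σ⁻¹ = b ∨ σ * v * σ⁻¹ = a * b)) :
    f σ ∈ perm3 (f a) (f b) := by
  intro v hv
  obtain ⟨v', hv', rfl⟩ : ∃ v', (v' = a ∨ v' = b ∨ v' = a * b) ∧ f v' = v := by
    rcases hv with rfl | rfl | rfl
    · exact ⟨a, Or.inl rfl, rfl⟩
    · exact ⟨b, Or.inr (Or.inl rfl), rfl⟩
    · exact ⟨a * b, Or.inr (Or.inr rfl), map_mul f a b⟩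
  rw [← map_inv, ← map_mul, ← map_mul, ← map_mul f a b]
  exact (h v' hv').imp (congrArg f) (Or.imp (congrArg f) (congrArg f))

theorem odd_card {F : Type u} [Field F] [Fintype F] (p : ℕ) [Fact p.Prime] [CharP F p] (hp : p ≠ 2) :
    Odd (Fintype.card F) ∧ (2 : F) ≠ 0 := by
  obtain ⟨n, -, hn⟩ := FiniteField.card F p
  have hodd : Odd (Fintype.card F) := hn ▸ ((Fact.out : p.Prime).odd_of_ne_two hp).pow
  exact ⟨hodd, two_ne hodd⟩

variable {F : Type u} [Field F] [Fintype F] {q : ℕ}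

/-- An embedded group with a four-group has a frame. -/
theorem exists_framed (p : ℕ) [Fact p.Prime] [CharP F p] (hp : p ≠ 2) {A : Type*} [Group A] (f : A →* (PSL₂ F))
    (hf : Function.Injective f) (a b : A) (ha : a * a = 1) (hb : b * b = 1) (hab : a * b = b * a) (ha1 : a ≠ 1)
    (hb1 : b ≠ 1) (hne : a ≠ b) (x y : F) (hxy : x ^ 2 + y ^ 2 = -1) :
    ∃ (g h : SL(2, F)) (C : SL(2, F) →* SL(2, F)) (τ : MulAut (PSL₂ F)), IsPair g h ∧ π g = f a ∧ π h = f b ∧
      (∀ s, τ (π s) = π (C s)) ∧ (∀ s, (C s).1.trace = s.1.trace) ∧ (C g).1 = JM ∧ (C h).1 = BM x y := by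
  obtain ⟨hodd, h2⟩ := odd_card (F := F) p hp
  obtain ⟨g, h, hg, hh, hpair⟩ := lift_pair hodd (a := f a) (b := f b) (by rw [← map_mul, ha, map_one])
    (by rw [← map_mul, hb, map_one]) (by rw [← map_mul, ← map_mul, hab])
    (fun e => ha1 (hf (e.trans (map_one f).symm))) (fun e => hb1 (hf (e.trans (map_one f).symm)))
    (fun e => hne (hf e))
  obtain ⟨C, τ, h1, h2', h3, h4⟩ := frame_aut g h hpair h2 hxy
  exact ⟨g, h, C, τ, hpair, hg, hh, h1, h2', h3, h4⟩

/-- The first involution. -/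
def pa : alternatingGroup (Fin 4) :=
  ⟨Equiv.swap 0 1 * Equiv.swap 2 3, Equiv.Perm.mem_alternatingGroup.mpr (by decide +kernel)⟩

/-- The second involution. -/
def pb : alternatingGroup (Fin 4) :=
  ⟨Equiv.swap 0 2 * Equiv.swap 1 3, Equiv.Perm.mem_alternatingGroup.mpr (by decide +kernel)⟩

/-- The first involution among five letters. -/
def fa : alternatingGroup (Fin 5) :=
  ⟨Equiv.swap 0 1 * Equiv.swap 2 3, Equiv.Perm.mem_alternatingGroup.mpr (by decide +kernel)⟩

/-- The second involution among five letters. -/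
def fb : alternatingGroup (Fin 5) :=
  ⟨Equiv.swap 0 2 * Equiv.swap 1 3, Equiv.Perm.mem_alternatingGroup.mpr (by decide +kernel)⟩

theorem pa_facts : pa * pa = 1 ∧ pb * pb = 1 ∧ pa * pb = pb * pa ∧ pa ≠ 1 ∧ pb ≠ 1 ∧ pa ≠ pb := by decide +kernel

theorem sa_facts : (pa : Equiv.Perm (Fin 4)) * pa = 1 ∧ (pb : Equiv.Perm (Fin 4)) * pb = 1 ∧
    (pa : Equiv.Perm (Fin 4)) * pb = pb * pa ∧ (pa : Equiv.Perm (Fin 4)) ≠ 1 ∧ (pb : Equiv.Perm (Fin 4)) ≠ 1 ∧
    (pa : Equiv.Perm (Fin 4)) ≠ pb := by decide +kernel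

theorem fa_facts : fa * fa = 1 ∧ fb * fb = 1 ∧ fa * fb = fb * fa ∧ fa ≠ 1 ∧ fb ≠ 1 ∧ fa ≠ fb := by decide +kernel

theorem sym_perm3 : ∀ σ v : Equiv.Perm (Fin 4), (v = pa ∨ v = pb ∨ v = (pa : Equiv.Perm (Fin 4)) * pb) →
    (σ * v * σ⁻¹ = pa ∨ σ * v * σ⁻¹ = pb ∨ σ * v * σ⁻¹ = (pa : Equiv.Perm (Fin 4)) * pb) := by decide +kernel

theorem alt_perm3 : ∀ σ v : alternatingGroup (Fin 4), (v = pa ∨ v = pb ∨ v = pa * pb) →
    (σ * v * σ⁻¹ = pa ∨ σ * v * σ⁻¹ = pb ∨ σ * v * σ⁻¹ = pa * pb) := by decide +kernel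

theorem five_perm3 : ∀ σ : alternatingGroup (Fin 5), (σ : Equiv.Perm (Fin 5)) 4 = 4 →
    ∀ v : alternatingGroup (Fin 5), v ∈ ({fa, fb, fa * fb} : Finset _) →
    σ * v * σ⁻¹ ∈ ({fa, fb, fa * fb} : Finset _) := by decide +kernel

/-- The point stabiliser among five letters. -/
def fix4 : Subgroup (alternatingGroup (Fin 5)) where
  carrier := {σ | (σ : Equiv.Perm (Fin 5)) 4 = 4}
  one_mem' := rfl
  mul_mem' {x y} hx hy := by
    show ((x : Equiv.Perm (Fin 5)) * (y : Equiv.Perm (Fin 5))) 4 = 4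
    rw [Equiv.Perm.mul_apply, hy, hx]
  inv_mem' {x} hx := by
    show ((x : Equiv.Perm (Fin 5))⁻¹) 4 = 4
    rw [Equiv.Perm.inv_eq_iff_eq]
    exact hx.symm

theorem card_fix4 : Nat.card fix4 = 12 := by
  classical
  rw [show Nat.card fix4 = Nat.card {σ : alternatingGroup (Fin 5) // (σ : Equiv.Perm (Fin 5)) 4 = 4} from
    Nat.card_congr (Equiv.refl _), Nat.card_eq_fintype_card, Fintype.card_subtype]
  decide +kernel

theorem mod_five {p : ℕ} [Fact p.Prime] (hp5 : p ≠ 5) : p % 5 = 1 ∨ p % 5 = 2 ∨ p % 5 = 3 ∨ p % 5 = 4 := by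
  have : p % 5 ≠ 0 := fun e => hp5 ((Nat.prime_dvd_prime_iff_eq Nat.prime_five Fact.out).mp (Nat.dvd_of_mod_eq_zero e)).symm
  omega

theorem small_P {P B : ℕ} (h : P * (P ^ 2 - 1) ≤ B) (hB : B < 504) : P ≤ 7 := by
  by_contra hne
  have h8 : 8 ^ 2 ≤ P ^ 2 := Nat.pow_le_pow_left (by omega) 2
  have := Nat.mul_le_mul (show 8 ≤ P by omega) (show 63 ≤ P ^ 2 - 1 by omega)
  omega

/-- Tetrahedral. -/
theorem four_case (p : ℕ) [Fact p.Prime] [CharP F p] (hp : p ≠ 2) (hF : Fintype.card F = q) (h5 : 5 ≤ q)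
    {M : Subgroup (PSL₂ F)} (hM : IsCoatom M) (ψ : M ≃* alternatingGroup (Fin 4)) :
    (∃ (F₀ : Type) (_ : Field F₀) (_ : Fintype F₀) (r : ℕ), r.Prime ∧ Odd r ∧ q = Fintype.card F₀ ^ r ∧
        Nonempty (M ≃* PSL₂ F₀)) ∨
      (q = p ∧ (p % 8 = 3 ∨ p % 8 = 5) ∧ ¬ (p % 10 = 1 ∨ p % 10 = 9)) := by
  haveI : Finite (PSL₂ F) := Finite.of_surjective _ (QuotientGroup.mk'_surjective (Subgroup.center SL(2, F)))
  obtain ⟨⟨n, hn0⟩, hpp, hn⟩ := FiniteField.card F p
  simp only [PNat.mk_coe, hF] at hn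
  obtain ⟨hodd, h2⟩ := odd_card (F := F) p hp
  obtain ⟨φ₀, x, y, hxy⟩ := prime_squares (F := F) p
  let f : alternatingGroup (Fin 4) →* (PSL₂ F) := M.subtype.comp ψ.symm.toMonoidHom
  have hf : Function.Injective f := Subtype.val_injective.comp ψ.symm.injective
  obtain ⟨a1, a2, a3, a4, a5, a6⟩ := pa_facts
  obtain ⟨g, h, C, τ, hpair, hg, hh, hτ, htr, hCg, hCh⟩ := exists_framed p hp f hf pa pb a1 a2 a3 a4 a5 a6 _ _ hxy
  have hMrange : ∀ z ∈ M, ∃ σ, f σ = z := fun z hz => ⟨ψ ⟨z, hz⟩, by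
    show ((ψ.symm (ψ ⟨z, hz⟩) : M) : PSL₂ F) = z
    rw [MulEquiv.symm_apply_apply]⟩
  have hM3 : M ≤ perm3 (π g) (π h) := fun z hz => by
    obtain ⟨σ, rfl⟩ := hMrange z hz
    rw [hg, hh]
    exact image_perm3 f pa pb σ (alt_perm3 σ)
  have hcM := card_A4 ψ
  by_cases hn1 : n = 1
  · subst hn1
    rw [pow_one] at hn
    subst hn
    right
    -- the normaliser of the standard four-group
    have himg : ∀ z, z ∈ perm3 (π g) (π h) → τ z ∈ perm3 (π (C g)) (π (C h)) := fun z hz => by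
      rw [← hτ, ← hτ]
      exact image_perm3 τ.toMonoidHom (π g) (π h) z hz
    have hN0 : perm3 (π (C g)) (π (C h)) ≠ ⊤ := by
      intro e
      set S : Set (PSL₂ F) := {π (C g), π (C h)} with hS
      have hcl : ∀ v, (v = π (C g) ∨ v = π (C h) ∨ v = π (C g) * π (C h)) → v ∈ Subgroup.closure S := by
        rintro v (rfl | rfl | rfl)
        · exact Subgroup.subset_closure (Or.inl rfl)
        · exact Subgroup.subset_closure (Or.inr rfl)
        · exact mul_mem (Subgroup.subset_closure (Or.inl rfl)) (Subgroup.subset_closure (Or.inr rfl))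
      have hn : (Subgroup.closure S).Normal := ⟨fun v hv z => by
        have hmap : (Subgroup.closure S).map (MulAut.conj z).toMonoidHom ≤ Subgroup.closure S := by
          rw [MonoidHom.map_closure, Subgroup.closure_le]
          rintro _ ⟨v, hv, rfl⟩
          exact hcl _ ((show z ∈ perm3 (π (C g)) (π (C h)) from e ▸ Subgroup.mem_top z) v (by
            rcases hv with rfl | rfl
            · exact Or.inl rfl
            · exact Or.inr (Or.inl rfl)))
        exact hmap ⟨v, hv, rfl⟩⟩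
      haveI := Cfsg.Lib.Classical.isSimpleGroup_PSL_fin (F := F) (n := 2) le_rfl (fun _ => by
        rw [Nat.card_eq_fintype_card]; omega)
      rcases hn.eq_bot_or_eq_top with e' | e'
      · have h1 : π (C g) = 1 := (Subgroup.mem_bot).mp (e' ▸ hcl _ (Or.inl rfl))
        rw [← hτ, ← map_one τ] at h1
        exact a4 (hf ((hg.symm.trans (τ.injective h1)).trans (map_one f).symm))
      · have hcomm : π (C g) * π (C h) = π (C h) * π (C g) := by
          rw [← hτ, ← hτ, hg, hh, ← map_mul τ, ← map_mul τ, ← map_mul f, ← map_mul f, a3]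
        have hcc : ∀ u ∈ S, ∀ v ∈ S, u * v = v * u := by
          rintro u (rfl | rfl) v (rfl | rfl)
          · rfl
          · exact hcomm
          · exact hcomm.symm
          · rfl
        have hall : ∀ u v : PSL₂ F, u * v = v * u := fun u v => by
          have hu : u ∈ Subgroup.closure S := e' ▸ Subgroup.mem_top u
          have hv : v ∈ Subgroup.closure S := e' ▸ Subgroup.mem_top v
          have h1 : Subgroup.closure S ≤ Subgroup.centralizer S := by
            rw [Subgroup.closure_le]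
            exact fun z hz => Subgroup.mem_centralizer_iff.mpr fun w hw => hcc w hw z hz
          have h2 : Subgroup.closure S ≤ Subgroup.centralizer ({u} : Set (PSL₂ F)) := by
            rw [Subgroup.closure_le]
            intro z hz
            refine Subgroup.mem_centralizer_iff.mpr fun w hw => ?_
            rw [Set.mem_singleton_iff.mp hw]
            exact (Subgroup.mem_centralizer_iff.mp (h1 hu) z hz).symm
          exact Subgroup.mem_centralizer_iff.mp (h2 hv) u rfl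
        exact PSLOver.not_solvable_psl (K := F) (by omega) (Group.isSolvable_of_comm hall)
    have hτM : M.map τ.toMonoidHom = perm3 (π (C g)) (π (C h)) := by
      refine coatom_eq (map_coatom τ hM) ?_ hN0
      rintro _ ⟨z, hz, rfl⟩
      exact himg z (hM3 hz)
    have hcN : Nat.card (perm3 (π (C g)) (π (C h))) = 12 := by
      rw [← hτM, Subgroup.card_map_of_injective τ.injective, hcM]
    refine ⟨rfl, ?_, ?_⟩
    · have hq2 : q % 2 = 1 := by rw [hF] at hodd; exact Nat.odd_iff.mp hodd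
      by_contra h8
      have h16 : q ^ 2 % 16 = 1 := by
        rw [Nat.pow_mod]
        rcases (show q % 16 = 1 ∨ q % 16 = 7 ∨ q % 16 = 9 ∨ q % 16 = 15 by omega) with e | e | e | e <;> rw [e]
      obtain ⟨H, ⟨φ⟩⟩ := (PSLSolvable.iff_S4 hF).mpr h16
      let f' : Equiv.Perm (Fin 4) →* (PSL₂ F) := H.subtype.comp φ.symm.toMonoidHom
      have hf' : Function.Injective f' := Subtype.val_injective.comp φ.symm.injective
      obtain ⟨b1, b2, b3, b4, b5, b6⟩ := sa_facts
      obtain ⟨g', h', C', τ', -, hg', hh', hτ', -, hCg', hCh'⟩ :=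
        exists_framed q hp f' hf' _ _ b1 b2 b3 b4 b5 b6 _ _ hxy
      have e1 : C' g' = C g := Subtype.ext (hCg'.trans hCg.symm)
      have e2 : C' h' = C h := Subtype.ext (hCh'.trans hCh.symm)
      have hle : H.map τ'.toMonoidHom ≤ perm3 (π (C g)) (π (C h)) := by
        rintro _ ⟨z, hz, rfl⟩
        have := image_perm3 (τ'.toMonoidHom.comp f') _ _ (φ ⟨z, hz⟩) (sym_perm3 _)
        change τ' (f' (φ ⟨z, hz⟩)) ∈ perm3 (τ' (f' pa)) (τ' (f' pb)) at this
        rw [← hg', ← hh', hτ', hτ', e1, e2] at this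
        convert this using 2
        show τ' z = τ' ((φ.symm (φ ⟨z, hz⟩) : H) : PSL₂ F)
        rw [MulEquiv.symm_apply_apply]
      have := Subgroup.card_le_of_le hle
      rw [hcN, Subgroup.card_map_of_injective τ'.injective, card_S4 φ] at this
      omega
    · intro h10
      have h25 : q ^ 2 % 5 = 1 := by
        rw [Nat.pow_mod]; rcases (show q % 5 = 1 ∨ q % 5 = 4 by omega) with e | e <;> rw [e]
      obtain ⟨H, ⟨φ⟩⟩ := (Icosian.iff_A5 hF).mpr (dvd_mul_of_dvd_right (by omega) q)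
      let f' : alternatingGroup (Fin 5) →* (PSL₂ F) := H.subtype.comp φ.symm.toMonoidHom
      have hf' : Function.Injective f' := Subtype.val_injective.comp φ.symm.injective
      obtain ⟨b1, b2, b3, b4, b5, b6⟩ := fa_facts
      obtain ⟨g', h', C', τ', -, hg', hh', hτ', -, hCg', hCh'⟩ :=
        exists_framed q hp f' hf' _ _ b1 b2 b3 b4 b5 b6 _ _ hxy
      have e1 : C' g' = C g := Subtype.ext (hCg'.trans hCg.symm)
      have e2 : C' h' = C h := Subtype.ext (hCh'.trans hCh.symm)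
      have hle : fix4.map (τ'.toMonoidHom.comp f') ≤ perm3 (π (C g)) (π (C h)) := by
        rintro _ ⟨σ, hσ, rfl⟩
        have := image_perm3 (τ'.toMonoidHom.comp f') fa fb σ (fun v hv => by
          have := five_perm3 σ hσ v (by simpa using hv)
          simpa using this)
        change τ' (f' σ) ∈ perm3 (τ' (f' fa)) (τ' (f' fb)) at this
        rw [← hg', ← hh', hτ', hτ', e1, e2] at this
        exact this
      have hinj : Function.Injective (τ'.toMonoidHom.comp f') := τ'.injective.comp hf'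
      have heq := Subgroup.eq_of_le_of_card_ge hle (by
        rw [hcN, Subgroup.card_map_of_injective hinj, card_fix4])
      have hMle : M.map τ.toMonoidHom ≤ H.map τ'.toMonoidHom := by
        rw [hτM, ← heq]
        rintro _ ⟨σ, -, rfl⟩
        exact Subgroup.mem_map_of_mem τ'.toMonoidHom (φ.symm σ).2
      have hcH : Nat.card (H.map τ'.toMonoidHom) = 60 := by
        rw [Subgroup.card_map_of_injective τ'.injective, card_A5 φ]
      have hne : H.map τ'.toMonoidHom ≠ ⊤ := by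
        intro e
        rw [e, Subgroup.card_top] at hcH
        have hG := PSLFull.card_mul hF
        rw [hcH] at hG
        have : 10 * 9 * 8 ≤ (q + 1) * q * (q - 1) := Nat.mul_le_mul (Nat.mul_le_mul (by omega) (by omega)) (by omega)
        rcases PSLFull.gcd_cases (q := q) with e' | e' <;> rw [e'] at hG <;> omega
      have := coatom_eq (map_coatom τ hM) hMle hne
      rw [← this, Subgroup.card_map_of_injective τ.injective, hcM] at hcH
      omega
  left
  obtain ⟨r, hr, hrd⟩ := Nat.exists_prime_and_dvd hn1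
  obtain ⟨a, rfl⟩ := hrd
  have ha : a ≠ 0 := fun e => by subst e; simp at hn0
  obtain ⟨K, _, _, χ, hK, hfix⟩ := exists_mid (F := F) p (hF.trans hn) ha (mul_comm a r)
  obtain ⟨x', hx'⟩ := hfix (φ₀ x) (by rw [← map_pow]; simp [ZMod.pow_card_pow])
  obtain ⟨y', hy'⟩ := hfix (φ₀ y) (by rw [← map_pow]; simp [ZMod.pow_card_pow])
  have hle := contain_norm χ h2 g h hpair x' y' (by rw [hx', hy']; exact hxy) C τ hτ hCg (by rw [hx', hy']; exact hCh) M hM3
  obtain ⟨hb1, hb2, hb3⟩ := escape hF χ hK hr.two_le (by rw [← pow_mul, mul_comm, hn]) hM τ hle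
  rw [hcM] at hb1 hb2 hb3
  have hg2 : Nat.gcd 2 (p ^ a - 1) ≤ 2 := Nat.le_of_dvd two_pos (Nat.gcd_dvd_left _ _)
  have h24 : p ^ a * ((p ^ a) ^ 2 - 1) ≤ 24 := hb1.trans (Nat.mul_le_mul_right 12 hg2)
  have hP := small_P h24 (by norm_num)
  have hPodd : Odd (p ^ a) := (hpp.odd_of_ne_two hp).pow
  have hP3 : p ^ a = 3 := by
    have := Nat.one_lt_pow ha hpp.one_lt
    obtain ⟨t, ht⟩ := hPodd
    rcases (show p ^ a = 3 ∨ p ^ a = 5 ∨ p ^ a = 7 by omega) with e | e | e
    · exact e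
    · rw [e] at h24; norm_num at h24
    · rw [e] at h24; norm_num at h24
  refine ⟨K, inferInstance, inferInstance, r, hr, ?_, ?_, ?_⟩
  · rcases hr.eq_two_or_odd' with e | e
    · exfalso
      have := hb3 (e ▸ dvd_rfl) hPodd
      rw [hP3] at this
      norm_num at this
    · exact e
  · rw [hK, ← pow_mul, mul_comm, hn]
  · obtain ⟨χ'⟩ := SmallPSL.psl_three (hK.trans hP3)
    exact ⟨ψ.trans χ'.symm⟩

/-- Octahedral. -/
theorem sym_case (p : ℕ) [Fact p.Prime] [CharP F p] (hp : p ≠ 2) (hF : Fintype.card F = q)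
    {M : Subgroup (PSL₂ F)} (hM : IsCoatom M) (ψ : M ≃* Equiv.Perm (Fin 4)) :
    (∃ (F₀ : Type) (_ : Field F₀) (_ : Fintype F₀), q = Fintype.card F₀ ^ 2 ∧
        Nonempty (M ≃* Matrix.ProjGenLinGroup (Fin 2) F₀)) ∨
      (q = p ∧ (p % 8 = 1 ∨ p % 8 = 7)) := by
  haveI : Finite (PSL₂ F) := Finite.of_surjective _ (QuotientGroup.mk'_surjective (Subgroup.center SL(2, F)))
  obtain ⟨⟨n, hn0⟩, hpp, hn⟩ := FiniteField.card F p
  simp only [PNat.mk_coe, hF] at hn
  have h16 := (PSLSolvable.iff_S4 hF).mp ⟨M, ⟨ψ⟩⟩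
  by_cases hn1 : n = 1
  · subst hn1
    rw [pow_one] at hn
    subst hn
    refine Or.inr ⟨rfl, ?_⟩
    rw [Nat.pow_mod] at h16
    have : q % 16 < 16 := Nat.mod_lt _ (by norm_num)
    by_contra h8
    generalize hm : q % 16 = m at h16 this
    interval_cases m <;> norm_num at h16 <;> omega
  left
  obtain ⟨hodd, h2⟩ := odd_card (F := F) p hp
  obtain ⟨φ₀, x, y, hxy⟩ := prime_squares (F := F) p
  let f : Equiv.Perm (Fin 4) →* (PSL₂ F) := M.subtype.comp ψ.symm.toMonoidHom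
  have hf : Function.Injective f := Subtype.val_injective.comp ψ.symm.injective
  obtain ⟨a1, a2, a3, a4, a5, a6⟩ := sa_facts
  obtain ⟨g, h, C, τ, hpair, hg, hh, hτ, htr, hCg, hCh⟩ := exists_framed p hp f hf _ _ a1 a2 a3 a4 a5 a6 _ _ hxy
  have hM3 : M ≤ perm3 (π g) (π h) := fun z hz => by
    have : f (ψ ⟨z, hz⟩) = z := by
      show ((ψ.symm (ψ ⟨z, hz⟩) : M) : PSL₂ F) = z
      rw [MulEquiv.symm_apply_apply]
    rw [← this, hg, hh]
    exact image_perm3 f _ _ _ (sym_perm3 _)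
  have hcM := card_S4 ψ
  obtain ⟨r, hr, hrd⟩ := Nat.exists_prime_and_dvd hn1
  obtain ⟨a, rfl⟩ := hrd
  have ha : a ≠ 0 := fun e => by subst e; simp at hn0
  obtain ⟨K, _, _, χ, hK, hfix⟩ := exists_mid (F := F) p (hF.trans hn) ha (mul_comm a r)
  obtain ⟨x', hx'⟩ := hfix (φ₀ x) (by rw [← map_pow]; simp [ZMod.pow_card_pow])
  obtain ⟨y', hy'⟩ := hfix (φ₀ y) (by rw [← map_pow]; simp [ZMod.pow_card_pow])
  have hle := contain_norm χ h2 g h hpair x' y' (by rw [hx', hy']; exact hxy) C τ hτ hCg (by rw [hx', hy']; exact hCh) M hM3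
  obtain ⟨hb1, hb2, hb3⟩ := escape hF χ hK hr.two_le (by rw [← pow_mul, mul_comm, hn]) hM τ hle
  rw [hcM] at hb1 hb2 hb3
  have hg2 : Nat.gcd 2 (p ^ a - 1) ≤ 2 := Nat.le_of_dvd two_pos (Nat.gcd_dvd_left _ _)
  have h48 : p ^ a * ((p ^ a) ^ 2 - 1) ≤ 48 := hb1.trans (Nat.mul_le_mul_right 24 hg2)
  have hP := small_P h48 (by norm_num)
  have hPodd : Odd (p ^ a) := (hpp.odd_of_ne_two hp).pow
  have hP3 : p ^ a = 3 := by
    have := Nat.one_lt_pow ha hpp.one_lt
    obtain ⟨t, ht⟩ := hPodd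
    rcases (show p ^ a = 3 ∨ p ^ a = 5 ∨ p ^ a = 7 by omega) with e | e | e
    · exact e
    · rw [e] at h48; norm_num at h48
    · rw [e] at h48; norm_num at h48
  have hq : q = 3 ^ r := by rw [hn, mul_comm, pow_mul, hP3]
  rcases hr.eq_two_or_odd' with rfl | ⟨t, rfl⟩
  · refine ⟨K, inferInstance, inferInstance, by rw [hK, hP3, hq], ?_⟩
    obtain ⟨e⟩ := SmallPSL.perm_iso (n := 4) (SmallPSL.card_line (hK.trans hP3)) _ (SmallPSL.pgl_injective (F := K))
      (by rw [PSLBounds.card_pgl_two, hK, hP3]; rfl)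
    exact ⟨ψ.trans e.symm⟩
  · exfalso
    rw [hq, ← pow_mul, show (2 * t + 1) * 2 = 4 * t + 2 by ring, pow_add, pow_mul, Nat.mul_mod, Nat.pow_mod] at h16
    norm_num at h16

/-- Icosahedral. -/
theorem five_case (p : ℕ) [Fact p.Prime] [CharP F p] (hp : p ≠ 2) (hp5 : p ≠ 5) (hF : Fintype.card F = q)
    {M : Subgroup (PSL₂ F)} (hM : IsCoatom M) (ψ : M ≃* alternatingGroup (Fin 5)) :
    (q % 10 = 1 ∨ q % 10 = 9) ∧ (q = p ∨ (q = p ^ 2 ∧ (p % 10 = 3 ∨ p % 10 = 7))) := by
  haveI : Finite (PSL₂ F) := Finite.of_surjective _ (QuotientGroup.mk'_surjective (Subgroup.center SL(2, F)))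
  obtain ⟨⟨n, hn0⟩, hpp, hn⟩ := FiniteField.card F p
  simp only [PNat.mk_coe, hF] at hn
  obtain ⟨hodd, h2⟩ := odd_card (F := F) p hp
  have h5 := (Icosian.iff_A5 hF).mp ⟨M, ⟨ψ⟩⟩
  have hq10 : q % 10 = 1 ∨ q % 10 = 9 := by
    have hq5 : ¬ 5 ∣ q := fun h => hp5 ((Nat.prime_dvd_prime_iff_eq Nat.prime_five hpp).mp
      (Nat.prime_five.dvd_of_dvd_pow (hn ▸ h))).symm
    have h25 := (Nat.prime_five.dvd_mul.mp h5).resolve_left hq5
    have h2' : q % 2 = 1 := by rw [hF] at hodd; exact Nat.odd_iff.mp hodd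
    have hlt : q % 5 < 5 := Nat.mod_lt _ (by norm_num)
    have hsq : 1 ≤ q ^ 2 := Nat.one_le_pow _ _ (by omega)
    have hmod : q ^ 2 % 5 = 1 := by omega
    rw [Nat.pow_mod] at hmod
    generalize hm : q % 5 = m at hmod hlt
    interval_cases m <;> norm_num at hmod <;> omega
  refine ⟨hq10, ?_⟩
  by_cases hn1 : n = 1
  · left; rw [hn, hn1, pow_one]
  obtain ⟨φ₀, x, y, hxy⟩ := prime_squares (F := F) p
  obtain ⟨ω, hω⟩ := Icosian.exists_phi (F := F) (hF.symm ▸ h5)
  have hωp : ω ^ p = ω ∨ ω ^ p = 1 - ω := by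
    have h : (ω ^ p) * (ω ^ p) = ω ^ p + 1 := by
      rw [← mul_pow, hω, add_pow_char, one_pow]
    have : (ω ^ p - ω) * (ω ^ p - (1 - ω)) = 0 := by linear_combination h - hω
    rcases mul_eq_zero.mp this with e | e
    · exact Or.inl (sub_eq_zero.mp e)
    · exact Or.inr (sub_eq_zero.mp e)
  have hωeven : ∀ s, ω ^ p ^ (2 * s) = ω := by
    have h2s : ω ^ (p ^ 2) = ω := by
      rw [pow_two, pow_mul]
      rcases hωp with e | e
      · rw [e, e]
      · rw [e, sub_pow_char, one_pow, e]; ring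
    intro s
    induction s with
    | zero => simp
    | succ s ih => rw [Nat.mul_succ, pow_add, pow_mul, ih, h2s]
  have hωall : ω ^ p = ω → ∀ s, ω ^ p ^ s = ω := fun e s => by
    induction s with
    | zero => simp
    | succ s ih => rw [pow_succ, pow_mul, ih, e]
  -- choose a subfield containing `ω`
  have hexp : (n = 2 ∧ ω ^ p ≠ ω) ∨ ∃ r a, r.Prime ∧ r * a = n ∧ a ≠ 0 ∧ ω ^ p ^ a = ω ∧ (ω ^ p ≠ ω → 2 ≤ a) := by
    obtain ⟨r, hr, a, hra⟩ := Nat.exists_prime_and_dvd hn1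
    by_cases hωf : ω ^ p = ω
    · exact Or.inr ⟨r, a, hr, hra.symm, fun e => by simp [e] at hra; omega, hωall hωf a, fun h => absurd hωf h⟩
    have hne : Even n := by
      by_contra hodd'
      obtain ⟨s, hs⟩ := Nat.not_even_iff_odd.mp hodd'
      have h1 : ω ^ p ^ n = ω := by rw [← hn, ← hF, FiniteField.pow_card]
      rw [hs, pow_succ, pow_mul, hωeven] at h1
      exact hωf h1
    obtain ⟨s, hs⟩ := hne
    rcases Nat.even_or_odd s with ⟨u, hu⟩ | hsodd
    · exact Or.inr ⟨2, s, Nat.prime_two, by omega, by omega, by rw [hu, ← two_mul]; exact hωeven u, fun _ => by omega⟩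
    · by_cases hs1 : s = 1
      · exact Or.inl ⟨by omega, hωf⟩
      · obtain ⟨r', hr', u, hu⟩ := Nat.exists_prime_and_dvd hs1
        have hu0 : u ≠ 0 := fun e => by simp [e] at hu; omega
        exact Or.inr ⟨r', 2 * u, hr', by rw [mul_left_comm, ← hu]; omega, by omega, hωeven u, fun _ => by omega⟩
  rcases hexp with ⟨rfl, hωf⟩ | ⟨r, a, hr, hra, ha, hωa, ha2⟩
  · refine Or.inr ⟨hn, ?_⟩
    by_contra hp10
    have hp2 : p % 2 = 1 := Nat.odd_iff.mp (hpp.odd_of_ne_two hp)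
    have h5p : 5 ∣ p * (p ^ 2 - 1) := by
      refine dvd_mul_of_dvd_right ?_ _
      have hmod : p ^ 2 % 5 = 1 := by
        rw [Nat.pow_mod]
        have := mod_five (p := p) hp5
        rcases (show p % 5 = 1 ∨ p % 5 = 4 by omega) with e | e <;> rw [e]
      omega
    obtain ⟨w, hw⟩ := Icosian.exists_phi (F := ZMod p) (by rwa [ZMod.card])
    have hwF : φ₀ w * φ₀ w = φ₀ w + 1 := by rw [← map_mul, hw, map_add, map_one]
    have hwp : (φ₀ w) ^ p = φ₀ w := by rw [← map_pow, ZMod.pow_card]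
    have : (ω - φ₀ w) * (ω - (1 - φ₀ w)) = 0 := by linear_combination hω - hwF
    rcases mul_eq_zero.mp this with e | e
    · exact hωf (by rw [sub_eq_zero.mp e, hwp])
    · exact hωf (by rw [sub_eq_zero.mp e, sub_pow_char, one_pow, hwp])
  exfalso
  obtain ⟨K, _, _, χ, hK, hfix⟩ := exists_mid (F := F) p (hF.trans hn) ha (by rw [mul_comm, hra])
  obtain ⟨x', hx'⟩ := hfix (φ₀ x) (by rw [← map_pow]; simp [ZMod.pow_card_pow])
  obtain ⟨y', hy'⟩ := hfix (φ₀ y) (by rw [← map_pow]; simp [ZMod.pow_card_pow])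
  obtain ⟨w', hw'⟩ := hfix ω hωa
  let f : alternatingGroup (Fin 5) →* (PSL₂ F) := M.subtype.comp ψ.symm.toMonoidHom
  have hf : Function.Injective f := Subtype.val_injective.comp ψ.symm.injective
  obtain ⟨a1, a2, a3, a4, a5, a6⟩ := fa_facts
  obtain ⟨g, h, C, τ, hpair, hg, hh, hτ, htr, hCg, hCh⟩ := exists_framed p hp f hf _ _ a1 a2 a3 a4 a5 a6 _ _ hxy
  have htrace : ∀ s : SL(2, F), π s ∈ M → ∃ z, s.1.trace = χ z := by
    intro s hs
    have hord : ∀ σ : alternatingGroup (Fin 5), σ ^ 2 = 1 ∨ σ ^ 3 = 1 ∨ σ ^ 5 = 1 := by decide +kernel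
    have hpw : π s ^ 2 = 1 ∨ π s ^ 3 = 1 ∨ π s ^ 5 = 1 := by
      have key : ∀ j : ℕ, (ψ ⟨π s, hs⟩) ^ j = 1 → π s ^ j = 1 := fun j hj => by
        rw [← map_pow, ψ.map_eq_one_iff] at hj
        simpa using congrArg Subtype.val hj
      exact (hord _).imp (key 2) (Or.imp (key 3) (key 5))
    generalize ht : s.1.trace = t
    rcases trace_cases s hpw with e | e | e | e <;> rw [ht] at e
    · exact ⟨0, by rw [e, map_zero]⟩
    · have : (t - 2) * (t + 2) = 0 := by linear_combination e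
      rcases mul_eq_zero.mp this with e | e
      · exact ⟨2, by rw [map_ofNat]; linear_combination e⟩
      · exact ⟨-2, by rw [map_neg, map_ofNat]; linear_combination e⟩
    · have : (t - 1) * (t + 1) = 0 := by linear_combination e
      rcases mul_eq_zero.mp this with e | e
      · exact ⟨1, by rw [map_one]; linear_combination e⟩
      · exact ⟨-1, by rw [map_neg, map_one]; linear_combination e⟩
    · rcases mul_eq_zero.mp e with e | e
      · have : (t - ω) * (t - (1 - ω)) = 0 := by linear_combination e - hω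
        rcases mul_eq_zero.mp this with e | e
        · exact ⟨w', by rw [hw']; linear_combination e⟩
        · exact ⟨1 - w', by rw [map_sub, map_one, hw']; linear_combination e⟩
      · have : (t + ω) * (t + (1 - ω)) = 0 := by linear_combination e - hω
        rcases mul_eq_zero.mp this with e | e
        · exact ⟨-w', by rw [map_neg, hw']; linear_combination e⟩
        · exact ⟨w' - 1, by rw [map_sub, map_one, hw']; linear_combination e⟩
  have hle := contain_trace χ h2 g h x' y' (by rw [hx', hy']; exact hxy) C τ hτ htr hCg (by rw [hx', hy']; exact hCh) M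
    (hg ▸ (ψ.symm _).2) (hh ▸ (ψ.symm _).2) htrace
  obtain ⟨hb1, -, -⟩ := escape hF χ hK hr.two_le (by rw [← pow_mul, mul_comm, hra, hn]) hM τ hle
  rw [card_A5 ψ] at hb1
  have hg2 : Nat.gcd 2 (p ^ a - 1) ≤ 2 := Nat.le_of_dvd two_pos (Nat.gcd_dvd_left _ _)
  have h120 : p ^ a * ((p ^ a) ^ 2 - 1) ≤ 120 := hb1.trans (Nat.mul_le_mul_right 60 hg2)
  have hP := small_P h120 (by norm_num)
  have hPodd : Odd (p ^ a) := (hpp.odd_of_ne_two hp).pow
  have h1P := Nat.one_lt_pow ha hpp.one_lt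
  have hp3 : 3 ≤ p := by have := hpp.two_le; omega
  have hP3 : p ^ a = 3 := by
    obtain ⟨t, ht⟩ := hPodd
    rcases (show p ^ a = 3 ∨ p ^ a = 5 ∨ p ^ a = 7 by omega) with e | e | e
    · exact e
    · exfalso
      exact hp5 ((Nat.prime_dvd_prime_iff_eq hpp Nat.prime_five).mp (e ▸ dvd_pow_self p ha))
    · rw [e] at h120; norm_num at h120
  have ha1 : a = 1 ∧ p = 3 := by
    have h3 : p = 3 := (Nat.prime_dvd_prime_iff_eq hpp Nat.prime_three).mp (hP3 ▸ dvd_pow_self p ha)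
    subst h3
    exact ⟨Nat.pow_right_injective (le_refl 2 |>.trans (by norm_num : 2 ≤ 3)) (hP3.trans (pow_one 3).symm), rfl⟩
  obtain ⟨rfl, rfl⟩ := ha1
  have hωf : ω ^ 3 = ω := by
    by_contra hne
    exact absurd (ha2 hne) (by norm_num)
  -- no golden ratio modulo three
  have hw : ω = -1 := by
    have e : ω + 1 = 0 := by linear_combination hωf - (ω + 1) * hω
    linear_combination e
  rw [hw] at hω
  exact one_ne_zero (show (1 : F) = 0 by linear_combination hω)

theorem rat_le {K L : Type} [Field K] [Field L] (φ : K →+* F) (ψ : L →+* F) (h : ∀ y, ∃ z, ψ z = φ y) :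
    rat φ ≤ rat ψ := by
  rintro g ⟨s, ρ, hρ, hs, hse⟩
  refine ⟨s, ρ, hρ, hs, fun r c => ?_⟩
  obtain ⟨y, hy⟩ := hse r c
  obtain ⟨z, hz⟩ := h y
  exact ⟨z, hy.trans hz.symm⟩

theorem mono_P {A B : ℕ} (hB : 1 ≤ B) (h : A * (A ^ 2 - 1) ≤ B * (B ^ 2 - 1)) : A ≤ B := by
  by_contra hne
  have h1 : B ^ 2 < A ^ 2 := Nat.pow_lt_pow_left (by omega) two_ne_zero
  have h2 : 1 ≤ B ^ 2 := Nat.one_le_pow _ _ hB
  have := Nat.mul_lt_mul_of_lt_of_le (show B < A by omega) (show B ^ 2 - 1 ≤ A ^ 2 - 1 by omega) (by omega)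
  omega

/-- The data of a maximal subfield group. -/
theorem sub_case (p : ℕ) [Fact p.Prime] [CharP F p] (hF : Fintype.card F = q) {M : Subgroup (PSL₂ F)}
    (hM : IsCoatom M) (h : RatSub q M) :
    ∃ (K : Type) (_ : Field K) (_ : Fintype K) (r : ℕ), r.Prime ∧ 3 ≤ Fintype.card K ∧ q = Fintype.card K ^ r ∧
      ((Odd (Fintype.card K) ∧ r ≠ 2 ∧ Nonempty (M ≃* PSL₂ K)) ∨
        ((Odd (Fintype.card K) → r = 2) ∧ Nonempty (M ≃* Matrix.ProjGenLinGroup (Fin 2) K))) := by
  haveI : Finite (PSL₂ F) := Finite.of_surjective _ (QuotientGroup.mk'_surjective (Subgroup.center SL(2, F)))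
  obtain ⟨⟨n, hn0⟩, hpp, hn⟩ := FiniteField.card F p
  simp only [PNat.mk_coe, hF] at hn
  obtain ⟨K, _, _, φ, m, h3, hm, ⟨τ, hτ, -⟩, hiso⟩ := h
  set P := Fintype.card K with hP
  have hcard : (Odd P ∧ Nat.card M * 2 = P * (P ^ 2 - 1)) ∨ Nat.card M = P * (P ^ 2 - 1) := by
    rcases hiso with ⟨hodd, ⟨ψ⟩⟩ | ⟨⟨ψ⟩⟩
    · refine Or.inl ⟨hodd, ?_⟩
      rw [Nat.card_congr ψ.toEquiv, mul_comm, ← SmallPSL.card_psl (F := K) rfl]
      congr 1
      exact (Nat.gcd_eq_left (by obtain ⟨s, hs⟩ := hodd; omega)).symm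
    · exact Or.inr (by rw [Nat.card_congr ψ.toEquiv, PSLBounds.card_pgl_two])
  have hm1 : m ≠ 1 := by
    intro e
    rw [e, pow_one] at hm
    have hG := SmallPSL.card_psl hF
    have hlt : Nat.card M < Nat.card (PSL₂ F) :=
      lt_of_le_of_ne (Nat.le_of_dvd Nat.card_pos M.card_subgroup_dvd_card) fun e => hM.1 (Subgroup.eq_top_of_card_eq M e)
    rw [hm] at hcard
    rcases hcard with ⟨hodd, hc⟩ | hc
    · rw [Nat.gcd_eq_left (by obtain ⟨t, ht⟩ := hodd; omega), ← hc] at hG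
      omega
    · rw [← hc] at hG
      rcases PSLFull.gcd_cases (q := q) with e | e <;> rw [e] at hG <;> omega
  have hm0 : m ≠ 0 := fun e => by rw [e, pow_zero] at hm; have := Nat.one_lt_pow hn0.ne' hpp.one_lt; omega
  obtain ⟨b, hb, hPb⟩ := (Nat.dvd_prime_pow hpp).mp (show P ∣ p ^ n by rw [← hn, ← hm]; exact dvd_pow_self _ hm0)
  have hbm : b * m = n := Nat.pow_right_injective hpp.two_le (by
    show p ^ (b * m) = p ^ n
    rw [pow_mul, ← hPb, hm, hn])
  have hr := Nat.minFac_prime hm1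
  obtain ⟨t, ht⟩ := Nat.minFac_dvd m
  generalize m.minFac = r at hr ht
  have hb0 : b ≠ 0 := fun e => by rw [e, pow_zero] at hPb; omega
  have ht0 : t ≠ 0 := fun e => hm0 (by rw [ht, e, mul_zero])
  obtain ⟨K₁, _, _, χ, hK₁, hfix⟩ := exists_mid (F := F) p (hF.trans hn) (a := b * t) (r := r)
    (Nat.mul_ne_zero hb0 ht0) (by rw [← hbm, ht]; ring)
  have hle : M.map τ.toMonoidHom ≤ rat χ := by
    refine le_trans ?_ (rat_le φ χ fun y => hfix _ ?_)
    · rintro _ ⟨g, hg, rfl⟩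
      exact hτ g hg
    · rw [← map_pow, pow_mul p b t, ← hPb, hP, FiniteField.pow_card_pow]
  obtain ⟨hb1, hb2, hb3⟩ := escape hF χ hK₁ hr.two_le (by rw [← pow_mul, hn, ← hbm, ht]; congr 1; ring) hM τ hle
  have hP1 : p ^ (b * t) = P ^ t := by rw [hPb, pow_mul]
  rw [hP1] at hb1 hb2 hb3
  have hg2 : Nat.gcd 2 (P ^ t - 1) ≤ 2 := Nat.le_of_dvd two_pos (Nat.gcd_dvd_left _ _)
  have hodd_cases : Odd P → Nat.gcd 2 (P ^ t - 1) = 2 := fun ho => by
    obtain ⟨s, hs⟩ : Odd (P ^ t) := ho.pow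
    exact Nat.gcd_eq_left (by omega)
  have heven_cases : ¬ Odd P → Nat.gcd 2 (P ^ t - 1) = 1 := fun ho => by
    rcases PSLFull.gcd_cases (q := P ^ t) with e | e
    · exact e
    · exfalso
      have h2 : 2 ∣ P ^ t - 1 := e ▸ Nat.gcd_dvd_right 2 (P ^ t - 1)
      have h2' : 2 ∣ P ^ t := dvd_trans (even_iff_two_dvd.mp (Nat.not_odd_iff_even.mp ho)) (dvd_pow_self P ht0)
      have : 0 < P ^ t := Nat.pow_pos (by omega)
      omega
  have ht1 : P ^ t ≤ P → r = m := fun h => by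
    have : t = 1 := by
      have h' : P ^ t ≤ P ^ 1 := by rwa [pow_one]
      have := (Nat.pow_le_pow_iff_right (by omega : 1 < P)).mp h'
      omega
    rw [ht, this, mul_one]
  rcases hiso with ⟨hodd, hψ⟩ | ⟨⟨ψ⟩⟩
  · have hc : Nat.card M * 2 = P * (P ^ 2 - 1) := by
      obtain ⟨ψ⟩ := hψ
      rw [Nat.card_congr ψ.toEquiv, mul_comm, ← SmallPSL.card_psl (F := K) rfl]
      congr 1
      exact (Nat.gcd_eq_left (by obtain ⟨s, hs⟩ := hodd; omega)).symm
    rw [hodd_cases hodd] at hb1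
    have hrm := ht1 (mono_P (by omega) (by omega))
    refine ⟨K, inferInstance, inferInstance, r, hr, h3, by rw [← hm, hrm], Or.inl ⟨hodd, fun e => ?_, hψ⟩⟩
    have h1 := hb3 (e ▸ dvd_rfl) hodd.pow
    have : t = 1 := Nat.eq_of_mul_eq_mul_left hr.pos (by rw [mul_one, ← ht, hrm])
    rw [this, pow_one] at h1
    have : 0 < Nat.card M := Nat.card_pos
    omega
  · have hc : Nat.card M = P * (P ^ 2 - 1) := by rw [Nat.card_congr ψ.toEquiv, PSLBounds.card_pgl_two]
    by_cases hodd : Odd P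
    · have hme : Even m :=
        ((PSLSubfield.main (F := F) (K := K) hF (hm ▸ hodd.pow) m (Nat.one_le_iff_ne_zero.mpr hm0) hm).2).mp ⟨M, ⟨ψ⟩⟩
      have hr2 : r = 2 := by
        by_contra hne
        have hrm : m.minFac = 2 := Nat.minFac_eq_two_iff m |>.mpr (even_iff_two_dvd.mp hme)
        have : r ∣ m := ⟨t, ht⟩
        exact absurd rfl (fun e : r = r => by
          have h1 := hb1
          rw [hodd_cases hodd, hc] at h1
          -- a proper divisor `t` would give too large a subgroup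
          have h2t : 2 ≤ t := by
            by_contra hlt
            have : t = 1 := by omega
            rw [this, mul_one] at ht
            rcases hr.eq_two_or_odd' with h | h
            · exact hne h
            · exact (Nat.not_even_iff_odd.mpr (ht ▸ h)) hme
          have hsq : P ^ 2 ≤ P ^ t := Nat.pow_le_pow_right (by omega) h2t
          have h9 : 9 ≤ P ^ 2 := le_trans (by norm_num) (Nat.pow_le_pow_left h3 2)
          have h5 : 3 * P ≤ P ^ t := le_trans (by rw [pow_two]; exact Nat.mul_le_mul_right _ h3) hsq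
          have h6 : P ^ 2 - 1 ≤ (P ^ t) ^ 2 - 1 :=
            Nat.sub_le_sub_right (Nat.pow_le_pow_left (by omega) 2) 1
          have h7 : 3 * P * (P ^ 2 - 1) ≤ P ^ t * ((P ^ t) ^ 2 - 1) := Nat.mul_le_mul h5 h6
          have h8 : 0 < P * (P ^ 2 - 1) := Nat.mul_pos (by omega) (by omega)
          rw [mul_assoc] at h7
          omega)
      subst hr2
      have h1 := hb3 dvd_rfl hodd.pow
      rw [hc] at h1
      exact ⟨K, inferInstance, inferInstance, 2, hr, h3, by rw [← hm, ht1 (mono_P (by omega) (le_of_eq h1.symm))],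
        Or.inr ⟨fun _ => rfl, ⟨ψ⟩⟩⟩
    · rw [heven_cases hodd, one_mul, hc] at hb1
      exact ⟨K, inferInstance, inferInstance, r, hr, h3, by rw [← hm, ht1 (mono_P (by omega) hb1)],
        Or.inr ⟨fun h => absurd h hodd, ⟨ψ⟩⟩⟩

end Cfsg.Lib.Classical.PSLMaxExceptional
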