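import Mathlib
import Cfsg.Agent.Classical.Misc.PSLMaxExceptional

/-! The maximal subgroups of `PSL₂(q)`. -/

set_option autoImplicit false
set_option linter.unusedSimpArgs false
set_option linter.unusedSectionVars false
set_option linter.style.haveILetI false
set_option linter.flexible false
set_option maxRecDepth 20000

namespace Cfsg.Lib.Classical.PSLMaxClass

open Matrix MulAction
open scoped MatrixGroups LinearAlgebra.Projectivization
open Cfsg.Lib.Classical.PSLDickson Cfsg.Lib.Classical.PSLFull Cfsg.Lib.Classical.PSLMaxPoints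
open Cfsg.Lib.Classical.PSLEmbed (pslMap)

universe u v

local notation "PSL₂" k => Matrix.ProjectiveSpecialLinearGroup (Fin 2) k

/-- The dihedral subgroup generated by a rotation and a reflection. -/
def dih {G : Type*} [Group G] (n : ℕ) (c s : G) : DihedralGroup n → G
  | DihedralGroup.r j => c ^ j.val
  | DihedralGroup.sr j => s * c ^ j.val

theorem dih_two : ∃ f : DihedralGroup 2 →* alternatingGroup (Fin 4), Function.Injective f :=
  ⟨MonoidHom.mk' (dih 2 PSLMaxExceptional.pa PSLMaxExceptional.pb) (by decide +kernel), by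
    show Function.Injective (dih 2 PSLMaxExceptional.pa PSLMaxExceptional.pb); decide +kernel⟩

theorem dih_three : ∃ f : DihedralGroup 3 →* Equiv.Perm (Fin 4), Function.Injective f :=
  ⟨MonoidHom.mk' (dih 3 (Equiv.swap (0 : Fin 4) 1 * Equiv.swap 1 2) (Equiv.swap 0 1)) (by decide +kernel), by
    show Function.Injective (dih 3 (Equiv.swap (0 : Fin 4) 1 * Equiv.swap 1 2) (Equiv.swap 0 1)); decide +kernel⟩

theorem dih_four : ∃ f : DihedralGroup 4 →* Equiv.Perm (Fin 4), Function.Injective f :=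
  ⟨MonoidHom.mk' (dih 4 (Equiv.swap (0 : Fin 4) 1 * Equiv.swap 1 2 * Equiv.swap 2 3) (Equiv.swap 0 2)) (by decide +kernel), by
    show Function.Injective (dih 4 (Equiv.swap (0 : Fin 4) 1 * Equiv.swap 1 2 * Equiv.swap 2 3) (Equiv.swap 0 2))
    decide +kernel⟩

/-- A five-cycle. -/
def five : alternatingGroup (Fin 5) :=
  ⟨Equiv.swap 0 1 * Equiv.swap 1 2 * Equiv.swap 2 3 * Equiv.swap 3 4,
    Equiv.Perm.mem_alternatingGroup.mpr (by decide +kernel)⟩

/-- An involution inverting the five-cycle. -/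
def flip5 : alternatingGroup (Fin 5) :=
  ⟨Equiv.swap 1 4 * Equiv.swap 2 3, Equiv.Perm.mem_alternatingGroup.mpr (by decide +kernel)⟩

theorem dih_five : ∃ f : DihedralGroup 5 →* alternatingGroup (Fin 5), Function.Injective f :=
  ⟨MonoidHom.mk' (dih 5 five flip5) (by decide +kernel), by
    show Function.Injective (dih 5 five flip5); decide +kernel⟩

section

variable {F : Type u} [Field F] [Fintype F] {q : ℕ}

theorem not_bot (hF : Fintype.card F = q) (h4 : 4 ≤ q) {M : Subgroup (PSL₂ F)} (hM : IsCoatom M) : M ≠ ⊥ := by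
  intro e
  subst e
  obtain ⟨p, hp⟩ := CharP.exists F
  haveI : Fact p.Prime := ⟨CharP.char_is_prime F p⟩
  obtain ⟨H, hidx, hc⟩ := exists_borel (k := AlgebraicClosure F) (algebraMap F (AlgebraicClosure F)) p hF
  have hne : H ≠ ⊥ := by
    intro e
    rw [e, Subgroup.card_bot, one_mul] at hc
    have : 4 * 3 ≤ q * (q - 1) := Nat.mul_le_mul h4 (by omega)
    rcases gcd_cases (q := q) with e' | e' <;> rw [e'] at hc <;> omega
  have htop := hM.2 H (bot_lt_iff_ne_bot.mpr hne)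
  rw [htop, Subgroup.index_top] at hidx
  omega

/-- The three coarse types. -/
theorem coarse (p : ℕ) [Fact p.Prime] [CharP F p] {k : Type v} [Field k] [IsAlgClosed k] [CharP k p] (i : F →+* k)
    (hF : Fintype.card F = q) (h4 : 4 ≤ q) {M : Subgroup (PSL₂ F)} (hM : IsCoatom M) :
    (Nat.card M * Nat.gcd 2 (q - 1) = q * (q - 1)) ∨ Tor i M ∨ Nonempty (M ≃* alternatingGroup (Fin 4)) ∨
      Nonempty (M ≃* Equiv.Perm (Fin 4)) ∨ Nonempty (M ≃* alternatingGroup (Fin 5)) ∨ RatSub q M := by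
  haveI : Finite (pslMap i).range := Finite.of_surjective _ (pslMap i).rangeRestrict_surjective
  have hbot := not_bot hF h4 hM
  have hfixed : ∀ z : ℙ k (Fin 2 → k), (∀ g ∈ M, eW i g • z = z) →
      (Nat.card M * Nat.gcd 2 (q - 1) = q * (q - 1)) ∨ Tor i M := fun z hz => of_fix i p hF h4 hM hbot hz
  have hcyc : IsCyclic M → (Nat.card M * Nat.gcd 2 (q - 1) = q * (q - 1)) ∨ Tor i M := by
    intro hc
    obtain ⟨g, hg⟩ := hc.exists_generator
    obtain ⟨z, hz⟩ := (full i p hF).geom.exists_fixed (eW i (g : PSL₂ F))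
    refine hfixed z fun x hx => ?_
    obtain ⟨j, hj⟩ := hg ⟨x, hx⟩
    have hj' : (g : PSL₂ F) ^ j = x := congrArg Subtype.val hj
    have hmem : eW i x ∈ stabilizer (pslMap i).range z := by
      rw [← hj', map_zpow]
      exact zpow_mem (show eW i (g : PSL₂ F) ∈ stabilizer (pslMap i).range z from hz) j
    exact hmem
  rcases dickson_rat p hF M with h | h
  swap
  · exact Or.inr (Or.inr (Or.inr (Or.inr (Or.inr h))))
  rcases h with ⟨h, -⟩ | ⟨n, hn, ⟨ψ⟩, -⟩ | ⟨P, h⟩ | h | h | h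
  · exact (hcyc h).imp_right Or.inl
  · rcases Nat.lt_or_ge n 2 with hn2 | hn2
    · have hcard : Nat.card M = 2 := by rw [Nat.card_congr ψ.toEquiv, DihedralGroup.nat_card]; omega
      haveI : Fact (Nat.Prime 2) := ⟨Nat.prime_two⟩
      exact (hcyc (isCyclic_of_prime_card hcard)).imp_right Or.inl
    rcases dihedral_sub i p hF h4 hn2 ψ with ⟨-, z, hz⟩ | ⟨a, b, w, g, hab, hw, hw', hg, ha, hb, hle, -⟩
    · exact (hfixed z hz).imp_right Or.inl
    · obtain ⟨m, w', -, -, -, -, -, -, hne⟩ := pair_data i p hF h4 hab hg ha hb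
      exact Or.inr (Or.inl ⟨a, b, w, g, hab, hw, hw', hg, ha, hb, coatom_eq hM hle hne⟩)
  · obtain ⟨z, -, hz⟩ := borel_fix i p hF P
    exact (hfixed z fun g hg => hz g (h hg)).imp_right Or.inl
  · exact Or.inr (Or.inr (Or.inl h))
  · exact Or.inr (Or.inr (Or.inr (Or.inl h)))
  · exact Or.inr (Or.inr (Or.inr (Or.inr (Or.inl h))))

theorem small_not (p : ℕ) [Fact p.Prime] {k : Type v} [Field k] [IsAlgClosed k] [CharP k p] (i : F →+* k)
    (hF : Fintype.card F = q) (h4 : 4 ≤ q) {M : Subgroup (PSL₂ F)} (hM : IsCoatom M) (hT : Tor i M) {m : ℕ}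
    (ψM : M ≃* DihedralGroup m) (hm : m * Nat.gcd 2 (q - 1) + 1 = q ∨ m * Nat.gcd 2 (q - 1) = q + 1) (hmp : m ≠ p)
    {A : Type} [Group A] (H : Subgroup (PSL₂ F)) (φ : H ≃* A) (hcard : 2 * m < Nat.card A)
    (hsmall : Nat.card A < Nat.card (PSL₂ F)) (f : DihedralGroup m →* A) (hf : Function.Injective f) : False := by
  have hH : H ≠ ⊤ := by
    intro e
    have := Nat.card_congr φ.toEquiv
    rw [e, Subgroup.card_top] at this
    omega
  let ι : DihedralGroup m →* (PSL₂ F) := H.subtype.comp (φ.symm.toMonoidHom.comp f)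
  have hι : Function.Injective ι := Subtype.val_injective.comp (φ.symm.injective.comp hf)
  exact tor_not i p hF h4 hM hT ψM hm hmp H ι.range hH (by rintro _ ⟨x, rfl⟩; exact (φ.symm (f x)).2)
    (by rw [Nat.card_congr φ.toEquiv]; exact hcard) (MonoidHom.ofInjective hι).symm

theorem char_of_card (p : ℕ) [Fact p.Prime] [CharP F p] (hF : Fintype.card F = q) : p ∣ q ∧ (Odd q → p ≠ 2) := by
  obtain ⟨n, -, hn⟩ := FiniteField.card F p
  rw [hF] at hn
  refine ⟨hn ▸ dvd_pow_self p n.pos.ne', fun ho e => ?_⟩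
  subst e
  rw [hn, Nat.odd_pow_iff n.pos.ne'] at ho
  exact absurd ho (by decide)

/-- Odd characteristic. -/
theorem odd_list (p : ℕ) [Fact p.Prime] [CharP F p] (hF : Fintype.card F = q) (hodd : Odd q) (h5 : 5 ≤ q)
    (M : Subgroup (PSL₂ F)) (hM : IsCoatom M) :
    2 * Nat.card M = q * (q - 1) ∨
    (13 ≤ q ∧ (∃ k : ℕ, 2 * k = q - 1 ∧ Nonempty (M ≃* DihedralGroup k))) ∨
    (q ≠ 7 ∧ q ≠ 9 ∧ (∃ k : ℕ, 2 * k = q + 1 ∧ Nonempty (M ≃* DihedralGroup k))) ∨
    (∃ (F₀ : Type) (_ : Field F₀) (_ : Fintype F₀), q = Fintype.card F₀ ^ 2 ∧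
        Nonempty (M ≃* Matrix.ProjGenLinGroup (Fin 2) F₀)) ∨
    (∃ (F₀ : Type) (_ : Field F₀) (_ : Fintype F₀) (r : ℕ), r.Prime ∧ Odd r ∧ q = Fintype.card F₀ ^ r ∧
        Nonempty (M ≃* PSL₂ F₀)) ∨
    ((q % 10 = 1 ∨ q % 10 = 9) ∧ (q = p ∨ (q = p ^ 2 ∧ (p % 10 = 3 ∨ p % 10 = 7))) ∧
        Nonempty (M ≃* alternatingGroup (Fin 5))) ∨
    (q = p ∧ (p % 8 = 3 ∨ p % 8 = 5) ∧ ¬ (p % 10 = 1 ∨ p % 10 = 9) ∧ Nonempty (M ≃* alternatingGroup (Fin 4))) ∨
    (q = p ∧ (p % 8 = 1 ∨ p % 8 = 7) ∧ Nonempty (M ≃* Equiv.Perm (Fin 4))) := by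
  obtain ⟨hpq, hp2'⟩ := char_of_card p hF
  have hp2 := hp2' hodd
  have hd : Nat.gcd 2 (q - 1) = 2 := Nat.gcd_eq_left (by obtain ⟨t, ht⟩ := hodd; omega)
  have hsub : RatSub q M →
      (∃ (F₀ : Type) (_ : Field F₀) (_ : Fintype F₀), q = Fintype.card F₀ ^ 2 ∧
          Nonempty (M ≃* Matrix.ProjGenLinGroup (Fin 2) F₀)) ∨
      (∃ (F₀ : Type) (_ : Field F₀) (_ : Fintype F₀) (r : ℕ), r.Prime ∧ Odd r ∧ q = Fintype.card F₀ ^ r ∧
          Nonempty (M ≃* PSL₂ F₀)) := by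
    intro h
    obtain ⟨K, _, _, r, hr, h3, hq, ⟨-, hr2, hψ⟩ | ⟨hr2, hψ⟩⟩ := PSLMaxExceptional.sub_case p hF hM h
    · exact Or.inr ⟨K, inferInstance, inferInstance, r, hr, hr.eq_two_or_odd'.resolve_left hr2, hq, hψ⟩
    · have hK : Odd (Fintype.card K) := by rw [hq, Nat.odd_pow_iff hr.ne_zero] at hodd; exact hodd
      exact Or.inl ⟨K, inferInstance, inferInstance, (hr2 hK) ▸ hq, hψ⟩
  let k := AlgebraicClosure F
  let i : F →+* k := algebraMap F k
  haveI : CharP k p := charP_of_injective_ringHom i.injective p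
  rcases coarse p i hF (by omega) hM with h | hT | ⟨⟨ψ⟩⟩ | ⟨⟨ψ⟩⟩ | ⟨⟨ψ⟩⟩ | h
  · left; rw [hd] at h; omega
  · obtain ⟨a, b, w, g, hab, hw, hw', hg, ha, hb, hMeq⟩ := id hT
    obtain ⟨m, w', -, -, -, hm, hm2, ⟨ψ₀⟩, -⟩ := pair_data i p hF (by omega) hab hg ha hb
    let ψM : M ≃* DihedralGroup m := (MulEquiv.subgroupCongr hMeq).trans ψ₀
    rw [hd] at hm
    have hG := card_mul hF
    rw [hd] at hG
    have hne := PSLBounds.not_six_ten hF
    obtain ⟨t, ht⟩ := hodd
    by_cases hbad : (m * 2 = q - 1 ∧ q < 13) ∨ (m * 2 = q + 1 ∧ (q = 7 ∨ q = 9))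
    · exfalso
      have hexc : (q = 5 ∧ m = 2) ∨ (q = 7 ∧ (m = 3 ∨ m = 4)) ∨ (q = 9 ∧ (m = 4 ∨ m = 5)) ∨ (q = 11 ∧ m = 5) := by
        omega
      rcases hexc with ⟨rfl, rfl⟩ | ⟨rfl, hm'⟩ | ⟨rfl, hm'⟩ | ⟨rfl, rfl⟩
      · have hp : p = 5 := (Nat.prime_dvd_prime_iff_eq Fact.out Nat.prime_five).mp hpq
        obtain ⟨H, ⟨φ⟩⟩ := (PSLSolvable.iff_A4 p 1 (by rw [pow_one, hF, hp])).mpr (fun h => hp2 h.1)
        obtain ⟨f, hf⟩ := dih_two
        have hA := PSLSmallMax.card_A4 (MulEquiv.refl (alternatingGroup (Fin 4)))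
        exact small_not p i hF (by omega) hM hT ψM (by rw [hd]; omega) (by omega) H φ (by omega) (by omega) f hf
      · have hp : p = 7 := (Nat.prime_dvd_prime_iff_eq Fact.out (by norm_num)).mp hpq
        obtain ⟨H, ⟨φ⟩⟩ := (PSLSolvable.iff_S4 hF).mpr (by norm_num)
        have hA := PSLSmallMax.card_S4 (MulEquiv.refl (Equiv.Perm (Fin 4)))
        rcases hm' with rfl | rfl
        · obtain ⟨f, hf⟩ := dih_three
          exact small_not p i hF (by omega) hM hT ψM (by rw [hd]; omega) (by omega) H φ (by omega) (by omega) f hf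
        · obtain ⟨f, hf⟩ := dih_four
          exact small_not p i hF (by omega) hM hT ψM (by rw [hd]; omega) (by omega) H φ (by omega) (by omega) f hf
      · have hp : p = 3 := by
          have : p ∣ 3 ^ 2 := hpq
          exact (Nat.prime_dvd_prime_iff_eq Fact.out Nat.prime_three).mp ((Fact.out : p.Prime).dvd_of_dvd_pow this)
        rcases hm' with rfl | rfl
        · obtain ⟨H, ⟨φ⟩⟩ := (PSLSolvable.iff_S4 hF).mpr (by norm_num)
          have hA := PSLSmallMax.card_S4 (MulEquiv.refl (Equiv.Perm (Fin 4)))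
          obtain ⟨f, hf⟩ := dih_four
          exact small_not p i hF (by omega) hM hT ψM (by rw [hd]; omega) (by omega) H φ (by omega) (by omega) f hf
        · obtain ⟨H, ⟨φ⟩⟩ := (Icosian.iff_A5 hF).mpr (by norm_num)
          have hA := PSLSmallMax.card_A5 (MulEquiv.refl (alternatingGroup (Fin 5)))
          obtain ⟨f, hf⟩ := dih_five
          exact small_not p i hF (by omega) hM hT ψM (by rw [hd]; omega) (by omega) H φ (by omega) (by omega) f hf
      · have hp : p = 11 := (Nat.prime_dvd_prime_iff_eq Fact.out (by norm_num)).mp hpq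
        obtain ⟨H, ⟨φ⟩⟩ := (Icosian.iff_A5 hF).mpr (by norm_num)
        have hA := PSLSmallMax.card_A5 (MulEquiv.refl (alternatingGroup (Fin 5)))
        obtain ⟨f, hf⟩ := dih_five
        exact small_not p i hF (by omega) hM hT ψM (by rw [hd]; omega) (by omega) H φ (by omega) (by omega) f hf
    · rcases hm with hm | hm
      · exact Or.inr (Or.inl ⟨by omega, m, by omega, ⟨ψM⟩⟩)
      · exact Or.inr (Or.inr (Or.inl ⟨by omega, by omega, m, by omega, ⟨ψM⟩⟩))
  · rcases PSLMaxExceptional.four_case p hp2 hF h5 hM ψ with h | ⟨h1, h2, h3⟩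
    · exact Or.inr (Or.inr (Or.inr (Or.inr (Or.inl h))))
    · exact Or.inr (Or.inr (Or.inr (Or.inr (Or.inr (Or.inr (Or.inl ⟨h1, h2, h3, ⟨ψ⟩⟩))))))
  · rcases PSLMaxExceptional.sym_case p hp2 hF hM ψ with h | ⟨h1, h2⟩
    · exact Or.inr (Or.inr (Or.inr (Or.inl h)))
    · exact Or.inr (Or.inr (Or.inr (Or.inr (Or.inr (Or.inr (Or.inr ⟨h1, h2, ⟨ψ⟩⟩))))))
  · by_cases hp5 : p = 5
    · rcases hsub (altFive_rat p hF M ψ (Or.inr hp5)) with h | h
      · exact Or.inr (Or.inr (Or.inr (Or.inl h)))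
      · exact Or.inr (Or.inr (Or.inr (Or.inr (Or.inl h))))
    · obtain ⟨h1, h2⟩ := PSLMaxExceptional.five_case p hp2 hp5 hF hM ψ
      exact Or.inr (Or.inr (Or.inr (Or.inr (Or.inr (Or.inl ⟨h1, h2, ⟨ψ⟩⟩)))))
  · rcases hsub h with h | h
    · exact Or.inr (Or.inr (Or.inr (Or.inl h)))
    · exact Or.inr (Or.inr (Or.inr (Or.inr (Or.inl h))))

/-- Characteristic two. -/
theorem even_list (hF : Fintype.card F = q) (heven : Even q) (h4 : 4 ≤ q) (M : Subgroup (PSL₂ F)) (hM : IsCoatom M) :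
    Nat.card M = q * (q - 1) ∨
    Nonempty (M ≃* DihedralGroup (q - 1)) ∨
    Nonempty (M ≃* DihedralGroup (q + 1)) ∨
    (∃ (F₀ : Type) (_ : Field F₀) (_ : Fintype F₀) (r : ℕ), r.Prime ∧ Fintype.card F₀ ≠ 2 ∧
        q = Fintype.card F₀ ^ r ∧ Nonempty (M ≃* PSL₂ F₀)) := by
  obtain ⟨p, hp⟩ := CharP.exists F
  obtain ⟨⟨n, hn0⟩, hpp, hn⟩ := FiniteField.card F p
  haveI := Fact.mk hpp
  simp only [PNat.mk_coe, hF] at hn
  have hp2 : p = 2 := by
    rw [hn, Nat.even_pow] at heven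
    exact (Nat.Prime.even_iff hpp).mp heven.1
  subst hp2
  have hd : Nat.gcd 2 (q - 1) = 1 := by
    rcases gcd_cases (q := q) with e | e
    · exact e
    · have h2 : 2 ∣ q - 1 := e ▸ Nat.gcd_dvd_right 2 (q - 1)
      rw [Nat.even_iff] at heven
      omega
  have hsub : RatSub q M →
      (∃ (F₀ : Type) (_ : Field F₀) (_ : Fintype F₀) (r : ℕ), r.Prime ∧ Fintype.card F₀ ≠ 2 ∧
          q = Fintype.card F₀ ^ r ∧ Nonempty (M ≃* PSL₂ F₀)) := by
    intro h
    obtain ⟨K, _, _, r, hr, h3, hq, ⟨hK, -, -⟩ | ⟨-, ⟨ψ⟩⟩⟩ := PSLMaxExceptional.sub_case 2 hF hM h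
    · rw [hq] at heven
      exact absurd (Nat.even_pow.mp heven).1 (Nat.not_even_iff_odd.mpr hK)
    · refine ⟨K, inferInstance, inferInstance, r, hr, by omega, hq, ⟨ψ.trans ?_⟩⟩
      haveI : Finite (Matrix.ProjGenLinGroup (Fin 2) K) := Finite.of_surjective _ Matrix.ProjGenLinGroup.mk_surjective
      haveI : Finite (PSL₂ K) := Finite.of_surjective _ (QuotientGroup.mk'_surjective (Subgroup.center SL(2, K)))
      refine (MulEquiv.ofBijective (Matrix.ProjectiveSpecialLinearGroup.toPGL (n := Fin 2) (R := K))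
        ((Nat.bijective_iff_injective_and_card _).mpr ⟨Matrix.ProjectiveSpecialLinearGroup.toPGL_injective, ?_⟩)).symm
      rw [PSLBounds.card_pgl_two, ← SmallPSL.card_psl (F := K) rfl]
      have hKe : Even (Fintype.card K) := by rw [hq] at heven; exact (Nat.even_pow.mp heven).1
      have : Nat.gcd 2 (Fintype.card K - 1) = 1 := by
        rcases gcd_cases (q := Fintype.card K) with e | e
        · exact e
        · have h2 : 2 ∣ Fintype.card K - 1 := e ▸ Nat.gcd_dvd_right 2 (Fintype.card K - 1)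
          rw [Nat.even_iff] at hKe
          omega
      rw [this, one_mul]
  let k := AlgebraicClosure F
  let i : F →+* k := algebraMap F k
  haveI : CharP k 2 := charP_of_injective_ringHom i.injective 2
  have hfin : (Nat.card M * Nat.gcd 2 (q - 1) = q * (q - 1)) ∨ Tor i M → Nat.card M = q * (q - 1) ∨
      Nonempty (M ≃* DihedralGroup (q - 1)) ∨ Nonempty (M ≃* DihedralGroup (q + 1)) := by
    rintro (h | hT)
    · left; rwa [hd, mul_one] at h
    · obtain ⟨a, b, w, g, hab, hw, hw', hg, ha, hb, hMeq⟩ := hT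
      obtain ⟨m, w', -, -, -, hm, hm2, ⟨ψ₀⟩, -⟩ := pair_data i 2 hF h4 hab hg ha hb
      rw [hd, mul_one] at hm
      rcases hm with rfl | rfl
      · exact Or.inr (Or.inl ⟨(MulEquiv.subgroupCongr hMeq).trans ψ₀⟩)
      · exact Or.inr (Or.inr ⟨(MulEquiv.subgroupCongr hMeq).trans ψ₀⟩)
  have hfin' : (Nat.card M * Nat.gcd 2 (q - 1) = q * (q - 1)) ∨ Tor i M → (Nat.card M = q * (q - 1) ∨
      Nonempty (M ≃* DihedralGroup (q - 1)) ∨ Nonempty (M ≃* DihedralGroup (q + 1)) ∨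
      (∃ (F₀ : Type) (_ : Field F₀) (_ : Fintype F₀) (r : ℕ), r.Prime ∧ Fintype.card F₀ ≠ 2 ∧
        q = Fintype.card F₀ ^ r ∧ Nonempty (M ≃* PSL₂ F₀))) := fun h =>
    (hfin h).imp_right (fun h => h.imp_right Or.inl)
  rcases coarse 2 i hF h4 hM with h | hT | ⟨⟨ψ⟩⟩ | ⟨⟨ψ⟩⟩ | ⟨⟨ψ⟩⟩ | h
  · exact hfin' (Or.inl h)
  · exact hfin' (Or.inr hT)
  · -- the four-group is unipotent and fixes one point
    refine hfin' ?_
    haveI : Finite (pslMap i).range := Finite.of_surjective _ (pslMap i).rangeRestrict_surjective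
    have W := full i 2 hF
    let f : alternatingGroup (Fin 4) →* (pslMap i).range :=
      ((eW i).toMonoidHom.comp M.subtype).comp ψ.symm.toMonoidHom
    have hf : Function.Injective f := ((eW i).injective.comp Subtype.val_injective).comp ψ.symm.injective
    obtain ⟨a1, a2, a3, a4, a5, a6⟩ := PSLMaxExceptional.pa_facts
    have hsq : ∀ v : alternatingGroup (Fin 4), v * v = 1 → f v ^ 2 = 1 := fun v hv => by
      rw [pow_two, ← map_mul, hv, map_one]
    have hne1 : f PSLMaxExceptional.pa ≠ 1 := fun e => a4 (hf (e.trans (map_one f).symm))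
    obtain ⟨z, hz⟩ := W.geom.exists_fixed (f PSLMaxExceptional.pa)
    have hzb : f PSLMaxExceptional.pb • z = z := by
      refine W.geom.eq_of_unip hne1 (hsq _ a1) hz ?_
      rw [← mul_smul, ← map_mul, a3, map_mul, mul_smul, hz]
    refine of_fix i 2 hF h4 hM (not_bot hF h4 hM) (z := z) fun g hg => ?_
    have hgf : eW i g = f (ψ ⟨g, hg⟩) := by
      show eW i g = eW i ((ψ.symm (ψ ⟨g, hg⟩) : M) : PSL₂ F)
      rw [MulEquiv.symm_apply_apply]
    rw [hgf]
    generalize ψ ⟨g, hg⟩ = σ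
    have hv : f (σ * PSLMaxExceptional.pa * σ⁻¹) • z = z := by
      rcases PSLMaxExceptional.alt_perm3 σ _ (Or.inl rfl) with e | e | e <;> rw [e]
      · exact hz
      · exact hzb
      · rw [map_mul, mul_smul, hzb, hz]
    have hv' : f (σ * PSLMaxExceptional.pa * σ⁻¹) • (f σ • z) = f σ • z := by
      rw [← mul_smul, ← map_mul, inv_mul_cancel_right, map_mul, mul_smul, hz]
    have hne : f (σ * PSLMaxExceptional.pa * σ⁻¹) ≠ 1 := fun e => a4 (conj_eq_one_iff.mp (hf (e.trans (map_one f).symm)))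
    refine W.geom.eq_of_unip hne ?_ hv hv'
    rw [map_mul, map_mul, map_inv, conj_pow, hsq _ a1, mul_one, mul_inv_cancel]
  · exfalso
    have h16 := (PSLSolvable.iff_S4 hF).mp ⟨M, ⟨ψ⟩⟩
    rw [Nat.even_iff] at heven
    have : q ^ 2 % 2 = 0 := by rw [Nat.pow_mod, heven]
    omega
  · exact Or.inr (Or.inr (Or.inr (hsub (altFive_rat 2 hF M ψ (Or.inl rfl)))))
  · exact Or.inr (Or.inr (Or.inr (hsub h)))

end

end Cfsg.Lib.Classical.PSLMaxClass
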