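import Mathlib
import Cfsg.Agent.Classical.Misc.SharpTori

/-! Maximal subgroups fixing a point or a pair, in the group of all linear fractional transformations. -/

set_option autoImplicit false
set_option linter.unusedSectionVars false
set_option linter.style.haveILetI false
set_option linter.flexible false

namespace Cfsg.Lib.Classical.SharpGeom.Full

open MulAction

variable {G : Type*} {X : Type*} [Group G] [MulAction G X] {p q d : ℕ} {x : X}
variable [Finite G] [Fact p.Prime] (W : Full G X p q d x) (hd : d ≤ 2) (h4 : 4 ≤ q)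

/-- The preserver of a pair of points fixed by a nontrivial element. -/
def IsTor (M : Subgroup G) (X : Type*) [MulAction G X] : Prop :=
  ∃ (a b : X) (w g : G), a ≠ b ∧ w • a = b ∧ w • b = a ∧ g ≠ 1 ∧ g • a = a ∧ g • b = b ∧ M = pairStab a b

include W hd h4

theorem pair_info {a b : X} (hab : a ≠ b) {g : G} (hg : g ≠ 1) (ha : g • a = a) (hb : g • b = b) :
    ∃ (m : ℕ) (w : G), w • a = b ∧ w • b = a ∧ Nat.card ↥(stabilizer G a ⊓ stabilizer G b) = m ∧
      (m * d = q - 1 ∨ m * d = q + 1) ∧ 2 ≤ m ∧ Nonempty (pairStab (G := G) a b ≃* DihedralGroup m) ∧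
      pairStab (G := G) a b ≠ ⊤ := by
  obtain ⟨hc, w, hw, hw'⟩ := W.pair_cases hab hg ha hb
  obtain ⟨hcard, ⟨ψ⟩⟩ := W.geom.pair_dihedral hab hw hw'
  generalize hm : Nat.card ↥(stabilizer G a ⊓ stabilizer G b) = m at hc hcard ψ
  have h2 : 2 ≤ m := by
    have hd0 := W.d_pos
    by_contra hlt
    interval_cases m
    · omega
    · rcases (show d = 1 ∨ d = 2 by omega) with e | e <;> subst e
      · omega
      · rcases hc with hc | hc <;> omega
  refine ⟨m, w, hw, hw', rfl, hc, h2, ⟨ψ⟩, fun e => ?_⟩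
  rw [e, Subgroup.card_top] at hcard
  have hG := W.card
  have h1 : 5 * 4 * (q - 1) ≤ (q + 1) * q * (q - 1) := Nat.mul_le_mul_right _ (Nat.mul_le_mul (by omega) h4)
  rw [hcard, mul_assoc] at hG
  rcases hc with hc | hc <;> rw [hc] at hG <;> omega

theorem coatom_fix {M : Subgroup G} (hM : IsCoatom M) (hne : M ≠ ⊥) {z : X} (hfix : ∀ g ∈ M, g • z = z) :
    Nat.card M * d = q * (q - 1) ∨ IsTor M X := by
  obtain ⟨g, hg, hg1⟩ : ∃ g ∈ M, g ≠ 1 := by
    by_contra hall
    push Not at hall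
    exact hne ((Subgroup.eq_bot_iff_forall M).mpr hall)
  by_cases hzO : z ∈ orbit G x
  · left
    obtain ⟨a, ha⟩ := hzO
    have ha' : a • x = z := ha
    have hc : Nat.card (stabilizer G z) = Nat.card (stabilizer G x) := by
      rw [← ha', stabilizer_smul_eq_stabilizer_map_conj, Subgroup.card_map_of_injective (MulAut.conj a).injective]
    have hle : M ≤ stabilizer G z := fun g hg => hfix g hg
    have hne' : stabilizer G z ≠ ⊤ := by
      intro e
      have h1 := W.card_stab
      rw [← hc, e, Subgroup.card_top, W.card] at h1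
      have h3 : q * (q - 1) < (q + 1) * q * (q - 1) := by
        rw [mul_assoc]
        exact lt_mul_of_one_lt_left (Nat.mul_pos (by omega) (by omega)) (by omega)
      omega
    rw [(hle.eq_or_lt).resolve_right fun h => hne' (hM.2 _ h), hc, W.card_stab]
  · right
    obtain ⟨y, hy, hyO, hsz, w, hw, hw'⟩ := W.tame_structure ⟨g, hg1, hfix g hg⟩ hzO
    have hfy : ∀ m ∈ M, m • y = y := fun m hm => by
      have h : m ∈ stabilizer G z := hfix m hm
      rw [hsz] at h
      exact h.2
    obtain ⟨m, w', -, -, -, -, -, -, hne'⟩ := W.pair_info hd h4 (Ne.symm hy) hg1 (hfix g hg) (hfy g hg)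
    have hle : M ≤ pairStab z y := fun m hm => Or.inl ⟨hfix m hm, hfy m hm⟩
    exact ⟨z, y, w, g, Ne.symm hy, hw, hw', hg1, hfix g hg, hfy g hg,
      (hle.eq_or_lt).resolve_right fun h => hne' (hM.2 _ h)⟩

theorem coatom_dihedral {M : Subgroup G} (hM : IsCoatom M) (hne : M ≠ ⊥) {n : ℕ} (hn : 2 ≤ n) (ψ : M ≃* DihedralGroup n) :
    Nat.card M * d = q * (q - 1) ∨ IsTor M X := by
  haveI : NeZero n := ⟨by omega⟩
  let f : DihedralGroup n →* G := M.subtype.comp ψ.symm.toMonoidHom
  have hf : Function.Injective f := Subtype.val_injective.comp ψ.symm.injective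
  have hfN : ∀ g (hg : g ∈ M), g = f (ψ ⟨g, hg⟩) := fun g hg => by
    show g = ((ψ.symm (ψ ⟨g, hg⟩) : M) : G)
    rw [MulEquiv.symm_apply_apply]
  set c := f (DihedralGroup.r 1) with hc
  set s := f (DihedralGroup.sr 0) with hs
  have hcn : orderOf c = n := by rw [hc, orderOf_injective f hf, DihedralGroup.orderOf_r_one]
  have hc1 : c ≠ 1 := fun e => by rw [e, orderOf_one] at hcn; omega
  have hgen : ∀ y : DihedralGroup n, (∃ j : ℕ, f y = c ^ j) ∨ (∃ j : ℕ, f y = s * c ^ j) := by
    rintro (j | j)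
    · exact Or.inl ⟨j.val, by rw [hc, ← map_pow, DihedralGroup.r_one_pow, ZMod.natCast_zmod_val]⟩
    · exact Or.inr ⟨j.val, by
        rw [hc, hs, ← map_pow, ← map_mul, DihedralGroup.r_one_pow, ZMod.natCast_zmod_val, DihedralGroup.sr_mul_r,
          zero_add]⟩
  have hsc : ∀ z : X, c • z = z → c • (s • z) = s • z := by
    intro z hz
    have e : c * s = s * c⁻¹ := by
      rw [hc, hs, ← map_mul, ← map_inv, ← map_mul, DihedralGroup.r_mul_sr, DihedralGroup.inv_r,
        DihedralGroup.sr_mul_r, zero_sub, zero_add]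
    rw [← mul_smul, e, mul_smul]
    congr 1
    rw [inv_smul_eq_iff, hz]
  obtain ⟨a, ha⟩ := W.geom.exists_fixed c
  have hpow : ∀ z : X, c • z = z → ∀ j : ℕ, c ^ j • z = z := fun z hz j => W.geom.pow_smul_fixed hz j
  by_cases hp : c ^ p = 1
  · have hsa : s • a = a := W.geom.eq_of_unip hc1 hp ha (hsc a ha)
    refine W.coatom_fix hd h4 hM hne (z := a) fun g hg => ?_
    rw [hfN g hg]
    rcases hgen (ψ ⟨g, hg⟩) with ⟨j, hj⟩ | ⟨j, hj⟩ <;> rw [hj]
    · exact hpow a ha j
    · rw [mul_smul, hpow a ha j, hsa]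
  · obtain ⟨b, hba, hb⟩ := W.geom.semi_two c hp a ha
    have hsa : s • a = a ∨ s • a = b := W.geom.eq_of_two hc1 ha hb (Ne.symm hba) (hsc a ha)
    have hsb : s • b = a ∨ s • b = b := W.geom.eq_of_two hc1 ha hb (Ne.symm hba) (hsc b hb)
    have hsmem : s ∈ pairStab (G := G) a b := by
      rcases hsa with e | e <;> rcases hsb with e' | e'
      · exact absurd (smul_left_cancel s (e.trans e'.symm)) (Ne.symm hba)
      · exact Or.inl ⟨e, e'⟩
      · exact Or.inr ⟨e, e'⟩
      · exact absurd (smul_left_cancel s (e.trans e'.symm)) (Ne.symm hba)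
    have hcmem : c ∈ pairStab (G := G) a b := Or.inl ⟨ha, hb⟩
    obtain ⟨m, w, hw, hw', -, -, -, -, hne'⟩ := W.pair_info hd h4 (Ne.symm hba) hc1 ha hb
    have hle : M ≤ pairStab a b := fun g hg => by
      rw [hfN g hg]
      rcases hgen (ψ ⟨g, hg⟩) with ⟨j, hj⟩ | ⟨j, hj⟩ <;> rw [hj]
      · exact pow_mem hcmem j
      · exact mul_mem hsmem (pow_mem hcmem j)
    exact Or.inr ⟨a, b, w, c, Ne.symm hba, hw, hw', hc1, ha, hb,
      (hle.eq_or_lt).resolve_right fun h => hne' (hM.2 _ h)⟩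

end Cfsg.Lib.Classical.SharpGeom.Full
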