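import Mathlib
import Cfsg.Agent.Classical.Misc.SharpMax
import Cfsg.Agent.Classical.Misc.PSLMaxClass

/-! The coarse types of maximal subgroups of `PGL₂(q)`. -/

set_option autoImplicit false
set_option linter.unusedSimpArgs false
set_option linter.unusedSectionVars false
set_option linter.style.haveILetI false
set_option linter.flexible false

namespace Cfsg.Lib.Classical.PGLFull

open Matrix MulAction
open scoped MatrixGroups LinearAlgebra.Projectivization
open Cfsg.Lib.Classical.PSLFour Cfsg.Lib.Classical.PSLEmbed Cfsg.Lib.Classical.PSLGeom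
open Cfsg.Lib.Classical.SharpGeom

universe u v

local notation "PSL₂" k => Matrix.ProjectiveSpecialLinearGroup (Fin 2) k

variable {F : Type u} [Field F] [Fintype F] {k : Type v} [Field k] [IsAlgClosed k] (j : F →+* k)

/-- A normalised lift. -/
theorem exists_lift (g : GL (Fin 2) F) :
    ∃ (a : SL(2, k)) (ρ : k), ρ ≠ 0 ∧ ∀ r c, a.1 r c * ρ = j ((g : Matrix (Fin 2) (Fin 2) F) r c) := by
  obtain ⟨ρ, hρ⟩ := IsAlgClosed.exists_eq_mul_self (j (g : Matrix (Fin 2) (Fin 2) F).det)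
  have hd : j (g : Matrix (Fin 2) (Fin 2) F).det ≠ 0 := by
    rw [map_ne_zero]; exact (Matrix.GeneralLinearGroup.det g).ne_zero
  have hρ0 : ρ ≠ 0 := fun e => hd (by rw [hρ, e, mul_zero])
  refine ⟨sl (j ((g : Matrix (Fin 2) (Fin 2) F) 0 0) / ρ) (j ((g : Matrix (Fin 2) (Fin 2) F) 0 1) / ρ)
    (j ((g : Matrix (Fin 2) (Fin 2) F) 1 0) / ρ) (j ((g : Matrix (Fin 2) (Fin 2) F) 1 1) / ρ) (by
      field_simp
      rw [← map_mul, ← map_mul, ← map_sub, ← Matrix.det_fin_two, hρ, pow_two]), ρ, hρ0, fun r c => ?_⟩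
  fin_cases r <;> fin_cases c <;> simp [sl00, sl01, sl10, sl11, hρ0]

/-- The action. -/
noncomputable def χ : Matrix.ProjGenLinGroup (Fin 2) F →* PSL₂ k :=
  (PSLLie.exists_proj (k := k) j).choose

theorem χ_injective : Function.Injective (χ j) := (PSLLie.exists_proj (k := k) j).choose_spec.1

theorem χ_spec (g : GL (Fin 2) F) (a : SL(2, k)) (ρ : k) (hρ : ρ ≠ 0)
    (h : ∀ r c, a.1 r c * ρ = j ((g : Matrix (Fin 2) (Fin 2) F) r c)) :
    χ j (Matrix.ProjGenLinGroup.mk g) = π a :=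
  (PSLLie.exists_proj (k := k) j).choose_spec.2 g a ρ hρ h

theorem χ_toPGL (s : PSL₂ F) : χ j (Matrix.ProjectiveSpecialLinearGroup.toPGL s) = pslMap j s := by
  obtain ⟨s, rfl⟩ := QuotientGroup.mk'_surjective (Subgroup.center SL(2, F)) s
  exact χ_spec j (Matrix.SpecialLinearGroup.toGL s) (slMap j s) 1 one_ne_zero fun r c => by rw [mul_one]; rfl

/-- The isomorphism onto the image. -/
noncomputable def eP : Matrix.ProjGenLinGroup (Fin 2) F ≃* (χ j).range := MonoidHom.ofInjective (χ_injective j)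

theorem finite_range : Finite (χ j).range := by
  haveI : Finite (Matrix.ProjGenLinGroup (Fin 2) F) := Finite.of_surjective _ Matrix.ProjGenLinGroup.mk_surjective
  exact Finite.of_surjective _ (χ j).rangeRestrict_surjective

theorem smul_point (g : GL (Fin 2) F) (v : Fin 2 → F) (hv : (fun c => j (v c)) ≠ 0)
    (hv' : (fun c => j (((g : Matrix (Fin 2) (Fin 2) F) *ᵥ v) c)) ≠ 0) :
    χ j (Matrix.ProjGenLinGroup.mk g) • Projectivization.mk k _ hv = Projectivization.mk k _ hv' := by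
  obtain ⟨a, ρ, hρ, ha⟩ := exists_lift j g
  rw [χ_spec j g a ρ hρ ha]
  obtain ⟨h, e⟩ := smul_mk_π a hv
  rw [e, Projectivization.mk_eq_mk_iff']
  refine ⟨ρ⁻¹, funext fun c => ?_⟩
  simp only [Pi.smul_apply, smul_eq_mul, Matrix.mulVec, dotProduct, Fin.sum_univ_two, map_add, map_mul, ← ha]
  field_simp

variable (p : ℕ) [Fact p.Prime] [CharP k p] {q : ℕ}

theorem full (hF : Fintype.card F = q) : Full (χ j).range (ℙ k (Fin 2 → k)) p q 1 pinf := by
  haveI := finite_range j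
  have M := geom p (χ j).range
  haveI : Finite (Matrix.ProjGenLinGroup (Fin 2) F) := Finite.of_surjective _ Matrix.ProjGenLinGroup.mk_surjective
  refine ⟨M, ?_, ?_, ?_, PSLFull.two_le hF⟩
  · let T : F → GL (Fin 2) F := fun b => Matrix.GeneralLinearGroup.mkOfDetNeZero !![1, b; 0, 1] (by simp [Matrix.det_fin_two])
    have hT : ∀ b : F, χ j (Matrix.ProjGenLinGroup.mk (T b)) = π (PSLLie.trans (j b)) := fun b =>
      χ_spec j _ _ 1 one_ne_zero fun r c => by
        fin_cases r <;> fin_cases c <;> simp [T, PSLLie.trans, sl00, sl01, sl10, sl11]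
    let τ : F → M.unip (pinf : ℙ k (Fin 2 → k)) := fun b =>
      ⟨⟨π (PSLLie.trans (j b)), _, hT b⟩,
        (smul_pinf _).mpr (by simp [PSLLie.trans, sl10]),
        Subtype.ext ((pow_p_iff p (by simp [PSLLie.trans, sl10])).mpr (by simp [PSLLie.trans, sl00, sl11]))⟩
    rw [← hF, ← Nat.card_eq_fintype_card]
    refine (Nat.card_eq_of_bijective τ ⟨?_, ?_⟩).symm
    · intro a b e
      have e' : π (PSLLie.trans (j a)) = π (PSLLie.trans (j b)) := congrArg (fun z => (z.1 : PSL₂ k)) e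
      have h1 : π (PSLLie.trans (j a)) • pfin (0 : k) = π (PSLLie.trans (j b)) • pfin (0 : k) := by rw [e']
      rw [PSLLie.trans_smul, PSLLie.trans_smul, zero_add, zero_add] at h1
      exact j.injective (pfin_injective h1)
    · rintro ⟨⟨g, x₀, hx₀⟩, hfix, hpow⟩
      obtain ⟨Z, rfl⟩ := Matrix.ProjGenLinGroup.mk_surjective x₀
      obtain ⟨a, ρ, hρ, ha⟩ := exists_lift j Z
      rw [χ_spec j Z a ρ hρ ha] at hx₀
      subst hx₀
      have h10 : a.1 1 0 = 0 := (smul_pinf _).mp hfix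
      have h11 := (pow_p_iff p h10).mp (congrArg Subtype.val hpow)
      have hd := det_eq_one a
      rw [h10, h11, mul_zero, sub_zero] at hd
      have h00 : a.1 0 0 ≠ 0 := left_ne_zero_of_mul_eq_one hd
      refine ⟨(Z : Matrix (Fin 2) (Fin 2) F) 0 1 / (Z : Matrix (Fin 2) (Fin 2) F) 0 0, Subtype.ext (Subtype.ext ?_)⟩
      show π (PSLLie.trans (j _)) = π a
      refine PSLLie.π_eq_of_proportional (σ := 1) h00 fun r c => ?_
      fin_cases r <;> fin_cases c <;> simp [PSLLie.trans, sl00, sl01, sl10, sl11, h10, h11, map_div₀, ← ha]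
      field_simp
  · have horb : orbit (χ j).range (pinf : ℙ k (Fin 2 → k)) = {z | Rational j z} := by
      ext z
      constructor
      · rintro ⟨⟨_, x₀, rfl⟩, rfl⟩
        obtain ⟨Z, rfl⟩ := Matrix.ProjGenLinGroup.mk_surjective x₀
        show Rational j (χ j (Matrix.ProjGenLinGroup.mk Z) • (pinf : ℙ k (Fin 2 → k)))
        obtain ⟨a, ρ, hρ, ha⟩ := exists_lift j Z
        rw [χ_spec j Z a ρ hρ ha]
        obtain ⟨h, e⟩ := smul_mk_π a (v := ![(1 : k), 0]) (fun h => one_ne_zero (congrFun h 0))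
        rw [pinf, e]
        by_cases h1 : (Z : Matrix (Fin 2) (Fin 2) F) 1 0 = 0
        · left
          have h1' : a.1 1 0 = 0 := by
            have := ha 1 0
            rw [h1, map_zero] at this
            exact (mul_eq_zero.mp this).resolve_right hρ
          rw [pinf, Projectivization.mk_eq_mk_iff']
          exact ⟨a.1 0 0, funext fun c => by fin_cases c <;> simp [Matrix.mulVec, dotProduct, h1']⟩
        · right
          refine ⟨(Z : Matrix (Fin 2) (Fin 2) F) 0 0 / (Z : Matrix (Fin 2) (Fin 2) F) 1 0, ?_⟩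
          rw [pfin, Projectivization.mk_eq_mk_iff']
          have h1' : a.1 1 0 ≠ 0 := fun e => h1 (j.injective (by rw [← ha, e, zero_mul, map_zero]))
          refine ⟨a.1 1 0, funext fun c => ?_⟩
          fin_cases c <;> simp [Matrix.mulVec, dotProduct, map_div₀, ← ha]
          field_simp
      · rintro (rfl | ⟨c, rfl⟩)
        · exact mem_orbit_self _
        · refine ⟨⟨χ j (Matrix.ProjectiveSpecialLinearGroup.toPGL (π (sl c (-1) 1 0 (by ring)))), _, rfl⟩, ?_⟩
          show χ j _ • (pinf : ℙ k (Fin 2 → k)) = _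
          rw [χ_toPGL, pslMap_π]
          obtain ⟨h, e⟩ := smul_mk_π (slMap j (sl c (-1) 1 0 (by ring))) (v := ![(1 : k), 0])
            (fun h => one_ne_zero (congrFun h 0))
          rw [pinf, e, pfin, Projectivization.mk_eq_mk_iff']
          exact ⟨1, funext fun r => by
            fin_cases r <;> simp [Matrix.mulVec, dotProduct, slMap_apply, sl00, sl01, sl10, sl11]⟩
    rw [horb]
    have : {z : ℙ k (Fin 2 → k) | Rational j z} = insert pinf (Set.range fun c => pfin (j c)) := by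
      ext z; simp [Rational, eq_comm]
    rw [this, Set.ncard_insert_of_notMem (by rintro ⟨c, hc⟩; exact pfin_ne_pinf _ hc) (Set.finite_range _),
      Set.ncard_range_of_injective (f := fun c => pfin (j c)) (fun a b e => j.injective (pfin_injective e)),
      Nat.card_eq_fintype_card, hF]
  · rw [← Nat.card_congr (eP j).toEquiv, mul_one, Cfsg.Lib.Classical.card_PGL, SLTwoTori.card_SL2, hF]
    obtain ⟨m, rfl⟩ : ∃ m, q = m + 1 := ⟨q - 1, by have := PSLFull.two_le hF; omega⟩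
    rw [Nat.add_sub_cancel, show (m + 1) ^ 2 = (m + 1 + 1) * m + 1 by ring, Nat.add_sub_cancel]
    ring

theorem map_coatom_equiv {G H : Type*} [Group G] [Group H] (e : G ≃* H) {M : Subgroup G} (hM : IsCoatom M) :
    IsCoatom (M.map e.toMonoidHom) :=
  ((MulEquiv.mapSubgroup e).isCoatom_iff M).mpr hM

/-- The coarse types. -/
theorem coarse (p : ℕ) [Fact p.Prime] {F : Type u} [Field F] [Fintype F] [CharP F p] (hp : p ≠ 2) {q : ℕ}
    (hF : Fintype.card F = q) (h4 : 4 ≤ q) {k : Type u} [Field k] [IsAlgClosed k] [CharP k p]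
    {F2 : Type} [Field F2] [Fintype F2] (hF2 : Fintype.card F2 = q * q) (i1 : F →+* F2) (i2 : F2 →+* k)
    {M : Subgroup (Matrix.ProjGenLinGroup (Fin 2) F)} (hM : IsCoatom M) :
    (Nat.card M = q * (q - 1)) ∨
    (∃ (a b : ℙ k (Fin 2 → k)) (w g : (χ (i2.comp i1)).range), a ≠ b ∧ w • a = b ∧ w • b = a ∧ g ≠ 1 ∧ g • a = a ∧
      g • b = b ∧ M.map (eP (i2.comp i1)).toMonoidHom = pairStab a b) ∨
    Nonempty (M ≃* alternatingGroup (Fin 4)) ∨ Nonempty (M ≃* Equiv.Perm (Fin 4)) ∨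
    Nonempty (M ≃* alternatingGroup (Fin 5)) ∨
    (∃ (K : Type) (_ : Field K) (_ : Fintype K) (m : ℕ), 3 ≤ Fintype.card K ∧ Fintype.card K ^ m = q * q ∧
      ((Odd (Fintype.card K) ∧ Nonempty (M ≃* PSL₂ K)) ∨ Nonempty (M ≃* Matrix.ProjGenLinGroup (Fin 2) K))) := by
  classical
  haveI : CharP F2 p := (i1.charP_iff i1.injective p).mp inferInstance
  haveI : Finite (Matrix.ProjGenLinGroup (Fin 2) F) := Finite.of_surjective _ Matrix.ProjGenLinGroup.mk_surjective
  set j := i2.comp i1 with hj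
  haveI := finite_range j
  haveI : Finite (pslMap i2).range := Finite.of_surjective _ (pslMap i2).rangeRestrict_surjective
  have W := full j p hF
  have hodd : Odd q := by
    obtain ⟨n, -, hn⟩ := FiniteField.card F p
    rw [← hF, hn]
    exact ((Fact.out : p.Prime).odd_of_ne_two hp).pow
  have hsub : ∀ x, χ j x ∈ (pslMap i2).range := by
    intro x
    obtain ⟨Z, rfl⟩ := Matrix.ProjGenLinGroup.mk_surjective x
    have h2 : ringChar F2 ≠ 2 := by rw [ringChar.eq F2 p]; exact hp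
    have hd : i1 (Z : Matrix (Fin 2) (Fin 2) F).det ≠ 0 := by
      rw [map_ne_zero]; exact (Matrix.GeneralLinearGroup.det Z).ne_zero
    obtain ⟨r, hr⟩ := (FiniteField.isSquare_iff h2 hd).mpr (by
      rw [hF2]
      obtain ⟨s, hs⟩ := hodd
      have : q * q / 2 = (q - 1) * (s + 1) := by
        subst hs
        rw [show 2 * s + 1 - 1 = 2 * s by omega, show (2 * s + 1) * (2 * s + 1) = 2 * (2 * s * (s + 1)) + 1 by ring]
        omega
      have hdZ : (Z : Matrix (Fin 2) (Fin 2) F).det ≠ 0 := (Matrix.GeneralLinearGroup.det Z).ne_zero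
      rw [this, pow_mul, ← map_pow, ← hF, FiniteField.pow_card_sub_one_eq_one _ hdZ, map_one, one_pow])
    have hr0 : r ≠ 0 := fun e => hd (by rw [hr, e, mul_zero])
    let t : SL(2, F2) := sl (i1 ((Z : Matrix (Fin 2) (Fin 2) F) 0 0) / r) (i1 ((Z : Matrix (Fin 2) (Fin 2) F) 0 1) / r)
      (i1 ((Z : Matrix (Fin 2) (Fin 2) F) 1 0) / r) (i1 ((Z : Matrix (Fin 2) (Fin 2) F) 1 1) / r) (by
        field_simp
        rw [← map_mul, ← map_mul, ← map_sub, ← Matrix.det_fin_two, hr, pow_two])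
    refine ⟨π t, ?_⟩
    rw [pslMap_π]
    refine (χ_spec j Z (slMap i2 t) (i2 r) (by rwa [map_ne_zero]) fun a c => ?_).symm
    rw [slMap_apply, ← map_mul, hj]
    show i2 (t.1 a c * r) = i2 (i1 _)
    congr 1
    fin_cases a <;> fin_cases c <;> simp [t, sl00, sl01, sl10, sl11, hr0]
  let ψ2 : Matrix.ProjGenLinGroup (Fin 2) F →* PSL₂ F2 :=
    (PSLFull.eW i2).symm.toMonoidHom.comp ((χ j).codRestrict _ hsub)
  have hψ2 : ∀ x, pslMap i2 (ψ2 x) = χ j x := fun x =>
    congrArg Subtype.val ((PSLFull.eW i2).apply_symm_apply _)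
  have hψinj : Function.Injective ψ2 := fun a b e => χ_injective j (by rw [← hψ2, ← hψ2, e])
  let eH : M ≃* M.map ψ2 := M.equivMapOfInjective ψ2 hψinj
  have hMbot : M ≠ ⊥ := by
    intro e
    subst e
    obtain ⟨v, hv, hv1⟩ : ∃ v : (χ j).range, v ∈ stabilizer (χ j).range (pinf : ℙ k (Fin 2 → k)) ∧ v ≠ 1 := by
      have hc := W.card_stab
      haveI : Nontrivial (stabilizer (χ j).range (pinf : ℙ k (Fin 2 → k))) := by
        rw [← Finite.one_lt_card_iff_nontrivial]
        have : 4 * 3 ≤ q * (q - 1) := Nat.mul_le_mul h4 (by omega)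
        omega
      obtain ⟨⟨v, hv⟩, hne⟩ := exists_ne (1 : stabilizer (χ j).range (pinf : ℙ k (Fin 2 → k)))
      exact ⟨v, hv, fun e => hne (Subtype.ext e)⟩
    have hbot : ((⊥ : Subgroup (Matrix.ProjGenLinGroup (Fin 2) F)).map (eP j).toMonoidHom) = ⊥ := Subgroup.map_bot _
    have hco := map_coatom_equiv (eP j) hM
    rw [hbot] at hco
    have htop := hco.2 (stabilizer (χ j).range (pinf : ℙ k (Fin 2 → k)))
      (bot_lt_iff_ne_bot.mpr fun e => hv1 (Subgroup.mem_bot.mp (e ▸ hv)))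
    have hc := W.card_stab
    rw [htop, Subgroup.card_top, mul_one] at hc
    have hG := W.card
    rw [hc, mul_one, mul_assoc] at hG
    have : q * (q - 1) < (q + 1) * (q * (q - 1)) :=
      lt_mul_of_one_lt_left (Nat.mul_pos (by omega) (by omega)) (by omega)
    omega
  have hMW := map_coatom_equiv (eP j) hM
  have hMWne : M.map (eP j).toMonoidHom ≠ ⊥ := fun e => hMbot ((Subgroup.map_eq_bot_iff_of_injective _ (eP j).injective).mp e)
  have hcardW : Nat.card (M.map (eP j).toMonoidHom) = Nat.card M := Subgroup.card_map_of_injective (eP j).injective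
  have fin : (Nat.card (M.map (eP j).toMonoidHom) * 1 = q * (q - 1) ∨
      Full.IsTor (M.map (eP j).toMonoidHom) (ℙ k (Fin 2 → k))) →
      (Nat.card M = q * (q - 1)) ∨ (∃ (a b : ℙ k (Fin 2 → k)) (w g : (χ j).range), a ≠ b ∧ w • a = b ∧ w • b = a ∧
        g ≠ 1 ∧ g • a = a ∧ g • b = b ∧ M.map (eP j).toMonoidHom = pairStab a b) := by
    rintro (h | h)
    · left; rwa [mul_one, hcardW] at h
    · exact Or.inr h
  have hfixed : ∀ z : ℙ k (Fin 2 → k), (∀ m ∈ M, pslMap i2 (ψ2 m) • z = z) → ((Nat.card M = q * (q - 1)) ∨ (∃ (a b : ℙ k (Fin 2 → k)) (w g : (χ j).range), a ≠ b ∧ w • a = b ∧ w • b = a ∧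
        g ≠ 1 ∧ g • a = a ∧ g • b = b ∧ M.map (eP j).toMonoidHom = pairStab a b)) := fun z hz =>
    fin (W.coatom_fix (by omega) h4 hMW hMWne (z := z) (by
      rintro _ ⟨m, hm, rfl⟩
      show χ j m • z = z
      rw [← hψ2]; exact hz m hm))
  have hcyc : IsCyclic M → ((Nat.card M = q * (q - 1)) ∨ (∃ (a b : ℙ k (Fin 2 → k)) (w g : (χ j).range), a ≠ b ∧ w • a = b ∧ w • b = a ∧
        g ≠ 1 ∧ g • a = a ∧ g • b = b ∧ M.map (eP j).toMonoidHom = pairStab a b)) := fun hc => by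
    obtain ⟨g, hg⟩ := hc.exists_generator
    obtain ⟨z, hz⟩ := W.geom.exists_fixed (eP j (g : Matrix.ProjGenLinGroup (Fin 2) F))
    refine hfixed z fun x hx => ?_
    obtain ⟨t, ht⟩ := hg ⟨x, hx⟩
    have ht' : (g : Matrix.ProjGenLinGroup (Fin 2) F) ^ t = x := congrArg Subtype.val ht
    have hmem : eP j x ∈ stabilizer (χ j).range z := by
      rw [← ht', map_zpow]
      exact zpow_mem (show eP j (g : Matrix.ProjGenLinGroup (Fin 2) F) ∈ stabilizer (χ j).range z from hz) t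
    rw [hψ2]
    exact hmem
  rcases PSLDickson.dickson p hF2 (M.map ψ2) with ⟨h, -⟩ | ⟨n, hn, ⟨ψ⟩, -⟩ | ⟨P, h⟩ | ⟨⟨ψ⟩⟩ | ⟨⟨ψ⟩⟩ | ⟨⟨ψ⟩⟩ |
    ⟨K, m, h3, hoddK, hm, ⟨ψ⟩⟩ | ⟨K, m, h3, hm, ⟨ψ⟩⟩
  · haveI := h
    exact (hcyc (isCyclic_of_surjective _ eH.symm.surjective)).imp_right Or.inl
  · rcases Nat.lt_or_ge n 2 with hn2 | hn2
    · have hcard : Nat.card M = 2 := by
        rw [Nat.card_congr (eH.trans ψ).toEquiv, DihedralGroup.nat_card]; omega
      haveI : Fact (Nat.Prime 2) := ⟨Nat.prime_two⟩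
      exact (hcyc (isCyclic_of_prime_card hcard)).imp_right Or.inl
    · exact (fin (W.coatom_dihedral (by omega) h4 hMW hMWne hn2
        (((M.equivMapOfInjective _ (eP j).injective).symm.trans eH).trans ψ))).imp_right Or.inl
  · obtain ⟨z, -, hz⟩ := PSLFull.borel_fix i2 p hF2 P
    exact (hfixed z fun m hm => hz _ (h (Subgroup.mem_map_of_mem ψ2 hm))).imp_right Or.inl
  · exact Or.inr (Or.inr (Or.inl ⟨eH.trans ψ⟩))
  · exact Or.inr (Or.inr (Or.inr (Or.inl ⟨eH.trans ψ⟩)))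
  · exact Or.inr (Or.inr (Or.inr (Or.inr (Or.inl ⟨eH.trans ψ⟩))))
  · exact Or.inr (Or.inr (Or.inr (Or.inr (Or.inr ⟨K, inferInstance, inferInstance, m, h3, hm, Or.inl ⟨hoddK, ⟨eH.trans ψ⟩⟩⟩))))
  · exact Or.inr (Or.inr (Or.inr (Or.inr (Or.inr ⟨K, inferInstance, inferInstance, m, h3, hm, Or.inr ⟨eH.trans ψ⟩⟩))))

end Cfsg.Lib.Classical.PGLFull
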