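import Mathlib
import Cfsg.Agent.Classical.Misc.PGLFull

/-! The subgroup of index two in `PGL₂(q)`, frames and subfield groups. -/

set_option autoImplicit false
set_option linter.unusedSimpArgs false
set_option linter.unusedSectionVars false
set_option linter.style.haveILetI false
set_option linter.flexible false
set_option maxRecDepth 20000

namespace Cfsg.Lib.Classical.PGLMax

open Matrix
open scoped MatrixGroups
open Cfsg.Lib.Classical.PSLFour Cfsg.Lib.Classical.PSLEmbed Cfsg.Lib.Classical.PSLRat Cfsg.Lib.Classical.PSLFrame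
open Cfsg.Lib.Classical.PSLMaxExceptional (perm3 image_perm3 odd_card)

universe u v

local notation "PSL₂" k => Matrix.ProjectiveSpecialLinearGroup (Fin 2) k
local notation "PGL₂" k => Matrix.ProjGenLinGroup (Fin 2) k

section range

variable {F : Type u} [Field F]

/-- The special part. -/
abbrev Lg (F : Type u) [Field F] : Subgroup (PGL₂ F) := (Matrix.ProjectiveSpecialLinearGroup.toPGL (n := Fin 2) (R := F)).range

theorem toPGL_π (s : SL(2, F)) :
    Matrix.ProjectiveSpecialLinearGroup.toPGL (π s) = Matrix.ProjGenLinGroup.mk (Matrix.SpecialLinearGroup.toGL s) := rfl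

theorem range_eq : (Matrix.ProjGenLinGroup.mk.comp Matrix.SpecialLinearGroup.toGL).range = Lg F := by
  ext x
  constructor
  · rintro ⟨s, rfl⟩; exact ⟨π s, rfl⟩
  · rintro ⟨g, rfl⟩
    obtain ⟨s, rfl⟩ := QuotientGroup.mk'_surjective (Subgroup.center SL(2, F)) g
    exact ⟨s, rfl⟩

theorem mem_Lg (Z : GL (Fin 2) F) :
    Matrix.ProjGenLinGroup.mk Z ∈ Lg F ↔ ∃ r : F, r * r = (Z : Matrix (Fin 2) (Fin 2) F).det := by
  constructor
  · rintro ⟨g, hg⟩
    obtain ⟨s, rfl⟩ := QuotientGroup.mk'_surjective (Subgroup.center SL(2, F)) g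
    obtain ⟨u, hu⟩ := Matrix.ProjGenLinGroup.mk_eq_mk_iff.mp hg
    refine ⟨u, ?_⟩
    rw [← hu, Units.val_mul, Matrix.det_mul]
    simp [Matrix.det_fin_two, ← pow_two]
  · rintro ⟨r, hr⟩
    have hd : (Z : Matrix (Fin 2) (Fin 2) F).det ≠ 0 := (Matrix.GeneralLinearGroup.det Z).ne_zero
    have hr0 : r ≠ 0 := fun e => hd (by rw [← hr, e, mul_zero])
    refine ⟨π (sl ((Z : Matrix (Fin 2) (Fin 2) F) 0 0 / r) ((Z : Matrix (Fin 2) (Fin 2) F) 0 1 / r)
      ((Z : Matrix (Fin 2) (Fin 2) F) 1 0 / r) ((Z : Matrix (Fin 2) (Fin 2) F) 1 1 / r) (by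
        field_simp
        rw [← Matrix.det_fin_two, ← hr, pow_two])), ?_⟩
    rw [toPGL_π, Matrix.ProjGenLinGroup.mk_eq_mk_iff]
    refine ⟨Units.mk0 r hr0, Units.ext ?_⟩
    ext a c
    fin_cases a <;> fin_cases c <;> simp [Matrix.mul_apply, Fin.sum_univ_two, sl00, sl01, sl10, sl11, hr0]

theorem sq_mem (x : PGL₂ F) : x * x ∈ Lg F := by
  obtain ⟨Z, rfl⟩ := Matrix.ProjGenLinGroup.mk_surjective x
  rw [← map_mul, mem_Lg]
  exact ⟨(Z : Matrix (Fin 2) (Fin 2) F).det, by rw [Units.val_mul, Matrix.det_mul]⟩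

theorem conj_mem (y : PGL₂ F) {z : PGL₂ F} (hz : z ∈ Lg F) : y * z * y⁻¹ ∈ Lg F := by
  obtain ⟨Y, rfl⟩ := Matrix.ProjGenLinGroup.mk_surjective y
  obtain ⟨Z, rfl⟩ := Matrix.ProjGenLinGroup.mk_surjective z
  obtain ⟨r, hr⟩ := (mem_Lg Z).mp hz
  rw [← map_inv, ← map_mul, ← map_mul, mem_Lg]
  refine ⟨r, ?_⟩
  rw [Units.val_mul, Units.val_mul, Matrix.det_units_conj]
  exact hr

/-- Homomorphisms from groups generated by squares land in the special part. -/
theorem hom_le {A : Type*} [Group A] (f : A →* PGL₂ F) (h : ∀ a : A, ∃ b c : A, a = b * b * (c * c)) (a : A) :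
    f a ∈ Lg F := by
  obtain ⟨b, c, rfl⟩ := h a
  rw [map_mul, map_mul, map_mul]
  exact mul_mem (sq_mem _) (sq_mem _)

/-- The projective special linear group of an odd field lands in the special part. -/
theorem hom_le_psl {K : Type v} [Field K] (h2 : (2 : K) ≠ 0) (f : (PSL₂ K) →* PGL₂ F) (g : PSL₂ K) : f g ∈ Lg F := by
  obtain ⟨s, rfl⟩ := QuotientGroup.mk'_surjective (Subgroup.center SL(2, K)) g
  set S : Subgroup SL(2, K) := (Lg F).comap (f.comp π) with hS
  have hU : ∀ x : K, sl 1 x 0 1 (by ring) ∈ S := fun x => by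
    have e : sl 1 x 0 1 (by ring) = sl 1 (x / 2) 0 1 (by ring) * sl 1 (x / 2) 0 1 (by ring) := by
      refine ext_four ?_ ?_ ?_ ?_ <;> simp [val_mul, sl00, sl01, sl10, sl11] <;> field_simp <;> ring
    show (f.comp π) _ ∈ Lg F
    rw [e, map_mul]
    exact sq_mem _
  have hL : ∀ x : K, sl 1 0 x 1 (by ring) ∈ S := fun x => by
    have e : sl 1 0 x 1 (by ring) = sl 1 0 (x / 2) 1 (by ring) * sl 1 0 (x / 2) 1 (by ring) := by
      refine ext_four ?_ ?_ ?_ ?_ <;> simp [val_mul, sl00, sl01, sl10, sl11] <;> field_simp <;> ring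
    show (f.comp π) _ ∈ Lg F
    rw [e, map_mul]
    exact sq_mem _
  have hne : ∀ t : SL(2, K), t.1 1 0 ≠ 0 → t ∈ S := fun t hc => by
    have e : t = sl 1 ((t.1 0 0 - 1) / t.1 1 0) 0 1 (by ring) * sl 1 0 (t.1 1 0) 1 (by ring) *
        sl 1 ((t.1 1 1 - 1) / t.1 1 0) 0 1 (by ring) := by
      have hd := det_eq_one t
      refine ext_four ?_ ?_ ?_ ?_ <;> simp [val_mul, sl00, sl01, sl10, sl11] <;> field_simp <;>
        first | ring1 | linear_combination hd | linear_combination -hd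
    rw [e]
    exact mul_mem (mul_mem (hU _) (hL _)) (hU _)
  show s ∈ S
  by_cases hc : s.1 1 0 = 0
  · have hd := det_eq_one s
    rw [hc, mul_zero, sub_zero] at hd
    have h11 : s.1 1 1 ≠ 0 := right_ne_zero_of_mul_eq_one hd
    have := hne (s * sl 1 0 1 1 (by ring)) (by rw [val_mul]; simp [hc, sl10, sl00, h11])
    exact (Subgroup.mul_mem_cancel_right S (hL 1)).mp this
  · exact hne s hc

variable [Fintype F]

instance instFinitePGL : Finite (PGL₂ F) := Finite.of_surjective _ Matrix.ProjGenLinGroup.mk_surjective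

instance instFinitePSL : Finite (PSL₂ F) :=
  Finite.of_surjective _ (QuotientGroup.mk'_surjective (Subgroup.center SL(2, F)))

theorem two_card (hodd : Odd (Fintype.card F)) : Nat.card (PSL₂ F) * 2 = Nat.card (PGL₂ F) := by
  rw [PSLBounds.card_pgl_two, mul_comm, ← SmallPSL.card_psl (F := F) rfl]
  congr 1
  exact (Nat.gcd_eq_left (by obtain ⟨t, ht⟩ := hodd; omega)).symm

theorem card_Lg : Nat.card (Lg F) = Nat.card (PSL₂ F) :=
  (Nat.card_congr (MonoidHom.ofInjective Matrix.ProjectiveSpecialLinearGroup.toPGL_injective).toEquiv).symm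

theorem index_Lg (hodd : Odd (Fintype.card F)) : (Lg F).index = 2 := by
  have h := (Lg F).card_mul_index
  rw [← two_card hodd, card_Lg] at h
  exact Nat.eq_of_mul_eq_mul_left Nat.card_pos h

theorem normal_Lg : (Lg F).Normal := ⟨fun _ hz y => conj_mem y hz⟩

variable {M : Subgroup (PGL₂ F)}

theorem not_le_Lg (hodd : Odd (Fintype.card F)) (hM : IsCoatom M) (hML : ¬ Lg F ≤ M) : ¬ M ≤ Lg F := by
  intro h
  rcases h.eq_or_lt with e | e
  · exact hML e.ge
  · have := hM.2 _ e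
    have h2 := index_Lg hodd
    rw [this, Subgroup.index_top] at h2
    omega

/-- The special part of a maximal subgroup. -/
abbrev meet (M : Subgroup (PGL₂ F)) : Subgroup (PSL₂ F) := M.comap Matrix.ProjectiveSpecialLinearGroup.toPGL

theorem map_meet : (meet M).map Matrix.ProjectiveSpecialLinearGroup.toPGL = M ⊓ Lg F := by
  rw [Subgroup.map_comap_eq, inf_comm]

theorem card_meet (hodd : Odd (Fintype.card F)) (hM : IsCoatom M) (hML : ¬ Lg F ≤ M) :
    Nat.card (meet M) * 2 = Nat.card M := by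
  haveI := normal_Lg (F := F)
  have hsup : M ⊔ Lg F = ⊤ := hM.2 _ (lt_of_le_of_ne le_sup_left fun e => hML (e ▸ le_sup_right))
  have h1 : (Lg F).relIndex M = 2 := by
    rw [← Subgroup.relIndex_sup_right, hsup, Subgroup.relIndex_top_right, index_Lg hodd]
  have h2 : Nat.card (M ⊓ Lg F : Subgroup (PGL₂ F)) * (Lg F).relIndex M = Nat.card M := by
    rw [← Subgroup.inf_relIndex_left, Subgroup.relIndex,
      ← Nat.card_congr (Subgroup.subgroupOfEquivOfLe (inf_le_left : M ⊓ Lg F ≤ M)).toEquiv]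
    exact Subgroup.card_mul_index _
  rw [h1, ← map_meet, Subgroup.card_map_of_injective Matrix.ProjectiveSpecialLinearGroup.toPGL_injective] at h2
  exact h2

theorem meet_ne_top (hML : ¬ Lg F ≤ M) : meet M ≠ ⊤ := fun e => hML (by
  rintro _ ⟨g, rfl⟩
  exact (show g ∈ meet M from e ▸ Subgroup.mem_top g))

/-- What normalises the special part lies in the maximal subgroup. -/
theorem normalizing_mem (h4 : 4 ≤ Fintype.card F) (hM : IsCoatom M) (hML : ¬ Lg F ≤ M) (hne : meet M ≠ ⊥) {y : PGL₂ F}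
    (hy : y ∈ Subgroup.normalizer ((M ⊓ Lg F : Subgroup (PGL₂ F)) : Set (PGL₂ F))) : y ∈ M := by
  haveI := normal_Lg (F := F)
  have hle : M ≤ Subgroup.normalizer ((M ⊓ Lg F : Subgroup (PGL₂ F)) : Set (PGL₂ F)) := by
    intro m hm
    refine Subgroup.mem_normalizer_fintype fun z hz => ?_
    exact ⟨M.mul_mem (M.mul_mem hm hz.1) (M.inv_mem hm), conj_mem m hz.2⟩
  rcases hle.eq_or_lt with e | e
  · exact e.symm ▸ hy
  exfalso
  have htop := hM.2 _ e
  haveI := Cfsg.Lib.Classical.isSimpleGroup_PSL_fin (F := F) (n := 2) le_rfl (fun _ => by rwa [Nat.card_eq_fintype_card])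
  have hn : (meet M).Normal := ⟨fun v hv x => by
    have hx : Matrix.ProjectiveSpecialLinearGroup.toPGL x ∈
        Subgroup.normalizer ((M ⊓ Lg F : Subgroup (PGL₂ F)) : Set (PGL₂ F)) := htop ▸ Subgroup.mem_top _
    have := (Subgroup.mem_normalizer_iff.mp hx (Matrix.ProjectiveSpecialLinearGroup.toPGL v)).mp ⟨hv, v, rfl⟩
    rw [← map_inv, ← map_mul, ← map_mul] at this
    exact this.1⟩
  exact hn.eq_bot_or_eq_top.elim hne (meet_ne_top hML)

/-- A group on a half of the orders is the special part. -/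
theorem part_iso (hodd : Odd (Fintype.card F)) (hM : IsCoatom M) (hML : ¬ Lg F ≤ M) {A : Type v} [Group A]
    (f : A →* PGL₂ F) (hf : Function.Injective f) (hfM : ∀ a, f a ∈ M) (hfL : ∀ a, f a ∈ Lg F)
    (hc : Nat.card A * 2 = Nat.card M) : Nonempty (meet M ≃* A) := by
  let eR : (PSL₂ F) ≃* Lg F := MonoidHom.ofInjective Matrix.ProjectiveSpecialLinearGroup.toPGL_injective
  let g : A →* PSL₂ F := eR.symm.toMonoidHom.comp (f.codRestrict _ hfL)
  have hg : ∀ a, Matrix.ProjectiveSpecialLinearGroup.toPGL (g a) = f a := fun a =>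
    congrArg Subtype.val (eR.apply_symm_apply _)
  have hginj : Function.Injective g := fun a b e => hf (by rw [← hg, ← hg, e])
  have hle : g.range ≤ meet M := by
    rintro _ ⟨a, rfl⟩
    show Matrix.ProjectiveSpecialLinearGroup.toPGL (g a) ∈ M
    rw [hg]; exact hfM a
  have heq := Subgroup.eq_of_le_of_card_ge hle (by
    rw [← Nat.card_congr (MonoidHom.ofInjective hginj).toEquiv]
    have := card_meet hodd hM hML
    omega)
  exact ⟨((MonoidHom.ofInjective hginj).trans (MulEquiv.subgroupCongr heq)).symm⟩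

end range

section frame

variable {F : Type u} [Field F]

/-- A matrix carrying the frame to rational matrices is rational up to a scalar. -/
theorem gl_rat {K : Type v} [Field K] (φ : K →+* F) (h2 : (2 : F) ≠ 0) (a b : K) (hab : φ a ^ 2 + φ b ^ 2 = -1)
    (Y Yi : Matrix (Fin 2) (Fin 2) F) (hYi : Y * Yi = 1)
    (hJ : ∀ r c, ∃ y, (Y * (JM (F := F)) * Yi) r c = φ y)
    (hB : ∀ r c, ∃ y, (Y * BM (φ a) (φ b) * Yi) r c = φ y)
    (hJB : ∀ r c, ∃ y, (Y * ((JM (F := F)) * BM (φ a) (φ b)) * Yi) r c = φ y) :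
    ∃ ρ : F, ρ ≠ 0 ∧ ∀ r c, ∃ y, Y r c * ρ = φ y := by
  set R : Subfield F := φ.fieldRange
  have hmem : ∀ {z : F}, (∃ y, z = φ y) → z ∈ R := fun ⟨y, hy⟩ => ⟨y, hy.symm⟩
  have hid : ∀ r c, (Y * (1 : Matrix (Fin 2) (Fin 2) F) * Yi) r c ∈ R := fun r c => by
    rw [Matrix.mul_one, hYi]
    fin_cases r <;> fin_cases c <;> simp [one_mem, zero_mem]
  have hφ : ∀ y, φ y ∈ R := fun y => ⟨y, rfl⟩
  have h2R : (2 : F) ∈ R := by rw [show (2 : F) = φ 2 from (map_ofNat φ 2).symm]; exact hφ _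
  have hlin : ∀ (r c : Fin 2) (x0 x1 x2 x3 : F), x0 ∈ R → x1 ∈ R → x2 ∈ R → x3 ∈ R →
      (Y * (x0 • (1 : Matrix (Fin 2) (Fin 2) F) + x1 • (JM (F := F)) + x2 • BM (φ a) (φ b) +
        x3 • ((JM (F := F)) * BM (φ a) (φ b))) * Yi) r c ∈ R := by
    intro r c x0 x1 x2 x3 m0 m1 m2 m3
    simp only [Matrix.mul_add, Matrix.add_mul, Matrix.mul_smul, Matrix.smul_mul, Matrix.add_apply,
      Matrix.smul_apply, smul_eq_mul]
    exact add_mem (add_mem (add_mem (mul_mem m0 (hid r c)) (mul_mem m1 (hmem (hJ r c))))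
      (mul_mem m2 (hmem (hB r c)))) (mul_mem m3 (hmem (hJB r c)))
  have hh : ∀ z ∈ R, z / 2 ∈ R := fun z hz => div_mem hz h2R
  have hprod : ∀ r p q c, Y r p * Yi q c ∈ R := by
    intro r p q c
    have hs : (Y * Matrix.single p q (1 : F) * Yi) r c ∈ R := by
      fin_cases p <;> fin_cases q <;> simp only [Fin.zero_eta, Fin.mk_one]
      · have e : Matrix.single (0 : Fin 2) (0 : Fin 2) (1 : F) = (1 / 2 : F) • (1 : Matrix (Fin 2) (Fin 2) F) +
            (0 : F) • JM + (-φ a / 2) • BM (φ a) (φ b) + (-φ b / 2) • (JM * BM (φ a) (φ b)) := by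
          ext i j
          fin_cases i <;> fin_cases j <;> simp [JM, BM, Matrix.single, Matrix.mul_apply, Fin.sum_univ_two] <;>
            field_simp <;> (first | ring1 | linear_combination hab | linear_combination -hab)
        rw [e]
        exact hlin r c _ _ _ _ (hh _ (one_mem R)) (zero_mem R) (hh _ (neg_mem (hφ a))) (hh _ (neg_mem (hφ b)))
      · have e : Matrix.single (0 : Fin 2) (1 : Fin 2) (1 : F) = (0 : F) • (1 : Matrix (Fin 2) (Fin 2) F) +
            (1 / 2 : F) • JM + (-φ b / 2) • BM (φ a) (φ b) + (φ a / 2) • (JM * BM (φ a) (φ b)) := by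
          ext i j
          fin_cases i <;> fin_cases j <;> simp [JM, BM, Matrix.single, Matrix.mul_apply, Fin.sum_univ_two] <;>
            field_simp <;> (first | ring1 | linear_combination hab | linear_combination -hab)
        rw [e]
        exact hlin r c _ _ _ _ (zero_mem R) (hh _ (one_mem R)) (hh _ (neg_mem (hφ b))) (hh _ (hφ a))
      · have e : Matrix.single (1 : Fin 2) (0 : Fin 2) (1 : F) = (0 : F) • (1 : Matrix (Fin 2) (Fin 2) F) +
            (-1 / 2 : F) • JM + (-φ b / 2) • BM (φ a) (φ b) + (φ a / 2) • (JM * BM (φ a) (φ b)) := by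
          ext i j
          fin_cases i <;> fin_cases j <;> simp [JM, BM, Matrix.single, Matrix.mul_apply, Fin.sum_univ_two] <;>
            field_simp <;> (first | ring1 | linear_combination hab | linear_combination -hab)
        rw [e]
        exact hlin r c _ _ _ _ (zero_mem R) (hh _ (neg_mem (one_mem R))) (hh _ (neg_mem (hφ b))) (hh _ (hφ a))
      · have e : Matrix.single (1 : Fin 2) (1 : Fin 2) (1 : F) = (1 / 2 : F) • (1 : Matrix (Fin 2) (Fin 2) F) +
            (0 : F) • JM + (φ a / 2) • BM (φ a) (φ b) + (φ b / 2) • (JM * BM (φ a) (φ b)) := by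
          ext i j
          fin_cases i <;> fin_cases j <;> simp [JM, BM, Matrix.single, Matrix.mul_apply, Fin.sum_univ_two] <;>
            field_simp <;> (first | ring1 | linear_combination hab | linear_combination -hab)
        rw [e]
        exact hlin r c _ _ _ _ (hh _ (one_mem R)) (zero_mem R) (hh _ (hφ a)) (hh _ (hφ b))
    rwa [Matrix.mul_apply, Fin.sum_univ_two, Matrix.mul_apply, Matrix.mul_apply, Fin.sum_univ_two, Fin.sum_univ_two,
      show (Y r 0 * Matrix.single p q (1 : F) 0 0 + Y r 1 * Matrix.single p q (1 : F) 1 0) * Yi 0 c +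
        (Y r 0 * Matrix.single p q (1 : F) 0 1 + Y r 1 * Matrix.single p q (1 : F) 1 1) * Yi 1 c =
        Y r p * Yi q c by fin_cases p <;> fin_cases q <;> simp [Matrix.single]] at hs
  obtain ⟨q₀, c₀, h0⟩ : ∃ q c, Yi q c ≠ 0 := by
    by_contra hall
    push Not at hall
    have := congrFun (congrFun hYi 0) 0
    simp [Matrix.mul_apply, hall] at this
  exact ⟨Yi q₀ c₀, h0, fun r c => by
    obtain ⟨y, hy⟩ := hprod r c q₀ c₀
    exact ⟨y, hy.symm⟩⟩

/-- The standard four-group. -/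
def sJ : SL(2, F) := sl 0 1 (-1) 0 (by ring)

/-- The second element. -/
def sB (a b : F) (h : a ^ 2 + b ^ 2 = -1) : SL(2, F) := sl a b b (-a) (by linear_combination -h)

theorem sJ_val : (sJ (F := F)).1 = JM := by
  ext r c; fin_cases r <;> fin_cases c <;> simp [sJ, JM, sl00, sl01, sl10, sl11]

theorem sB_val (a b : F) (h : a ^ 2 + b ^ 2 = -1) : (sB a b h).1 = BM a b := by
  ext r c; fin_cases r <;> fin_cases c <;> simp [sB, BM, sl00, sl01, sl10, sl11]

/-- The first standard involution. -/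
abbrev jP : PGL₂ F := Matrix.ProjGenLinGroup.mk (Matrix.SpecialLinearGroup.toGL sJ)

/-- The second standard involution. -/
abbrev bP (a b : F) (h : a ^ 2 + b ^ 2 = -1) : PGL₂ F :=
  Matrix.ProjGenLinGroup.mk (Matrix.SpecialLinearGroup.toGL (sB a b h))

/-- Equality with a scalar. -/
theorem mk_eq_scalar {X W : GL (Fin 2) F} (h : Matrix.ProjGenLinGroup.mk X = Matrix.ProjGenLinGroup.mk W) :
    ∃ u : F, u ≠ 0 ∧ ∀ r c, (X : Matrix (Fin 2) (Fin 2) F) r c * u = (W : Matrix (Fin 2) (Fin 2) F) r c := by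
  obtain ⟨u, hu⟩ := Matrix.ProjGenLinGroup.mk_eq_mk_iff.mp h
  refine ⟨u, u.ne_zero, fun r c => ?_⟩
  rw [← hu]
  fin_cases r <;> fin_cases c <;> simp [Matrix.mul_apply, Fin.sum_univ_two]

variable [Fintype F]

theorem perm3_ne_top (h4 : 4 ≤ Fintype.card F) (a b : F) (h : a ^ 2 + b ^ 2 = -1) :
    perm3 (jP (F := F)) (bP a b h) ≠ ⊤ := by
  classical
  intro e
  obtain ⟨t, ht⟩ : ∃ t : F, t ∉ ({0, a / b, -b / a} : Finset F) := by
    by_contra hall
    push Not at hall
    have h1 : (Finset.univ : Finset F).card ≤ ({0, a / b, -b / a} : Finset F).card :=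
      Finset.card_le_card fun x _ => hall x
    have h2 := Finset.card_le_three (a := (0 : F)) (b := a / b) (c := -b / a)
    rw [Finset.card_univ] at h1
    omega
  simp only [Finset.mem_insert, Finset.mem_singleton, not_or] at ht
  obtain ⟨ht0, htB, htJB⟩ := ht
  set T : SL(2, F) := sl 1 t 0 1 (by ring) with hT
  have hmem : Matrix.ProjGenLinGroup.mk (Matrix.SpecialLinearGroup.toGL T) ∈ perm3 (jP (F := F)) (bP a b h) :=
    e ▸ Subgroup.mem_top _
  have hv := hmem jP (Or.inl rfl)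
  rw [← map_inv, ← map_inv, ← map_mul, ← map_mul, ← map_mul, ← map_mul, ← map_mul, ← map_mul] at hv
  have hval : ∀ r c, (Matrix.SpecialLinearGroup.toGL (T * sJ * T⁻¹) : Matrix (Fin 2) (Fin 2) F) r c =
      (!![-t, 1 + t ^ 2; -1, t] : Matrix (Fin 2) (Fin 2) F) r c := by
    intro r c
    show (T * sJ * T⁻¹).1 r c = _
    rw [val_mul, val_mul, val_mul, Matrix.SpecialLinearGroup.coe_inv, Matrix.adjugate_fin_two]
    fin_cases r <;> fin_cases c <;> simp [hT, sJ, sl00, sl01, sl10, sl11] <;> ring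
  have key : ∀ W : SL(2, F), Matrix.ProjGenLinGroup.mk (Matrix.SpecialLinearGroup.toGL (T * sJ * T⁻¹)) =
      Matrix.ProjGenLinGroup.mk (Matrix.SpecialLinearGroup.toGL W) →
      ∃ u : F, u ≠ 0 ∧ -t * u = W.1 0 0 ∧ -u = W.1 1 0 := by
    intro W hW
    obtain ⟨u, hu0, hu⟩ := mk_eq_scalar hW
    refine ⟨u, hu0, ?_, ?_⟩
    · have := hu 0 0
      rw [hval] at this
      simpa using this
    · have := hu 1 0
      rw [hval] at this
      simpa using this
  rcases hv with hv | hv | hv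
  · obtain ⟨u, hu0, h00, h10⟩ := key sJ hv
    simp [sJ, sl00] at h00
    exact h00.elim ht0 hu0
  · obtain ⟨u, hu0, h00, h10⟩ := key (sB a b h) hv
    simp [sB, sl00, sl10] at h00 h10
    exact htB (by rw [← h00, ← h10]; field_simp)
  · obtain ⟨u, hu0, h00, h10⟩ := key (sJ * sB a b h) hv
    simp [sJ, sB, val_mul, sl00, sl01, sl10, sl11] at h00 h10
    exact htJB (by rw [← h00, ← h10]; field_simp)

/-- Commuting involutions in the special part can be moved to the standard ones. -/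
theorem exists_framed (p : ℕ) [Fact p.Prime] [CharP F p] (hp : p ≠ 2) (u v : PGL₂ F) (hu : u ∈ Lg F) (hv : v ∈ Lg F)
    (hu2 : u * u = 1) (hv2 : v * v = 1) (huv : u * v = v * u) (hu1 : u ≠ 1) (hv1 : v ≠ 1) (hne : u ≠ v)
    (a b : F) (h : a ^ 2 + b ^ 2 = -1) :
    ∃ y : PGL₂ F, y * u * y⁻¹ = jP ∧ y * v * y⁻¹ = bP a b h := by
  obtain ⟨hodd, h2⟩ := odd_card (F := F) p hp
  obtain ⟨u, rfl⟩ := hu
  obtain ⟨v, rfl⟩ := hv
  have hi := Matrix.ProjectiveSpecialLinearGroup.toPGL_injective (n := Fin 2) (R := F)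
  obtain ⟨g, k, hg, hk, hpair⟩ := lift_pair hodd (a := u) (b := v) (hi (by rw [map_mul, hu2, map_one]))
    (hi (by rw [map_mul, hv2, map_one])) (hi (by rw [map_mul, map_mul, huv])) (fun e => hu1 (by rw [e, map_one]))
    (fun e => hv1 (by rw [e, map_one])) (fun e => hne (by rw [e]))
  obtain ⟨c, hc, hgc, hkc⟩ := exists_basis g k hpair.1 hpair.2.1 hpair.2.2 h2 h
  let U : GL (Fin 2) F := Matrix.GeneralLinearGroup.mkOfDetNeZero c hc
  have conj : ∀ (x : SL(2, F)) (W : SL(2, F)), x.1 * c = c * W.1 →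
      U⁻¹ * Matrix.SpecialLinearGroup.toGL x * U = Matrix.SpecialLinearGroup.toGL W := by
    intro x W e
    rw [mul_assoc, inv_mul_eq_iff_eq_mul]
    exact Units.ext e
  refine ⟨(Matrix.ProjGenLinGroup.mk U)⁻¹, ?_, ?_⟩
  · rw [← hg, toPGL_π, inv_inv, ← map_inv, ← map_mul, ← map_mul, conj g sJ (by rw [sJ_val]; exact hgc)]
  · rw [← hk, toPGL_π, inv_inv, ← map_inv, ← map_mul, ← map_mul, conj k (sB a b h) (by rw [sB_val]; exact hkc)]

end frame

section subfield

variable {F : Type u} [Field F] [Fintype F] {K : Type v} [Field K] [Fintype K]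

theorem map_injective (φ : K →+* F) : Function.Injective (Matrix.ProjGenLinGroup.map (n := Fin 2) φ) := by
  rw [injective_iff_map_eq_one]
  intro x hx
  obtain ⟨Z, rfl⟩ := Matrix.ProjGenLinGroup.mk_surjective x
  rw [Matrix.ProjGenLinGroup.map_mk, Matrix.ProjGenLinGroup.mk_eq_one,
    Matrix.GeneralLinearGroup.center_eq_range_scalar] at hx
  obtain ⟨u, hu⟩ := hx
  have he : ∀ r c, φ ((Z : Matrix (Fin 2) (Fin 2) K) r c) = Matrix.scalar (Fin 2) (u : F) r c := fun r c => by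
    have := congrArg (fun X : GL (Fin 2) F => (X : Matrix (Fin 2) (Fin 2) F) r c) hu
    simpa [Matrix.GeneralLinearGroup.map_apply] using this.symm
  rw [Matrix.ProjGenLinGroup.mk_eq_one, Matrix.GeneralLinearGroup.center_eq_range_scalar]
  have h00 := he 0 0
  have h11 := he 1 1
  have h01 := he 0 1
  have h10 := he 1 0
  simp at h00 h11 h01 h10
  refine ⟨Units.mk0 ((Z : Matrix (Fin 2) (Fin 2) K) 0 0) (fun e => u.ne_zero (by rw [← h00, e, map_zero])),
    Units.ext ?_⟩
  ext r c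
  fin_cases r <;> fin_cases c <;> simp [h01, h10]
  exact φ.injective (h00.trans h11.symm)

theorem card_map (φ : K →+* F) :
    Nat.card (Matrix.ProjGenLinGroup.map (n := Fin 2) φ).range = Fintype.card K * (Fintype.card K ^ 2 - 1) := by
  rw [← Nat.card_congr (MonoidHom.ofInjective (map_injective φ)).toEquiv, PSLBounds.card_pgl_two]

/-- Recognising the elements over the subfield. -/
theorem mem_map (φ : K →+* F) (Z : GL (Fin 2) F) (ρ : F) (hρ : ρ ≠ 0)
    (h : ∀ r c, ∃ y, (Z : Matrix (Fin 2) (Fin 2) F) r c * ρ = φ y) :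
    Matrix.ProjGenLinGroup.mk Z ∈ (Matrix.ProjGenLinGroup.map (n := Fin 2) φ).range := by
  choose y hy using h
  have hd : φ (y 0 0 * y 1 1 - y 0 1 * y 1 0) = (Z : Matrix (Fin 2) (Fin 2) F).det * (ρ * ρ) := by
    rw [map_sub, map_mul, map_mul, ← hy, ← hy, ← hy, ← hy, Matrix.det_fin_two]; ring
  let Y : GL (Fin 2) K := Matrix.GeneralLinearGroup.mkOfDetNeZero !![y 0 0, y 0 1; y 1 0, y 1 1] (by
    intro e
    rw [Matrix.det_fin_two_of] at e
    rw [e, map_zero] at hd
    exact mul_ne_zero (Matrix.GeneralLinearGroup.det Z).ne_zero (mul_ne_zero hρ hρ) hd.symm)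
  refine ⟨Matrix.ProjGenLinGroup.mk Y, ?_⟩
  rw [Matrix.ProjGenLinGroup.map_mk, eq_comm, Matrix.ProjGenLinGroup.mk_eq_mk_iff]
  refine ⟨Units.mk0 ρ hρ, Units.ext ?_⟩
  ext r c
  fin_cases r <;> fin_cases c <;> simp [Matrix.mul_apply, Fin.sum_univ_two, Y, ← hy]

theorem rat_le_map (φ : K →+* F) {g : PSL₂ F} (hg : g ∈ rat φ) :
    Matrix.ProjectiveSpecialLinearGroup.toPGL g ∈ (Matrix.ProjGenLinGroup.map (n := Fin 2) φ).range := by
  obtain ⟨s, ρ, hρ, rfl, hs⟩ := hg
  exact mem_map φ (Matrix.SpecialLinearGroup.toGL s) ρ hρ hs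

theorem perm3_le_map (φ : K →+* F) (h2 : (2 : F) ≠ 0) (a b : K) (hab : φ a ^ 2 + φ b ^ 2 = -1) :
    perm3 (jP (F := F)) (bP (φ a) (φ b) hab) ≤ (Matrix.ProjGenLinGroup.map (n := Fin 2) φ).range := by
  intro x hx
  obtain ⟨Z, rfl⟩ := Matrix.ProjGenLinGroup.mk_surjective x
  set Y : Matrix (Fin 2) (Fin 2) F := (Z : Matrix (Fin 2) (Fin 2) F)
  set Yi : Matrix (Fin 2) (Fin 2) F := (↑(Z⁻¹) : Matrix (Fin 2) (Fin 2) F)
  have hrat : ∀ (W : SL(2, F)) (V : SL(2, F)), (∀ r c, ∃ y, V.1 r c = φ y) →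
      Matrix.ProjGenLinGroup.mk (Z * Matrix.SpecialLinearGroup.toGL W * Z⁻¹) =
        Matrix.ProjGenLinGroup.mk (Matrix.SpecialLinearGroup.toGL V) →
      ∀ r c, ∃ y, (Y * W.1 * Yi) r c = φ y := by
    intro W V hV e r c
    obtain ⟨u, hu0, hu⟩ := mk_eq_scalar e
    have hu' : ∀ r c, (Y * W.1 * Yi) r c * u = V.1 r c := fun r c => hu r c
    have hd : (Y * W.1 * Yi).det = 1 := by
      show ((Z : Matrix (Fin 2) (Fin 2) F) * W.1 * (↑(Z⁻¹) : Matrix (Fin 2) (Fin 2) F)).det = 1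
      rw [Matrix.det_units_conj, W.2]
    have h1 : u * u = 1 := by
      have hV1 := det_eq_one V
      rw [← hu', ← hu', ← hu', ← hu'] at hV1
      rw [Matrix.det_fin_two] at hd
      linear_combination hV1 - u * u * hd
    obtain ⟨y, hy⟩ := hV r c
    rcases mul_self_eq_one_iff.mp h1 with e | e
    · exact ⟨y, by rw [← hy, ← hu', e, mul_one]⟩
    · exact ⟨-y, by rw [map_neg, ← hy, ← hu', e, mul_neg_one, neg_neg]⟩
  have hJ : ∀ r c, ∃ y, (sJ (F := F)).1 r c = φ y := fun r c => ⟨(sJ (F := K)).1 r c, by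
    fin_cases r <;> fin_cases c <;> simp [sJ, sl00, sl01, sl10, sl11]⟩
  have hB : ∀ r c, ∃ y, (sB (φ a) (φ b) hab).1 r c = φ y := fun r c => ⟨BM a b r c, by
    fin_cases r <;> fin_cases c <;> simp [sB, BM, sl00, sl01, sl10, sl11]⟩
  have hJB : ∀ r c, ∃ y, (sJ * sB (φ a) (φ b) hab).1 r c = φ y := fun r c => ⟨((JM (F := K)) * BM a b) r c, by
    rw [val_mul]
    fin_cases r <;> fin_cases c <;> simp [sJ, sB, JM, BM, sl00, sl01, sl10, sl11, Matrix.mul_apply, Fin.sum_univ_two]⟩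
  have hall : ∀ W : SL(2, F), (Matrix.ProjGenLinGroup.mk (Matrix.SpecialLinearGroup.toGL W) = jP ∨
      Matrix.ProjGenLinGroup.mk (Matrix.SpecialLinearGroup.toGL W) = bP (φ a) (φ b) hab ∨
      Matrix.ProjGenLinGroup.mk (Matrix.SpecialLinearGroup.toGL W) = jP * bP (φ a) (φ b) hab) →
      ∀ r c, ∃ y, (Y * W.1 * Yi) r c = φ y := by
    intro W hW
    have := hx _ hW
    rw [← map_inv, ← map_mul, ← map_mul] at this
    rcases this with e | e | e
    · exact hrat W _ hJ e
    · exact hrat W _ hB e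
    · rw [← map_mul, ← map_mul] at e; exact hrat W _ hJB e
  obtain ⟨ρ, hρ, hy⟩ := gl_rat φ h2 a b hab Y Yi (Units.mul_inv Z)
    (by have := hall sJ (Or.inl rfl); rwa [sJ_val] at this)
    (by have := hall (sB (φ a) (φ b) hab) (Or.inr (Or.inl rfl)); rwa [sB_val] at this)
    (by
      have := hall (sJ * sB (φ a) (φ b) hab) (Or.inr (Or.inr (by rw [map_mul, map_mul])))
      rwa [Matrix.SpecialLinearGroup.coe_mul, sJ_val, sB_val] at this)
  exact mem_map φ Z ρ hρ hy

theorem map_ne_top (φ : K →+* F) {q P r : ℕ} (hF : Fintype.card F = q) (hK : Fintype.card K = P) (hr : 2 ≤ r)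
    (hP : P ^ r = q) : (Matrix.ProjGenLinGroup.map (n := Fin 2) φ).range ≠ ⊤ := by
  intro e
  have h := card_map φ
  rw [e, Subgroup.card_top, PSLBounds.card_pgl_two, hF, hK] at h
  have hP2 : 2 ≤ P := hK ▸ Fintype.one_lt_card
  have hlt : P < q := hP ▸ lt_self_pow₀ (by omega) (by omega)
  exact hlt.not_ge (PSLMaxExceptional.mono_P (by omega) h.le)

end subfield

end Cfsg.Lib.Classical.PGLMax
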