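import Mathlib
import Cfsg.Agent.Classical.Misc.PGLMaxBase

/-! The maximal subgroups of `PGL₂(q)`, `q` odd. -/

set_option autoImplicit false
set_option linter.unusedSimpArgs false
set_option linter.unusedSectionVars false
set_option linter.style.haveILetI false
set_option linter.flexible false
set_option maxRecDepth 20000

namespace Cfsg.Lib.Classical.PGLMax

open Matrix MulAction
open scoped MatrixGroups LinearAlgebra.Projectivization
open Cfsg.Lib.Classical.PSLFour Cfsg.Lib.Classical.PSLMaxPoints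
open Cfsg.Lib.Classical.PSLMaxExceptional (perm3 image_perm3 odd_card pa pb sa_facts sym_perm3 exists_framed)
open Cfsg.Lib.Classical.SharpGeom (pairStab)

universe u v

local notation "PSL₂" k => Matrix.ProjectiveSpecialLinearGroup (Fin 2) k
local notation "PGL₂" k => Matrix.ProjGenLinGroup (Fin 2) k

theorem squares_four : ∀ a : alternatingGroup (Fin 4), ∃ b c : alternatingGroup (Fin 4), a = b * b * (c * c) := by
  decide +kernel

theorem squares_five : ∀ a : alternatingGroup (Fin 5), ∃ b c : alternatingGroup (Fin 5), a = b * b * (c * c) := by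
  decide +kernel

theorem four_squares : (∃ t : Equiv.Perm (Fin 4), t * t = (pa : Equiv.Perm (Fin 4))) ∧
    ∃ t : Equiv.Perm (Fin 4), t * t = (pb : Equiv.Perm (Fin 4)) := by decide +kernel

theorem pgl_three {K : Type} [Field K] [Fintype K] (hK : Fintype.card K = 3) :
    Nonempty ((PGL₂ K) ≃* Equiv.Perm (Fin 4)) :=
  SmallPSL.perm_iso (SmallPSL.card_line hK) _ SmallPSL.pgl_injective (by rw [PSLBounds.card_pgl_two, hK]; rfl)

variable {F : Type u} [Field F] [Fintype F] {q : ℕ}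

theorem false_of_le_Lg (hodd : Odd (Fintype.card F)) {M : Subgroup (PGL₂ F)} (hM : IsCoatom M) (hML : ¬ Lg F ≤ M)
    {A : Type v} [Group A] (ψ : M ≃* A) (h : ∀ (f : A →* PGL₂ F) (a : A), f a ∈ Lg F) : False := by
  refine not_le_Lg hodd hM hML fun m hm => ?_
  have := h (M.subtype.comp ψ.symm.toMonoidHom) (ψ ⟨m, hm⟩)
  simpa using this

theorem card_meet_ne_bot {M : Subgroup (PGL₂ F)} (hodd : Odd (Fintype.card F)) (hM : IsCoatom M) (hML : ¬ Lg F ≤ M)
    (h : 2 < Nat.card M) : meet M ≠ ⊥ := fun e => by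
  have := card_meet hodd hM hML
  rw [e, Subgroup.card_bot] at this
  omega

/-- For five elements there is no maximal subgroup of order eight. -/
theorem five_no_eight (hF : Fintype.card F = 5) {M : Subgroup (PGL₂ F)} (hM : IsCoatom M) (hML : ¬ Lg F ≤ M)
    (h8 : Nat.card M = 8) : False := by
  have hodd : Odd (Fintype.card F) := by rw [hF]; decide
  have hc : Nat.card (meet M) = 4 := by have := card_meet hodd hM hML; omega
  have hne := card_meet_ne_bot hodd hM hML (by omega)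
  have hG : Nat.card (PSL₂ F) = 60 := by
    have := two_card hodd
    rw [PSLBounds.card_pgl_two, hF] at this
    norm_num at this
    omega
  have hidx : (meet M).index = 15 := by
    have := (meet M).card_mul_index
    rw [hc, hG] at this
    omega
  haveI : Fact (Nat.Prime 2) := ⟨Nat.prime_two⟩
  have hp : IsPGroup 2 (meet M) := IsPGroup.of_card (n := 2) (by rw [hc]; norm_num)
  let P : Sylow 2 (PSL₂ F) := hp.toSylow (by rw [hidx]; norm_num)
  have hcomm := IsPGroup.commutative_of_card_eq_prime_sq (p := 2) (G := meet M) (by rw [hc]; norm_num)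
  have hP : Subgroup.normalizer ((P : Subgroup (PSL₂ F)) : Set (PSL₂ F)) ≤
      Subgroup.centralizer ((P : Subgroup (PSL₂ F)) : Set (PSL₂ F)) := by
    intro x hx
    rw [IsPGroup.toSylow_coe] at hx ⊢
    have hxM : x ∈ meet M := by
      refine normalizing_mem (by omega) hM hML hne ?_
      rw [← map_meet]
      refine Subgroup.mem_normalizer_fintype fun z hz => ?_
      obtain ⟨v, hv, rfl⟩ := hz
      exact ⟨x * v * x⁻¹, (Subgroup.mem_normalizer_iff.mp hx v).mp hv, by rw [map_mul, map_mul, map_inv]⟩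
    exact Subgroup.mem_centralizer_iff.mpr fun v hv => congrArg Subtype.val (hcomm ⟨v, hv⟩ ⟨x, hxM⟩)
  have hcompl := MonoidHom.ker_transferSylow_isComplement' P hP
  haveI := Cfsg.Lib.Classical.isSimpleGroup_PSL_fin (F := F) (n := 2) le_rfl (fun _ => by
    rw [Nat.card_eq_fintype_card]; omega)
  have hmul := hcompl.card_mul
  have h4' : Nat.card (P : Subgroup (PSL₂ F)) = 4 := hc
  rw [h4', hG] at hmul
  rcases (MonoidHom.normal_ker (MonoidHom.transferSylow P hP)).eq_bot_or_eq_top with e | e <;> rw [e] at hmul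
  · rw [Subgroup.card_bot] at hmul; omega
  · rw [Subgroup.card_top, hG] at hmul; omega

/-- A maximal subgroup over a subfield. -/
theorem subfield_prime (p : ℕ) [Fact p.Prime] [CharP F p] {K : Type} [Field K] [Fintype K] (φ : K →+* F)
    (hF : Fintype.card F = q) (hodd : Odd q) {m : ℕ} (hPm : Fintype.card K ^ m = q)
    (hM : IsCoatom (Matrix.ProjGenLinGroup.map (n := Fin 2) φ).range)
    (hML : ¬ Lg F ≤ (Matrix.ProjGenLinGroup.map (n := Fin 2) φ).range) : m.Prime ∧ Odd m := by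
  obtain ⟨⟨n, hn0⟩, hpp, hn⟩ := FiniteField.card F p
  simp only [PNat.mk_coe, hF] at hn
  set P := Fintype.card K with hP
  have hP2 : 2 ≤ P := Fintype.one_lt_card
  have hm0 : m ≠ 0 := fun e => by rw [e, pow_zero] at hPm; have := Nat.one_lt_pow hn0.ne' hpp.one_lt; omega
  have hm1 : m ≠ 1 := fun e => hM.1 (Subgroup.eq_top_of_card_eq _ (by
    rw [card_map, ← hP, PSLBounds.card_pgl_two, hF, ← hPm, e, pow_one]))
  obtain ⟨b, -, hPb⟩ := (Nat.dvd_prime_pow hpp).mp (show P ∣ p ^ n by rw [← hn, ← hPm]; exact dvd_pow_self _ hm0)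
  have hbm : b * m = n := Nat.pow_right_injective hpp.two_le (by
    show p ^ (b * m) = p ^ n
    rw [pow_mul, ← hPb, hPm, hn])
  have hr := Nat.minFac_prime hm1
  obtain ⟨t, ht⟩ := Nat.minFac_dvd m
  generalize m.minFac = r at hr ht
  have hb0 : b ≠ 0 := fun e => by rw [e, pow_zero] at hPb; omega
  have ht0 : t ≠ 0 := fun e => hm0 (by rw [ht, e, mul_zero])
  obtain ⟨K₁, _, _, χ, hK₁, hfix⟩ := PSLMaxField.exists_mid (F := F) p (hF.trans hn) (a := b * t) (r := r)
    (Nat.mul_ne_zero hb0 ht0) (by rw [← hbm, ht]; ring)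
  have hle : (Matrix.ProjGenLinGroup.map (n := Fin 2) φ).range ≤ (Matrix.ProjGenLinGroup.map (n := Fin 2) χ).range := by
    rintro _ ⟨x, rfl⟩
    obtain ⟨Z, rfl⟩ := Matrix.ProjGenLinGroup.mk_surjective x
    rw [Matrix.ProjGenLinGroup.map_mk]
    refine mem_map χ _ 1 one_ne_zero fun a c => ?_
    obtain ⟨y, hy⟩ := hfix (φ ((Z : Matrix (Fin 2) (Fin 2) K) a c)) (by
      rw [← map_pow, pow_mul p b t, ← hPb, hP, FiniteField.pow_card_pow])
    exact ⟨y, by rw [mul_one, Matrix.GeneralLinearGroup.map_apply, hy]⟩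
  have hq : (p ^ (b * t)) ^ r = q := by rw [← pow_mul, hn, ← hbm, ht]; congr 1; ring
  have heq := coatom_eq hM hle (map_ne_top χ hF hK₁ hr.two_le hq)
  have hc := card_map φ
  rw [heq, card_map χ, ← hP, hK₁, pow_mul, ← hPb] at hc
  have ht1 : t = 1 := by
    have h' : P ^ t ≤ P ^ 1 := by rw [pow_one]; exact PSLMaxExceptional.mono_P (by omega) hc.le
    have := (Nat.pow_le_pow_iff_right (by omega : 1 < P)).mp h'
    omega
  rw [ht1, mul_one] at ht
  subst ht
  refine ⟨hr, hr.eq_two_or_odd'.resolve_left fun e => ?_⟩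
  subst e
  refine not_le_Lg (hF ▸ hodd) hM hML ?_
  rintro _ ⟨x, rfl⟩
  obtain ⟨Z, rfl⟩ := Matrix.ProjGenLinGroup.mk_surjective x
  rw [Matrix.ProjGenLinGroup.map_mk, mem_Lg]
  have hd : (Z : Matrix (Fin 2) (Fin 2) K).det ≠ 0 := (Matrix.GeneralLinearGroup.det Z).ne_zero
  have hchar : ringChar F ≠ 2 := fun e => two_ne (hF ▸ hodd) (by
    have := ringChar.charP F
    rw [e] at this
    exact_mod_cast CharP.cast_eq_zero F 2)
  obtain ⟨ρ, hρ⟩ := (FiniteField.isSquare_iff hchar ((map_ne_zero φ).mpr hd)).mpr (by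
    rw [hF]
    have hPodd : Odd P := by rw [← hPm, Nat.odd_pow_iff two_ne_zero] at hodd; exact hodd
    obtain ⟨s, hs⟩ := hPodd
    have : q / 2 = (P - 1) * (s + 1) := by
      rw [← hPm, hs, show 2 * s + 1 - 1 = 2 * s by omega,
        show (2 * s + 1) ^ 2 = 2 * (2 * s * (s + 1)) + 1 by ring]
      omega
    rw [this, pow_mul, ← map_pow, hP, FiniteField.pow_card_sub_one_eq_one _ hd, map_one, one_pow])
  refine ⟨ρ, hρ.symm.trans ?_⟩
  exact (RingHom.map_det φ _)

/-- Octahedral. -/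
theorem sym_case (p : ℕ) [Fact p.Prime] [CharP F p] (hp : p ≠ 2) (hF : Fintype.card F = q) (h5 : 5 ≤ q)
    {M : Subgroup (PGL₂ F)} (hM : IsCoatom M) (hML : ¬ Lg F ≤ M) (ψ : M ≃* Equiv.Perm (Fin 4)) :
    (q = p ∧ (q % 8 = 3 ∨ q % 8 = 5)) ∨
    (∃ (K : Type) (_ : Field K) (_ : Fintype K) (r : ℕ), r.Prime ∧ Odd r ∧ q = Fintype.card K ^ r ∧
        Nonempty (M ≃* PGL₂ K)) := by
  obtain ⟨⟨n, hn0⟩, hpp, hn⟩ := FiniteField.card F p
  simp only [PNat.mk_coe, hF] at hn
  obtain ⟨hodd, h2⟩ := odd_card (F := F) p hp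
  obtain ⟨φ₀, x, y, hxy⟩ := PSLMaxField.prime_squares (F := F) p
  obtain ⟨⟨ta, hta⟩, ⟨tb, htb⟩⟩ := four_squares
  obtain ⟨a1, a2, a3, a4, a5, a6⟩ := sa_facts
  -- moving an octahedral group to the standard frame
  have frame : ∀ f : Equiv.Perm (Fin 4) →* PGL₂ F, Function.Injective f →
      ∃ c : PGL₂ F, ∀ σ, c * f σ * c⁻¹ ∈ perm3 jP (bP (φ₀ x) (φ₀ y) hxy) := by
    intro f hf
    have hmem : ∀ t : Equiv.Perm (Fin 4), f (t * t) ∈ Lg F := fun t => by rw [map_mul]; exact sq_mem _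
    obtain ⟨c, hca, hcb⟩ := PGLMax.exists_framed p hp (f pa) (f pb) (hta ▸ hmem ta) (htb ▸ hmem tb)
      (by rw [← map_mul, a1, map_one]) (by rw [← map_mul, a2, map_one]) (by rw [← map_mul, a3, map_mul])
      (fun e => a4 (hf (e.trans (map_one f).symm))) (fun e => a5 (hf (e.trans (map_one f).symm)))
      (fun e => a6 (hf e)) _ _ hxy
    refine ⟨c, fun σ => ?_⟩
    have := image_perm3 ((MulAut.conj c).toMonoidHom.comp f) (pa : Equiv.Perm (Fin 4)) pb σ (sym_perm3 σ)
    change c * f σ * c⁻¹ ∈ perm3 (c * f pa * c⁻¹) (c * f pb * c⁻¹) at this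
    rwa [hca, hcb] at this
  have hq4 : 4 ≤ Fintype.card F := by omega
  obtain ⟨c, hc⟩ := frame (M.subtype.comp ψ.symm.toMonoidHom) (Subtype.val_injective.comp ψ.symm.injective)
  have hle : M.map (MulAut.conj c).toMonoidHom ≤ perm3 jP (bP (φ₀ x) (φ₀ y) hxy) := by
    rintro _ ⟨m, hm, rfl⟩
    have := hc (ψ ⟨m, hm⟩)
    simpa using this
  have hM' := map_coatom (MulAut.conj c) hM
  have heq := coatom_eq hM' hle (perm3_ne_top hq4 _ _ _)
  have hcard : Nat.card (perm3 jP (bP (φ₀ x) (φ₀ y) hxy)) = 24 := by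
    rw [← heq, Subgroup.card_map_of_injective (MulAut.conj c).injective, PSLSmallMax.card_S4 ψ]
  by_cases hn1 : n = 1
  · subst hn1
    rw [pow_one] at hn
    subst hn
    refine Or.inl ⟨rfl, ?_⟩
    have hq2 : q % 2 = 1 := by rw [hF] at hodd; exact Nat.odd_iff.mp hodd
    by_contra h8
    have h16 : q ^ 2 % 16 = 1 := by
      rw [Nat.pow_mod]
      rcases (show q % 16 = 1 ∨ q % 16 = 7 ∨ q % 16 = 9 ∨ q % 16 = 15 by omega) with e | e | e | e <;> rw [e]
    obtain ⟨H, ⟨θ⟩⟩ := (PSLSolvable.iff_S4 hF).mpr h16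
    let f : Equiv.Perm (Fin 4) →* PGL₂ F :=
      Matrix.ProjectiveSpecialLinearGroup.toPGL.comp (H.subtype.comp θ.symm.toMonoidHom)
    have hf : Function.Injective f := Matrix.ProjectiveSpecialLinearGroup.toPGL_injective.comp
      (Subtype.val_injective.comp θ.symm.injective)
    obtain ⟨c', hc'⟩ := frame f hf
    let f' : Equiv.Perm (Fin 4) →* PGL₂ F := (MulAut.conj c').toMonoidHom.comp f
    have hle' : f'.range ≤ perm3 jP (bP (φ₀ x) (φ₀ y) hxy) := by rintro _ ⟨σ, rfl⟩; exact hc' σ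
    have heq' := Subgroup.eq_of_le_of_card_ge hle' (by
      rw [hcard, ← Nat.card_congr (MonoidHom.ofInjective
        (show Function.Injective f' from (MulAut.conj c').injective.comp hf)).toEquiv, Nat.card_perm, Nat.card_fin]
      rfl)
    refine not_le_Lg hodd hM hML fun m hm => ?_
    have hm' : c * m * c⁻¹ ∈ f'.range := by rw [heq', ← heq]; exact ⟨m, hm, by simp⟩
    obtain ⟨σ, hσ⟩ := hm'
    have e : c⁻¹ * (c' * f σ * c'⁻¹) * c⁻¹⁻¹ = m := by
      rw [show c' * f σ * c'⁻¹ = c * m * c⁻¹ from hσ]; group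
    rw [← e]
    exact conj_mem _ (conj_mem _ ⟨_, rfl⟩)
  right
  obtain ⟨r, hr, hrd⟩ := Nat.exists_prime_and_dvd hn1
  obtain ⟨a, rfl⟩ := hrd
  have ha : a ≠ 0 := fun e => by subst e; simp at hn0
  obtain ⟨K, _, _, χ, hK, hfix⟩ := PSLMaxField.exists_mid (F := F) p (hF.trans hn) ha (mul_comm a r)
  obtain ⟨x', hx'⟩ := hfix (φ₀ x) (by rw [← map_pow]; simp [ZMod.pow_card_pow])
  obtain ⟨y', hy'⟩ := hfix (φ₀ y) (by rw [← map_pow]; simp [ZMod.pow_card_pow])
  have hPr : (p ^ a) ^ r = q := by rw [← pow_mul, mul_comm, hn]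
  have hle' : perm3 jP (bP (φ₀ x) (φ₀ y) hxy) ≤ (Matrix.ProjGenLinGroup.map (n := Fin 2) χ).range := by
    have := perm3_le_map χ h2 x' y' (by rw [hx', hy']; exact hxy)
    simpa only [hx', hy'] using this
  have heq2 := coatom_eq hM' (hle.trans hle') (map_ne_top χ hF hK hr.two_le hPr)
  have hML' : ¬ Lg F ≤ (Matrix.ProjGenLinGroup.map (n := Fin 2) χ).range := by
    rw [← heq2]
    intro h
    refine hML fun z hz => ?_
    obtain ⟨m, hm, e⟩ := h (conj_mem c hz)
    have : m = z := (MulAut.conj c).injective e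
    exact this ▸ hm
  obtain ⟨-, hrodd⟩ := subfield_prime p χ hF (hF ▸ hodd) (by rw [hK]; exact hPr) (heq2 ▸ hM') hML'
  exact ⟨K, inferInstance, inferInstance, r, hr, hrodd, by rw [hK, hPr],
    ⟨(M.equivMapOfInjective _ (MulAut.conj c).injective).trans
      ((MulEquiv.subgroupCongr heq2).trans (MonoidHom.ofInjective (map_injective χ)).symm)⟩⟩

/-- A projective general group over a field with at least five elements. -/
theorem pgl_case (p : ℕ) [Fact p.Prime] [CharP F p] (hp : p ≠ 2) (hF : Fintype.card F = q) (h4 : 4 ≤ q)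
    {M : Subgroup (PGL₂ F)} (hM : IsCoatom M) (hML : ¬ Lg F ≤ M) {K : Type} [Field K] [Fintype K] {m : ℕ}
    (h5 : 5 ≤ Fintype.card K) (hKo : Odd (Fintype.card K)) (hm : Fintype.card K ^ m = q * q)
    (ψ : M ≃* PGL₂ K) :
    ∃ (K : Type) (_ : Field K) (_ : Fintype K) (r : ℕ), r.Prime ∧ Odd r ∧ q = Fintype.card K ^ r ∧
        Nonempty (M ≃* PGL₂ K) := by
  obtain ⟨hodd, h2⟩ := odd_card (F := F) p hp
  set P := Fintype.card K with hP
  let f : (PSL₂ K) →* PGL₂ F :=
    M.subtype.comp (ψ.symm.toMonoidHom.comp Matrix.ProjectiveSpecialLinearGroup.toPGL)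
  have hcM : Nat.card M = P * (P ^ 2 - 1) := by rw [Nat.card_congr ψ.toEquiv, PSLBounds.card_pgl_two]
  obtain ⟨ψ0⟩ := part_iso hodd hM hML f (Subtype.val_injective.comp (ψ.symm.injective.comp
    Matrix.ProjectiveSpecialLinearGroup.toPGL_injective)) (fun a => (ψ.symm _).2) (hom_le_psl (two_ne hKo) f)
    (by rw [hcM, ← PSLBounds.card_pgl_two (K := K), two_card hKo])
  have hns : ¬ Group.IsSolvable (meet M) := fun h => by
    haveI := h
    exact PSLOver.not_solvable_psl (K := K) (by omega)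
      (Group.isSolvable_of_surjective (f := ψ0.toMonoidHom) ψ0.surjective)
  have hN2 : Nat.card (meet M) * 2 = P * (P ^ 2 - 1) := by rw [card_meet hodd hM hML, hcM]
  have tr : ∀ {A : Type} [Group A], Group.IsSolvable A → (meet M ≃* A) → False := fun {A} _ hA φ => by
    haveI := hA
    exact hns (Group.isSolvable_of_isSolvable_injective (f := φ.toMonoidHom) φ.injective)
  have hrat : PSLDickson.RatSub q (meet M) := by
    rcases PSLDickson.dickson_rat p hF (meet M) with h | h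
    swap
    · exact h
    rcases h with ⟨h, -⟩ | ⟨n, hn, ⟨φ⟩, -⟩ | ⟨S, h⟩ | ⟨⟨φ⟩⟩ | ⟨⟨φ⟩⟩ | ⟨⟨φ⟩⟩
    · haveI := h
      exact absurd (Group.isSolvable_of_comm fun a b => mul_comm' a b) hns
    · exact (tr (PSLOver.solvable_dihedral n) φ).elim
    · exact absurd (PSLOver.borel_solvable p hF S _ h).1 hns
    · exact (tr PSLOver.solvable_four φ).elim
    · exact (tr PSLOver.solvable_sym φ).elim
    · refine PSLDickson.altFive_rat p hF (meet M) φ (Or.inr ?_)
      rw [PSLSmallMax.card_A5 φ] at hN2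
      have hP5 : P = 5 := by
        have := PSLMaxExceptional.mono_P (A := P) (B := 5) (by omega) (by omega)
        omega
      obtain ⟨⟨n, hn0⟩, hpp, hn⟩ := FiniteField.card F p
      simp only [PNat.mk_coe, hF] at hn
      have h0 : m ≠ 0 := fun e => by
        rw [e, pow_zero] at hm
        have : 4 * 4 ≤ q * q := Nat.mul_le_mul h4 h4
        omega
      have h55 : 5 ∣ p ^ n * p ^ n := by rw [← hn, ← hm, hP5]; exact dvd_pow_self 5 h0
      rw [← pow_add] at h55
      exact ((Nat.prime_dvd_prime_iff_eq Nat.prime_five hpp).mp (Nat.prime_five.dvd_of_dvd_pow h55)).symm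
  obtain ⟨K', _, _, φ', m', h3', hm', ⟨τ, hτ, c, hc⟩, hiso⟩ := hrat
  have hKo' : Odd (Fintype.card K') := by
    by_cases e : m' = 0
    · rw [e, pow_zero] at hm'; omega
    · have : Odd q := hF ▸ hodd
      rw [← hm', Nat.odd_pow_iff e] at this
      exact this
  have hPP : Fintype.card K' = P := by
    rcases hiso with ⟨-, ⟨θ⟩⟩ | ⟨⟨θ⟩⟩
    · have h' : Nat.card (meet M) * 2 = Fintype.card K' * (Fintype.card K' ^ 2 - 1) := by
        rw [Nat.card_congr θ.toEquiv, two_card hKo', PSLBounds.card_pgl_two]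
      exact le_antisymm (PSLMaxExceptional.mono_P (by omega) (by omega)) (PSLMaxExceptional.mono_P (by omega) (by omega))
    · exfalso
      have hall : ∀ z : PGL₂ K', z ∈ Lg K' := fun z => by
        have := hom_le_psl (F := K') (two_ne hKo) ((ψ0.symm.trans θ).toMonoidHom) ((ψ0.symm.trans θ).symm z)
        rwa [MulEquiv.toMonoidHom_eq_coe, MonoidHom.coe_coe, MulEquiv.apply_symm_apply] at this
      have htop : Lg K' = ⊤ := eq_top_iff.mpr fun z _ => hall z
      have := index_Lg (F := K') hKo'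
      rw [htop, Subgroup.index_top] at this
      omega
  set T : MulAut (PGL₂ F) := MulAut.conj (Matrix.ProjGenLinGroup.mk c) with hT
  set M' := M.map T.toMonoidHom with hM'def
  set H := (Matrix.ProjGenLinGroup.map (n := Fin 2) φ').range with hHdef
  have hM' : IsCoatom M' := map_coatom T hM
  have hML' : ¬ Lg F ≤ M' := fun h => hML fun z hz => by
    obtain ⟨w, hw, e⟩ := h (conj_mem (Matrix.ProjGenLinGroup.mk c) hz)
    exact (T.injective e) ▸ hw
  have hmeet : meet M' = (meet M).map τ.toMonoidHom := by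
    ext g
    constructor
    · rintro ⟨w, hw, e⟩
      refine ⟨τ.symm g, ?_, τ.apply_symm_apply g⟩
      show Matrix.ProjectiveSpecialLinearGroup.toPGL (τ.symm g) ∈ M
      have : T (Matrix.ProjectiveSpecialLinearGroup.toPGL (τ.symm g)) = T w := by
        rw [hT, MulAut.conj_apply, ← hc, τ.apply_symm_apply]; exact e.symm
      exact (T.injective this) ▸ hw
    · rintro ⟨v, hv, rfl⟩
      exact ⟨_, hv, (hc v).symm⟩
  have hleH : M' ⊓ Lg F ≤ H := by
    rw [← map_meet, hmeet]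
    rintro _ ⟨_, ⟨v, hv, rfl⟩, rfl⟩
    exact rat_le_map φ' (hτ v hv)
  have hcH : Nat.card H = P * (P ^ 2 - 1) := by rw [hHdef, card_map, hPP]
  have hcM' : Nat.card M' = P * (P ^ 2 - 1) := by rw [hM'def, Subgroup.card_map_of_injective T.injective, hcM]
  have hHM : H ≤ M' := by
    intro z hz
    refine normalizing_mem (by omega) hM' hML' (card_meet_ne_bot hodd hM' hML' ?_) ?_
    · have : 5 * 24 ≤ P * (P ^ 2 - 1) := Nat.mul_le_mul h5 (by
        have : 5 ^ 2 ≤ P ^ 2 := Nat.pow_le_pow_left h5 2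
        omega)
      omega
    have hidx : ((M' ⊓ Lg F).subgroupOf H).index = 2 := by
      have h1 := ((M' ⊓ Lg F).subgroupOf H).card_mul_index
      rw [Nat.card_congr (Subgroup.subgroupOfEquivOfLe hleH).toEquiv, ← map_meet,
        Subgroup.card_map_of_injective Matrix.ProjectiveSpecialLinearGroup.toPGL_injective, map_meet, hcH, ← hcM',
        ← card_meet hodd hM' hML'] at h1
      exact Nat.eq_of_mul_eq_mul_left Nat.card_pos h1
    have hnorm := Subgroup.normal_of_index_eq_two hidx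
    refine Subgroup.mem_normalizer_fintype fun v hv => ?_
    exact hnorm.conj_mem ⟨v, hleH hv⟩ hv ⟨z, hz⟩
  have heq : H = M' := Subgroup.eq_of_le_of_card_ge hHM (by rw [hcH, hcM'])
  obtain ⟨hr, hrodd⟩ := subfield_prime p φ' hF (hF ▸ hodd) hm'
    (show IsCoatom H by rw [heq]; exact hM') (show ¬ Lg F ≤ H by rw [heq]; exact hML')
  exact ⟨K', inferInstance, inferInstance, m', hr, hrodd, hm'.symm,
    ⟨(M.equivMapOfInjective _ T.injective).trans
      ((MulEquiv.subgroupCongr heq.symm).trans (MonoidHom.ofInjective (map_injective φ')).symm)⟩⟩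

theorem exists_fields (p : ℕ) [Fact p.Prime] [CharP F p] (hF : Fintype.card F = q) :
    ∃ (F2 : Type) (_ : Field F2) (_ : Fintype F2), Fintype.card F2 = q * q ∧ Nonempty (F →+* F2) ∧
      Nonempty (F2 →+* AlgebraicClosure F) := by
  obtain ⟨⟨n, hn0⟩, hpp, hn⟩ := FiniteField.card F p
  simp only [PNat.mk_coe, hF] at hn
  let F2 := GaloisField p (2 * n)
  haveI : Fintype F2 := Fintype.ofFinite F2
  have hcard : Fintype.card F2 = q * q := by
    rw [← Nat.card_eq_fintype_card, GaloisField.card p (2 * n) (by omega), hn, ← pow_add, two_mul]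
  haveI : CharP (AlgebraicClosure F) p := charP_of_injective_ringHom (algebraMap F (AlgebraicClosure F)).injective p
  letI := ZMod.algebra (AlgebraicClosure F) p
  haveI : Algebra.IsAlgebraic (ZMod p) F2 := Algebra.IsAlgebraic.of_finite _ _
  exact ⟨F2, inferInstance, inferInstance, hcard, PSLSubfield.exists_emb (F := F2) (K := F) hcard (m := 2)
    (by rw [hF, pow_two]), ⟨(IsAlgClosed.lift (R := ZMod p) (S := F2) (M := AlgebraicClosure F)).toRingHom⟩⟩

/-- The types. -/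
theorem types (p : ℕ) [Fact p.Prime] [CharP F p] (hp : p ≠ 2) (hF : Fintype.card F = q) (h3 : 3 < q) {k : Type u}
    [Field k] [IsAlgClosed k] [CharP k p] {F2 : Type} [Field F2] [Fintype F2] (hF2 : Fintype.card F2 = q * q)
    (i1 : F →+* F2) (i2 : F2 →+* k) {M : Subgroup (PGL₂ F)} (hM : IsCoatom M) (hML : ¬ Lg F ≤ M) :
    Nat.card M = q * (q - 1) ∨
    (∃ (a b : ℙ k (Fin 2 → k)) (w g : (PGLFull.χ (i2.comp i1)).range) (m : ℕ), a ≠ b ∧ w • a = b ∧ w • b = a ∧
      g ≠ 1 ∧ g • a = a ∧ g • b = b ∧ M.map (PGLFull.eP (i2.comp i1)).toMonoidHom = pairStab a b ∧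
      Nonempty (M ≃* DihedralGroup m) ∧ 2 ≤ m ∧ ((m + 1 = q ∧ q ≠ 5) ∨ m = q + 1)) ∨
    (q = p ∧ (q % 8 = 3 ∨ q % 8 = 5) ∧ Nonempty (M ≃* Equiv.Perm (Fin 4))) ∨
    (∃ (K : Type) (_ : Field K) (_ : Fintype K) (r : ℕ), r.Prime ∧ Odd r ∧ q = Fintype.card K ^ r ∧
        Nonempty (M ≃* PGL₂ K)) := by
  obtain ⟨hodd, -⟩ := odd_card (F := F) p hp
  have hqodd : Odd q := hF ▸ hodd
  have h5 : 5 ≤ q := by obtain ⟨t, ht⟩ := hqodd; omega
  have sym : (M ≃* Equiv.Perm (Fin 4)) → (q = p ∧ (q % 8 = 3 ∨ q % 8 = 5) ∧ Nonempty (M ≃* Equiv.Perm (Fin 4))) ∨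
      (∃ (K : Type) (_ : Field K) (_ : Fintype K) (r : ℕ), r.Prime ∧ Odd r ∧ q = Fintype.card K ^ r ∧
        Nonempty (M ≃* PGL₂ K)) := fun ψ => by
    rcases sym_case p hp hF h5 hM hML ψ with ⟨h, h'⟩ | h
    · exact Or.inl ⟨h, h', ⟨ψ⟩⟩
    · exact Or.inr h
  rcases PGLFull.coarse p hp hF (by omega) hF2 i1 i2 hM with h | ⟨a, b, w, g, hab, hw, hw', hg, ha, hb, hMeq⟩ | ⟨⟨ψ⟩⟩ |
    ⟨⟨ψ⟩⟩ | ⟨⟨ψ⟩⟩ | ⟨K, _, _, m, h3', hm, ⟨hKo, ⟨ψ⟩⟩ | ⟨⟨ψ⟩⟩⟩
  · exact Or.inl h
  · haveI := PGLFull.finite_range (i2.comp i1)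
    obtain ⟨m, w', -, -, hcm, hm, hm2, ⟨ψ₀⟩, -⟩ :=
      (PGLFull.full (i2.comp i1) p hF).pair_info (by omega) (by omega) hab hg ha hb
    let ψM : M ≃* DihedralGroup m := (M.equivMapOfInjective _ (PGLFull.eP (i2.comp i1)).injective).trans
      ((MulEquiv.subgroupCongr hMeq).trans ψ₀)
    refine Or.inr (Or.inl ⟨a, b, w, g, m, hab, hw, hw', hg, ha, hb, hMeq, ⟨ψM⟩, hm2, ?_⟩)
    rcases hm with hm | hm
    · left
      refine ⟨by omega, fun e => ?_⟩
      subst e
      refine five_no_eight hF hM hML ?_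
      rw [Nat.card_congr ψM.toEquiv, DihedralGroup.nat_card]
      omega
    · right; omega
  · exact (false_of_le_Lg hodd hM hML ψ fun f => hom_le f squares_four).elim
  · exact Or.inr (Or.inr (sym ψ))
  · exact (false_of_le_Lg hodd hM hML ψ fun f => hom_le f squares_five).elim
  · exact (false_of_le_Lg hodd hM hML ψ fun f => hom_le_psl (two_ne hKo) f).elim
  · have hKo : Odd (Fintype.card K) := by
      by_cases e : m = 0
      · rw [e, pow_zero] at hm
        have : 4 * 4 ≤ q * q := Nat.mul_le_mul (by omega) (by omega)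
        omega
      · have : Odd (q * q) := hqodd.mul hqodd
        rw [← hm, Nat.odd_pow_iff e] at this
        exact this
    rcases (show Fintype.card K = 3 ∨ 5 ≤ Fintype.card K by obtain ⟨t, ht⟩ := hKo; omega) with h | h
    · obtain ⟨θ⟩ := pgl_three h
      exact Or.inr (Or.inr (sym (ψ.trans θ)))
    · exact Or.inr (Or.inr (Or.inr (pgl_case p hp hF (by omega) hM hML h hKo hm ψ)))

end Cfsg.Lib.Classical.PGLMax

namespace Cfsg.Lib.Classical.PGLMax

open Matrix
open scoped MatrixGroups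

/-- The list for odd `q`. -/
theorem odd_list {F : Type*} [Field F] [Fintype F] (hodd : Odd (Fintype.card F)) (h3 : 3 < Fintype.card F)
    (M : Subgroup (Matrix.ProjGenLinGroup (Fin 2) F)) (hM : IsCoatom M)
    (hML : ¬ (Matrix.ProjGenLinGroup.mk.comp Matrix.SpecialLinearGroup.toGL).range ≤ M) :
    Nat.card M = Fintype.card F * (Fintype.card F - 1) ∨
    (Fintype.card F ≠ 5 ∧ Nonempty (M ≃* DihedralGroup (Fintype.card F - 1))) ∨
    Nonempty (M ≃* DihedralGroup (Fintype.card F + 1)) ∨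
    ((Fintype.card F).Prime ∧ (Fintype.card F % 8 = 3 ∨ Fintype.card F % 8 = 5) ∧ Nonempty (M ≃* Equiv.Perm (Fin 4))) ∨
    (∃ (F₀ : Type) (_ : Field F₀) (_ : Fintype F₀) (r : ℕ), r.Prime ∧ Odd r ∧ Fintype.card F = Fintype.card F₀ ^ r ∧
        Nonempty (M ≃* Matrix.ProjGenLinGroup (Fin 2) F₀)) := by
  rw [range_eq] at hML
  obtain ⟨p, hp⟩ := CharP.exists F
  haveI : Fact p.Prime := ⟨CharP.char_is_prime F p⟩
  have hp2 : p ≠ 2 := (PSLMaxClass.char_of_card p rfl).2 hodd
  obtain ⟨F2, _, _, hF2, ⟨i1⟩, ⟨i2⟩⟩ := exists_fields (F := F) p rfl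
  haveI : CharP (AlgebraicClosure F) p := charP_of_injective_ringHom (algebraMap F (AlgebraicClosure F)).injective p
  rcases types p hp2 rfl h3 hF2 i1 i2 hM hML with h | ⟨a, b, w, g, m, -, -, -, -, -, -, -, ⟨ψ⟩, -, hm⟩ |
    ⟨h1, h2, h4⟩ | h
  · exact Or.inl h
  · rcases hm with ⟨hm, h5⟩ | hm
    · exact Or.inr (Or.inl ⟨h5, ⟨(show m = Fintype.card F - 1 by omega) ▸ ψ⟩⟩)
    · exact Or.inr (Or.inr (Or.inl ⟨hm ▸ ψ⟩))
  · exact Or.inr (Or.inr (Or.inr (Or.inl ⟨h1 ▸ Fact.out, h2, h4⟩)))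
  · exact Or.inr (Or.inr (Or.inr (Or.inr h)))

end Cfsg.Lib.Classical.PGLMax
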