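import Mathlib
import Cfsg.Agent.Classical.SL

/-! Quaternion subgroup of `SL₂(3)`, order of the triangular group, a discriminant argument. -/

set_option autoImplicit false
set_option linter.unusedSimpArgs false

namespace Cfsg.Lib.Classical.SmallFacts

open Matrix
open scoped MatrixGroups

universe u

/-- The quaternion group inside `SL(2, 3)`. -/
def iMat : SL(2, ZMod 3) := ⟨!![0, -1; 1, 0], by decide⟩

/-- A second element of order four. -/
def jMat : SL(2, ZMod 3) := ⟨!![1, 1; 1, -1], by decide⟩

/-- The embedding as a function. -/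
def qFun : QuaternionGroup 2 → SL(2, ZMod 3)
  | .a k => iMat ^ k.val
  | .xa k => jMat * iMat ^ k.val

set_option maxRecDepth 4000 in
theorem qFun_mul : ∀ x y : QuaternionGroup 2, qFun (x * y) = qFun x * qFun y := by
  decide

theorem qFun_injective : Function.Injective qFun := by
  decide

/-- The embedding. -/
def qHom : QuaternionGroup 2 →* SL(2, ZMod 3) := MonoidHom.mk' qFun qFun_mul

set_option maxRecDepth 4000 in
theorem conj_qFun : ∀ (i j : Fin 2) (h : i ≠ j) (a : ZMod 3) (x : QuaternionGroup 2), ∃ y, qFun y =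
    SpecialLinearGroup.transvection h a * qFun x * (SpecialLinearGroup.transvection h a)⁻¹ := by
  decide

theorem qHom_normal : qHom.range.Normal := by
  have key : Subgroup.normalizer (qHom.range : Set SL(2, ZMod 3)) = ⊤ := by
    refine Cfsg.Lib.Classical.eq_top_of_transvection_mem _ fun i j hij a => ?_
    refine Subgroup.mem_normalizer_fintype ?_
    rintro n ⟨x, rfl⟩
    obtain ⟨y, hy⟩ := conj_qFun i j hij a x
    exact ⟨y, hy⟩
  exact Subgroup.normalizer_eq_top_iff.mp key

theorem exists_quaternion {F : Type u} [Field F] [Fintype F] (hF : Fintype.card F = 3) :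
    ∃ Q : Subgroup (SpecialLinearGroup (Fin 2) F), Q.Normal ∧ Q.index = 3 ∧ Nonempty (Q ≃* QuaternionGroup 2) := by
  let e : F ≃+* ZMod 3 := FiniteField.ringEquivOfCardEq (by rw [hF, ZMod.card])
  let E : SL(2, ZMod 3) ≃* SpecialLinearGroup (Fin 2) F :=
    MonoidHom.toMulEquiv (SpecialLinearGroup.map e.symm.toRingHom) (SpecialLinearGroup.map e.toRingHom)
      (by ext x i j; simp) (by ext x i j; simp)
  refine ⟨qHom.range.map E.toMonoidHom, qHom_normal.map _ E.surjective, ?_,
    ⟨((Subgroup.equivMapOfInjective _ _ E.injective).symm.trans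
      (MonoidHom.ofInjective (f := qHom) qFun_injective).symm)⟩⟩
  have h := qHom.range.card_mul_index
  rw [← Nat.card_congr (MonoidHom.ofInjective (f := qHom) qFun_injective).toEquiv, Nat.card_eq_fintype_card,
    QuaternionGroup.card] at h
  have h24 : Nat.card SL(2, ZMod 3) = 24 := by
    have := Cfsg.Lib.Classical.card_SL_mul (ι := Fin 2) (F := ZMod 3)
    rw [Matrix.card_GL_field, Fin.prod_univ_two, Nat.card_zmod, ZMod.card] at this
    norm_num [-Nat.card_eq_fintype_card] at this
    omega
  rw [h24] at h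
  rw [show E.toMonoidHom = (E : SL(2, ZMod 3) →* SpecialLinearGroup (Fin 2) F) from rfl, Subgroup.index_map_equiv]
  omega

theorem card_center {F : Type u} [Field F] [Fintype F] (hF : Fintype.card F = 3) :
    Nat.card (Subgroup.center (SpecialLinearGroup (Fin 2) F)) = 2 := by
  rw [Cfsg.Lib.Classical.card_center_SL, Nat.card_eq_fintype_card, hF, Fintype.card_fin]
  rfl

theorem sum_lower (n : ℕ) : Fintype.card {p : Fin n × Fin n // p.2 < p.1} = n * (n - 1) / 2 := by
  let e : {p : Fin n × Fin n // p.2 < p.1} ≃ Σ i : Fin n, Fin (i : ℕ) :=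
    { toFun := fun p => ⟨p.1.1, ⟨p.1.2, p.2⟩⟩
      invFun := fun s => ⟨(s.1, ⟨s.2, s.2.2.trans s.1.2⟩), s.2.2⟩
      left_inv := fun p => rfl
      right_inv := fun s => rfl }
  rw [Fintype.card_congr e, Fintype.card_sigma]
  simp only [Fintype.card_fin]
  rw [Fin.sum_univ_eq_sum_range (fun i => i) n, Finset.sum_range_id]

theorem card_triangular {F : Type u} [Field F] [Fintype F] (n : ℕ) :
    Nat.card {g : GL (Fin n) F // ∀ i j : Fin n, i < j → (g : Matrix (Fin n) (Fin n) F) i j = 0} =
      Fintype.card F ^ (n * (n - 1) / 2) * (Fintype.card F - 1) ^ n := by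
  classical
  have hdet : ∀ g : GL (Fin n) F, (∀ i j : Fin n, i < j → (g : Matrix (Fin n) (Fin n) F) i j = 0) →
      ∀ i, (g : Matrix (Fin n) (Fin n) F) i i ≠ 0 := by
    intro g hg i hi
    refine (GeneralLinearGroup.det g).ne_zero ?_
    rw [GeneralLinearGroup.val_det_apply, Matrix.det_of_lowerTriangular g.1 (fun a b hab => hg a b hab)]
    exact Finset.prod_eq_zero (Finset.mem_univ i) hi
  let M : (Fin n → Fˣ) × ({p : Fin n × Fin n // p.2 < p.1} → F) → Matrix (Fin n) (Fin n) F := fun x i j =>
    if h : j < i then x.2 ⟨(i, j), h⟩ else if i = j then (x.1 i : F) else 0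
  have hM : ∀ x i j, i < j → M x i j = 0 := fun x i j h => by simp [M, not_lt.mpr h.le, h.ne]
  have hMd : ∀ x i, M x i i = x.1 i := fun x i => by simp [M]
  have hMne : ∀ x, (M x).det ≠ 0 := fun x => by
    rw [Matrix.det_of_lowerTriangular (M x) (fun a b hab => hM x a b hab), Finset.prod_ne_zero_iff]
    intro i _
    rw [hMd]
    exact (x.1 i).ne_zero
  rw [← Nat.card_congr (Equiv.ofBijective
    (fun x => (⟨GeneralLinearGroup.mkOfDetNeZero (M x) (hMne x), hM x⟩ :
      {g : GL (Fin n) F // ∀ i j : Fin n, i < j → (g : Matrix (Fin n) (Fin n) F) i j = 0}))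
    ⟨fun x y h => ?_, fun g => ?_⟩)]
  · rw [Nat.card_prod, Nat.card_fun, Nat.card_fun, Nat.card_units, Nat.card_eq_fintype_card,
      Nat.card_eq_fintype_card, Nat.card_eq_fintype_card, Fintype.card_fin, sum_lower, mul_comm]
  · have h' : M x = M y := congrArg (fun g => g.1.1) h
    refine Prod.ext (funext fun i => Units.ext ?_) (funext fun p => ?_)
    · have := congrFun (congrFun h' i) i
      simpa [M] using this
    · obtain ⟨⟨i, j⟩, hp⟩ := p
      have := congrFun (congrFun h' i) j
      simpa [M, show j < i from hp] using this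
  · refine ⟨(fun i => Units.mk0 (g.1.1 i i) (hdet g.1 g.2 i), fun p => g.1.1 p.1.1 p.1.2), ?_⟩
    refine Subtype.ext (Units.ext ?_)
    ext i j
    show M _ i j = g.1.1 i j
    rcases lt_trichotomy i j with h | h | h
    · rw [hM _ i j h, g.2 i j h]
    · subst h
      simp [M]
    · simp [M, h]

theorem not_equivalent {F : Type u} [Field F] (h2 : (2 : F) ≠ 0) (n : ℕ) (α : F) (hα : ¬ IsSquare α) :
    ¬ (QuadraticMap.weightedSumSquares F (fun _ : Fin (n + 1) => (1 : F))).Equivalent
      (QuadraticMap.weightedSumSquares F (fun i : Fin (n + 1) => if i = Fin.last n then α else (1 : F))) := by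
  rintro ⟨e⟩
  set w : Fin (n + 1) → F := fun i => if i = Fin.last n then α else 1 with hw
  set Q₁ := QuadraticMap.weightedSumSquares F (fun _ : Fin (n + 1) => (1 : F))
  set Q₂ := QuadraticMap.weightedSumSquares F w
  have hpol : ∀ (v : Fin (n + 1) → F) x y,
      QuadraticMap.polar (⇑(QuadraticMap.weightedSumSquares F v)) x y = 2 * ∑ k, v k * x k * y k := by
    intro v x y
    simp only [QuadraticMap.polar, QuadraticMap.weightedSumSquares_apply, Pi.add_apply, smul_eq_mul,
      ← Finset.sum_sub_distrib, Finset.mul_sum]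
    exact Finset.sum_congr rfl fun k _ => by ring
  let M : Matrix (Fin (n + 1)) (Fin (n + 1)) F := fun k i => e (Pi.single i 1) k
  have hM : Mᵀ * Matrix.diagonal w * M = 1 := by
    ext i j
    have h : QuadraticMap.polar (⇑Q₂) (e (Pi.single i 1)) (e (Pi.single j 1)) =
        QuadraticMap.polar (⇑Q₁) (Pi.single i 1) (Pi.single j 1) := by
      simp only [QuadraticMap.polar, ← map_add, e.map_app]
    rw [hpol, hpol] at h
    have h' := mul_left_cancel₀ h2 h
    rw [Matrix.mul_apply]
    refine (Finset.sum_congr rfl fun k _ => ?_).trans (h'.trans ?_)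
    · rw [Matrix.mul_diagonal, Matrix.transpose_apply]
      show e (Pi.single i 1) k * w k * e (Pi.single j 1) k = _
      ring
    · simp [Pi.single_apply, Matrix.one_apply, eq_comm]
  have hd := congrArg Matrix.det hM
  rw [Matrix.det_mul, Matrix.det_mul, Matrix.det_transpose, Matrix.det_diagonal, Matrix.det_one,
    Finset.prod_eq_single (Fin.last n) (fun k _ hk => by simp [hw, hk]) (by simp)] at hd
  simp only [hw, if_pos] at hd
  have hne : M.det ≠ 0 := fun h0 => one_ne_zero (α := F) (by rw [← hd, h0]; ring)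
  refine hα ⟨M.det⁻¹, ?_⟩
  field_simp
  linear_combination hd

end Cfsg.Lib.Classical.SmallFacts
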