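import Mathlib
import Cfsg.Prelude.Def_GeometricClasses
import Cfsg.Agent.Classical.MaxBridge

set_option autoImplicit false
set_option linter.unusedVariables false
set_option linter.unusedSimpArgs false
set_option linter.style.haveILetI false

/-! Explicit intermediate subgroups. -/

namespace Cfsg.Lib.Classical

universe u

open Matrix

variable {F : Type u} [Field F] {n : ℕ}

theorem slToGL_slT_mulVec (φ : Module.Dual F (Fin n → F)) (v : Fin n → F) (h : φ v = 0) (x : Fin n → F) :
    (slToGL (Fin n) F (slT φ v h) : Matrix.GeneralLinearGroup (Fin n) F).val *ᵥ x = x + φ x • v := by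
  rw [slToGL_mulVec, slT_apply]

theorem slToGL_mem (g : slGroup F (Fin n → F)) :
    slToGL (Fin n) F g ∈ Cfsg.Geo.specialLinear (Fin n) F := by
  rw [← range_slToGL]; exact ⟨g, rfl⟩

theorem exists_intermediate_subspace {W U : Submodule F (Fin n → F)} (hW0 : W ≠ ⊥) (hW1 : W ≠ ⊤)
    {φ : Module.Dual F (Fin n → F)} {u v : Fin n → F} (hφW : ∀ w ∈ W, φ w = 0) (hu : u ∈ U) (hφu : φ u = 1)
    (hv : φ v = 0) (hvU : v ∉ U) :
    ∃ K : Subgroup (Matrix.GeneralLinearGroup (Fin n) F),
      Cfsg.Geo.subspaceStabilizer W ⊓ Cfsg.Geo.subspaceStabilizer U ⊓ Cfsg.Geo.specialLinear (Fin n) F < K ∧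
        K < Cfsg.Geo.specialLinear (Fin n) F := by
  refine ⟨Cfsg.Geo.subspaceStabilizer W ⊓ Cfsg.Geo.specialLinear (Fin n) F,
    lt_of_le_of_ne (inf_le_inf_right _ inf_le_left) fun he => ?_, ?_⟩
  · have hmem : slToGL (Fin n) F (slT φ v hv) ∈
        Cfsg.Geo.subspaceStabilizer W ⊓ Cfsg.Geo.specialLinear (Fin n) F := by
      refine ⟨fun x => ?_, slToGL_mem _⟩
      change x ∈ W ↔ (slToGL (Fin n) F (slT φ v hv)).val *ᵥ x ∈ W
      rw [slToGL_mulVec]
      exact slT_mem_slSubStabilizer hv (Or.inr hφW) x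
    rw [← he] at hmem
    have h := (hmem.1.2 u).mp hu
    change (slToGL (Fin n) F (slT φ v hv)).val *ᵥ u ∈ U at h
    rw [slToGL_slT_mulVec, hφu, one_smul, Submodule.add_mem_iff_right _ hu] at h
    exact hvU h
  · have e : (Cfsg.Geo.subspaceStabilizer W).comap (slToGL (Fin n) F) = slSubStabilizer W := by
      ext g
      refine forall_congr' fun x => ?_
      change (x ∈ W ↔ (slToGL (Fin n) F g).val.mulVec x ∈ W) ↔ _
      rw [slToGL_mulVec]
    exact (isMaximalIn_of_isCoatom_comap (slToGL (Fin n) F) (range_slToGL (Fin n))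
      (e ▸ isCoatom_slSubStabilizer hW0 hW1)).1

end Cfsg.Lib.Classical
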