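import Mathlib
import Cfsg.Prelude.Def_GeometricClasses
import Cfsg.Agent.Classical.Misc.NonMaximal

set_option autoImplicit false
set_option linter.unusedVariables false
set_option linter.unusedSimpArgs false
set_option linter.style.haveILetI false

/-! Over tiny fields the decomposition stabilisers preserve a form. -/

namespace Cfsg.Lib.Classical

universe u

open Matrix

variable {F : Type u} [Field F] {n : ℕ}

theorem exists_adapted_basis {t m : ℕ} {D : Fin t → Submodule F (Fin n → F)}
    (hD : Cfsg.Geo.IsMDecomposition m D) :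
    ∃ b : Module.Basis (Fin t × Fin m) F (Fin n → F), ∀ i, ∀ x ∈ D i, ∀ j k, j ≠ i → b.repr x (j, k) = 0 := by
  classical
  have h := DirectSum.isInternal_submodule_of_iSupIndep_of_iSup_eq_top hD.indep hD.iSup_eq_top
  let v := fun i => Module.finBasisOfFinrankEq F (D i) (hD.finrank_eq i)
  refine ⟨(h.collectedBasis v).reindex (Equiv.sigmaEquivProd _ _), fun i x hx j k hji => ?_⟩
  rw [Module.Basis.repr_reindex_apply]
  exact h.collectedBasis_repr_of_mem_ne v (Ne.symm hji) hx

theorem mulVec_mem_of_decomposition {t : ℕ} {D : Fin t → Submodule F (Fin n → F)}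
    {g : Matrix.GeneralLinearGroup (Fin n) F} {σ : Equiv.Perm (Fin t)}
    (hσ : ∀ i, (D i).map (Matrix.toLin' g.val) = D (σ i)) {i : Fin t} {x : Fin n → F} (hx : x ∈ D i) :
    g.val *ᵥ x ∈ D (σ i) := by
  rw [← hσ i, ← Matrix.toLin'_apply]
  exact Submodule.mem_map_of_mem hx

theorem exists_intermediate_form {M : Subgroup (Matrix.GeneralLinearGroup (Fin n) F)}
    (f : (Fin n → F) → (Fin n → F) → F)
    (hM : M ≤ Cfsg.preserving (Units.coeHom (Matrix (Fin n) (Fin n) F)) f)
    (g₁ : slGroup F (Fin n → F)) (h₁ : ∀ x y, f ((g₁ : (Fin n → F) ≃ₗ[F] _) x) ((g₁ : (Fin n → F) ≃ₗ[F] _) y) = f x y)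
    (h₁' : slToGL (Fin n) F g₁ ∉ M)
    (g₂ : slGroup F (Fin n → F)) (h₂ : ∃ x y, f ((g₂ : (Fin n → F) ≃ₗ[F] _) x) ((g₂ : (Fin n → F) ≃ₗ[F] _) y) ≠ f x y) :
    ∃ K : Subgroup (Matrix.GeneralLinearGroup (Fin n) F),
      M ⊓ Cfsg.Geo.specialLinear (Fin n) F < K ∧ K < Cfsg.Geo.specialLinear (Fin n) F := by
  refine ⟨Cfsg.preserving (Units.coeHom (Matrix (Fin n) (Fin n) F)) f ⊓ Cfsg.Geo.specialLinear (Fin n) F,
    lt_of_le_of_ne (inf_le_inf_right _ hM) fun he => h₁' ?_, lt_of_le_of_ne inf_le_right fun he => ?_⟩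
  · refine (he ▸ ⟨fun x y => ?_, slToGL_mem _⟩ :
      slToGL (Fin n) F g₁ ∈ M ⊓ Cfsg.Geo.specialLinear (Fin n) F).1
    simp only [Units.coeHom_apply, slToGL_mulVec]
    exact h₁ x y
  · obtain ⟨x, y, h⟩ := h₂
    have := (he.symm ▸ slToGL_mem g₂ : slToGL (Fin n) F g₂ ∈ Cfsg.preserving (Units.coeHom (Matrix (Fin n) (Fin n) F)) f ⊓ Cfsg.Geo.specialLinear (Fin n) F).1 x y
    simp only [Units.coeHom_apply, slToGL_mulVec] at this
    exact h this

theorem inv_add_of_card_le_four [Fintype F] (hq : Fintype.card F ≤ 4) (a b : F) : (a + b)⁻¹ = a⁻¹ + b⁻¹ := by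
  have h1 : 1 < Fintype.card F := Fintype.one_lt_card
  have hinv : ∀ x : F, x⁻¹ = x ^ (if Fintype.card F = 4 then 2 else 1) := by
    intro x
    rcases eq_or_ne x 0 with rfl | hx
    · rw [_root_.inv_zero, zero_pow (by split_ifs <;> norm_num)]
    refine inv_eq_of_mul_eq_one_right ?_
    have h := FiniteField.pow_card_sub_one_eq_one x hx
    rcases (show Fintype.card F = 2 ∨ Fintype.card F = 3 ∨ Fintype.card F = 4 by omega) with e | e | e <;>
      simp only [e, if_true, show (2:ℕ) ≠ 4 by norm_num, show (3:ℕ) ≠ 4 by norm_num, if_false] at h ⊢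
    · linear_combination (x + 1) * h
    · linear_combination h
    · linear_combination h
  simp only [hinv]
  split_ifs with h
  · have h2 : (2 : F) = 0 := by
      have := FiniteField.cast_card_eq_zero F
      rw [h] at this
      have h4 : (2 : F) * 2 = 0 := by rw [← this]; norm_num
      exact (mul_self_eq_zero.mp h4)
    linear_combination a * b * h2
  · simp

theorem exists_intermediate_monomial [Fintype F] {t m : ℕ} (hn : 13 ≤ n) {D : Fin t → Submodule F (Fin n → F)}
    (hD : Cfsg.Geo.IsMDecomposition m D) (h : (m = 1 ∧ Fintype.card F ≤ 4) ∨ (m = 2 ∧ Fintype.card F = 2)) :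
    ∃ K : Subgroup (Matrix.GeneralLinearGroup (Fin n) F),
      Cfsg.Geo.decompositionStabilizer D ⊓ Cfsg.Geo.specialLinear (Fin n) F < K ∧
        K < Cfsg.Geo.specialLinear (Fin n) F := by
  classical
  obtain ⟨b, hb⟩ := exists_adapted_basis hD
  have htm : t * m = n := by
    have := Module.finrank_eq_card_basis b
    rw [Module.finrank_fin_fun, Fintype.card_prod, Fintype.card_fin, Fintype.card_fin] at this
    exact this.symm
  have hmem : ∀ i k, b (i, k) ∈ D i := by
    intro i k
    obtain ⟨x, hx, hxk⟩ : ∃ x, x = b (i, k) ∧ True := ⟨_, rfl, trivial⟩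
    have hfin : Submodule.span F (Set.range fun k' => b (i, k')) = D i := by
      have hle : D i ≤ Submodule.span F (Set.range fun k' => b (i, k')) := fun y hy => by
        rw [← b.sum_repr y, Fintype.sum_prod_type]
        refine Submodule.sum_mem _ fun j _ => Submodule.sum_mem _ fun k' _ => ?_
        by_cases hj : j = i
        · subst hj; exact Submodule.smul_mem _ _ (Submodule.subset_span ⟨k', rfl⟩)
        · rw [hb i y hy j k' hj, zero_smul]; exact Submodule.zero_mem _
      refine (Submodule.eq_of_le_of_finrank_le hle ?_).symm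
      rw [hD.finrank_eq i]
      exact (finrank_range_le_card _).trans (by simp)
    exact hfin ▸ Submodule.subset_span ⟨k, rfl⟩
  rcases h with ⟨rfl, hq⟩ | ⟨rfl, hq⟩
  · -- monomial: a Hermitian-like form
    have ht : 13 ≤ t := by omega
    let r : Fin t → (Fin n → F) →ₗ[F] F := fun i => b.coord (i, 0)
    have hr : ∀ i j, r i (b (j, 0)) = if j = i then 1 else 0 := fun i j => by
      simp [r, Finsupp.single_apply]
    let f : (Fin n → F) → (Fin n → F) → F := fun x y => ∑ i, r i x * (r i y)⁻¹
    have hfadd1 : ∀ x x' y, f (x + x') y = f x y + f x' y := fun x x' y => by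
      simp [f, add_mul, Finset.sum_add_distrib]
    have hfadd2 : ∀ x y y', f x (y + y') = f x y + f x y' := fun x y y' => by
      simp [f, inv_add_of_card_le_four hq, mul_add, Finset.sum_add_distrib]
    have hfs1 : ∀ (c : F) x y, f (c • x) y = c * f x y := fun c x y => by
      simp [f, Finset.mul_sum, mul_assoc]
    have hfs2 : ∀ (c : F) x y, f x (c • y) = c⁻¹ * f x y := fun c x y => by
      simp only [f, map_smul, smul_eq_mul, mul_inv, Finset.mul_sum]
      exact Finset.sum_congr rfl fun i _ => by ring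
    refine exists_intermediate_form f ?_ ?g1 ?h1 ?h1' ?g2 ?h2
    · rintro g ⟨σ, hσ⟩ x y
      simp only [Units.coeHom_apply]
      have key : ∀ j i, r j (g.val *ᵥ b (i, 0)) = if σ i = j then r (σ i) (g.val *ᵥ b (i, 0)) else 0 := by
        intro j i
        split_ifs with h
        · rw [h]
        · exact hb (σ i) _ (mulVec_mem_of_decomposition hσ (hmem i 0)) j 0 (Ne.symm h)
      have hexp : ∀ z i, r (σ i) (g.val *ᵥ z) = r i z * r (σ i) (g.val *ᵥ b (i, 0)) := by
        intro z i
        conv_lhs => rw [← b.sum_repr z, Fintype.sum_prod_type]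
        rw [Matrix.mulVec_sum, map_sum, Finset.sum_eq_single i]
        · simp [Matrix.mulVec_smul, r]
        · intro j _ hj
          simp only [Finset.univ_unique, Finset.sum_singleton, Matrix.mulVec_smul, map_smul, smul_eq_mul]
          rw [Fin.default_eq_zero, key, if_neg (fun e => hj (σ.injective e)), mul_zero]
        · simp
      have hne : ∀ i, r (σ i) (g.val *ᵥ b (i, 0)) ≠ 0 := by
        intro i h0
        have hz : g.val *ᵥ b (i, 0) = 0 := by
          apply b.repr.map_eq_zero_iff.mp
          ext ⟨j, k⟩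
          obtain rfl : k = 0 := Subsingleton.elim _ _
          rw [Finsupp.zero_apply]
          change r j (g.val *ᵥ b (i, 0)) = 0
          rw [key]; split_ifs with h
          · exact h0
          · rfl
        exact b.ne_zero (i, 0) (Matrix.mulVec_injective_of_isUnit g.isUnit (hz.trans (Matrix.mulVec_zero _).symm))
      change ∑ i, r i (g.val *ᵥ x) * (r i (g.val *ᵥ y))⁻¹ = ∑ i, r i x * (r i y)⁻¹
      rw [← Equiv.sum_comp σ]
      refine Finset.sum_congr rfl fun i _ => ?_
      rw [hexp x, hexp y, mul_inv]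
      field_simp [hne i]
    case g2 => exact slT (r ⟨0, by omega⟩) (b (⟨1, by omega⟩, 0)) (by rw [hr, if_neg (by simp [Fin.ext_iff])])
    case h2 =>
      refine ⟨b (⟨0, by omega⟩, 0), b (⟨0, by omega⟩, 0), ?_⟩
      rw [slT_apply, hr, if_pos rfl, one_smul, hfadd1, hfadd2, hfadd2]
      have e : ∀ i j, f (b (i, 0)) (b (j, 0)) = if i = j then 1 else 0 := fun i j => by
        change ∑ l, r l (b (i, 0)) * (r l (b (j, 0)))⁻¹ = _
        simp only [hr]
        rw [Finset.sum_eq_single i (fun l _ hl => by rw [if_neg (Ne.symm hl), zero_mul]) (by simp), if_pos rfl, one_mul]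
        by_cases hij : i = j <;> simp [hij, eq_comm]
      simp [e, Fin.ext_iff]
    case g1 =>
      refine slT (∑ i : Fin (ringChar F), r ⟨i, ?_⟩) (∑ i : Fin (ringChar F), b (⟨4 + i, ?_⟩, 0)) ?_ *
        slT (-∑ i : Fin (ringChar F), r ⟨4 + i, ?_⟩) (∑ i : Fin (ringChar F), b (⟨i, ?_⟩, 0)) ?_
      case refine_1 | refine_2 | refine_4 | refine_5 =>
        have hle : ringChar F ≤ 4 := (Nat.le_of_dvd Fintype.card_pos
          (ringChar.dvd (FiniteField.cast_card_eq_zero F))).trans hq
        have := i.2
        omega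
      case refine_3 | refine_6 =>
        have hle : ringChar F ≤ 4 := (Nat.le_of_dvd Fintype.card_pos
          (ringChar.dvd (FiniteField.cast_card_eq_zero F))).trans hq
        simp only [map_sum, LinearMap.neg_apply, LinearMap.sum_apply, hr, neg_eq_zero]
        refine Finset.sum_eq_zero fun i _ => ?_
        try rw [neg_eq_zero]
        refine Finset.sum_eq_zero fun j _ => if_neg ?_
        simp only [Fin.ext_iff]; omega
    case h1 =>
      intro x y
      have hle : ringChar F ≤ 4 := (Nat.le_of_dvd Fintype.card_pos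
        (ringChar.dvd (FiniteField.cast_card_eq_zero F))).trans hq
      have hp0 : (ringChar F : F) = 0 := ringChar.Nat.cast_ringChar
      simp only [slGroup.mul_apply', slT_apply]
      generalize hU : (∑ i : Fin (ringChar F), r ⟨i, by have := i.2; omega⟩) = U
      generalize hW : (∑ i : Fin (ringChar F), r ⟨4 + i, by have := i.2; omega⟩) = W
      generalize hu : (∑ i : Fin (ringChar F), b (⟨i, by have := i.2; omega⟩, (0 : Fin 1))) = u
      generalize hv : (∑ i : Fin (ringChar F), b (⟨4 + i, by have := i.2; omega⟩, (0 : Fin 1))) = v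
      have hf0 : ∀ i z, f (b (i, 0)) z = (r i z)⁻¹ := fun i z => by
        change ∑ l, r l (b (i, 0)) * (r l z)⁻¹ = _
        rw [Finset.sum_eq_single i (fun l _ hl => by rw [hr, if_neg (Ne.symm hl), zero_mul]) (by simp), hr,
          if_pos rfl, one_mul]
      have hf0' : ∀ i z, f z (b (i, 0)) = r i z := fun i z => by
        change ∑ l, r l z * (r l (b (i, 0)))⁻¹ = _
        rw [Finset.sum_eq_single i (fun l _ hl => by rw [hr, if_neg (Ne.symm hl), _root_.inv_zero, mul_zero]) (by simp), hr,
          if_pos rfl, inv_one, mul_one]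
      let L : (Fin n → F) → (Fin n → F) →+ F := fun z => AddMonoidHom.mk' (fun a => f a z) fun a a' => hfadd1 a a' z
      let R : (Fin n → F) → (Fin n → F) →+ F := fun z => AddMonoidHom.mk' (fun a => f z a) fun a a' => hfadd2 z a a'
      let I : F →+ F := AddMonoidHom.mk' (fun a => a⁻¹) (inv_add_of_card_le_four hq)
      have hLu : ∀ z, f u z = (U z)⁻¹ := fun z => by
        change L z u = I (U z)
        rw [← hu, ← hU, map_sum, LinearMap.sum_apply, map_sum]
        exact Finset.sum_congr rfl fun i _ => hf0 _ z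
      have hLv : ∀ z, f v z = (W z)⁻¹ := fun z => by
        change L z v = I (W z)
        rw [← hv, ← hW, map_sum, LinearMap.sum_apply, map_sum]
        exact Finset.sum_congr rfl fun i _ => hf0 _ z
      have hRu : ∀ z, f z u = U z := fun z => by
        change R z u = _
        rw [← hu, ← hU, map_sum, LinearMap.sum_apply]
        exact Finset.sum_congr rfl fun i _ => hf0' _ z
      have hRv : ∀ z, f z v = W z := fun z => by
        change R z v = _
        rw [← hv, ← hW, map_sum, LinearMap.sum_apply]
        exact Finset.sum_congr rfl fun i _ => hf0' _ z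
      have hUu : U u = 0 := by
        rw [← hu, ← hU, map_sum]
        simp only [LinearMap.sum_apply, hr, Fin.ext_iff]
        simp [← Fin.ext_iff, hp0]
      have hWv : W v = 0 := by
        rw [← hv, ← hW, map_sum]
        simp only [LinearMap.sum_apply, hr, Fin.ext_iff]
        simp [← Fin.ext_iff, hp0]
      have hUv : U v = 0 := by
        rw [← hv, ← hU, map_sum]
        simp only [LinearMap.sum_apply, hr]
        exact Finset.sum_eq_zero fun i _ => Finset.sum_eq_zero fun j _ => if_neg (by simp only [Fin.ext_iff]; omega)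
      have hWu : W u = 0 := by
        rw [← hu, ← hW, map_sum]
        simp only [LinearMap.sum_apply, hr]
        exact Finset.sum_eq_zero fun i _ => Finset.sum_eq_zero fun j _ => if_neg (by simp only [Fin.ext_iff]; omega)
      have hneg : ∀ a : F, (-a)⁻¹ = -a⁻¹ := fun a => inv_neg
      simp only [LinearMap.neg_apply, map_add, map_neg, map_smul, hfadd1, hfadd2, hfs1, hfs2,
        smul_eq_mul, hLu, hLv, hRu, hRv, hUu, hWv, hUv, hWu, _root_.inv_zero,
        mul_zero, add_zero, neg_zero, inv_neg, inv_one]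
      ring
    case h1' =>
      have hle : ringChar F ≤ 4 := (Nat.le_of_dvd Fintype.card_pos
        (ringChar.dvd (FiniteField.cast_card_eq_zero F))).trans hq
      have hpos : 0 < ringChar F := Nat.pos_of_ne_zero (CharP.ringChar_ne_zero_of_finite F)
      rintro ⟨σ, hσ⟩
      have hm' := mulVec_mem_of_decomposition hσ (hmem ⟨0, by omega⟩ 0)
      have hcoord : ∀ j, j ≠ σ ⟨0, by omega⟩ → r j ((slToGL (Fin n) F _).val *ᵥ b (⟨0, by omega⟩, 0)) = 0 :=
        fun j hj => hb _ _ hm' j 0 hj
      simp only [slToGL_mulVec, slGroup.mul_apply', slT_apply, map_sum, map_add, map_smul, map_neg,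
        LinearMap.neg_apply, LinearMap.sum_apply, hr, smul_eq_mul] at hcoord
      have c1 : (Finset.univ.filter fun x : Fin (ringChar F) => 0 = (x : ℕ)).card = 1 :=
        Finset.card_eq_one.mpr ⟨⟨0, hpos⟩, Finset.ext fun x => by simp [Fin.ext_iff, eq_comm]⟩
      have c2 : (Finset.univ.filter fun x : Fin (ringChar F) => (x : ℕ) = 0).card = 1 :=
        Finset.card_eq_one.mpr ⟨⟨0, hpos⟩, Finset.ext fun x => by simp [Fin.ext_iff]⟩
      have c3 : (Finset.univ.filter fun x : Fin (ringChar F) => 0 = 4 + (x : ℕ)).card = 0 :=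
        Finset.card_eq_zero.mpr (Finset.filter_false_of_mem fun x _ => by omega)
      by_cases hσ0 : σ ⟨0, by omega⟩ = ⟨0, by omega⟩
      · have := hcoord ⟨4, by omega⟩ (by rw [hσ0]; simp [Fin.ext_iff])
        simp [Fin.ext_iff] at this
        simp [c1, c2, c3] at this
      · have := hcoord ⟨0, by omega⟩ (Ne.symm hσ0)
        simp [Fin.ext_iff] at this
        simp [c1, c2, c3] at this
  · -- blocks of size two over the field with two elements
    have ht : 7 ≤ t := by omega
    have hF : ∀ a : F, a = 0 ∨ a = 1 := fun a => by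
      rcases eq_or_ne a 0 with h | h
      · exact Or.inl h
      · have := FiniteField.pow_card_sub_one_eq_one a h
        rw [hq] at this
        exact Or.inr (by simpa using this)
    let r : Fin t → Fin 2 → (Fin n → F) →ₗ[F] F := fun i k => b.coord (i, k)
    have hr : ∀ i k j l, r i k (b (j, l)) = if j = i ∧ l = k then 1 else 0 := fun i k j l => by
      simp [r, Finsupp.single_apply, Prod.ext_iff]
    let f : (Fin n → F) → (Fin n → F) → F := fun x y => ∑ i, (r i 0 x * r i 1 y - r i 1 x * r i 0 y)
    let i0 : Fin t := ⟨0, by omega⟩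
    let i1 : Fin t := ⟨1, by omega⟩
    have h01 : i0 ≠ i1 := by simp [i0, i1, Fin.ext_iff]
    let φ : Module.Dual F (Fin n → F) := r i0 1 + r i1 1
    have hv : φ (b (i0, 0) + b (i1, 0)) = 0 := by simp [φ, hr]
    have hw : r i0 0 (b (i1, 0)) = 0 := by simp [hr, h01.symm]
    refine exists_intermediate_form f ?_ (slT φ (b (i0, 0) + b (i1, 0)) hv) ?_ ?_ (slT (r i0 0) (b (i1, 0)) hw) ?_
    · rintro g ⟨σ, hσ⟩ x y
      simp only [Units.coeHom_apply]
      have key : ∀ j k i l, j ≠ σ i → r j k (g.val *ᵥ b (i, l)) = 0 := fun j k i l h =>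
        hb (σ i) _ (mulVec_mem_of_decomposition hσ (hmem i l)) j k h
      set A : Fin t → Fin 2 → Fin 2 → F := fun i k l => r (σ i) k (g.val *ᵥ b (i, l))
      have hexp : ∀ z i k, r (σ i) k (g.val *ᵥ z) = r i 0 z * A i k 0 + r i 1 z * A i k 1 := by
        intro z i k
        conv_lhs => rw [← b.sum_repr z, Fintype.sum_prod_type]
        rw [Matrix.mulVec_sum, map_sum, Finset.sum_eq_single i]
        · simp [Matrix.mulVec_sum, Fin.sum_univ_two, Matrix.mulVec_add, Matrix.mulVec_smul, r, A]
        · intro j _ hj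
          rw [Matrix.mulVec_sum, map_sum]
          refine Finset.sum_eq_zero fun l _ => ?_
          rw [Matrix.mulVec_smul, map_smul, key _ _ _ _ (fun e => hj (σ.injective e.symm)), smul_zero]
        · simp
      have hdet : ∀ i, A i 0 0 * A i 1 1 - A i 1 0 * A i 0 1 = 1 := by
        intro i
        refine (hF _).resolve_left fun h0 => ?_
        obtain ⟨p, hp, hp0, hp1⟩ : ∃ p : Fin 2 → F, p ≠ 0 ∧ p 0 * A i 0 0 + p 1 * A i 0 1 = 0 ∧
            p 0 * A i 1 0 + p 1 * A i 1 1 = 0 := by
          by_cases h : A i 1 1 = 0 ∧ A i 1 0 = 0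
          · by_cases h' : A i 0 1 = 0 ∧ A i 0 0 = 0
            · exact ⟨![1, 0], fun e => one_ne_zero (congrFun e 0), by simp [h'.2], by simp [h.2]⟩
            · exact ⟨![A i 0 1, -A i 0 0], fun e => h' ⟨congrFun e 0, neg_eq_zero.mp (congrFun e 1)⟩,
                by simp; ring, by simp [h.1, h.2]⟩
          · exact ⟨![A i 1 1, -A i 1 0], fun e => h ⟨congrFun e 0, neg_eq_zero.mp (congrFun e 1)⟩,
              by simp; linear_combination h0, by simp; ring⟩
        set z := p 0 • b (i, 0) + p 1 • b (i, 1) with hz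
        have hz0 : g.val *ᵥ z = 0 := by
          apply b.repr.map_eq_zero_iff.mp
          ext ⟨j, k⟩
          rw [Finsupp.zero_apply]
          change r j k (g.val *ᵥ z) = 0
          rw [hz, Matrix.mulVec_add, Matrix.mulVec_smul, Matrix.mulVec_smul, map_add, map_smul, map_smul]
          by_cases hj : j = σ i
          · subst hj
            fin_cases k
            · exact hp0
            · exact hp1
          · rw [key _ _ _ _ hj, key _ _ _ _ hj, smul_zero, smul_zero, add_zero]
        have hz' : z = 0 := Matrix.mulVec_injective_of_isUnit g.isUnit (hz0.trans (Matrix.mulVec_zero _).symm)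
        apply hp
        funext k
        have := congrArg (r i k) hz'
        fin_cases k <;> simpa [hz, hr] using this
      change ∑ i, (r i 0 (g.val *ᵥ x) * r i 1 (g.val *ᵥ y) - r i 1 (g.val *ᵥ x) * r i 0 (g.val *ᵥ y)) =
        ∑ i, (r i 0 x * r i 1 y - r i 1 x * r i 0 y)
      rw [← Equiv.sum_comp σ]
      refine Finset.sum_congr rfl fun i _ => ?_
      rw [hexp, hexp, hexp, hexp]
      linear_combination (r i 0 x * r i 1 y - r i 1 x * r i 0 y) * hdet i
    · intro x y
      simp only [slT_apply]
      have e1 : ∀ z, f (b (i0, 0) + b (i1, 0)) z = φ z := fun z => by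
        simp [f, φ, hr, add_mul, Finset.sum_add_distrib, ite_and, sub_eq_add_neg]
      have e2 : ∀ z, f z (b (i0, 0) + b (i1, 0)) = -φ z := fun z => by
        simp [f, φ, hr, mul_add, Finset.sum_add_distrib, ite_and, sub_eq_add_neg]
        try ring
      have hlin : f (x + φ x • (b (i0, 0) + b (i1, 0))) (y + φ y • (b (i0, 0) + b (i1, 0))) =
          f x y + φ x * f (b (i0, 0) + b (i1, 0)) y + φ y * f x (b (i0, 0) + b (i1, 0)) +
            φ x * φ y * f (b (i0, 0) + b (i1, 0)) (b (i0, 0) + b (i1, 0)) := by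
        simp only [f, map_add, map_smul, smul_eq_mul, Finset.mul_sum, ← Finset.sum_add_distrib]
        exact Finset.sum_congr rfl fun i _ => by ring
      rw [hlin, e1, e2, e1, hv]
      ring
    · rintro ⟨σ, hσ⟩
      have hm' := mulVec_mem_of_decomposition hσ (hmem i0 1)
      rw [slToGL_slT_mulVec] at hm'
      have hφ : φ (b (i0, 1)) = 1 := by simp [φ, hr, h01]
      rw [hφ, one_smul] at hm'
      by_cases h : σ i0 = i0
      · have := hb _ _ hm' i1 0 (by rw [h]; exact h01.symm)
        simp [h01, Finsupp.single_apply] at this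
      · have := hb _ _ hm' i0 1 (Ne.symm h)
        simp [h01, Finsupp.single_apply] at this
    · refine ⟨b (i0, 0), b (i1, 1), ?_⟩
      rw [slT_apply, slT_apply]
      simp [f, hr, h01, h01.symm, ite_and]

end Cfsg.Lib.Classical
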