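import Mathlib

/-! An affine group with a second maximal subgroup that is not maximal in every maximal overgroup. -/

set_option autoImplicit false
set_option linter.style.haveILetI false

namespace Cfsg.Lib.Classical.AffineExample

open scoped LinearAlgebra.Projectivization

theorem exists_example (p d : ℕ) (hp : p.Prime) (hd : 2 ≤ d) :
    ∃ (G : Type) (_ : Group G) (_ : Finite G) (M H K : Subgroup G), IsCoatom M ∧ M.index = p ^ d ∧ H ≤ M ∧
      IsCoatom (H.subgroupOf M) ∧ IsCoatom K ∧ H ≤ K ∧ ¬ IsCoatom (H.subgroupOf K) := by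
  classical
  haveI := Fact.mk hp
  let φ : ((Fin d → ZMod p) ≃ₗ[ZMod p] (Fin d → ZMod p)) →* MulAut (Multiplicative (Fin d → ZMod p)) :=
    { toFun := fun e => AddEquiv.toMultiplicative e.toAddEquiv
      map_one' := by ext x; rfl
      map_mul' := fun a b => by ext x; rfl }
  haveI : Finite ((Fin d → ZMod p) ≃ₗ[ZMod p] (Fin d → ZMod p)) := Finite.of_injective (fun e : ((Fin d → ZMod p) ≃ₗ[ZMod p] (Fin d → ZMod p)) => (e : (Fin d → ZMod p) → (Fin d → ZMod p))) DFunLike.coe_injective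
  haveI : Finite (SemidirectProduct (Multiplicative (Fin d → ZMod p)) ((Fin d → ZMod p) ≃ₗ[ZMod p] (Fin d → ZMod p)) φ) := Finite.of_equiv _ SemidirectProduct.equivProd.symm
  let e0 : (Fin d → ZMod p) := Pi.single ⟨0, by omega⟩ 1
  let e1 : (Fin d → ZMod p) := Pi.single ⟨1, by omega⟩ 1
  have h0 : e0 ≠ 0 := fun h => by simpa [e0] using congrFun h ⟨0, by omega⟩
  have h1 : e1 ∉ Submodule.span (ZMod p) {e0} := fun h => by
    obtain ⟨c, hc⟩ := Submodule.mem_span_singleton.mp h
    have := congrFun hc ⟨1, by omega⟩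
    simp [e0, e1] at this
  have h10 : e1 ≠ 0 := fun h => h1 (h ▸ Submodule.zero_mem _)
  let L : ℙ (ZMod p) (Fin d → ZMod p) := Projectivization.mk _ e0 h0
  haveI : Nontrivial (ℙ (ZMod p) (Fin d → ZMod p)) := ⟨⟨L, Projectivization.mk _ e1 h10, fun h => h1 (by
    obtain ⟨a, ha⟩ := (Projectivization.mk_eq_mk_iff' _ _ _ h0 h10).mp h
    refine Submodule.mem_span_singleton.mpr ?_
    have ha0 : a ≠ 0 := fun ha0 => h0 (by rw [← ha, ha0, zero_smul])
    exact ⟨a⁻¹, by rw [← ha, inv_smul_smul₀ ha0]⟩)⟩⟩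
  haveI : MulAction.IsPreprimitive ((Fin d → ZMod p) ≃ₗ[ZMod p] (Fin d → ZMod p)) (ℙ (ZMod p) (Fin d → ZMod p)) :=
    MulAction.isPreprimitive_of_is_two_pretransitive inferInstance
  let S : Subgroup ((Fin d → ZMod p) ≃ₗ[ZMod p] (Fin d → ZMod p)) := MulAction.stabilizer ((Fin d → ZMod p) ≃ₗ[ZMod p] (Fin d → ZMod p)) L
  have hS : IsCoatom S := MulAction.IsPreprimitive.isCoatom_stabilizer_of_isPreprimitive ((Fin d → ZMod p) ≃ₗ[ZMod p] (Fin d → ZMod p)) L
  have hSZ : ∀ e ∈ S, ∀ v ∈ Submodule.span (ZMod p) {e0}, e v ∈ Submodule.span (ZMod p) {e0} := by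
    intro e he v hv
    obtain ⟨c, rfl⟩ := Submodule.mem_span_singleton.mp hv
    rw [map_smul]
    refine Submodule.smul_mem _ c (Submodule.mem_span_singleton.mpr ?_)
    have hm : Projectivization.mk (ZMod p) (e e0) (by simpa using h0) = L := he
    exact (Projectivization.mk_eq_mk_iff' _ _ _ _ h0).mp hm
  let M : Subgroup (SemidirectProduct (Multiplicative (Fin d → ZMod p)) ((Fin d → ZMod p) ≃ₗ[ZMod p] (Fin d → ZMod p)) φ) := (SemidirectProduct.inr : ((Fin d → ZMod p) ≃ₗ[ZMod p] (Fin d → ZMod p)) →* (SemidirectProduct (Multiplicative (Fin d → ZMod p)) ((Fin d → ZMod p) ≃ₗ[ZMod p] (Fin d → ZMod p)) φ)).range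
  let K : Subgroup (SemidirectProduct (Multiplicative (Fin d → ZMod p)) ((Fin d → ZMod p) ≃ₗ[ZMod p] (Fin d → ZMod p)) φ) := S.comap SemidirectProduct.rightHom
  let J : Subgroup (SemidirectProduct (Multiplicative (Fin d → ZMod p)) ((Fin d → ZMod p) ≃ₗ[ZMod p] (Fin d → ZMod p)) φ) :=
    { carrier := {g | Multiplicative.toAdd g.left ∈ Submodule.span (ZMod p) {e0} ∧ g.right ∈ S}
      one_mem' := ⟨Submodule.zero_mem _, S.one_mem⟩
      mul_mem' := fun {a b} ha hb => ⟨Submodule.add_mem _ ha.1 (hSZ _ ha.2 _ hb.1), S.mul_mem ha.2 hb.2⟩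
      inv_mem' := fun {a} ha => ⟨hSZ _ (S.inv_mem ha.2) _ (Submodule.neg_mem _ ha.1), S.inv_mem ha.2⟩ }
  let H : Subgroup (SemidirectProduct (Multiplicative (Fin d → ZMod p)) ((Fin d → ZMod p) ≃ₗ[ZMod p] (Fin d → ZMod p)) φ) := S.map SemidirectProduct.inr
  have hHM : H ≤ M := by rintro _ ⟨e, -, rfl⟩; exact ⟨e, rfl⟩
  have hHK : H ≤ K := by rintro _ ⟨e, he, rfl⟩; simpa [K] using he
  refine ⟨(SemidirectProduct (Multiplicative (Fin d → ZMod p)) ((Fin d → ZMod p) ≃ₗ[ZMod p] (Fin d → ZMod p)) φ), inferInstance, inferInstance, M, H, K, ?_, ?_, hHM, ?_, ?_, hHK, ?_⟩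
  · refine ⟨fun h => ?_, fun N hN => ?_⟩
    · have : (SemidirectProduct.inl (Multiplicative.ofAdd e0) : (SemidirectProduct (Multiplicative (Fin d → ZMod p)) ((Fin d → ZMod p) ≃ₗ[ZMod p] (Fin d → ZMod p)) φ)) ∈ M := h ▸ Subgroup.mem_top _
      obtain ⟨e, he⟩ := this
      have h' := congrArg (fun g : (SemidirectProduct (Multiplicative (Fin d → ZMod p)) ((Fin d → ZMod p) ≃ₗ[ZMod p] (Fin d → ZMod p)) φ) => Multiplicative.toAdd g.left) he
      simp at h'
      exact h0 h'.symm
    obtain ⟨g, hgN, hgM⟩ := SetLike.exists_of_lt hN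
    have hMN : ∀ e : ((Fin d → ZMod p) ≃ₗ[ZMod p] (Fin d → ZMod p)), (SemidirectProduct.inr e : (SemidirectProduct (Multiplicative (Fin d → ZMod p)) ((Fin d → ZMod p) ≃ₗ[ZMod p] (Fin d → ZMod p)) φ)) ∈ N := fun e => hN.le ⟨e, rfl⟩
    have hv : (SemidirectProduct.inl g.left : (SemidirectProduct (Multiplicative (Fin d → ZMod p)) ((Fin d → ZMod p) ≃ₗ[ZMod p] (Fin d → ZMod p)) φ)) ∈ N := by
      have := N.mul_mem hgN (N.inv_mem (hMN g.right))
      convert this using 1
      rw [eq_mul_inv_iff_mul_eq]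
      exact SemidirectProduct.inl_left_mul_inr_right g
    have hne : Multiplicative.toAdd g.left ≠ 0 := fun h => hgM ⟨g.right, by
      conv_rhs => rw [← SemidirectProduct.inl_left_mul_inr_right g]
      rw [show g.left = 1 from h, map_one, one_mul]⟩
    rw [eq_top_iff]
    intro x _
    rw [← SemidirectProduct.inl_left_mul_inr_right x]
    refine N.mul_mem ?_ (hMN _)
    by_cases hx : Multiplicative.toAdd x.left = 0
    · rw [show x.left = 1 from hx, map_one]
      exact N.one_mem
    obtain ⟨e, he⟩ : ∃ e : ((Fin d → ZMod p) ≃ₗ[ZMod p] (Fin d → ZMod p)), e (Multiplicative.toAdd g.left) = Multiplicative.toAdd x.left := by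
      obtain ⟨f, hf⟩ := MulAction.exists_smul_eq ((Fin d → ZMod p) ≃ₗ[ZMod p] (Fin d → ZMod p)) (Projectivization.mk (ZMod p) _ hne) (Projectivization.mk _ _ hx)
      have hm : Projectivization.mk (ZMod p) (f (Multiplicative.toAdd g.left)) (by simpa using hne) =
          Projectivization.mk (ZMod p) _ hx := hf
      obtain ⟨a, ha⟩ := (Projectivization.mk_eq_mk_iff' _ _ _ _ hx).mp hm
      have ha0 : a ≠ 0 := fun ha0 => (by simpa using hne : f (Multiplicative.toAdd g.left) ≠ 0)
        (by rw [← ha, ha0, zero_smul])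
      refine ⟨f.trans (LinearEquiv.smulOfUnit (Units.mk0 a ha0)).symm, ?_⟩
      rw [LinearEquiv.trans_apply, LinearEquiv.symm_apply_eq]
      exact ha.symm
    have h2 := N.mul_mem (N.mul_mem (hMN e) hv) (N.inv_mem (hMN e))
    rw [← map_inv, ← SemidirectProduct.inl_aut] at h2
    convert h2 using 2
    exact (congrArg Multiplicative.ofAdd he).symm
  · have hM : Nat.card M = Nat.card ((Fin d → ZMod p) ≃ₗ[ZMod p] (Fin d → ZMod p)) :=
      (Nat.card_congr (MonoidHom.ofInjective SemidirectProduct.inr_injective).toEquiv).symm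
    have := M.card_mul_index
    rw [hM, SemidirectProduct.card, mul_comm (Nat.card (Multiplicative (Fin d → ZMod p)))] at this
    rw [Nat.eq_of_mul_eq_mul_left Nat.card_pos this]
    show Nat.card (Fin d → ZMod p) = p ^ d
    simp
  · have key : H.subgroupOf M =
        S.map (MonoidHom.ofInjective (f := (SemidirectProduct.inr : ((Fin d → ZMod p) ≃ₗ[ZMod p] (Fin d → ZMod p)) →* (SemidirectProduct (Multiplicative (Fin d → ZMod p)) ((Fin d → ZMod p) ≃ₗ[ZMod p] (Fin d → ZMod p)) φ))) SemidirectProduct.inr_injective).toMonoidHom := by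
      ext x
      constructor
      · rintro ⟨e, he, hex⟩
        exact ⟨e, he, Subtype.ext hex⟩
      · rintro ⟨e, he, rfl⟩
        exact ⟨e, he, rfl⟩
    rw [key]
    exact (OrderIso.isCoatom_iff
      (MonoidHom.ofInjective (f := (SemidirectProduct.inr : ((Fin d → ZMod p) ≃ₗ[ZMod p] (Fin d → ZMod p)) →* (SemidirectProduct (Multiplicative (Fin d → ZMod p)) ((Fin d → ZMod p) ≃ₗ[ZMod p] (Fin d → ZMod p)) φ))) SemidirectProduct.inr_injective).mapSubgroup S).mpr hS
  · refine ⟨fun h => hS.1 ?_, fun N hN => ?_⟩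
    · rw [← Subgroup.map_comap_eq_self_of_surjective (f := SemidirectProduct.rightHom (φ := φ))
        SemidirectProduct.rightHom_surjective S]
      show K.map _ = ⊤
      rw [h, Subgroup.map_top_of_surjective _ SemidirectProduct.rightHom_surjective]
    obtain ⟨g, hgN, hgK⟩ := SetLike.exists_of_lt hN
    have hker : (SemidirectProduct.rightHom (φ := φ)).ker ≤ N := fun x hx => hN.le (by
      show SemidirectProduct.rightHom x ∈ S
      rw [show SemidirectProduct.rightHom x = 1 from hx]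
      exact S.one_mem)
    have htop : N.map (SemidirectProduct.rightHom (φ := φ)) = ⊤ := by
      refine hS.2 _ ?_
      refine SetLike.lt_iff_le_and_exists.mpr ⟨?_, SemidirectProduct.rightHom g, Subgroup.mem_map_of_mem _ hgN, hgK⟩
      intro e he
      refine ⟨SemidirectProduct.inr e, hN.le ?_, by simp⟩
      simpa [K] using he
    rw [← Subgroup.comap_map_eq_self hker, htop, Subgroup.comap_top]
  · intro hc
    have hJK : J ≤ K := fun x hx => hx.2
    have hlt : H.subgroupOf K < J.subgroupOf K := by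
      refine SetLike.lt_iff_le_and_exists.mpr ⟨?_, ⟨SemidirectProduct.inl (Multiplicative.ofAdd e0),
        by simp [K]⟩, ?_, ?_⟩
      · rintro x ⟨e, he, hex⟩
        show (x : (SemidirectProduct (Multiplicative (Fin d → ZMod p)) ((Fin d → ZMod p) ≃ₗ[ZMod p] (Fin d → ZMod p)) φ)) ∈ J
        rw [show (x : (SemidirectProduct (Multiplicative (Fin d → ZMod p)) ((Fin d → ZMod p) ≃ₗ[ZMod p] (Fin d → ZMod p)) φ)) = SemidirectProduct.inr e from hex.symm]
        exact ⟨by simp, by simpa using he⟩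
      · exact ⟨by simpa using Submodule.mem_span_singleton_self e0, by simp⟩
      · rintro ⟨e, -, he⟩
        have h' := congrArg (fun g : (SemidirectProduct (Multiplicative (Fin d → ZMod p)) ((Fin d → ZMod p) ≃ₗ[ZMod p] (Fin d → ZMod p)) φ) => Multiplicative.toAdd g.left) he
        simp at h'
        exact h0 h'.symm
    have htop := hc.2 _ hlt
    have hmem : (⟨SemidirectProduct.inl (Multiplicative.ofAdd e1), by simp [K]⟩ : K) ∈ J.subgroupOf K := by
      rw [htop]; exact Subgroup.mem_top _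
    have h3 := (Subgroup.mem_subgroupOf.mp hmem).1
    exact h1 (by simpa using h3)

end Cfsg.Lib.Classical.AffineExample
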