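import Mathlib
import Cfsg.Prelude.Def_Perm

/-! Elements of prime order in `AGL₁(p²)` for a Mersenne prime `p`. -/

set_option autoImplicit false
set_option linter.style.haveILetI false

namespace Cfsg.Lib.Classical.AffineMersenne

theorem exists_conj (p s : ℕ) [Fact p.Prime] (hs : p = 2 ^ s - 1) (g : Equiv.Perm (GaloisField p 2))
    (hg : g ∈ Cfsg.affineGroup (GaloisField p 2)) (hord : (orderOf g).Prime) :
    ∃ x ∈ Cfsg.affineGroup (GaloisField p 2), ∃ a b : ZMod p, a ≠ 0 ∧
      ∀ y : GaloisField p 2, (x * g * x⁻¹) y =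
        algebraMap (ZMod p) (GaloisField p 2) a * y + algebraMap (ZMod p) (GaloisField p 2) b := by
  classical
  have hp := (Fact.out : p.Prime)
  obtain ⟨a, b, hab⟩ := hg
  by_cases ha : (a : GaloisField p 2) = 1
  · have hb : b ≠ 0 := fun hb => hord.ne_one (orderOf_eq_one_iff.mpr (Equiv.ext fun y => by
      rw [hab, ha, hb, one_mul, add_zero]; rfl))
    refine ⟨Equiv.mulLeft₀ b⁻¹ (inv_ne_zero hb), ⟨Units.mk0 b⁻¹ (inv_ne_zero hb), 0, fun y => by simp⟩,
      1, 1, one_ne_zero, fun y => ?_⟩
    simp [Equiv.Perm.inv_def, hab, ha]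
    field_simp
  · have hpow : ∀ n : ℕ, ∃ d, ∀ y, (g ^ n) y = ((a : GaloisField p 2) ^ n) * y + d := by
      intro n
      induction n with
      | zero => exact ⟨0, fun y => by simp⟩
      | succ n ih =>
        obtain ⟨d, hd⟩ := ih
        exact ⟨(a : GaloisField p 2) ^ n * b + d, fun y => by
          rw [pow_succ, Equiv.Perm.mul_apply, hd, hab]; ring⟩
    set r := orderOf g with hr
    obtain ⟨d, hd⟩ := hpow r
    have har : (a : GaloisField p 2) ^ r = 1 := by
      have h0 := hd 0
      have h1 := hd 1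
      rw [hr, pow_orderOf_eq_one, Equiv.Perm.one_apply, ← hr] at h0 h1
      rw [mul_zero, zero_add] at h0
      rw [mul_one, ← h0, add_zero] at h1
      exact h1.symm
    haveI : Fintype (GaloisField p 2) := Fintype.ofFinite _
    have hq : Fintype.card (GaloisField p 2) = p ^ 2 := by
      rw [← Nat.card_eq_fintype_card, GaloisField.card p 2 two_ne_zero]
    have hfull : (a : GaloisField p 2) ^ (p ^ 2 - 1) = 1 := hq ▸ FiniteField.pow_card_sub_one_eq_one _ a.ne_zero
    have hsub : (a : GaloisField p 2) ^ (p - 1) = 1 := by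
      have hrdvd : r ∣ p ^ 2 - 1 := by
        rcases (Nat.dvd_prime hord).mp (orderOf_dvd_of_pow_eq_one har) with h | h
        · exact absurd (orderOf_eq_one_iff.mp h) ha
        · exact h ▸ orderOf_dvd_of_pow_eq_one hfull
      have hdiv : r ∣ p - 1 := by
        rw [show p ^ 2 - 1 = (p + 1) * (p - 1) by rw [← Nat.sq_sub_sq, one_pow]] at hrdvd
        rcases (Nat.Prime.dvd_mul hord).mp hrdvd with h | h
        · rw [show p + 1 = 2 ^ s by have := hp.one_lt; omega] at h
          rw [(Nat.prime_dvd_prime_iff_eq hord Nat.prime_two).mp (hord.dvd_of_dvd_pow h)]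
          have hodd : p % 2 = 1 := by
            rcases s with _ | s
            · simp at hs; exact absurd hs hp.ne_zero
            · rw [hs, pow_succ]
              have := Nat.one_le_two_pow (n := s)
              omega
          omega
        · exact h
      obtain ⟨k, hk⟩ := hdiv
      rw [hk, pow_mul, har, one_pow]
    have hmem : (a : GaloisField p 2) ∈ (⊥ : Subfield (GaloisField p 2)) := by
      rw [Subfield.mem_bot_iff_pow_eq_self (GaloisField p 2) p]
      have e := pow_succ (a : GaloisField p 2) (p - 1)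
      rw [hsub, one_mul, Nat.sub_add_cancel hp.pos] at e
      exact e
    have hrange : (a : GaloisField p 2) ∈ (algebraMap (ZMod p) (GaloisField p 2)).fieldRange :=
      (bot_le : (⊥ : Subfield (GaloisField p 2)) ≤ _) hmem
    obtain ⟨a0, ha0⟩ := hrange
    have h1a : (1 : GaloisField p 2) - a ≠ 0 := sub_ne_zero.mpr (Ne.symm ha)
    refine ⟨Equiv.addRight (-(b / (1 - a))), ⟨1, -(b / (1 - a)), fun y => by simp⟩, a0, 0, ?_, fun y => ?_⟩
    · intro h
      exact a.ne_zero (by rw [← ha0, h, map_zero])
    · simp [Equiv.Perm.inv_def, hab, ha0]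
      field_simp
      ring

end Cfsg.Lib.Classical.AffineMersenne
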