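import Mathlib
import Cfsg.Agent.Known.AutPSLn.Out

/-! The order of the automorphism group of a simple group of non-prime order. -/

set_option autoImplicit false
set_option linter.style.haveILetI false

namespace Cfsg.Lib.Classical.AutCard

theorem card_mulAut {P : Type*} [Group P] [Finite P] [IsSimpleGroup P] {p k a b : ℕ} (hp : p.Prime) (hk : 2 ≤ k)
    (hcop : Nat.Coprime p a) (h : a * Nat.card P = p ^ k * b) :
    Nat.card (MulAut P) = Nat.card (Cfsg.Out P) * Nat.card P := by
  have hsq : p ^ 2 ∣ Nat.card P := (Nat.Coprime.pow_left 2 hcop).dvd_of_dvd_mul_left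
    (h ▸ (pow_dvd_pow p hk).mul_right b)
  have hnc : ¬ ∀ x y : P, x * y = y * x := fun hc => by
    letI : CommGroup P := { (inferInstance : Group P) with mul_comm := hc }
    have hpr : (Nat.card P).Prime := IsSimpleGroup.prime_card
    rcases hpr.eq_one_or_self_of_dvd p ((dvd_pow_self p two_ne_zero).trans hsq) with e | e
    · exact hp.ne_one e
    · rw [← e] at hsq
      have := Nat.le_of_dvd hp.pos hsq
      nlinarith [hp.two_le]
  have hinj : Function.Injective (MulAut.conj : P →* MulAut P) := by
    refine (MonoidHom.ker_eq_bot_iff _).mp ((MonoidHom.normal_ker _).eq_bot_or_eq_top.resolve_right fun ht => hnc ?_)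
    intro x y
    have := DFunLike.congr_fun (MonoidHom.mem_ker.mp (ht ▸ Subgroup.mem_top x : x ∈ (MulAut.conj : P →* MulAut P).ker)) y
    rw [MulAut.conj_apply, MulAut.one_apply, mul_inv_eq_iff_eq_mul] at this
    exact this
  have hInn : Nat.card (Cfsg.Inn P) = Nat.card P :=
    (Nat.card_congr (MonoidHom.ofInjective hinj).toEquiv).symm
  rw [← hInn]
  exact Subgroup.card_eq_card_quotient_mul_card_subgroup _

end Cfsg.Lib.Classical.AutCard
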