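import Mathlib

/-! Characteristically simple finite groups. -/

set_option autoImplicit false
set_option linter.style.haveILetI false

namespace Cfsg.Lib.Classical.CharSimple

universe u v

variable {G : Type u} [Group G]

theorem char_map_eq {H : Subgroup G} [hH : H.Characteristic] (φ : G ≃* G) : H.map φ.toMonoidHom = H :=
  Subgroup.characteristic_iff_map_eq.mp hH φ

theorem pi_eq_bot_or_top {S : Type v} [Group S] [Finite S] [IsSimpleGroup S] (n : ℕ) (K : Subgroup (Fin n → S))
    [K.Characteristic] : K = ⊥ ∨ K = ⊤ := by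
  classical
  by_cases hK : K = ⊥
  · exact Or.inl hK
  right
  obtain ⟨⟨x, hx⟩, hxne⟩ := (Subgroup.ne_bot_iff_exists_ne_one).mp hK
  have hx1 : x ≠ 1 := fun h => hxne (Subtype.ext h)
  obtain ⟨i, hi⟩ : ∃ i, x i ≠ 1 := by
    by_contra h
    push Not at h
    exact hx1 (funext h)
  obtain ⟨c, hc1, hc⟩ : ∃ c : S, c ≠ 1 ∧ (Pi.mulSingle i c : Fin n → S) ∈ K := by
    by_cases hab : ∀ a b : S, a * b = b * a
    · letI : CommGroup S := { (inferInstance : Group S) with mul_comm := hab }
      have hgen : ∀ s : S, ∃ k : ℤ, (x i) ^ k = s := by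
        intro s
        rcases Subgroup.Normal.eq_bot_or_eq_top (Subgroup.zpowers (x i)).normal_of_comm with h | h
        · exact absurd (Subgroup.zpowers_eq_bot.mp h) hi
        · exact Subgroup.mem_zpowers_iff.mp (h ▸ Subgroup.mem_top s)
      choose k hk using fun j => hgen (x j)⁻¹
      let ψ : (Fin n → S) →* (Fin n → S) :=
        { toFun := fun y j => if j = i then y j else y j * (y i) ^ k j
          map_one' := by funext j; by_cases h : j = i <;> simp [h]
          map_mul' := fun y z => by
            funext j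
            by_cases h : j = i
            · simp [h]
            · simp only [Pi.mul_apply, if_neg h, mul_zpow]
              ac_rfl }
      have hψ : Function.Bijective ψ := Finite.injective_iff_bijective.mp (by
        rw [injective_iff_map_eq_one]
        intro y hy
        have hyi : y i = 1 := by simpa [ψ] using congrFun hy i
        funext j
        by_cases h : j = i
        · subst h; exact hyi
        · simpa [ψ, h, hyi] using congrFun hy j)
      refine ⟨x i, hi, ?_⟩
      have := char_map_eq (H := K) (MulEquiv.ofBijective ψ hψ)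
      rw [← this]
      refine ⟨x, hx, ?_⟩
      funext j
      by_cases h : j = i
      · subst h; simp [ψ]
      · simp [ψ, h, hk]
    · obtain ⟨t, ht⟩ : ∃ t, t * x i ≠ x i * t := by
        by_contra h
        push Not at h
        have hmem : x i ∈ Subgroup.center S := Subgroup.mem_center_iff.mpr h
        rcases Subgroup.Normal.eq_bot_or_eq_top (inferInstance : (Subgroup.center S).Normal) with hb | hb
        · rw [hb, Subgroup.mem_bot] at hmem; exact hi hmem
        · exact hab fun a b => Subgroup.mem_center_iff.mp (hb ▸ Subgroup.mem_top b) a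
      refine ⟨t * x i * t⁻¹ * (x i)⁻¹, fun h => ht ?_, ?_⟩
      · calc t * x i = (t * x i * t⁻¹ * (x i)⁻¹) * x i * t := by group
          _ = x i * t := by rw [h, one_mul]
      · have hm : Pi.mulSingle i t * x * (Pi.mulSingle i t : Fin n → S)⁻¹ * x⁻¹ ∈ K :=
          mul_mem (Subgroup.Normal.conj_mem inferInstance x hx _) (inv_mem hx)
        convert hm using 1
        funext j
        by_cases hj : j = i
        · subst hj; simp
        · simp [hj]
  have hall : ∀ s, (Pi.mulSingle i s : Fin n → S) ∈ K := by
    intro s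
    let Ni : Subgroup S := K.comap (MonoidHom.mulSingle (fun _ : Fin n => S) i)
    haveI : Ni.Normal := Subgroup.Normal.comap inferInstance _
    rcases Subgroup.Normal.eq_bot_or_eq_top (inferInstance : Ni.Normal) with h | h
    · exfalso
      have : c ∈ Ni := hc
      rw [h, Subgroup.mem_bot] at this
      exact hc1 this
    · exact (h ▸ Subgroup.mem_top s : s ∈ Ni)
  rw [eq_top_iff]
  intro y _
  refine Subgroup.pi_mem_of_mulSingle_mem y fun j => ?_
  let σ : (Fin n → S) ≃* (Fin n → S) :=
    { toFun := fun z l => z (Equiv.swap i j l)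
      invFun := fun z l => z (Equiv.swap i j l)
      left_inv := fun z => by funext l; simp
      right_inv := fun z => by funext l; simp
      map_mul' := fun _ _ => rfl }
  rw [← char_map_eq (H := K) σ]
  refine ⟨Pi.mulSingle i (y j), hall _, ?_⟩
  funext l
  by_cases hl : l = j
  · subst hl; simp [σ]
  · have : Equiv.swap i j l ≠ i := fun h => hl (by simpa using congrArg (Equiv.swap i j) h)
    simp [σ, hl, this]

/-- A characteristically simple group is a power of a minimal normal subgroup. -/
theorem exists_power [Finite G] [Nontrivial G] (h : ∀ H : Subgroup G, H.Characteristic → H = ⊥ ∨ H = ⊤) :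
    ∃ (N : Subgroup G) (n : ℕ), 1 ≤ n ∧ IsSimpleGroup N ∧ Nonempty (G ≃* (Fin n → N)) := by
  classical
  obtain ⟨N, ⟨hNn, hN0⟩, hNmin⟩ := Set.exists_min_image {N : Subgroup G | N.Normal ∧ N ≠ ⊥}
    (fun N => Nat.card N) (Set.toFinite _) ⟨⊤, inferInstance, top_ne_bot⟩
  have hgen : (⨆ φ : MulAut G, N.map φ.toMonoidHom) = ⊤ := by
    refine (h _ (Subgroup.characteristic_iff_map_eq.mpr fun ψ => ?_)).resolve_left fun hb => hN0 ?_
    · rw [Subgroup.map_iSup]
      refine le_antisymm (iSup_le fun φ => le_iSup_of_le ((φ : MulAut G).trans ψ) ?_) (iSup_le fun φ => le_iSup_of_le ((φ : MulAut G).trans ψ.symm) ?_)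
      · rw [Subgroup.map_map]; rfl
      · rw [Subgroup.map_map]
        exact le_of_eq (by congr 1; ext a; simp)
    · rw [eq_bot_iff, ← hb]
      exact le_iSup_of_le 1 (fun x hx => ⟨x, hx, rfl⟩)
  let 𝒮 : Set (Subgroup G) := {K | K.Normal ∧ ∃ n, Nonempty (K ≃* (Fin n → N))}
  have h0 : (⊥ : Subgroup G) ∈ 𝒮 :=
    ⟨inferInstance, 0, ⟨{ toFun := fun _ => default
                          invFun := fun _ => 1
                          left_inv := fun x => Subsingleton.elim _ _
                          right_inv := fun x => Subsingleton.elim _ _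
                          map_mul' := fun _ _ => Subsingleton.elim _ _ }⟩⟩
  obtain ⟨K, ⟨hKn, n, ⟨e⟩⟩, hKmax⟩ := Set.exists_max_image 𝒮 (fun K => Nat.card K) (Set.toFinite _) ⟨⊥, h0⟩
  haveI := hKn
  have hK : K = ⊤ := by
    by_contra hne
    obtain ⟨φ, hφ⟩ : ∃ φ : MulAut G, ¬ N.map φ.toMonoidHom ≤ K := by
      by_contra hh
      push Not at hh
      exact hne (top_le_iff.mp (hgen ▸ iSup_le hh))
    set N' := N.map φ.toMonoidHom with hN'
    haveI : N'.Normal := hNn.map _ φ.surjective
    have hd : Disjoint K N' := by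
      rw [disjoint_iff]
      by_contra hb
      have h1 := hNmin (K ⊓ N') ⟨inferInstance, hb⟩
      have h2 : Nat.card N' = Nat.card N := Subgroup.card_map_of_injective φ.injective
      have h3 := Subgroup.eq_of_le_of_card_ge (inf_le_right : K ⊓ N' ≤ N') (h2.symm ▸ h1)
      exact hφ (h3 ▸ inf_le_left)
    let f : K × N' →* G := MonoidHom.noncommCoprod K.subtype N'.subtype fun a b =>
      Subgroup.commute_of_normal_of_disjoint K N' inferInstance inferInstance hd a.1 b.1 a.2 b.2
    have hf : Function.Injective f := by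
      rw [injective_iff_map_eq_one]
      rintro ⟨a, b⟩ hab
      have hab' : (a : G) * b = 1 := hab
      have ha : (a : G) ∈ N' := by rw [eq_inv_of_mul_eq_one_left hab']; exact inv_mem b.2
      have ha1 : (a : G) = 1 := Subgroup.disjoint_def.mp hd a.2 ha
      rw [ha1, one_mul] at hab'
      exact Prod.ext (Subtype.ext ha1) (Subtype.ext hab')
    have hrange : f.range = K ⊔ N' := by
      apply le_antisymm
      · rintro _ ⟨⟨a, b⟩, rfl⟩
        exact Subgroup.mul_mem_sup a.2 b.2
      · exact sup_le (fun a ha => ⟨(⟨a, ha⟩, 1), mul_one a⟩) (fun b hb => ⟨(1, ⟨b, hb⟩), one_mul b⟩)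
    have hmem : K ⊔ N' ∈ 𝒮 := by
      refine ⟨inferInstance, n + 1, ⟨?_⟩⟩
      refine ((MulEquiv.subgroupCongr hrange.symm).trans (MonoidHom.ofInjective hf).symm).trans ?_
      refine (MulEquiv.prodCongr e (Subgroup.equivMapOfInjective N φ.toMonoidHom φ.injective).symm).trans ?_
      exact { toFun := fun p => Fin.cons p.2 p.1
              invFun := fun y => (Fin.tail y, y 0)
              left_inv := fun p => by simp
              right_inv := fun y => by simp
              map_mul' := fun p q => by funext j; induction j using Fin.cases <;> simp }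
    have := hKmax _ hmem
    have heq := Subgroup.eq_of_le_of_card_ge (le_sup_left : K ≤ K ⊔ N') this
    exact hφ (heq ▸ le_sup_right)
  subst hK
  let E : G ≃* (Fin n → N) := Subgroup.topEquiv.symm.trans e
  have hn : 1 ≤ n := by
    by_contra hn
    obtain rfl : n = 0 := by omega
    exact not_subsingleton G E.injective.subsingleton
  refine ⟨N, n, hn, ?_, ⟨E⟩⟩
  haveI : Nontrivial N := (Subgroup.nontrivial_iff_ne_bot N).mpr hN0
  refine ⟨fun M hM => ?_⟩
  by_cases hMb : M = ⊥
  · exact Or.inl hMb
  right
  let i : Fin n := ⟨0, hn⟩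
  let ι : N →* G := E.symm.toMonoidHom.comp (MonoidHom.mulSingle (fun _ : Fin n => N) i)
  have hι : Function.Injective ι := E.symm.injective.comp (Pi.mulSingle_injective (M := fun _ : Fin n => N) i)
  have hnorm : (M.map ι).Normal := by
    refine ⟨fun g hg x => ?_⟩
    obtain ⟨m, hm, rfl⟩ := hg
    refine ⟨E x i * m * (E x i)⁻¹, hM.conj_mem m hm _, E.injective ?_⟩
    funext j
    by_cases hj : j = i
    · subst hj; simp [ι]
    · simp [ι, hj]
  have hne : M.map ι ≠ ⊥ := fun h => hMb ((Subgroup.map_eq_bot_iff_of_injective M hι).mp h)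
  have := hNmin _ ⟨hnorm, hne⟩
  rw [Subgroup.card_map_of_injective hι] at this
  exact Subgroup.eq_top_of_le_card M this

end Cfsg.Lib.Classical.CharSimple
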