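import Mathlib
import Cfsg.Agent.Classical.SL

/-! Centralisers of unipotent elements: elements of prime order commuting with a nontrivial nilpotent map. -/

set_option autoImplicit false
set_option linter.unusedSectionVars false

namespace Cfsg.Lib.CommUnipotent

variable {F : Type*} [Field F] [Fintype F]

theorem pow_sub_pow' (q : ℕ) {n i : ℕ} (h : i ≤ n) : q ^ n - q ^ i = q ^ i * (q ^ (n - i) - 1) := by
  rw [Nat.mul_sub, mul_one, ← pow_add, Nat.add_sub_cancel' h]

theorem coe_restrict_pow {V : Type*} [AddCommGroup V] [Module F V] {U : Submodule F V} (T : Module.End F V)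
    (h : Set.MapsTo T U U) (k : ℕ) (w : U) : (((T.restrict h) ^ k) w : V) = (T ^ k) (w : V) := by
  induction k generalizing w with
  | zero => rfl
  | succ k ih =>
    rw [pow_succ, pow_succ, Module.End.mul_apply, Module.End.mul_apply, ih]
    rfl

/-- an endomorphism of prime order `r` in a small dimension is trivial when `r` misses all `q^i - 1` -/
theorem eq_one_of_pow_eq_one {W : Type*} [AddCommGroup W] [Module F W] [Module.Finite F W] {r m : ℕ}
    (hr : r.Prime) (hrq : ¬ r ∣ Fintype.card F)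
    (h : ∀ i, 1 ≤ i → i ≤ m → ¬ r ∣ Fintype.card F ^ i - 1)
    (hW : Module.finrank F W ≤ m) (T : Module.End F W) (hT : T ^ r = 1) : T = 1 := by
  classical
  haveI := Fact.mk hr
  by_contra hne
  let e := LinearMap.toMatrixAlgEquiv (Module.finBasis F W)
  have h1 : e T ≠ 1 := fun h' => hne (e.injective (by rw [h', map_one]))
  have h2 : e T ^ r = 1 := by rw [← map_pow, hT, map_one]
  let u : GL (Fin (Module.finrank F W)) F :=
    ⟨e T, e T ^ (r - 1), by rw [← pow_succ', Nat.sub_add_cancel hr.one_le, h2],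
      by rw [← pow_succ, Nat.sub_add_cancel hr.one_le, h2]⟩
  have hu : orderOf u = r :=
    orderOf_eq_prime (Units.ext (by rw [Units.val_pow_eq_pow_val]; exact h2))
      (fun h' => h1 (congrArg Units.val h'))
  have h3 : r ∣ Nat.card (GL (Fin (Module.finrank F W)) F) := hu ▸ orderOf_dvd_natCard u
  rw [Matrix.card_GL_field] at h3
  obtain ⟨i, -, hi⟩ := (Prime.dvd_finsetProd_iff hr.prime _).1 h3
  have hik : (i : ℕ) < Module.finrank F W := i.isLt
  rw [pow_sub_pow' _ hik.le] at hi
  rcases hr.dvd_mul.1 hi with hi | hi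
  · exact hrq (hr.dvd_of_dvd_pow hi)
  · exact h _ (by omega) (by omega) hi

/-- an endomorphism of prime order `r` commuting with a nonzero nilpotent one is unipotent -/
theorem sub_one_pow_three {V : Type*} [AddCommGroup V] [Module F V] [Module.Finite F V] {r n : ℕ}
    (hV : Module.finrank F V = n) (hn : 3 ≤ n) (hr : r.Prime) (hrq : ¬ r ∣ Fintype.card F)
    (h : ∀ i, 1 ≤ i → i ≤ n - 2 → ¬ r ∣ Fintype.card F ^ i - 1)
    (N T : Module.End F V) (hNT : Commute N T) (hT : T ^ r = 1) (hN : N ≠ 0) (hnil : IsNilpotent N) :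
    (T - 1) ^ 3 = 0 := by
  classical
  obtain ⟨j, hj0, hj1, hj⟩ : ∃ j, 1 ≤ j ∧ N ^ j ≠ 0 ∧ N ^ (j + 1) = 0 := by
    obtain ⟨k, hk⟩ := hnil
    have hex : ∃ j, N ^ (j + 1) = 0 := ⟨k, by rw [pow_succ, hk, zero_mul]⟩
    have h0 : 1 ≤ Nat.find hex := by
      by_contra h0
      have h2 := Nat.find_spec hex
      rw [show Nat.find hex = 0 by omega, zero_add, pow_one] at h2
      exact hN h2
    refine ⟨Nat.find hex, h0, ?_, Nat.find_spec hex⟩
    have h2 := Nat.find_min hex (show Nat.find hex - 1 < Nat.find hex by omega)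
    rwa [Nat.sub_add_cancel h0] at h2
  obtain ⟨P, hP⟩ : ∃ P : Module.End F V, P = N ^ j := ⟨_, rfl⟩
  have hP2 : ∀ v, P (P v) = 0 := fun v => by
    have h1 : P * P = 0 := by rw [hP, ← pow_add, show j + j = (j + 1) + (j - 1) by omega, pow_add, hj, zero_mul]
    exact LinearMap.congr_fun h1 v
  have hPT : ∀ v, P (T v) = T (P v) := fun v => by
    have h1 : Commute P T := hP ▸ hNT.pow_left j
    exact LinearMap.congr_fun h1.eq v
  have hLK : LinearMap.range P ≤ LinearMap.ker P := by
    rintro _ ⟨v, rfl⟩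
    exact hP2 v
  have hTL : Set.MapsTo T (LinearMap.range P) (LinearMap.range P) := by
    rintro _ ⟨v, rfl⟩
    exact ⟨T v, hPT v⟩
  have hTK : Set.MapsTo T (LinearMap.ker P) (LinearMap.ker P) := fun v hv => by
    rw [SetLike.mem_coe, LinearMap.mem_ker] at hv ⊢
    rw [hPT, hv, map_zero]
  have hd := P.finrank_range_add_finrank_ker
  have hle := Submodule.finrank_mono hLK
  have hs : 1 ≤ Module.finrank F (LinearMap.range P) := by
    rw [Submodule.one_le_finrank_iff, ne_eq, LinearMap.range_eq_bot]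
    exact hP ▸ hj1
  -- trivial on the image
  have hL : ∀ v ∈ LinearMap.range P, T v = v := by
    intro v hv
    have h1 : (T.restrict hTL) ^ r = 1 := by
      apply LinearMap.ext
      intro w
      apply Subtype.ext
      rw [coe_restrict_pow]
      exact LinearMap.congr_fun hT w.1
    exact congrArg Subtype.val
      (LinearMap.congr_fun (eq_one_of_pow_eq_one hr hrq h (by omega) _ h1) ⟨v, hv⟩)
  -- trivial on the middle layer
  have hK : ∀ v ∈ LinearMap.ker P, T v - v ∈ LinearMap.range P := by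
    intro v hv
    let L' : Submodule F (LinearMap.ker P) := (LinearMap.range P).comap (LinearMap.ker P).subtype
    have hL' : L' ≤ L'.comap (T.restrict hTK) := fun w hw => hTL hw
    have hdim : Module.finrank F ((LinearMap.ker P) ⧸ L') ≤ n - 2 := by
      have h1 := L'.finrank_quotient_add_finrank
      have h2 : Module.finrank F L' = Module.finrank F (LinearMap.range P) :=
        LinearEquiv.finrank_eq (Submodule.comapSubtypeEquivOfLe hLK)
      omega
    have h1 : (L'.mapQ L' (T.restrict hTK) hL') ^ r = 1 := by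
      rw [← Submodule.mapQ_pow]
      apply Submodule.linearMap_qext
      apply LinearMap.ext
      intro w
      rw [LinearMap.comp_apply, LinearMap.comp_apply, Submodule.mkQ_apply, Submodule.mapQ_apply,
        Module.End.one_apply]
      congr 1
      apply Subtype.ext
      rw [coe_restrict_pow]
      exact LinearMap.congr_fun hT w.1
    have h2 := LinearMap.congr_fun (eq_one_of_pow_eq_one hr hrq h hdim _ h1) (Submodule.Quotient.mk ⟨v, hv⟩)
    rw [Submodule.mapQ_apply, Module.End.one_apply, Submodule.Quotient.eq] at h2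
    exact h2
  apply LinearMap.ext
  intro v
  simp only [pow_succ', pow_zero, mul_one, Module.End.mul_apply, LinearMap.sub_apply, Module.End.one_apply,
    LinearMap.zero_apply]
  have h1 : T v - v ∈ LinearMap.ker P := by
    rw [LinearMap.mem_ker, map_sub, hPT, hL _ ⟨v, rfl⟩, sub_self]
  rw [hL _ (hK _ h1), sub_self]

variable {p n r : ℕ}

theorem dvd_card_SL_of_dvd_sub_one (hn : 2 ≤ n)
    (hr : r.Prime) (h : r ∣ Fintype.card F - 1) :
    r ∣ Nat.card (Matrix.SpecialLinearGroup (Fin n) F) := by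
  have hd : (Fintype.card F - 1) * (Fintype.card F - 1) ∣ ∏ i : Fin n, (Fintype.card F ^ n - Fintype.card F ^ (i : ℕ)) := by
    have h2 : ∀ i : Fin n, Fintype.card F - 1 ∣ Fintype.card F ^ n - Fintype.card F ^ (i : ℕ) := fun i => by
      have h3 := Nat.sub_dvd_pow_sub_pow (Fintype.card F) 1 (n - (i : ℕ))
      rw [one_pow] at h3
      refine h3.trans ?_
      rw [pow_sub_pow' _ i.isLt.le]
      exact dvd_mul_left _ _
    have h4 := Finset.prod_dvd_prod_of_subset ({⟨0, by omega⟩, ⟨1, by omega⟩} : Finset (Fin n)) Finset.univ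
      (fun i => Fintype.card F ^ n - Fintype.card F ^ (i : ℕ)) (Finset.subset_univ _)
    rw [Finset.prod_pair (by simp)] at h4
    exact (mul_dvd_mul (h2 _) (h2 _)).trans h4
  rw [← Cfsg.Lib.Classical.card_SL_mul_eq_prod (by omega : 1 ≤ n)] at hd
  exact h.trans (Nat.dvd_of_mul_dvd_mul_left (Nat.sub_pos_of_lt Fintype.one_lt_card) hd)

theorem not_dvd_pow_sub_one (hn : 2 ≤ n) (hr : r.Prime)
    (h : ¬ r ∣ Nat.card (Matrix.SpecialLinearGroup (Fin n) F)) (i : ℕ) (hi : 1 ≤ i) (hin : i ≤ n) :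
    ¬ r ∣ Fintype.card F ^ i - 1 := by
  intro hd
  have h1 : r ∣ Fintype.card F ^ n - Fintype.card F ^ (n - i) := by
    refine hd.trans ?_
    rw [pow_sub_pow' _ (Nat.sub_le n i), Nat.sub_sub_self hin]
    exact dvd_mul_left _ _
  have h2 := h1.trans (Finset.dvd_prod_of_mem (fun j : Fin n => Fintype.card F ^ n - Fintype.card F ^ (j : ℕ))
    (Finset.mem_univ (⟨n - i, by omega⟩ : Fin n)))
  rw [← Cfsg.Lib.Classical.card_SL_mul_eq_prod (by omega : 1 ≤ n)] at h2
  rcases hr.dvd_mul.1 h2 with h2 | h2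
  · exact h (dvd_card_SL_of_dvd_sub_one hn hr h2)
  · exact h h2

theorem prime_dvd_card_SL (hn : 2 ≤ n) [Fact p.Prime] [CharP F p] :
    p ∣ Nat.card (Matrix.SpecialLinearGroup (Fin n) F) := by
  obtain ⟨k, hp, hq⟩ := FiniteField.card F p
  have h1 : p ∣ Fintype.card F ^ n - Fintype.card F ^ 1 :=
    Nat.dvd_sub (dvd_pow (hq ▸ dvd_pow_self p k.ne_zero) (by omega)) (by rw [pow_one, hq]; exact dvd_pow_self p k.ne_zero)
  have h2 := h1.trans (Finset.dvd_prod_of_mem (fun j : Fin n => Fintype.card F ^ n - Fintype.card F ^ (j : ℕ))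
    (Finset.mem_univ (⟨1, by omega⟩ : Fin n)))
  rw [← Cfsg.Lib.Classical.card_SL_mul_eq_prod (by omega : 1 ≤ n)] at h2
  rcases hp.dvd_mul.1 h2 with h2 | h2
  swap
  · exact h2
  · exfalso
    have h3 : p ∣ Fintype.card F := hq ▸ dvd_pow_self p k.ne_zero
    have h4 := Nat.dvd_sub h3 h2
    rw [Nat.sub_sub_self Fintype.one_lt_card.le, Nat.dvd_one] at h4
    exact hp.ne_one h4

/-- a prime order element commuting with a nontrivial element of `p`-power order -/
theorem dvd_card_SL_of_commute [Fact p.Prime] [CharP F p] (hn : 4 ≤ n)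
    (A M : Matrix.SpecialLinearGroup (Fin n) F) (hA1 : A ≠ 1) (hAp : A ^ p = 1) (hAM : Commute A M)
    (hr : r.Prime) (hM : orderOf M = r) :
    r ∣ Nat.card (Matrix.SpecialLinearGroup (Fin (n - 2)) F) := by
  classical
  by_contra hnd
  have hrp : r ≠ p := fun e => hnd (e ▸ prime_dvd_card_SL (by omega))
  have hrq : ¬ r ∣ Fintype.card F := by
    obtain ⟨k, hp, hq⟩ := FiniteField.card F p
    rw [hq]
    intro hd
    exact hrp ((Nat.prime_dvd_prime_iff_eq hr hp).1 (hr.dvd_of_dvd_pow hd))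
  let e : Matrix (Fin n) (Fin n) F ≃ₐ[F] Module.End F (Fin n → F) := Matrix.toLinAlgEquiv'
  haveI : Nonempty (Fin n) := ⟨⟨0, by omega⟩⟩
  haveI : CharP (Matrix (Fin n) (Fin n) F) p := inferInstance
  have hN : ((A : Matrix (Fin n) (Fin n) F) - 1) ^ p = 0 := by
    rw [sub_pow_char_of_commute p (Commute.one_right _), ← Matrix.SpecialLinearGroup.coe_pow, hAp,
      Matrix.SpecialLinearGroup.coe_one, one_pow, sub_self]
  have hN0 : (A : Matrix (Fin n) (Fin n) F) - 1 ≠ 0 := fun h0 => hA1 (Subtype.ext (sub_eq_zero.1 h0))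
  have hc : Commute (A : Matrix (Fin n) (Fin n) F) (M : Matrix (Fin n) (Fin n) F) :=
    congrArg Subtype.val hAM.eq
  have hMr : (M : Matrix (Fin n) (Fin n) F) ^ r = 1 := by
    rw [← Matrix.SpecialLinearGroup.coe_pow, ← hM, pow_orderOf_eq_one, Matrix.SpecialLinearGroup.coe_one]
  have h3 := sub_one_pow_three (Module.finrank_fin_fun F) (by omega) hr hrq
    (fun i h1 h2 => not_dvd_pow_sub_one (by omega) hr hnd i h1 h2)
    (e ((A : Matrix (Fin n) (Fin n) F) - 1)) (e (M : Matrix (Fin n) (Fin n) F))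
    ((hc.sub_left (Commute.one_left _)).map e) (by rw [← map_pow, hMr, map_one])
    ((map_ne_zero_iff e e.injective).2 hN0) ⟨p, by rw [← map_pow, hN, map_zero]⟩
  rw [← map_one e, ← map_sub, ← map_pow, map_eq_zero_iff e e.injective] at h3
  have h4 : (M : Matrix (Fin n) (Fin n) F) ^ p ^ 2 = 1 := by
    have hp2 := (Fact.out : p.Prime).two_le
    have h5 : 3 ≤ p ^ 2 := by nlinarith
    have h6 := pow_eq_zero_of_le h5 h3
    rw [sub_pow_char_pow_of_commute p 2 (Commute.one_right _), one_pow, sub_eq_zero] at h6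
    exact h6
  have h7 : orderOf M ∣ p ^ 2 := orderOf_dvd_of_pow_eq_one
    (Subtype.ext (by rw [Matrix.SpecialLinearGroup.coe_pow, h4, Matrix.SpecialLinearGroup.coe_one]))
  rw [hM] at h7
  exact hrp ((Nat.prime_dvd_prime_iff_eq hr Fact.out).1 (hr.dvd_of_dvd_pow h7))

end Cfsg.Lib.CommUnipotent
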