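import Mathlib
import Cfsg.Prelude.Def_GeometricClasses

set_option autoImplicit false
set_option linter.unusedVariables false
set_option linter.unusedSimpArgs false
set_option linter.style.haveILetI false

/-! Normalisers of composite degree field subalgebras of a matrix algebra are not maximal. -/

namespace Cfsg.Lib.Classical

open Matrix

universe u

variable {F : Type u} [Field F] {n r : ℕ}

/-- An invertible matrix `1 + N` with `N` of small rank does not normalise a field subalgebra. -/
theorem notMem_subalgebraNormalizer {K : Subalgebra F (Matrix (Fin n) (Fin n) F)}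
    (hK : Cfsg.Geo.IsFieldSubalgebra r K) {g : Matrix.GeneralLinearGroup (Fin n) F}
    {N : Matrix (Fin n) (Fin n) F} (hg : (g : Matrix (Fin n) (Fin n) F) = 1 + N) (h0 : N ≠ 0)
    (hr : N.rank < r) (hn : 2 * N.rank < n) : g ∉ Cfsg.Geo.subalgebraNormalizer K := by
  intro hmem
  have hinj : ∀ k ∈ K, k ≠ 0 → Function.Injective k.mulVec := fun k hk hk0 => by
    obtain ⟨y, hy, hky⟩ := hK.inv k hk hk0
    have hyk : y * k = 1 := by rw [hK.comm y hy k hk, hky]
    intro a b hab
    have := congrArg (y *ᵥ ·) hab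
    simpa [Matrix.mulVec_mulVec, hyk] using this
  have hcomm : ∀ k ∈ K, k * N = N * k := by
    intro k hk
    set k' := (g : Matrix (Fin n) (Fin n) F) * k * ((g⁻¹ : Matrix.GeneralLinearGroup (Fin n) F) :
      Matrix (Fin n) (Fin n) F) with hk'
    have hk'K : k' ∈ K := (hmem k).mp hk
    have e : k' * (g : Matrix (Fin n) (Fin n) F) = (g : Matrix (Fin n) (Fin n) F) * k := by
      rw [hk', mul_assoc, ← Units.val_mul, inv_mul_cancel, Units.val_one, mul_one]
    rw [hg, mul_add, add_mul, mul_one, one_mul] at e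
    by_cases hd : k - k' = 0
    · rw [← sub_eq_zero.mp hd] at e
      exact add_left_cancel e
    exfalso
    have hle : LinearMap.range (k - k').mulVecLin ≤
        (LinearMap.range N.mulVecLin).map k'.mulVecLin ⊔ LinearMap.range N.mulVecLin := by
      rintro _ ⟨x, rfl⟩
      have he : k - k' = k' * N - N * k := by linear_combination (norm := abel) -e
      rw [Matrix.mulVecLin_apply, he, Matrix.sub_mulVec, ← Matrix.mulVec_mulVec x k' N, ← Matrix.mulVec_mulVec x N k]
      exact Submodule.sub_mem _ (Submodule.mem_sup_left ⟨_, ⟨x, rfl⟩, rfl⟩) (Submodule.mem_sup_right ⟨k *ᵥ x, rfl⟩)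
    have h1 := LinearMap.finrank_range_of_inj (f := (k - k').mulVecLin) (hinj _ (K.sub_mem hk hk'K) hd)
    have h2 := (Submodule.finrank_mono hle).trans (Submodule.finrank_add_le_finrank_add_finrank _ _)
    have h3 := Submodule.finrank_map_le k'.mulVecLin (LinearMap.range N.mulVecLin)
    rw [Module.finrank_fin_fun] at h1
    rw [Matrix.rank] at hn
    omega
  obtain ⟨x, hx⟩ : ∃ x, N *ᵥ x ≠ 0 := by
    by_contra hc
    push Not at hc
    exact h0 (Matrix.ext_of_mulVec_single fun i => by rw [hc, Matrix.zero_mulVec])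
  let f : K →ₗ[F] (Fin n → F) :=
    (Matrix.mulVecBilin F F).flip (N *ᵥ x) ∘ₗ K.val.toLinearMap
  have hf : Function.Injective f := by
    rw [injective_iff_map_eq_zero]
    intro k hk
    by_contra hk0
    refine hx (hinj k.1 k.2 (fun h => hk0 (Subtype.ext h)) ?_)
    rw [Matrix.mulVec_zero]; exact hk
  have hle : LinearMap.range f ≤ LinearMap.range N.mulVecLin := by
    rintro _ ⟨k, rfl⟩
    exact ⟨k.1 *ᵥ x, by change N *ᵥ (k.1 *ᵥ x) = k.1 *ᵥ (N *ᵥ x); rw [Matrix.mulVec_mulVec, Matrix.mulVec_mulVec, hcomm _ k.2]⟩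
  have h1 := Submodule.finrank_mono hle
  rw [LinearMap.finrank_range_of_inj hf] at h1
  have hfr := hK.finrank_eq
  rw [Matrix.rank] at hr
  change Module.finrank F K ≤ _ at h1
  omega

theorem exists_transvection_det {ι : Type} [Fintype ι] [DecidableEq ι] {i j : ι} (hij : i ≠ j) :
    ∃ g : Matrix.GeneralLinearGroup ι F, g ∈ Cfsg.Geo.specialLinear ι F ∧
      ∃ N : Matrix ι ι F, (g : Matrix ι ι F) = 1 + N ∧ N ≠ 0 ∧ N.rank ≤ 1 := by
  refine ⟨Matrix.GeneralLinearGroup.mkOfDetNeZero (Matrix.transvection i j 1)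
    (by rw [Matrix.det_transvection_of_ne i j hij]; exact one_ne_zero), ?_, Matrix.single i j 1, rfl, ?_, ?_⟩
  · exact Units.ext (by rw [Matrix.GeneralLinearGroup.val_det_apply]; exact Matrix.det_transvection_of_ne i j hij 1)
  · intro h
    have := congrFun (congrFun h i) j
    simp at this
  · have e : Matrix.single i j (1 : F) = Matrix.vecMulVec (Pi.single i 1) (Pi.single j 1) := by
      ext a b
      simp [Matrix.vecMulVec, Matrix.single, Pi.single_apply]
      aesop
    rw [e]
    exact Matrix.rank_vecMulVec_le _ _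

/-- A transvection over an extension field, seen over the ground field. -/
theorem exists_linear_transvection {F : Type*} [Field F] {L : Type*} [Field L] [Algebra F L] [FiniteDimensional F L]
    {V : Type*} [AddCommGroup V] [Module F V] [FiniteDimensional F V] (mL : Module L V)
    (htow : ∀ (c : F) (a : L) (x : V), (c • a) • x = c • (a • x))
    (h : 2 * Module.finrank F L ≤ Module.finrank F V) :
    ∃ (e : V ≃ₗ[F] V) (N : V →ₗ[F] V), LinearMap.det e.toLinearMap = 1 ∧ (∀ (a : L) x, e (a • x) = a • e x) ∧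
      (∀ x, e x = x + N x) ∧ N ≠ 0 ∧ Module.finrank F (LinearMap.range N) ≤ Module.finrank F L := by
  haveI : IsScalarTower F L V := ⟨htow⟩
  haveI : Module.Finite L V := Module.Finite.of_restrictScalars_finite F L V
  have hdim : 2 ≤ Module.finrank L V := by
    have h1 := Module.finrank_mul_finrank F L V
    rw [← h1, mul_comm] at h
    exact Nat.le_of_mul_le_mul_left h Module.finrank_pos
  let b := Module.finBasis L V
  let i : Fin (Module.finrank L V) := ⟨0, by omega⟩
  let j : Fin (Module.finrank L V) := ⟨1, by omega⟩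
  have hij : b.coord i (b j) = 0 := by simp [i, j, Finsupp.single_apply]
  let e : V ≃ₗ[L] V := LinearEquiv.transvection hij
  let N : V →ₗ[F] V := ((b.coord i).smulRight (b j)).restrictScalars F
  refine ⟨e.restrictScalars F, N, ?_, map_smul e, fun x => rfl, fun h0 => ?_, ?_⟩
  · change LinearMap.det ((e : V →ₗ[L] V).restrictScalars F) = 1
    rw [LinearMap.det_restrictScalars, show (e : V →ₗ[L] V) = LinearMap.transvection (b.coord i) (b j) from
      LinearMap.ext fun x => rfl, LinearMap.transvection.det, hij, add_zero, map_one]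
  · have h2 := LinearMap.congr_fun h0 (b i)
    simp [N] at h2
    exact b.ne_zero j h2
  · have hle : LinearMap.range N ≤ LinearMap.range ((LinearMap.toSpanSingleton L V (b j)).restrictScalars F) := by
      rintro _ ⟨x, rfl⟩
      exact ⟨b.coord i x, rfl⟩
    exact (Submodule.finrank_mono hle).trans (LinearMap.finrank_range_le _)

set_option maxHeartbeats 2000000 in
theorem exists_between_normalizer [Fintype F] (hr1 : 1 < r) (hrp : ¬ r.Prime) (hrn : r ∣ n) (hlt : r < n)
    {K : Subalgebra F (Matrix (Fin n) (Fin n) F)} (hK : Cfsg.Geo.IsFieldSubalgebra r K) :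
    ∃ K' : Subalgebra F (Matrix (Fin n) (Fin n) F),
      Cfsg.Geo.subalgebraNormalizer K ≤ Cfsg.Geo.subalgebraNormalizer K' ∧
      (∃ g ∈ Cfsg.Geo.specialLinear (Fin n) F, g ∈ Cfsg.Geo.subalgebraNormalizer K' ∧
        g ∉ Cfsg.Geo.subalgebraNormalizer K) ∧
      ∃ g ∈ Cfsg.Geo.specialLinear (Fin n) F, g ∉ Cfsg.Geo.subalgebraNormalizer K' := by
  classical
  have h2r : 2 * r ≤ n := by
    obtain ⟨c, rfl⟩ := hrn
    rcases c with _ | _ | c
    · simp at hlt
    · omega
    · nlinarith
  haveI : Nonempty (Fin n) := ⟨⟨0, by omega⟩⟩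
  letI : CommRing K := { (inferInstance : Ring K) with mul_comm := fun a b => Subtype.ext (hK.comm a a.2 b b.2) }
  have hField : IsField K :=
    { exists_pair_ne := ⟨0, 1, zero_ne_one⟩
      mul_comm := mul_comm
      mul_inv_cancel := fun {a} ha => by
        obtain ⟨y, hy, h⟩ := hK.inv a a.2 (fun h => ha (Subtype.ext h))
        exact ⟨⟨y, hy⟩, Subtype.ext h⟩ }
  letI : Field K := hField.toField
  letI : Algebra F K := Subalgebra.algebra K
  haveI : Finite K := Subtype.finite
  let act : K →ₐ[F] Module.End F (Fin n → F) := Matrix.toLinAlgEquiv'.toAlgHom.comp K.val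
  letI : Module K (Fin n → F) := Module.compHom _ act.toRingHom
  have hact : ∀ (k : K) (x : Fin n → F), k • x = (k : Matrix (Fin n) (Fin n) F) *ᵥ x := fun k x => rfl
  haveI : IsScalarTower F K (Fin n → F) := ⟨fun a k x => by
    rw [hact, hact]; exact Matrix.smul_mulVec a (k : Matrix (Fin n) (Fin n) F) x⟩
  set s := r.minFac with hs
  have hsp : s.Prime := Nat.minFac_prime (by omega)
  have hsr : s ∣ r := Nat.minFac_dvd r
  have hslt : 2 * s ≤ r := by
    obtain ⟨c, hc⟩ := hsr
    rcases c with _ | _ | c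
    · omega
    · exact absurd (by rw [show r = s by omega]; exact hsp) hrp
    · rw [hc]; nlinarith
  have hKr : Module.finrank F K = r := hK.finrank_eq
  have hGc : Nat.card (K ≃ₐ[F] K) = r := by rw [IsGalois.card_aut_eq_finrank, hKr]
  haveI : IsCyclic (K ≃ₐ[F] K) := inferInstance
  obtain ⟨σ, hσ⟩ := IsCyclic.exists_generator (α := K ≃ₐ[F] K)
  let H : Subgroup (K ≃ₐ[F] K) := Subgroup.zpowers (σ ^ s)
  let L : IntermediateField F K := IntermediateField.fixedField H
  have hHc : Nat.card H = r / s := by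
    rw [Nat.card_zpowers, orderOf_pow, orderOf_eq_card_of_forall_mem_zpowers hσ, hGc, Nat.gcd_eq_right hsr]
  have hL : Module.finrank F L = s := by
    have h1 := IntermediateField.finrank_fixedField_eq_card H
    rw [hHc] at h1
    have h2 := Module.finrank_mul_finrank F L K
    rw [h1, hKr] at h2
    have hpos : 0 < r / s := Nat.div_pos (Nat.le_of_dvd (by omega) hsr) hsp.pos
    exact Nat.eq_of_mul_eq_mul_right hpos (h2.trans (Nat.mul_div_cancel' hsr).symm)
  let K' : Subalgebra F (Matrix (Fin n) (Fin n) F) := L.toSubalgebra.map K.val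
  have hK' : Cfsg.Geo.IsFieldSubalgebra s K' := by
    refine ⟨?_, ?_, ?_⟩
    · rintro _ ⟨a, -, rfl⟩ _ ⟨b, -, rfl⟩
      exact hK.comm _ a.2 _ b.2
    · rintro _ ⟨a, ha, rfl⟩ h
      have ha0 : a ≠ 0 := fun e => h (by rw [e, map_zero])
      refine ⟨K.val (a⁻¹ : K), ⟨a⁻¹, L.inv_mem ha, rfl⟩, ?_⟩
      change (K.val a) * K.val a⁻¹ = 1
      rw [← map_mul, mul_inv_cancel₀ ha0, map_one]
    · rw [← ((L.toSubalgebra.equivMapOfInjective K.val Subtype.val_injective).toLinearEquiv).finrank_eq]
      exact hL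
  refine ⟨K', fun g hg => ?_, ?_, ?_⟩
  · let c : K ≃ₐ[F] K :=
      { toFun := fun k => ⟨(g : Matrix (Fin n) (Fin n) F) * k * ((g⁻¹ : Matrix.GeneralLinearGroup (Fin n) F) :
          Matrix (Fin n) (Fin n) F), (hg k).mp k.2⟩
        invFun := fun k => ⟨((g⁻¹ : Matrix.GeneralLinearGroup (Fin n) F) : Matrix (Fin n) (Fin n) F) * k * g, by
          have := ((Cfsg.Geo.subalgebraNormalizer K).inv_mem hg k).mp k.2
          rwa [inv_inv] at this⟩
        left_inv := fun k => Subtype.ext (by simp [mul_assoc, ← Units.val_mul])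
        right_inv := fun k => Subtype.ext (by simp [mul_assoc, ← Units.val_mul])
        map_mul' := fun a b => Subtype.ext (by
          change _ * ((a : Matrix (Fin n) (Fin n) F) * b) * _ = (_ * (a : Matrix (Fin n) (Fin n) F) * _) * (_ * _ * _)
          simp [mul_assoc, ← mul_assoc ((g⁻¹ : Matrix.GeneralLinearGroup (Fin n) F) : Matrix (Fin n) (Fin n) F),
            ← Units.val_mul])
        map_add' := fun a b => Subtype.ext (by
          change _ * ((a : Matrix (Fin n) (Fin n) F) + b) * _ = _
          rw [mul_add, add_mul]; rfl)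
        commutes' := fun a => Subtype.ext (by
          change _ * algebraMap F (Matrix (Fin n) (Fin n) F) a * _ = algebraMap F (Matrix (Fin n) (Fin n) F) a
          rw [← Algebra.commutes a (g : Matrix (Fin n) (Fin n) F), mul_assoc, ← Units.val_mul, mul_inv_cancel,
            Units.val_one, mul_one]) }
    have hcL : ∀ x : K, x ∈ L ↔ c x ∈ L := by
      intro x
      obtain ⟨i, hi⟩ := hσ c
      have hcomm : ∀ τ ∈ H, τ * c = c * τ := by
        rintro τ ⟨j, rfl⟩
        rw [← hi]
        exact (((Commute.refl σ).pow_left s).zpow_left j).zpow_right i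
      constructor
      · intro hx τ
        have e := DFunLike.congr_fun (hcomm τ τ.2) x
        rw [AlgEquiv.mul_apply, AlgEquiv.mul_apply, show (τ : K ≃ₐ[F] K) x = x from hx τ] at e
        exact e
      · intro hx τ
        apply c.injective
        have e := DFunLike.congr_fun (hcomm τ τ.2) x
        rw [AlgEquiv.mul_apply, AlgEquiv.mul_apply, show (τ : K ≃ₐ[F] K) (c x) = c x from hx τ] at e
        exact e.symm
    intro k
    constructor
    · rintro ⟨a, ha, rfl⟩
      exact ⟨c a, (hcL a).mp ha, rfl⟩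
    · rintro ⟨a, ha, he⟩
      refine ⟨c.symm a, (hcL _).mpr (by rw [c.apply_symm_apply]; exact ha), ?_⟩
      change ((g⁻¹ : Matrix.GeneralLinearGroup (Fin n) F) : Matrix (Fin n) (Fin n) F) * (a : Matrix (Fin n) (Fin n) F) *
        g = k
      change (a : Matrix (Fin n) (Fin n) F) = _ at he
      rw [he]
      simp [mul_assoc, ← Units.val_mul]
  · obtain ⟨e, N, hdet, hlin, he, hN, hrank⟩ := exists_linear_transvection (F := F) (L := L)
      (V := Fin n → F) (Module.compHom _ L.val.toRingHom) (fun c a x => Matrix.smul_mulVec c ((a : K) : Matrix (Fin n) (Fin n) F) x)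
      (by rw [hL, Module.finrank_fin_fun]; omega)
    rw [hL] at hrank
    let g : Matrix.GeneralLinearGroup (Fin n) F :=
      Matrix.GeneralLinearGroup.mkOfDetNeZero (LinearMap.toMatrix' e.toLinearMap) (by
        rw [LinearMap.det_toMatrix', hdet]; exact one_ne_zero)
    have hgv : ∀ x, (g : Matrix (Fin n) (Fin n) F) *ᵥ x = e x := fun x => LinearMap.toMatrix'_mulVec _ x
    have hgval : (g : Matrix (Fin n) (Fin n) F) = 1 + LinearMap.toMatrix' N := by
      change LinearMap.toMatrix' _ = _
      rw [show e.toLinearMap = LinearMap.id + N from LinearMap.ext he, map_add, LinearMap.toMatrix'_id]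
    refine ⟨g, ?_, ?_, ?_⟩
    · refine Units.ext ?_
      rw [Matrix.GeneralLinearGroup.val_det_apply]
      change (LinearMap.toMatrix' _).det = 1
      rw [LinearMap.det_toMatrix', hdet]
    · have hcomm : ∀ a : K, a ∈ L → (g : Matrix (Fin n) (Fin n) F) * a = (a : Matrix (Fin n) (Fin n) F) * g := by
        intro a ha
        refine Matrix.ext_of_mulVec_single fun t => ?_
        rw [← Matrix.mulVec_mulVec, ← Matrix.mulVec_mulVec, hgv, hgv, ← hact, ← hact]
        exact hlin ⟨a, ha⟩ _
      intro k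
      constructor
      · rintro ⟨a, ha, rfl⟩
        refine ⟨a, ha, ?_⟩
        change (a : Matrix (Fin n) (Fin n) F) = (g : Matrix (Fin n) (Fin n) F) * a * _
        rw [hcomm a ha, mul_assoc, ← Units.val_mul, mul_inv_cancel, Units.val_one, mul_one]
      · rintro ⟨a, ha, he'⟩
        refine ⟨a, ha, ?_⟩
        change (a : Matrix (Fin n) (Fin n) F) = k
        change (a : Matrix (Fin n) (Fin n) F) = _ at he'
        have := congrArg (fun z => ((g⁻¹ : Matrix.GeneralLinearGroup (Fin n) F) : Matrix (Fin n) (Fin n) F) * z * g) he'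
        simp [mul_assoc, ← Units.val_mul] at this
        rw [← this, ← hcomm a ha, ← mul_assoc, ← Matrix.coe_units_inv, ← Units.val_mul,
          inv_mul_cancel, Units.val_one, one_mul]
    · have hrank : (LinearMap.toMatrix' N).rank ≤ s := by
        rw [Matrix.rank, show (LinearMap.toMatrix' N).mulVecLin = N from by
          rw [← Matrix.toLin'_apply', Matrix.toLin'_toMatrix']]
        exact hrank
      refine notMem_subalgebraNormalizer hK hgval (fun h => ?_) (by omega) (by omega)
      exact hN (LinearMap.toMatrix'.injective (by rw [h, map_zero]))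
  · obtain ⟨g, hg, N, hgN, hN, hrk⟩ := exists_transvection_det (F := F)
      (i := (⟨0, by omega⟩ : Fin n)) (j := ⟨1, by omega⟩) (by simp)
    exact ⟨g, hg, notMem_subalgebraNormalizer hK' hgN hN (by have := hsp.two_le; omega) (by omega)⟩

theorem not_isCoatom_normalizer [Fintype F] (hr1 : 1 < r) (hrp : ¬ r.Prime) (hrn : r ∣ n) (hlt : r < n)
    (K : Subalgebra F (Matrix (Fin n) (Fin n) F)) (hK : Cfsg.Geo.IsFieldSubalgebra r K) :
    ¬ IsCoatom (Cfsg.Geo.subalgebraNormalizer K) ∧
      ¬ Cfsg.Geo.IsMaximalIn (Cfsg.Geo.specialLinear (Fin n) F)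
        (Cfsg.Geo.subalgebraNormalizer K ⊓ Cfsg.Geo.specialLinear (Fin n) F) := by
  obtain ⟨K', hle, ⟨g, hgS, hg', hg⟩, h, hhS, hh⟩ := exists_between_normalizer hr1 hrp hrn hlt hK
  refine ⟨fun hc => ?_, fun hc => ?_⟩
  · have := hc.2 _ (lt_of_le_of_ne hle fun e => hg (e ▸ hg'))
    exact hh (this ▸ Subgroup.mem_top h)
  · rcases hc.2 (Cfsg.Geo.subalgebraNormalizer K' ⊓ Cfsg.Geo.specialLinear (Fin n) F)
      (inf_le_inf_right _ hle) inf_le_right with e | e
    · exact hg ((e ▸ ⟨hg', hgS⟩ : g ∈ Cfsg.Geo.subalgebraNormalizer K ⊓ Cfsg.Geo.specialLinear (Fin n) F)).1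
    · exact hh ((e.symm ▸ hhS : h ∈ Cfsg.Geo.subalgebraNormalizer K' ⊓ Cfsg.Geo.specialLinear (Fin n) F)).1

end Cfsg.Lib.Classical
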