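import Mathlib

/-! Every non-scalar element of `SL₃` is a product of two conjugates of a fixed split regular semisimple element. -/

set_option autoImplicit false
set_option linter.style.haveILetI false

open Matrix

namespace Cfsg.Lib.CoveringSLThree

variable {F : Type*} [Field F]

local notation "M3" => Matrix (Fin 3) (Fin 3) F

/-- Conjugacy by an invertible matrix, written without inverses. -/
def Sim (A B : M3) : Prop := ∃ T : M3, T.det ≠ 0 ∧ T * A = B * T

theorem Sim.refl (A : M3) : Sim A A := ⟨1, by simp, by simp⟩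

theorem Sim.trans {A B C : M3} (h : Sim A B) (h' : Sim B C) : Sim A C := by
  obtain ⟨T, hT, e⟩ := h
  obtain ⟨T', hT', e'⟩ := h'
  exact ⟨T' * T, by rw [det_mul]; exact mul_ne_zero hT' hT, by rw [mul_assoc, e, ← mul_assoc, e', mul_assoc]⟩

theorem Sim.det_eq {A B : M3} (h : Sim A B) : A.det = B.det := by
  obtain ⟨T, hT, e⟩ := h
  have := congrArg Matrix.det e
  rw [det_mul, det_mul, mul_comm] at this
  exact mul_right_cancel₀ hT this

theorem first_column (A : M3) (hA : ¬ ∃ c : F, A = c • 1) (α : F) :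
    ∃ B : M3, Sim B A ∧ B 0 0 = α ∧ B 1 0 = 1 ∧ B 2 0 = 0 := by
  obtain ⟨v, hv⟩ : ∃ v : Fin 3 → F, ∀ c : F, A *ᵥ v ≠ c • v := by
    by_contra h
    push Not at h
    apply hA
    choose c hc using fun i : Fin 3 => h (Pi.single i 1)
    have hent : ∀ i j, i ≠ j → A i j = 0 := fun i j hij => by
      have := congrFun (hc j) i
      simp [hij] at this
      exact this
    have hdiag : ∀ i, A i i = c i := fun i => by
      have := congrFun (hc i) i
      simp at this
      exact this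
    obtain ⟨d, hd⟩ := h (fun _ => 1)
    have hall : ∀ i, A i i = d := fun i => by
      have := congrFun hd i
      rw [mulVec, dotProduct, Finset.sum_eq_single i (fun j _ hj => by rw [hent i j hj.symm, zero_mul])
        (fun hh => absurd (Finset.mem_univ i) hh)] at this
      simpa using this
    refine ⟨d, ?_⟩
    ext i j
    by_cases hij : i = j
    · subst hij; simp [hall]
    · simp [hij, hent i j hij]
  set w := A *ᵥ v - α • v with hw
  have hind : LinearIndependent F ![v, w] := by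
    rw [LinearIndependent.pair_iff]
    intro s t hst
    by_cases ht : t = 0
    · subst ht
      rw [zero_smul, add_zero] at hst
      rcases smul_eq_zero.1 hst with e | e
      · exact ⟨e, rfl⟩
      · exact absurd (by rw [e, mulVec_zero, smul_zero]) (hv 0)
    · exfalso
      apply hv (α - s / t)
      have e1 : A *ᵥ v = w + α • v := by rw [hw, sub_add_cancel]
      have e2 : w = -((s / t) • v) := by
        have := congrArg (fun x => t⁻¹ • x) hst
        simp only [smul_add, smul_smul, inv_mul_cancel₀ ht, one_smul, smul_zero] at this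
        rw [add_comm, add_eq_zero_iff_eq_neg] at this
        rw [this, div_eq_inv_mul]
      rw [e1, e2, sub_smul]
      abel
  obtain ⟨z, hz⟩ := exists_linearIndependent_cons_of_lt_finrank hind (by simp)
  let P : M3 := (Matrix.of ![v, w, z])ᵀ
  have hP : P.det ≠ 0 := by
    rw [det_transpose]
    have hli : LinearIndependent F ![v, w, z] := by
      have h2 := hz.comp ![1, 2, 0] (by decide)
      have e : (Fin.cons z ![v, w] : Fin 3 → Fin 3 → F) ∘ ![1, 2, 0] = ![v, w, z] := by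
        funext i; fin_cases i <;> rfl
      rwa [e] at h2
    have hu := (Matrix.linearIndependent_rows_iff_isUnit (A := Matrix.of ![v, w, z])).1 hli
    exact ((Matrix.isUnit_iff_isUnit_det _).1 hu).ne_zero
  have hPu : IsUnit P.det := isUnit_iff_ne_zero.2 hP
  refine ⟨P⁻¹ * A * P, ⟨P, hP, by rw [← mul_assoc, ← mul_assoc, mul_nonsing_inv _ hPu, one_mul]⟩, ?_⟩
  have hcol : (P⁻¹ * A * P).col 0 = ![α, 1, 0] := by
    have h1 : (P⁻¹ * A * P).col 0 = P⁻¹ *ᵥ (A *ᵥ v) := by
      rw [← mulVec_single_one, mulVec_mulVec, ← mulVec_mulVec _ (P⁻¹ * A) P, mulVec_single_one]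
      rfl
    have h2 : A *ᵥ v = P *ᵥ ![α, 1, 0] := by
      funext i
      simp [P, mulVec, dotProduct, Fin.sum_univ_three, hw]
      ring
    rw [h1, h2, mulVec_mulVec, nonsing_inv_mul _ hPu, one_mulVec]
  exact ⟨congrFun hcol 0, congrFun hcol 1, congrFun hcol 2⟩

theorem sim_shear (M : M3) (i j : Fin 3) (hij : i ≠ j) (k : F) :
    Sim M (transvection i j k * M * transvection i j (-k)) := by
  refine ⟨transvection i j k, by rw [det_transvection_of_ne i j hij]; exact one_ne_zero, ?_⟩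
  rw [mul_assoc _ (transvection i j (-k)), transvection_mul_transvection_same i j hij, neg_add_cancel,
    transvection_zero, mul_one]

theorem two_minors (A : M3) (hA : ¬ ∃ c : F, A = c • 1) (hdet : A.det = 1) {α β : F} (hα : α ≠ 0) :
    ∃ B : M3, Sim A B ∧ B 0 0 = α ∧ B 0 0 * B 1 1 - B 1 0 * B 0 1 = β := by
  obtain ⟨M, ⟨T, hT, hTe⟩, h00, h10, h20⟩ := first_column A hA α
  have hs : Sim A M := ⟨T⁻¹, by rw [det_nonsing_inv]; simpa using hT, by
    have hu : IsUnit T.det := isUnit_iff_ne_zero.2 hT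
    rw [← mul_one (T⁻¹ * A), ← mul_nonsing_inv T hu, ← mul_assoc, mul_assoc T⁻¹ A T, ← hTe, ← mul_assoc, nonsing_inv_mul T hu,
      one_mul]⟩
  have hMdet : M.det = 1 := hs.det_eq ▸ hdet
  by_cases hf : M 2 1 = 0
  · have hh : M 2 2 ≠ 0 := by
      intro e
      rw [det_fin_three, h20, hf, e] at hMdet
      simp at hMdet
    obtain ⟨m, hm⟩ : ∃ m : F, α * M 1 2 - M 0 2 - m * M 2 2 ≠ 0 := by
      by_cases e : α * M 1 2 - M 0 2 = 0
      · exact ⟨1, by rw [e]; simpa using hh⟩
      · exact ⟨0, by simpa using e⟩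
    obtain ⟨b, hb⟩ : ∃ b, b = α * M 1 2 - M 0 2 - m * M 2 2 := ⟨_, rfl⟩
    set k := ((α * M 1 1 - M 0 1) - β) / b with hk
    refine ⟨_, (hs.trans (sim_shear M 0 2 (by decide) m)).trans (sim_shear _ 2 1 (by decide) k), ?_, ?_⟩
    · simp [Matrix.mul_apply, transvection, Matrix.single, Fin.sum_univ_three, h00, h10, h20]
    · simp [Matrix.mul_apply, transvection, Matrix.single, Fin.sum_univ_three, h00, h10, h20, hf]
      have hk' : k * b = (α * M 1 1 - M 0 1) - β := by rw [hk, div_mul_cancel₀ _ (hb ▸ hm)]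
      rw [hb] at hk'
      linear_combination -hk'
  · set k := (β - (α * M 1 1 - M 0 1)) / (α * M 2 1) with hk
    refine ⟨_, hs.trans (sim_shear M 1 2 (by decide) k), ?_, ?_⟩
    · simp [Matrix.mul_apply, transvection, Matrix.single, Fin.sum_univ_three, h00, h10, h20]
    · simp [Matrix.mul_apply, transvection, Matrix.single, Fin.sum_univ_three, h00, h10, h20]
      have hk' : k * (α * M 2 1) = β - (α * M 1 1 - M 0 1) := by rw [hk, div_mul_cancel₀ _ (mul_ne_zero hα hf)]
      linear_combination hk'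

theorem lower_sim {r s t : F} (hrs : r ≠ s) (hst : s ≠ t) (hrt : r ≠ t) (a b c : F) :
    Sim (diagonal ![r, s, t]) !![r, 0, 0; a, s, 0; b, c, t] := by
  have h1 : r - s ≠ 0 := sub_ne_zero.2 hrs
  have h2 : s - t ≠ 0 := sub_ne_zero.2 hst
  have h3 : r - t ≠ 0 := sub_ne_zero.2 hrt
  refine ⟨!![1, 0, 0; a / (r - s), 1, 0; (b + c * (a / (r - s))) / (r - t), c / (s - t), 1],
    by simp [det_fin_three], ?_⟩
  ext i j
  fin_cases i <;> fin_cases j <;> simp [Matrix.mul_apply, Fin.sum_univ_three, diagonal] <;> field_simp <;> ring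

theorem upper_sim {r s t : F} (hrs : r ≠ s) (hst : s ≠ t) (hrt : r ≠ t) (a b c : F) :
    Sim (diagonal ![r, s, t]) !![r, a, b; 0, s, c; 0, 0, t] := by
  have h1 : s - r ≠ 0 := sub_ne_zero.2 hrs.symm
  have h2 : t - s ≠ 0 := sub_ne_zero.2 hst.symm
  have h3 : t - r ≠ 0 := sub_ne_zero.2 hrt.symm
  refine ⟨!![1, a / (s - r), (b + a * (c / (t - s))) / (t - r); 0, 1, c / (t - s); 0, 0, 1],
    by simp [det_fin_three], ?_⟩
  ext i j
  fin_cases i <;> fin_cases j <;> simp [Matrix.mul_apply, Fin.sum_univ_three, diagonal] <;> field_simp <;> ring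

theorem lu {r s t : F} (hrst : r * s * t = 1) (B : M3) (hdet : B.det = 1) (h1 : B 0 0 = r ^ 2)
    (h2 : B 0 0 * B 1 1 - B 1 0 * B 0 1 = r ^ 2 * s ^ 2) :
    ∃ a b c a' b' c' : F, B = !![r, 0, 0; a, s, 0; b, c, t] * !![r, a', b'; 0, s, c'; 0, 0, t] := by
  have hr : r ≠ 0 := fun e => by rw [e] at hrst; simp at hrst
  have hs : s ≠ 0 := fun e => by rw [e] at hrst; simp at hrst
  refine ⟨B 1 0 / r, B 2 0 / r, (B 2 1 - B 2 0 * B 0 1 / r ^ 2) / s, B 0 1 / r, B 0 2 / r,
    (B 1 2 - B 1 0 * B 0 2 / r ^ 2) / s, ?_⟩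
  rw [h1] at h2
  have h3 := hdet
  rw [det_fin_three, h1] at h3
  have e11 : B 1 1 = B 1 0 / r * (B 0 1 / r) + s * s := by field_simp; linear_combination h2
  have e22 : B 2 2 = B 2 0 / r * (B 0 2 / r) +
      (B 2 1 - B 2 0 * B 0 1 / r ^ 2) / s * ((B 1 2 - B 1 0 * B 0 2 / r ^ 2) / s) + t * t := by
    rw [e11] at h3
    field_simp at h3 ⊢
    have hrst2 : r ^ 2 * s ^ 2 * t ^ 2 = 1 := by rw [← mul_pow, ← mul_pow, hrst, one_pow]
    linear_combination h3 - r ^ 2 * hrst2
  ext i j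
  fin_cases i <;> fin_cases j <;> simp [Matrix.mul_apply, Fin.sum_univ_three] <;>
    first
    | exact e11
    | exact e22
    | (rw [h1]; ring)
    | (field_simp; done)
    | (field_simp; ring)

/-- The covering statement for `SL₃`. -/
theorem product_of_two {r s t : F} (hrst : r * s * t = 1) (hrs : r ≠ s) (hst : s ≠ t) (hrt : r ≠ t)
    (x g : Matrix.SpecialLinearGroup (Fin 3) F) (hx : (x : M3) = diagonal ![r, s, t])
    (hg : ¬ ∃ c : F, (g : M3) = c • 1) :
    ∃ u v : Matrix.SpecialLinearGroup (Fin 3) F, g = (u * x * u⁻¹) * (v * x * v⁻¹) := by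
  have hr : r ≠ 0 := fun e => by rw [e] at hrst; simp at hrst
  obtain ⟨B, ⟨T, hT, hTg⟩, h1, h2⟩ := two_minors (g : M3) hg g.2 (α := r ^ 2) (β := r ^ 2 * s ^ 2) (pow_ne_zero 2 hr)
  have hdet : B.det = 1 := (Sim.det_eq ⟨T, hT, hTg⟩).symm.trans g.2
  obtain ⟨a, b, c, a', b', c', hB⟩ := lu hrst B hdet h1 h2
  have hu : IsUnit T.det := isUnit_iff_ne_zero.2 hT
  have key : ∀ L : M3, Sim (diagonal ![r, s, t]) L →
      ∃ u : Matrix.SpecialLinearGroup (Fin 3) F,
        ((u * x * u⁻¹ : Matrix.SpecialLinearGroup (Fin 3) F) : M3) = T⁻¹ * L * T := by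
    intro L hL
    obtain ⟨S, hS, hSe⟩ := hL
    set R : M3 := T⁻¹ * S with hR
    have hRd : R.det ≠ 0 := by rw [hR, det_mul, det_nonsing_inv]; exact mul_ne_zero (by simpa using hT) hS
    set R' : M3 := R * diagonal ![R.det⁻¹, 1, 1] with hR'
    have hR'd : R'.det = 1 := by
      rw [hR', det_mul, det_diagonal, Fin.prod_univ_three]; simp [hRd]
    have hcomm : R' * diagonal ![r, s, t] = (T⁻¹ * L * T) * R' := by
      rw [hR', mul_assoc, diagonal_mul_diagonal, show (fun i => ![R.det⁻¹, 1, 1] i * ![r, s, t] i) =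
        fun i => ![r, s, t] i * ![R.det⁻¹, 1, 1] i from funext fun i => mul_comm _ _, ← diagonal_mul_diagonal,
        ← mul_assoc, ← mul_assoc]
      congr 1
      rw [hR, mul_assoc, hSe, mul_assoc _ T, ← mul_assoc T, mul_nonsing_inv T hu, one_mul, mul_assoc]
    obtain ⟨u, hu'⟩ : ∃ u : Matrix.SpecialLinearGroup (Fin 3) F, (u : M3) = R' := ⟨⟨R', hR'd⟩, rfl⟩
    refine ⟨u, ?_⟩
    rw [Matrix.SpecialLinearGroup.coe_mul, Matrix.SpecialLinearGroup.coe_mul, hx, hu', hcomm, ← hu', mul_assoc,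
      ← Matrix.SpecialLinearGroup.coe_mul, mul_inv_cancel]
    exact mul_one _
  obtain ⟨u, hu1⟩ := key _ (lower_sim hrs hst hrt a b c)
  obtain ⟨v, hv1⟩ := key _ (upper_sim hrs hst hrt a' b' c')
  refine ⟨u, v, Subtype.ext ?_⟩
  rw [Matrix.SpecialLinearGroup.coe_mul, hu1, hv1, mul_assoc (T⁻¹ * _), ← mul_assoc T, ← mul_assoc T,
    mul_nonsing_inv T hu, one_mul, ← mul_assoc, mul_assoc T⁻¹, ← hB, mul_assoc, ← hTg, ← mul_assoc,
    nonsing_inv_mul T hu, one_mul]

end Cfsg.Lib.CoveringSLThree
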