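import Cfsg.Agent.Classical.Misc.CoveringSLThree
import Mathlib

/-! Every non-scalar element of `SL₃` over the field with three elements is a product of two conjugates of one
element of order thirteen. -/

set_option autoImplicit false
set_option linter.style.haveILetI false

open Matrix

namespace Cfsg.Lib.CoveringSLThreeF3

open CoveringSLThree

abbrev M33 := Matrix (Fin 3) (Fin 3) (ZMod 3)

/-- The element of order thirteen. -/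
def x0 : M33 := !![0, 0, 1; 1, 0, 1; 0, 1, 0]

/-- Normal forms with witnesses. -/
def data : List (M33 × M33 × M33 × M33 × M33) := [
  (!![0, 0, 1; 1, 0, 0; 0, 1, 0], !![0, 0, 1; 0, 1, 0; 2, 0, 2], !![2, 0, 2; 0, 1, 0; 1, 0, 0], !![0, 0, 2; 2, 1, 0; 1, 0, 0], !![0, 0, 1; 0, 1, 1; 2, 0, 0]),
  (!![0, 0, 1; 1, 0, 0; 0, 1, 1], !![0, 0, 1; 0, 1, 0; 2, 0, 1], !![1, 0, 2; 0, 1, 0; 1, 0, 0], !![0, 0, 2; 0, 1, 0; 1, 0, 1], !![1, 0, 1; 0, 1, 0; 2, 0, 0]),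
  (!![0, 0, 1; 1, 0, 0; 0, 1, 2], !![0, 0, 1; 0, 1, 0; 2, 1, 1], !![1, 1, 2; 0, 1, 0; 1, 0, 0], !![0, 0, 1; 2, 1, 1; 1, 1, 0], !![2, 1, 2; 1, 2, 2; 1, 0, 0]),
  (!![0, 0, 1; 1, 0, 1; 0, 1, 0], !![0, 0, 1; 0, 2, 0; 1, 0, 2], !![1, 0, 1; 0, 2, 0; 1, 0, 0], !![0, 0, 2; 1, 1, 2; 2, 1, 1], !![2, 2, 1; 0, 2, 2; 2, 0, 0]),
  (!![0, 0, 1; 1, 0, 1; 0, 1, 1], !![0, 0, 1; 0, 1, 0; 2, 2, 2], !![2, 2, 2; 0, 1, 0; 1, 0, 0], !![0, 0, 2; 0, 1, 1; 1, 1, 1], !![0, 2, 1; 1, 1, 0; 2, 0, 0]),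
  (!![0, 0, 1; 1, 0, 1; 0, 1, 2], !![0, 0, 1; 0, 1, 0; 2, 0, 0], !![0, 0, 2; 0, 1, 0; 1, 0, 0], !![0, 0, 1; 1, 1, 2; 1, 2, 2], !![1, 2, 2; 0, 2, 1; 1, 0, 0]),
  (!![0, 0, 1; 1, 0, 2; 0, 1, 0], !![0, 0, 1; 0, 1, 0; 2, 2, 0], !![0, 2, 2; 0, 1, 0; 1, 0, 0], !![0, 0, 2; 1, 1, 0; 1, 0, 2], !![2, 0, 1; 1, 1, 2; 2, 0, 0]),
  (!![0, 0, 1; 1, 0, 2; 0, 1, 1], !![0, 0, 1; 0, 1, 0; 2, 1, 2], !![2, 1, 2; 0, 1, 0; 1, 0, 0], !![0, 0, 2; 0, 1, 2; 1, 2, 1], !![0, 1, 1; 2, 1, 0; 2, 0, 0]),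
  (!![0, 0, 1; 1, 0, 2; 0, 1, 2], !![0, 0, 1; 0, 1, 1; 2, 1, 1], !![0, 1, 2; 2, 1, 0; 1, 0, 0], !![0, 0, 2; 0, 1, 2; 1, 0, 1], !![1, 0, 1; 2, 1, 0; 2, 0, 0]),
  (!![0, 2, 0; 1, 0, 0; 0, 0, 1], !![0, 0, 1; 0, 1, 1; 2, 2, 1], !![2, 2, 2; 2, 1, 0; 1, 0, 0], !![0, 0, 1; 2, 1, 0; 2, 0, 2], !![2, 0, 2; 2, 1, 2; 1, 0, 0]),
  (!![0, 2, 1; 1, 0, 0; 0, 0, 1], !![0, 0, 1; 0, 1, 1; 2, 2, 0], !![1, 2, 2; 2, 1, 0; 1, 0, 0], !![0, 0, 2; 0, 1, 1; 1, 0, 2], !![2, 0, 1; 1, 1, 0; 2, 0, 0]),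
  (!![0, 2, 2; 1, 0, 0; 0, 0, 1], !![0, 0, 1; 0, 1, 1; 2, 0, 0], !![0, 0, 2; 2, 1, 0; 1, 0, 0], !![0, 0, 2; 2, 1, 0; 0, 1, 0], !![0, 2, 1; 0, 0, 1; 2, 0, 0]),
  (!![0, 2, 0; 1, 1, 0; 0, 0, 1], !![0, 0, 1; 0, 1, 1; 2, 2, 2], !![0, 2, 2; 2, 1, 0; 1, 0, 0], !![0, 0, 1; 2, 1, 0; 1, 1, 2], !![2, 1, 2; 2, 2, 2; 1, 0, 0]),
  (!![0, 2, 1; 1, 1, 0; 0, 0, 1], !![0, 0, 1; 0, 1, 1; 2, 2, 1], !![2, 2, 2; 2, 1, 0; 1, 0, 0], !![0, 0, 2; 1, 2, 2; 0, 2, 2], !![0, 1, 2; 1, 0, 2; 2, 0, 0]),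
  (!![0, 2, 2; 1, 1, 0; 0, 0, 1], !![0, 0, 1; 0, 1, 1; 2, 2, 0], !![1, 2, 2; 2, 1, 0; 1, 0, 0], !![0, 0, 2; 1, 0, 0; 2, 2, 2], !![0, 1, 0; 1, 2, 2; 2, 0, 0]),
  (!![0, 2, 0; 1, 2, 0; 0, 0, 1], !![0, 0, 1; 0, 1, 1; 2, 0, 2], !![2, 0, 2; 2, 1, 0; 1, 0, 0], !![0, 0, 1; 2, 1, 0; 2, 0, 0], !![0, 0, 2; 0, 1, 2; 1, 0, 0]),
  (!![0, 2, 1; 1, 2, 0; 0, 0, 1], !![0, 0, 1; 0, 1, 0; 2, 2, 2], !![2, 2, 2; 0, 1, 0; 1, 0, 0], !![0, 0, 1; 1, 0, 1; 1, 1, 2], !![2, 1, 0; 2, 2, 1; 1, 0, 0]),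
  (!![0, 2, 2; 1, 2, 0; 0, 0, 1], !![0, 0, 1; 0, 1, 2; 2, 1, 0], !![1, 1, 2; 1, 1, 0; 1, 0, 0], !![0, 0, 1; 1, 0, 1; 2, 1, 1], !![2, 1, 0; 1, 1, 1; 1, 0, 0]),
  (!![0, 1, 0; 1, 0, 0; 0, 0, 2], !![0, 0, 1; 0, 2, 1; 1, 0, 0], !![0, 0, 1; 1, 2, 0; 1, 0, 0], !![0, 0, 1; 2, 1, 0; 0, 2, 0], !![0, 2, 2; 0, 0, 2; 1, 0, 0]),
  (!![0, 1, 1; 1, 0, 0; 0, 0, 2], !![0, 0, 1; 0, 1, 0; 2, 1, 2], !![2, 1, 2; 0, 1, 0; 1, 0, 0], !![0, 0, 2; 0, 1, 2; 1, 1, 2], !![0, 2, 1; 2, 1, 0; 2, 0, 0]),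
  (!![0, 1, 2; 1, 0, 0; 0, 0, 2], !![0, 0, 1; 0, 2, 0; 1, 0, 2], !![1, 0, 1; 0, 2, 0; 1, 0, 0], !![0, 0, 1; 1, 1, 2; 2, 0, 1], !![1, 0, 2; 0, 1, 1; 1, 0, 0]),
  (!![0, 1, 0; 1, 1, 0; 0, 0, 2], !![0, 0, 1; 0, 1, 1; 2, 1, 0], !![2, 1, 2; 2, 1, 0; 1, 0, 0], !![0, 0, 1; 1, 1, 2; 0, 1, 2], !![0, 1, 2; 1, 0, 1; 1, 0, 0]),
  (!![0, 1, 1; 1, 1, 0; 0, 0, 2], !![0, 0, 1; 0, 1, 1; 2, 1, 2], !![1, 1, 2; 2, 1, 0; 1, 0, 0], !![0, 0, 2; 2, 0, 0; 1, 1, 2], !![0, 2, 0; 2, 1, 1; 2, 0, 0]),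
  (!![0, 1, 2; 1, 1, 0; 0, 0, 2], !![0, 0, 1; 0, 1, 2; 2, 0, 0], !![0, 0, 2; 1, 1, 0; 1, 0, 0], !![0, 0, 1; 1, 1, 2; 0, 1, 0], !![1, 1, 2; 0, 0, 1; 1, 0, 0]),
  (!![0, 1, 0; 1, 2, 0; 0, 0, 2], !![0, 0, 1; 0, 1, 1; 2, 0, 2], !![2, 0, 2; 2, 1, 0; 1, 0, 0], !![0, 0, 1; 1, 1, 2; 1, 2, 2], !![1, 2, 2; 0, 2, 1; 1, 0, 0]),
  (!![0, 1, 1; 1, 2, 0; 0, 0, 2], !![0, 0, 1; 0, 1, 1; 2, 0, 0], !![0, 0, 2; 2, 1, 0; 1, 0, 0], !![0, 0, 2; 1, 1, 2; 0, 2, 0], !![2, 1, 1; 0, 0, 2; 2, 0, 0]),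
  (!![0, 1, 2; 1, 2, 0; 0, 0, 2], !![0, 0, 1; 1, 0, 0; 2, 1, 2], !![0, 1, 0; 1, 1, 1; 1, 0, 0], !![0, 0, 2; 0, 1, 2; 1, 1, 2], !![0, 2, 1; 2, 1, 0; 2, 0, 0])]

/-- The check of one witness. -/
def chk (e : M33 × M33 × M33 × M33 × M33) : Bool :=
  decide (e.1 = (e.2.1 * x0 * e.2.2.1) * (e.2.2.2.1 * x0 * e.2.2.2.2)) &&
    (decide (e.2.1 * e.2.2.1 = 1) && (decide (e.2.2.2.1 * e.2.2.2.2 = 1) &&
      (decide (e.2.1.det = 1) && decide (e.2.2.2.1.det = 1))))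

set_option maxRecDepth 100000 in
theorem data_ok : data.all chk = true := by decide +kernel

set_option maxRecDepth 100000 in
theorem comp_mem : ∀ a b : ZMod 3, data.any (fun e => decide (e.1 = !![0, 0, 1; 1, 0, a; 0, 1, b])) = true := by
  decide +kernel

set_option maxRecDepth 100000 in
theorem block_mem : ∀ h d q : ZMod 3, h ≠ 0 →
    data.any (fun e => decide (e.1 = !![0, -h, q; 1, d, 0; 0, 0, h])) = true := by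
  decide +kernel

set_option maxRecDepth 100000 in
theorem x0_facts : x0.det = 1 ∧ x0 ^ 13 = 1 ∧ x0 ≠ 1 := by decide +kernel

theorem sim_symm {F : Type*} [Field F] {A B : Matrix (Fin 3) (Fin 3) F} (h : Sim A B) : Sim B A := by
  obtain ⟨T, hT, e⟩ := h
  have hu : IsUnit T.det := isUnit_iff_ne_zero.2 hT
  refine ⟨T⁻¹, by rw [det_nonsing_inv]; simpa using hT, ?_⟩
  rw [← mul_one (T⁻¹ * B), ← mul_nonsing_inv T hu, ← mul_assoc, mul_assoc T⁻¹ B T, ← e, ← mul_assoc,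
    nonsing_inv_mul T hu, one_mul]

/-- The two normal forms with first column `(0, 1, 0)`. -/
theorem normal_forms {F : Type*} [Field F] (p q d e f h : F) :
    let M : Matrix (Fin 3) (Fin 3) F := !![0, p, q; 1, d, e; 0, f, h]
    M.det = 1 → (∃ a b : F, Sim M !![0, 0, 1; 1, 0, a; 0, 1, b]) ∨
      (∃ q' : F, h ≠ 0 ∧ -(p * h) = 1 ∧ Sim M !![0, p, q'; 1, d, 0; 0, 0, h]) := by
  intro M hd
  have hdet : p * e * 0 + q * f - (p * h + 0) = 1 := by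
    rw [← hd]; simp [M, det_fin_three]; ring
  by_cases hf : f = 0
  · subst hf
    refine Or.inr ⟨q + e * h, fun e0 => ?_, by linear_combination hdet, !![1, 0, e; 0, 1, 0; 0, 0, 1],
      by simp [det_fin_three], ?_⟩
    · rw [e0] at hdet; simp at hdet
    · ext i j
      fin_cases i <;> fin_cases j <;> simp [M, Matrix.mul_apply, Fin.sum_univ_three]
  · obtain ⟨c2, h2⟩ : ∃ c, c = (f * d + h * f) / f := ⟨_, rfl⟩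
    obtain ⟨c0, h0⟩ : ∃ c, c = p * d + q * f - p * c2 := ⟨_, rfl⟩
    obtain ⟨c1, h1⟩ : ∃ c, c = p + d * d + e * f - d * c2 := ⟨_, rfl⟩
    have hsim : Sim !![0, 0, c0; 1, 0, c1; 0, 1, c2] M := by
      refine ⟨!![1, 0, p; 0, 1, d; 0, 0, f], by simpa [det_fin_three] using hf, ?_⟩
      ext i j
      fin_cases i <;> fin_cases j <;> simp [M, Matrix.mul_apply, Fin.sum_univ_three, h0, h1, h2] <;>
        field_simp <;> ring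
    have hc : c0 = 1 := by
      rw [← hd, ← hsim.det_eq]; simp [det_fin_three]
    rw [hc] at hsim
    exact Or.inl ⟨c1, c2, sim_symm hsim⟩

theorem eq_neg_of : ∀ p h : ZMod 3, -(p * h) = 1 → p = -h := by decide +kernel

theorem fourth : ∀ d : ZMod 3, d ≠ 0 → d * d * d * d = 1 := by decide +kernel

theorem reps_cover (g : M33) (hg : ¬ ∃ c : ZMod 3, g = c • 1) (hdet : g.det = 1) :
    ∃ B, Sim g B ∧ data.any (fun e => decide (e.1 = B)) = true := by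
  haveI : Fact (Nat.Prime 3) := ⟨by norm_num⟩
  obtain ⟨M, hMg, h00, h10, h20⟩ := first_column g hg 0
  have hs : Sim g M := sim_symm hMg
  have hM : M = !![0, M 0 1, M 0 2; 1, M 1 1, M 1 2; 0, M 2 1, M 2 2] := by
    ext i j
    fin_cases i <;> fin_cases j <;> first | exact h00 | exact h10 | exact h20 | rfl
  rcases normal_forms _ _ _ _ _ _ (hM ▸ hs.det_eq ▸ hdet) with ⟨a, b, hab⟩ | ⟨q', hh, hp, hq⟩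
  · exact ⟨_, hs.trans (hM.symm ▸ hab), comp_mem a b⟩
  · rw [eq_neg_of _ _ hp] at hq
    have hM' := hM
    rw [eq_neg_of _ _ hp] at hM'
    exact ⟨_, hs.trans (hM'.symm ▸ hq), block_mem _ _ _ hh⟩

theorem product_of_two (g : Matrix.SpecialLinearGroup (Fin 3) (ZMod 3))
    (hg : ¬ ∃ c : ZMod 3, (g : M33) = c • 1) (x : Matrix.SpecialLinearGroup (Fin 3) (ZMod 3)) (hx : (x : M33) = x0) :
    ∃ u v : Matrix.SpecialLinearGroup (Fin 3) (ZMod 3), g = (u * x * u⁻¹) * (v * x * v⁻¹) := by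
  haveI : Fact (Nat.Prime 3) := ⟨by norm_num⟩
  obtain ⟨B, ⟨T, hT, hTe⟩, hB⟩ := reps_cover g.1 hg g.2
  obtain ⟨e, hem, hec⟩ := List.any_eq_true.1 hB
  have hBe : e.1 = B := of_decide_eq_true hec
  have hok := List.all_eq_true.1 data_ok e hem
  simp only [chk, Bool.and_eq_true, decide_eq_true_eq] at hok
  obtain ⟨h1, h2, h3, h4, h5⟩ := hok
  -- scale the conjugating matrix to determinant one
  set T' : M33 := T.det • T with hT'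
  have hT'd : T'.det = 1 := by
    rw [hT', det_smul, Fintype.card_fin]
    rw [← fourth _ hT]; ring
  have hT'e : T' * g.1 = e.1 * T' := by rw [hT', smul_mul_assoc, hTe, hBe, mul_smul_comm]
  obtain ⟨W, hW⟩ : ∃ W : Matrix.SpecialLinearGroup (Fin 3) (ZMod 3), (W : M33) = T' := ⟨⟨T', hT'd⟩, rfl⟩
  obtain ⟨U, hU⟩ : ∃ U : Matrix.SpecialLinearGroup (Fin 3) (ZMod 3), (U : M33) = e.2.1 := ⟨⟨_, h4⟩, rfl⟩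
  obtain ⟨V, hV⟩ : ∃ V : Matrix.SpecialLinearGroup (Fin 3) (ZMod 3), (V : M33) = e.2.2.2.1 := ⟨⟨_, h5⟩, rfl⟩
  have hinv : ∀ (S : Matrix.SpecialLinearGroup (Fin 3) (ZMod 3)) (S' : M33), (S : M33) * S' = 1 →
      ((S⁻¹ : Matrix.SpecialLinearGroup (Fin 3) (ZMod 3)) : M33) = S' := by
    intro S S' h
    have h0 : ((S⁻¹ : Matrix.SpecialLinearGroup (Fin 3) (ZMod 3)) : M33) * (S : M33) = 1 := by
      rw [← Matrix.SpecialLinearGroup.coe_mul, inv_mul_cancel]; rfl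
    rw [← mul_one ((S⁻¹ : Matrix.SpecialLinearGroup (Fin 3) (ZMod 3)) : M33), ← h, ← mul_assoc, h0, one_mul]
  have hkey : W * g = (U * x * U⁻¹ * (V * x * V⁻¹)) * W := by
    apply Subtype.ext
    simp only [Matrix.SpecialLinearGroup.coe_mul, hW, hU, hV, hx, hinv U _ (hU ▸ h2), hinv V _ (hV ▸ h3)]
    rw [hT'e, h1]
  refine ⟨W⁻¹ * U, W⁻¹ * V, ?_⟩
  rw [show g = W⁻¹ * (W * g) by group, hkey]
  group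

end Cfsg.Lib.CoveringSLThreeF3
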