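import Mathlib

/-! A lower bound on the degree of a representation from a single orbit of characters of a normalised
elementary abelian subgroup, in coprime characteristic. -/

set_option autoImplicit false
set_option linter.unusedSectionVars false
set_option linter.style.haveILetI false

namespace Cfsg.Lib.CrossChar

open Matrix Finset

variable {F : Type*} [Field F] [Fintype F] {L : Type*} [Field L]

theorem exists_addChar [IsAlgClosed L] (p : ℕ) [Fact p.Prime] [CharP F p] (hp : (p : L) ≠ 0) :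
    ∃ ψ : AddChar F L, ∀ a : F, a ≠ 0 → ∃ x : F, ψ (a * x) ≠ 1 := by
  obtain rfl := ringChar.eq F p
  haveI : NeZero (ringChar F : L) := ⟨hp⟩
  letI := ZMod.algebra F (ringChar F)
  obtain ⟨ζ, hζ⟩ := IsAlgClosed.exists_root (Polynomial.cyclotomic (ringChar F) L)
    (by rw [Polynomial.degree_cyclotomic]
        exact_mod_cast (Nat.totient_pos.2 (Fact.out : (ringChar F).Prime).pos).ne')
  rw [Polynomial.isRoot_cyclotomic_iff] at hζ
  refine ⟨(AddChar.zmodChar (ringChar F) hζ.pow_eq_one).compAddMonoidHom (Algebra.trace (ZMod (ringChar F)) F).toAddMonoidHom,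
    fun a ha => ?_⟩
  obtain ⟨x, hx⟩ := FiniteField.trace_to_zmod_nondegenerate F ha
  refine ⟨x, fun h => hx ?_⟩
  exact ((AddChar.zmodChar_primitive_of_primitive_root _ hζ).zmod_char_eq_one_iff _ _).1 h

variable {ι : Type*} [Fintype ι] [DecidableEq ι] {G : Type*} [Group G] {κ : Type*} [Fintype κ] [DecidableEq κ]

/-- the unnormalised projector on a character -/
noncomputable def proj (ψ : AddChar F L) (M : G →* Matrix κ κ L) (u : (ι → F) → G) (a : ι → F) :
    Matrix κ κ L :=
  ∑ v : ι → F, ψ (-(a ⬝ᵥ v)) • M (u v)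

variable {ψ : AddChar F L} {M : G →* Matrix κ κ L} {u : (ι → F) → G}

theorem sum_char (hψ : ∀ a : F, a ≠ 0 → ∃ x : F, ψ (a * x) ≠ 1) [DecidableEq F] (a : ι → F) :
    ∑ v : ι → F, ψ (a ⬝ᵥ v) = if a = 0 then (Fintype.card (ι → F) : L) else 0 := by
  split_ifs with h
  · subst h; simp
  · let χ : AddChar (ι → F) L :=
      { toFun := fun v => ψ (a ⬝ᵥ v)
        map_zero_eq_one' := by rw [dotProduct_zero, AddChar.map_zero_eq_one]
        map_add_eq_mul' := fun v w => by rw [dotProduct_add, AddChar.map_add_eq_mul] }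
    refine AddChar.sum_eq_zero_of_ne_one (ψ := χ) (AddChar.ne_one_iff.2 ?_)
    obtain ⟨i, hi⟩ := Function.ne_iff.1 h
    obtain ⟨x, hx⟩ := hψ (a i) hi
    exact ⟨Pi.single i x, by show ψ (a ⬝ᵥ Pi.single i x) ≠ 1; rwa [dotProduct_single]⟩

theorem u_zero (hu : ∀ v w, u (v + w) = u v * u w) : u 0 = 1 := by
  have h := hu 0 0
  rw [add_zero] at h
  exact left_eq_mul.1 h

theorem M_mul_proj (hu : ∀ v w, u (v + w) = u v * u w) (a w : ι → F) :
    M (u w) * proj ψ M u a = ψ (a ⬝ᵥ w) • proj ψ M u a := by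
  rw [proj, Finset.mul_sum, Finset.smul_sum]
  refine Fintype.sum_equiv (Equiv.addLeft w) _ _ fun v => ?_
  rw [Equiv.coe_addLeft, Matrix.mul_smul, ← map_mul, ← hu, smul_smul, ← AddChar.map_add_eq_mul,
    dotProduct_add, neg_add, ← add_assoc, add_neg_cancel, zero_add]

theorem proj_mul_proj (hψ : ∀ a : F, a ≠ 0 → ∃ x : F, ψ (a * x) ≠ 1) [DecidableEq F]
    (hu : ∀ v w, u (v + w) = u v * u w) (a b : ι → F) :
    proj ψ M u b * proj ψ M u a =
      (if a = b then (Fintype.card (ι → F) : L) else 0) • proj ψ M u a := by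
  conv_lhs => rw [proj, Finset.sum_mul]
  rw [show (if a = b then (Fintype.card (ι → F) : L) else 0) = ∑ v : ι → F, ψ ((a - b) ⬝ᵥ v) by
    rw [sum_char hψ]; simp [sub_eq_zero], Finset.sum_smul]
  refine Finset.sum_congr rfl fun v _ => ?_
  rw [Matrix.smul_mul, M_mul_proj hu, smul_smul, ← AddChar.map_add_eq_mul, sub_dotProduct]
  congr 2
  ring

theorem sum_proj (hψ : ∀ a : F, a ≠ 0 → ∃ x : F, ψ (a * x) ≠ 1) [DecidableEq F]
    (hu : ∀ v w, u (v + w) = u v * u w) :
    ∑ a : ι → F, proj ψ M u a = (Fintype.card (ι → F) : L) • (1 : Matrix κ κ L) := by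
  simp only [proj]
  rw [Finset.sum_comm, Finset.sum_eq_single 0]
  · simp [u_zero hu, ← Nat.cast_smul_eq_nsmul L]
  · intro v _ hv
    rw [← Finset.sum_smul]
    have h := sum_char hψ (-v)
    rw [if_neg (neg_ne_zero.2 hv)] at h
    rw [show ∑ a : ι → F, ψ (-(a ⬝ᵥ v)) = ∑ a : ι → F, ψ ((-v) ⬝ᵥ a) from
      Finset.sum_congr rfl fun a _ => by rw [neg_dotProduct, dotProduct_comm], h, zero_smul]
  · intro h; exact absurd (Finset.mem_univ _) h

/-- some character with non-trivial value at `w` occurs -/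
theorem exists_proj_ne (hψ : ∀ a : F, a ≠ 0 → ∃ x : F, ψ (a * x) ≠ 1)
    (hu : ∀ v w, u (v + w) = u v * u w) (hq : (Fintype.card (ι → F) : L) ≠ 0) {w : ι → F}
    (hw : M (u w) ≠ 1) : ∃ a : ι → F, proj ψ M u a ≠ 0 ∧ a ⬝ᵥ w ≠ 0 := by
  classical
  by_contra h
  simp only [not_exists, not_and, not_not] at h
  apply hw
  have h1 : M (u w) * ∑ a : ι → F, proj ψ M u a = ∑ a : ι → F, proj ψ M u a := by
    rw [Finset.mul_sum]
    refine Finset.sum_congr rfl fun a _ => ?_
    rw [M_mul_proj hu]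
    by_cases ha : proj ψ M u a = 0
    · rw [ha, smul_zero]
    · rw [h a ha, AddChar.map_zero_eq_one, one_smul]
  rw [sum_proj hψ hu, Matrix.mul_smul, mul_one] at h1
  exact smul_right_injective _ hq h1

theorem card_le (hψ : ∀ a : F, a ≠ 0 → ∃ x : F, ψ (a * x) ≠ 1)
    (hu : ∀ v w, u (v + w) = u v * u w) (hq : (Fintype.card (ι → F) : L) ≠ 0) {a₀ : ι → F}
    (h₀ : proj ψ M u a₀ ≠ 0) (T : Finset (ι → F))
    (hT : ∀ a ∈ T, ∃ (g : G) (f : (ι → F) ≃ (ι → F)),
      (∀ v, g * u v = u (f v) * g) ∧ ∀ v, a ⬝ᵥ f v = a₀ ⬝ᵥ v) :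
    T.card ≤ Fintype.card κ := by
  classical
  have hne : ∀ a ∈ T, proj ψ M u a ≠ 0 := by
    intro a ha h
    obtain ⟨g, f, hg, hf⟩ := hT a ha
    apply h₀
    have e : M g * proj ψ M u a₀ = proj ψ M u a * M g := by
      rw [proj, proj, Finset.mul_sum, Finset.sum_mul]
      refine Fintype.sum_equiv f _ _ fun v => ?_
      rw [Matrix.mul_smul, Matrix.smul_mul, ← map_mul, ← map_mul, hg, hf]
    rw [h, zero_mul] at e
    have e2 := congrArg (M g⁻¹ * ·) e
    simp only [← mul_assoc, ← map_mul, inv_mul_cancel, map_one, one_mul, mul_zero] at e2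
    exact e2
  have hx : ∀ a : T, ∃ y : κ → L, proj ψ M u a.1 *ᵥ y ≠ 0 := by
    intro a
    by_contra h
    simp only [not_exists, not_not] at h
    exact hne a.1 a.2 (Matrix.ext_of_mulVec_single fun i => by rw [h, Matrix.zero_mulVec])
  choose y hy using hx
  have hli : LinearIndependent L (fun a : T => proj ψ M u a.1 *ᵥ y a) := by
    rw [Fintype.linearIndependent_iff]
    intro c hc b
    have h := congrArg (proj ψ M u b.1 *ᵥ ·) hc
    simp only [Matrix.mulVec_sum, Matrix.mulVec_smul, Matrix.mulVec_mulVec, Matrix.mulVec_zero,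
      proj_mul_proj hψ hu, Matrix.smul_mulVec] at h
    rw [Finset.sum_eq_single b (fun a _ hab => by
      rw [if_neg (fun e => hab (Subtype.ext e)), zero_smul, smul_zero])
      (fun hb => absurd (Finset.mem_univ b) hb), if_pos rfl, smul_smul] at h
    rcases smul_eq_zero.1 h with h | h
    · exact (mul_eq_zero.1 h).resolve_right hq
    · exact absurd h (hy b)
  have := hli.fintype_card_le_finrank
  rwa [Fintype.card_coe, Module.finrank_fintype_fun_eq_card] at this

/-- A representation over any field, read over its algebraic closure. -/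
noncomputable def toClosure {K : Type*} [Field K] {d : ℕ} (ρ : G →* GL (Fin d) K) :
    G →* Matrix (Fin d) (Fin d) (AlgebraicClosure K) :=
  ((algebraMap K (AlgebraicClosure K)).mapMatrix.toMonoidHom.comp (Units.coeHom _)).comp ρ

theorem toClosure_ne_one {K : Type*} [Field K] {d : ℕ} (ρ : G →* GL (Fin d) K) {x : G} (h : x ∉ ρ.ker) :
    toClosure ρ x ≠ 1 := by
  intro e
  refine h (MonoidHom.mem_ker.2 (Units.ext ?_))
  have e2 : ((ρ x : GL (Fin d) K) : Matrix (Fin d) (Fin d) K).map (algebraMap K (AlgebraicClosure K)) = 1 := e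
  refine Matrix.map_injective (algebraMap K (AlgebraicClosure K)).injective ?_
  show Matrix.map _ _ = Matrix.map _ _
  rw [e2, Units.val_one, Matrix.map_one _ (map_zero _) (map_one _)]

theorem cast_char_ne_zero {K : Type*} [Field K] (hK : ringChar K ≠ ringChar F) (p : ℕ) [Fact p.Prime]
    [CharP F p] : (p : AlgebraicClosure K) ≠ 0 := by
  intro h
  rw [← map_natCast (algebraMap K (AlgebraicClosure K)), map_eq_zero] at h
  apply hK
  rw [ringChar.eq F p]
  obtain ⟨c, hc⟩ := CharP.exists K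
  rw [ringChar.eq K c]
  have hd := (CharP.cast_eq_zero_iff K c p).1 h
  rcases (Fact.out : p.Prime).eq_one_or_self_of_dvd c hd with h1 | h1
  · exact absurd h1 (CharP.char_ne_one K c)
  · exact h1

theorem card_fun_ne_zero {K : Type*} [Field K] (hK : ringChar K ≠ ringChar F) (p : ℕ) [Fact p.Prime]
    [CharP F p] : (Fintype.card (ι → F) : AlgebraicClosure K) ≠ 0 := by
  obtain ⟨n, -, hn⟩ := FiniteField.card F p
  rw [Fintype.card_fun, hn, Nat.cast_pow, Nat.cast_pow]
  exact pow_ne_zero _ (pow_ne_zero _ (cast_char_ne_zero hK p))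

end Cfsg.Lib.CrossChar
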