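import Mathlib

/-! Invariant subspaces of a linear map whose `r`-th power is scalar, `r` a prime other than the characteristic. -/

set_option autoImplicit false
set_option linter.unusedSimpArgs false
set_option linter.unusedSectionVars false
set_option linter.unusedVariables false
set_option linter.style.haveILetI false
set_option linter.flexible false

namespace Cfsg.Lib.Classical.PrimeOrd

open Polynomial Submodule

universe u v

variable {F : Type u} [Field F] {V : Type v} [AddCommGroup V] [Module F V] [FiniteDimensional F V]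

/-- An invariant subspace. -/
def Inv (x : Module.End F V) (W : Submodule F V) : Prop := ∀ w ∈ W, x w ∈ W

theorem Inv.inf {x : Module.End F V} {U W : Submodule F V} (hU : Inv x U) (hW : Inv x W) : Inv x (U ⊓ W) :=
  fun w hw => ⟨hU w hw.1, hW w hw.2⟩

theorem Inv.sup {x : Module.End F V} {U W : Submodule F V} (hU : Inv x U) (hW : Inv x W) : Inv x (U ⊔ W) := by
  intro w hw
  obtain ⟨a, ha, b, hb, rfl⟩ := mem_sup.mp hw
  rw [map_add]
  exact add_mem_sup (hU a ha) (hW b hb)

theorem inv_iff_map_le {x : Module.End F V} {W : Submodule F V} : Inv x W ↔ W.map x ≤ W :=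
  ⟨fun h => by rintro _ ⟨w, hw, rfl⟩; exact h w hw, fun h w hw => h ⟨w, hw, rfl⟩⟩

theorem inv_smul {x : Module.End F V} {d : F} (hd : d ≠ 0) {W : Submodule F V} : Inv (d • x) W ↔ Inv x W := by
  refine ⟨fun h w hw => ?_, fun h w hw => W.smul_mem d (h w hw)⟩
  have := W.smul_mem d⁻¹ (h w hw)
  rwa [LinearMap.smul_apply, smul_smul, inv_mul_cancel₀ hd, one_smul] at this

/-- A map with scalar `r`-th power is semisimple. -/
theorem semisimple {x : Module.End F V} {r : ℕ} (hr : (r : F) ≠ 0) {c : F} (hc : c ≠ 0) (hx : x ^ r = c • 1) :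
    x.IsSemisimple :=
  Module.End.isSemisimple_of_squarefree_aeval_eq_zero (p := X ^ r - C c)
    (separable_X_pow_sub_C c hr hc).squarefree (by simp [hx, Algebra.algebraMap_eq_smul_one])

/-- Invariant complements. -/
theorem exists_compl {x : Module.End F V} (hs : x.IsSemisimple) {U : Submodule F V} (hU : Inv x U) :
    ∃ C, Inv x C ∧ IsCompl U C := by
  obtain ⟨C, hC, h⟩ := Module.End.isSemisimple_iff.mp hs U (fun w hw => hU w hw)
  exact ⟨C, fun w hw => hC hw, h⟩

/-- Invariant subspaces grow in steps. -/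
theorem grow {x : Module.End F V} (hs : x.IsSemisimple) {a : ℕ} (S : Submodule F V) (hS : Inv x S)
    (hmin : ∀ W ≤ S, Inv x W → W ≠ ⊥ → ∃ U ≤ W, Inv x U ∧ Module.finrank F U = a) :
    ∀ l, l * a ≤ Module.finrank F S → ∃ U ≤ S, Inv x U ∧ Module.finrank F U = l * a := by
  intro l
  induction l with
  | zero => exact fun _ => ⟨⊥, bot_le, fun w hw => by rw [mem_bot] at hw; simp [hw], by simp⟩
  | succ l ih =>
    intro hl
    rw [Nat.succ_mul] at hl
    obtain ⟨U, hUS, hU, hUd⟩ := ih (by omega)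
    rcases Nat.eq_zero_or_pos a with rfl | ha
    · exact ⟨U, hUS, hU, by simp [hUd]⟩
    obtain ⟨C, hC, hcompl⟩ := exists_compl hs hU
    have hne : C ⊓ S ≠ ⊥ := by
      intro h
      have e : U ⊔ C ⊓ S = S := by rw [← sup_inf_assoc_of_le C hUS, hcompl.sup_eq_top, top_inf_eq]
      rw [h, sup_bot_eq] at e
      rw [e] at hUd
      omega
    obtain ⟨T, hT, hTi, hTd⟩ := hmin (C ⊓ S) inf_le_right (hC.inf hS) hne
    refine ⟨U ⊔ T, sup_le hUS (hT.trans inf_le_right), hU.sup hTi, ?_⟩
    have h := Submodule.finrank_sup_add_finrank_inf_eq U T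
    rw [(hcompl.disjoint.mono_right (hT.trans inf_le_left)).eq_bot, finrank_bot] at h
    rw [Nat.succ_mul]
    omega

/-- Two independent invariant subspaces of given dimensions. -/
theorem grow_two {x : Module.End F V} (hs : x.IsSemisimple) {a : ℕ} (S : Submodule F V) (hS : Inv x S)
    (hmin : ∀ W ≤ S, Inv x W → W ≠ ⊥ → ∃ U ≤ W, Inv x U ∧ Module.finrank F U = a) (l₁ l₂ : ℕ)
    (hl : l₁ * a + l₂ * a ≤ Module.finrank F S) :
    ∃ U₁ U₂ : Submodule F V, U₁ ≤ S ∧ U₂ ≤ S ∧ Inv x U₁ ∧ Inv x U₂ ∧ Disjoint U₁ U₂ ∧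
      Module.finrank F U₁ = l₁ * a ∧ Module.finrank F U₂ = l₂ * a := by
  obtain ⟨U₁, h1S, h1i, h1d⟩ := grow hs S hS hmin l₁ (by omega)
  obtain ⟨C, hC, hcompl⟩ := exists_compl hs h1i
  have e : U₁ ⊔ C ⊓ S = S := by rw [← sup_inf_assoc_of_le C h1S, hcompl.sup_eq_top, top_inf_eq]
  have h := Submodule.finrank_sup_add_finrank_inf_eq U₁ (C ⊓ S)
  rw [(hcompl.disjoint.mono_right inf_le_left).eq_bot, finrank_bot, e] at h
  obtain ⟨U₂, h2S, h2i, h2d⟩ := grow hs (C ⊓ S) (hC.inf hS) (fun W hW => hmin W (hW.trans inf_le_right)) l₂ (by omega)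
  exact ⟨U₁, U₂, h1S, h2S.trans inf_le_right, h1i, h2i, hcompl.disjoint.mono_right (h2S.trans inf_le_left), h1d, h2d⟩

/-- Minimal invariant subspaces. -/
theorem exists_minimal {x : Module.End F V} {W : Submodule F V} (hW : Inv x W) (h0 : W ≠ ⊥) :
    ∃ U ≤ W, Inv x U ∧ U ≠ ⊥ ∧ ∀ T ≤ U, Inv x T → T ≠ ⊥ → T = U := by
  classical
  have hex : ∃ k, ∃ U ≤ W, Inv x U ∧ U ≠ ⊥ ∧ Module.finrank F U = k := ⟨_, W, le_rfl, hW, h0, rfl⟩
  obtain ⟨U, hUW, hU, hU0, hd⟩ := Nat.find_spec hex
  refine ⟨U, hUW, hU, hU0, fun T hT hTi hT0 => eq_of_le_of_finrank_le hT ?_⟩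
  have := Nat.find_min' hex ⟨T, hT.trans hUW, hTi, hT0, rfl⟩
  omega

/-- The restriction to an invariant subspace. -/
def res (x : Module.End F V) {W : Submodule F V} (hW : Inv x W) : Module.End F W := x.restrict hW

theorem res_pow (x : Module.End F V) {W : Submodule F V} (hW : Inv x W) (j : ℕ) (w : W) :
    ((res x hW ^ j) w : V) = (x ^ j) w := by
  induction j generalizing w with
  | zero => simp
  | succ j ih => rw [pow_succ, pow_succ, Module.End.mul_apply, Module.End.mul_apply, ih]; rfl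

theorem res_scalar {x : Module.End F V} {W : Submodule F V} (hW : Inv x W) {r : ℕ} {c : F} (hx : x ^ r = c • 1) :
    res x hW ^ r = c • 1 :=
  LinearMap.ext fun w => Subtype.ext (by rw [res_pow, hx]; rfl)

/-- Without an `r`-th root, dimensions are multiples of `r`. -/
theorem dvd_of_nonpower {x : Module.End F V} {r : ℕ} (hr : r.Prime) {c : F} (hc : c ≠ 0) (hx : x ^ r = c • 1)
    (hnp : ∀ b : F, b ^ r ≠ c) {W : Submodule F V} (hW : Inv x W) : r ∣ Module.finrank F W := by
  by_contra hnd
  set d := Module.finrank F W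
  have h1 : LinearMap.det (res x hW) ^ r = c ^ d := by
    rw [← map_pow, res_scalar hW hx, LinearMap.det_smul, map_one, mul_one]
  set e := LinearMap.det (res x hW)
  obtain ⟨g, hg⟩ : ∃ g : ℤ × ℤ, (r : ℤ) * g.1 + (d : ℤ) * g.2 = 1 := by
    refine ⟨(Nat.gcdA r d, Nat.gcdB r d), ?_⟩
    rw [← Nat.gcd_eq_gcd_ab, (hr.coprime_iff_not_dvd.mpr hnd).gcd_eq_one]
    rfl
  have he : e ≠ 0 := fun h => pow_ne_zero d hc (by rw [← h1, h, zero_pow hr.ne_zero])
  refine hnp (c ^ g.1 * e ^ g.2) ?_
  rw [← zpow_natCast, mul_zpow, ← zpow_mul, ← zpow_mul, mul_comm g.2, zpow_mul e, zpow_natCast, h1, ← zpow_natCast,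
    ← zpow_mul, ← zpow_add₀ hc, mul_comm g.1, hg, zpow_one]

variable [Fintype F]

set_option maxHeartbeats 1600000 in
/-- A cyclic bound: minimal invariant subspaces have dimension at most the order of `q` mod `r`. -/
theorem minimal_le {x : Module.End F V} {r : ℕ} (hr : r.Prime) {i : ℕ} (hi0 : i ≠ 0) (hi : r ∣ Fintype.card F ^ i - 1)
    (hx : x ^ r = 1) {U : Submodule F V} (hU : Inv x U) (hU0 : U ≠ ⊥)
    (hmin : ∀ T ≤ U, Inv x T → T ≠ ⊥ → T = U) : Module.finrank F U ≤ i := by
  classical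
  obtain ⟨p, hp⟩ := CharP.exists F
  haveI : Fact p.Prime := ⟨CharP.char_is_prime F p⟩
  obtain ⟨f, -, hf⟩ := FiniteField.card F p
  set N := Fintype.card F ^ i with hN
  have hN1 : 1 ≤ N := Nat.one_le_pow _ _ Fintype.card_pos
  let y : Module.End F U := res x hU
  have hy : y ^ r = 1 := by
    have := res_scalar (c := (1 : F)) hU (r := r) (by rw [hx, one_smul])
    rwa [one_smul] at this
  have hyN : y ^ N = y := by
    obtain ⟨t, ht⟩ := hi
    rw [show N = r * t + 1 by omega, pow_succ, pow_mul, hy, one_pow, one_mul]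
  let A : Subalgebra F (Module.End F U) := Algebra.adjoin F {y}
  haveI : Nontrivial U := Submodule.nontrivial_iff_ne_bot.mpr hU0
  haveI : Finite U := Module.finite_of_finite F
  haveI : Finite (Module.End F U) := Module.finite_of_finite F
  haveI : Fintype A := Fintype.ofFinite A
  have hcomm : ∀ a ∈ A, Commute a y := fun a ha => by
    induction ha using Algebra.adjoin_induction with
    | mem z hz => rw [Set.mem_singleton_iff] at hz; subst hz; exact Commute.refl _
    | algebraMap c => exact Algebra.commutes c y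
    | add a b _ _ ha hb => exact ha.add_left hb
    | mul a b _ _ ha hb => exact ha.mul_left hb
  have hcommA : ∀ a ∈ A, ∀ b ∈ A, Commute a b := fun a ha b hb => by
    induction hb using Algebra.adjoin_induction with
    | mem z hz => rw [Set.mem_singleton_iff] at hz; subst hz; exact hcomm a ha
    | algebraMap c => exact (Algebra.commutes c a).symm
    | add b b' _ _ hb hb' => exact hb.add_right hb'
    | mul b b' _ _ hb hb' => exact hb.mul_right hb'
  letI : CommRing A := { (inferInstance : Ring A) with mul_comm := fun a b => Subtype.ext (hcommA a.1 a.2 b.1 b.2) }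
  have hinj : ∀ a : A, a ≠ 0 → ∀ v : U, a.1 v = 0 → v = 0 := by
    intro a ha v hv
    by_contra hv0
    have hT : (LinearMap.ker a.1).map U.subtype = U := hmin _ (map_subtype_le U _) (by
      rintro _ ⟨w, hw, rfl⟩
      refine ⟨y w, ?_, rfl⟩
      show a.1 (y w) = 0
      rw [← Module.End.mul_apply, (hcomm a.1 a.2).eq, Module.End.mul_apply, show a.1 w = 0 from hw, map_zero])
      (fun h => hv0 (Subtype.ext ((Submodule.mem_bot F).mp (h ▸ ⟨v, hv, rfl⟩ : (v : V) ∈ (⊥ : Submodule F V)))))
    refine ha (Subtype.ext (LinearMap.ext fun w => ?_))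
    obtain ⟨w', hw', e⟩ := hT.ge w.2
    rw [← Subtype.ext (a1 := w') (a2 := w) e]
    exact hw'
  haveI : NoZeroDivisors A := ⟨fun {a b} hab => by
    by_contra h
    push Not at h
    refine h.2 (Subtype.ext (LinearMap.ext fun v => hinj a h.1 _ ?_))
    rw [← Module.End.mul_apply, ← MulMemClass.coe_mul, hab]
    rfl⟩
  haveI : Nontrivial A := ⟨⟨0, 1, fun h => zero_ne_one (congrArg Subtype.val h : (0 : Module.End F U) = 1)⟩⟩
  haveI : IsDomain A := NoZeroDivisors.to_isDomain A
  haveI : CharP A p := charP_of_injective_algebraMap (algebraMap F A).injective p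
  have hfix : ∀ a : A, a ^ N = a := by
    rintro ⟨a, ha⟩
    induction ha using Algebra.adjoin_induction with
    | mem z hz => rw [Set.mem_singleton_iff] at hz; subst hz; exact Subtype.ext hyN
    | algebraMap c =>
      refine Subtype.ext ?_
      show algebraMap F (Module.End F U) c ^ N = _
      rw [← map_pow, hN, FiniteField.pow_card_pow]
    | add a b ha hb iha ihb =>
      show (⟨a, ha⟩ + ⟨b, hb⟩ : A) ^ N = ⟨a, ha⟩ + ⟨b, hb⟩
      rw [hN, hf, ← pow_mul, add_pow_char_pow, pow_mul, ← hf, ← hN, iha, ihb]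
    | mul a b ha hb iha ihb =>
      show (⟨a, ha⟩ * ⟨b, hb⟩ : A) ^ N = ⟨a, ha⟩ * ⟨b, hb⟩
      rw [mul_pow, iha, ihb]
  have hcard : Fintype.card A ≤ N := by
    have hN' : 1 < N := Nat.one_lt_pow hi0 Fintype.one_lt_card
    have hdeg : (X ^ N - X : A[X]).natDegree = N := by
      rw [natDegree_sub_eq_left_of_natDegree_lt (by rw [natDegree_X, natDegree_X_pow]; exact hN'), natDegree_X_pow]
    have hne : (X ^ N - X : A[X]) ≠ 0 := fun e => by
      rw [e, natDegree_zero] at hdeg
      omega
    rw [← hdeg]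
    refine le_trans ?_ (card_roots' _)
    refine (Finset.card_univ (α := A)).symm.le.trans ((Finset.card_le_card (fun a _ => ?_)).trans
      (Multiset.toFinset_card_le _))
    rw [Multiset.mem_toFinset, mem_roots hne]
    simp [hfix a]
  obtain ⟨v, hv⟩ := exists_ne (0 : U)
  let φ : A →ₗ[F] U := (LinearMap.applyₗ v).comp A.val.toLinearMap
  have hrange : LinearMap.range φ = ⊤ := by
    have hT : (LinearMap.range φ).map U.subtype = U := hmin _ (map_subtype_le U _) (by
      rintro _ ⟨_, ⟨a, rfl⟩, rfl⟩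
      refine ⟨y (a.1 v), ⟨⟨y, Algebra.self_mem_adjoin_singleton F y⟩ * a, rfl⟩, rfl⟩)
      (fun h => hv (Subtype.ext ((Submodule.mem_bot F).mp (h ▸ ⟨v, ⟨1, rfl⟩, rfl⟩ : (v : V) ∈ (⊥ : Submodule F V)))))
    rw [eq_top_iff]
    intro w _
    obtain ⟨w', hw', e⟩ := hT.ge w.2
    rwa [← Subtype.ext (a1 := w') (a2 := w) e]
  have h := Nat.card_le_card_of_surjective φ (LinearMap.range_eq_top.mp hrange)
  rw [Module.natCard_eq_pow_finrank (K := F) (V := U), Nat.card_eq_fintype_card, Nat.card_eq_fintype_card] at h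
  exact (Nat.pow_le_pow_iff_right Fintype.one_lt_card).mp (h.trans hcard)

/-- Eigenvalue one. -/
noncomputable def fix (x : Module.End F V) : Submodule F V := LinearMap.ker (x - 1)

/-- The moved part. -/
noncomputable def mov (x : Module.End F V) : Submodule F V := LinearMap.range (x - 1)

theorem mem_fix {x : Module.End F V} {v : V} : v ∈ fix x ↔ x v = v := by simp [fix, sub_eq_zero]

theorem inv_fix (x : Module.End F V) : Inv x (fix x) := fun v hv => by
  rw [mem_fix] at hv
  rw [hv]
  exact mem_fix.mpr hv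

theorem inv_mov (x : Module.End F V) : Inv x (mov x) := by
  rintro _ ⟨v, rfl⟩
  exact ⟨x v, by simp⟩

theorem isCompl_fix_mov {x : Module.End F V} {r : ℕ} (hr : (r : F) ≠ 0) (hx : x ^ r = 1) :
    IsCompl (fix x) (mov x) := by
  have hd : Disjoint (fix x) (mov x) := by
    rw [Submodule.disjoint_def]
    rintro v hv ⟨w, hw⟩
    rw [mem_fix] at hv
    have hw' : x w = w + v := by rw [← hw]; simp
    have hj : ∀ j : ℕ, (x ^ j) w = w + (j : F) • v := by
      intro j
      induction j with
      | zero => simp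
      | succ j ih =>
        rw [pow_succ', Module.End.mul_apply, ih, map_add, map_smul, hv, hw', Nat.cast_succ, add_smul, one_smul]
        abel
    have := hj r
    rw [hx, Module.End.one_apply] at this
    exact (smul_eq_zero.mp (left_eq_add.mp this)).resolve_left hr
  refine ⟨hd, codisjoint_iff.mpr (eq_top_of_finrank_eq ?_)⟩
  have h := Submodule.finrank_sup_add_finrank_inf_eq (fix x) (mov x)
  rw [hd.eq_bot, finrank_bot, add_zero] at h
  rw [h, fix, mov, add_comm, LinearMap.finrank_range_add_finrank_ker]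

/-- Fixed-point-free invariant subspaces have dimension a multiple of the order. -/
theorem dvd_of_fpf {x : Module.End F V} {r : ℕ} [Fact r.Prime] (hx : x ^ r = 1) {W : Submodule F V} (hW : Inv x W)
    (hfree : W ⊓ fix x = ⊥) : orderOf (Fintype.card F : ZMod r) ∣ Module.finrank F W := by
  classical
  have hr : r.Prime := Fact.out
  haveI : Finite W := Module.finite_of_finite F
  haveI := Fintype.ofFinite W
  let y := res x hW
  have hy : y ^ r = 1 := by
    have := res_scalar (c := (1 : F)) hW (r := r) (by rw [hx, one_smul])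
    rwa [one_smul] at this
  let σ : Equiv.Perm W :=
    { toFun := y
      invFun := fun w => (y ^ (r - 1)) w
      left_inv := fun w => by show (y ^ (r - 1)) (y w) = w; rw [← Module.End.mul_apply, ← pow_succ, Nat.sub_add_cancel hr.pos, hy]; rfl
      right_inv := fun w => by show y ((y ^ (r - 1)) w) = w; rw [← Module.End.mul_apply, ← pow_succ', Nat.sub_add_cancel hr.pos, hy]; rfl }
  have hσ : σ ^ r ^ 1 = 1 := by
    refine Equiv.ext fun w => ?_
    have h : ∀ j : ℕ, (σ ^ j) w = (y ^ j) w := by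
      intro j
      induction j with
      | zero => rfl
      | succ j ih => rw [pow_succ', pow_succ', Equiv.Perm.mul_apply, ih]; rfl
    rw [pow_one, h, hy]
    rfl
  have hsupp : σ.supportᶜ.card = 1 := by
    rw [Finset.card_eq_one]
    refine ⟨0, Finset.ext fun w => ?_⟩
    simp only [Finset.mem_compl, Equiv.Perm.mem_support, not_not, Finset.mem_singleton]
    refine ⟨fun h => Subtype.ext ((Submodule.mem_bot F).mp (hfree ▸ ⟨w.2, mem_fix.mpr (congrArg Subtype.val h)⟩)),
      fun h => by subst h; exact map_zero y⟩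
  have h := Equiv.Perm.card_compl_support_modEq hσ
  rw [hsupp, Module.card_eq_pow_finrank (K := F)] at h
  rw [orderOf_dvd_iff_pow_eq_one, ← Nat.cast_pow, ← Nat.cast_one, ZMod.natCast_eq_natCast_iff]
  exact h.symm

/-- Dimensions of invariant subspaces are congruent to their fixed dimensions. -/
theorem dim_split {x : Module.End F V} {r : ℕ} [Fact r.Prime] (hr : (r : F) ≠ 0) (hx : x ^ r = 1) {W : Submodule F V}
    (hW : Inv x W) : ∃ e j : ℕ, e ≤ Module.finrank F (fix x ⊓ W : Submodule F V) ∧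
      Module.finrank F W = e + j * orderOf (Fintype.card F : ZMod r) := by
  obtain ⟨C, hC, hcompl⟩ := exists_compl (semisimple (c := (1 : F)) hr one_ne_zero (by rw [hx, one_smul]))
    ((inv_fix x).inf hW)
  have e : fix x ⊓ W ⊔ C ⊓ W = W := by rw [← sup_inf_assoc_of_le C inf_le_right, hcompl.sup_eq_top, top_inf_eq]
  have h := Submodule.finrank_sup_add_finrank_inf_eq (fix x ⊓ W) (C ⊓ W)
  rw [(hcompl.disjoint.mono_right inf_le_left).eq_bot, finrank_bot, e] at h
  obtain ⟨j, hj⟩ := dvd_of_fpf hx (hC.inf hW) (by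
    rw [eq_bot_iff]
    rintro w ⟨⟨hwC, hwW⟩, hwf⟩
    exact hcompl.disjoint.le_bot ⟨⟨hwf, hwW⟩, hwC⟩)
  exact ⟨_, j, le_rfl, by rw [mul_comm]; omega⟩

end Cfsg.Lib.Classical.PrimeOrd
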