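import Mathlib
import Cfsg.Agent.Classical.Misc.PrimeOrderLinear

/-! When every element of prime order `r ≠ p` of `PSL_n(q)` fixes subspaces of given dimensions. -/

set_option autoImplicit false
set_option linter.unusedSimpArgs false
set_option linter.unusedSectionVars false
set_option linter.unusedVariables false
set_option linter.style.haveILetI false
set_option linter.flexible false

namespace Cfsg.Lib.Classical.PrimeOrd

open Polynomial Submodule

universe u v

variable {F : Type u} [Field F] [Fintype F]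

/-! ### Numbers -/

theorem not_dvd_card {p r : ℕ} [Fact p.Prime] [CharP F p] (hr : r.Prime) (hrp : r ≠ p) : ¬ r ∣ Fintype.card F := by
  obtain ⟨n, -, hn⟩ := FiniteField.card F p
  rw [hn]
  exact fun h => hrp ((Nat.prime_dvd_prime_iff_eq hr Fact.out).mp (hr.dvd_of_dvd_pow h))

theorem cast_ne_zero {p r : ℕ} [Fact p.Prime] [CharP F p] (hr : r.Prime) (hrp : r ≠ p) : (r : F) ≠ 0 := fun h =>
  hrp ((Nat.prime_dvd_prime_iff_eq Fact.out hr).mp ((CharP.cast_eq_zero_iff F p r).mp h)).symm

theorem dvd_pow_sub_one {r : ℕ} (l : ℕ) : r ∣ Fintype.card F ^ l - 1 ↔ orderOf (Fintype.card F : ZMod r) ∣ l := by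
  rw [orderOf_dvd_iff_pow_eq_one, ← ZMod.natCast_eq_zero_iff, Nat.cast_sub (Nat.one_le_pow _ _ Fintype.card_pos),
    sub_eq_zero, Nat.cast_pow, Nat.cast_one]

theorem ord_pos {r : ℕ} [Fact r.Prime] (h : ¬ r ∣ Fintype.card F) : 0 < orderOf (Fintype.card F : ZMod r) :=
  orderOf_pos_iff.mpr (isOfFinOrder_iff_pow_eq_one.mpr ⟨r - 1, Nat.sub_pos_of_lt (Fact.out : r.Prime).one_lt,
    ZMod.pow_card_sub_one_eq_one fun e => h ((ZMod.natCast_eq_zero_iff _ _).mp e)⟩)

theorem exists_gen : ∃ g : F, g ≠ 0 ∧ orderOf g = Fintype.card F - 1 ∧ ∀ c : F, c ≠ 0 → ∃ k : ℕ, c = g ^ k := by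
  classical
  obtain ⟨g, hg⟩ := IsCyclic.exists_generator (α := Fˣ)
  refine ⟨g, g.ne_zero, ?_, fun c hc => ?_⟩
  · rw [orderOf_units, orderOf_eq_card_of_forall_mem_zpowers hg, Nat.card_eq_fintype_card, Fintype.card_units]
  · obtain ⟨k, hk⟩ := (mem_powers_iff_mem_zpowers.mpr (hg (Units.mk0 c hc)))
    exact ⟨k, by have := congrArg Units.val hk; simpa using this.symm⟩

theorem power_of_pow_eq_one {r : ℕ} (hr : r.Prime) (hdvd : r ∣ Fintype.card F - 1) {c : F} (hc : c ≠ 0)
    (h : c ^ ((Fintype.card F - 1) / r) = 1) : ∃ b : F, b ^ r = c := by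
  obtain ⟨g, hg0, hg, hall⟩ := exists_gen (F := F)
  obtain ⟨k, rfl⟩ := hall c hc
  rw [← pow_mul, ← orderOf_dvd_iff_pow_eq_one, hg] at h
  obtain ⟨t, ht⟩ := hdvd
  rw [ht, Nat.mul_div_cancel_left _ hr.pos] at h
  have ht0 : 0 < t := Nat.pos_of_ne_zero fun e => by
    rw [e, mul_zero] at ht
    have := Fintype.one_lt_card (α := F)
    omega
  obtain ⟨s, hs⟩ := (Nat.mul_dvd_mul_iff_right ht0).mp h
  exact ⟨g ^ s, by rw [← pow_mul, hs, mul_comm]⟩

theorem power_of_coprime {r : ℕ} (hr : r.Prime) (hnd : ¬ r ∣ Fintype.card F - 1) (c : F) : ∃ b : F, b ^ r = c := by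
  classical
  by_cases hc : c = 0
  · exact ⟨0, by rw [hc, zero_pow hr.ne_zero]⟩
  have hco : (Nat.card Fˣ).Coprime r := by
    rw [Nat.card_eq_fintype_card, Fintype.card_units]
    exact ((hr.coprime_iff_not_dvd).mpr hnd).symm
  obtain ⟨b, hb⟩ := (powCoprime hco).surjective (Units.mk0 c hc)
  exact ⟨b, by have := congrArg Units.val hb; simpa using this⟩

theorem root_one {r : ℕ} (hr : r.Prime) (hnd : ¬ r ∣ Fintype.card F - 1) {z : F} (hz : z ^ r = 1) : z = 1 := by
  have h0 : z ≠ 0 := fun e => by rw [e, zero_pow hr.ne_zero] at hz; exact zero_ne_one hz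
  have := (pow_gcd_eq_one (a := z) (m := r) (n := Fintype.card F - 1)).mpr ⟨hz, FiniteField.pow_card_sub_one_eq_one z h0⟩
  rwa [(hr.coprime_iff_not_dvd.mpr hnd).gcd_eq_one, pow_one] at this

/-- A scalar killed by `n / r` is a power when the `r`-part of `n` is small. -/
theorem power_of_small {r s : ℕ} (hr : r.Prime) (hdvd : r ∣ Fintype.card F - 1) (hs : 0 < s)
    (hv : padicValNat r (r * s) ≤ padicValNat r (Fintype.card F - 1)) {c : F} (hc : c ≠ 0) (h : c ^ s = 1) :
    ∃ b : F, b ^ r = c := by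
  haveI := Fact.mk hr
  have hq : 0 < Fintype.card F - 1 := Nat.sub_pos_of_lt Fintype.one_lt_card
  have hg := (pow_gcd_eq_one (a := c)).mpr ⟨h, FiniteField.pow_card_sub_one_eq_one c hc⟩
  refine power_of_pow_eq_one hr hdvd hc ?_
  have hdiv : Nat.gcd s (Fintype.card F - 1) ∣ (Fintype.card F - 1) / r := by
    obtain ⟨t, ht⟩ := Nat.gcd_dvd_right s (Fintype.card F - 1)
    rw [padicValNat.mul hr.ne_zero hs.ne', padicValNat_self] at hv
    have hrt : r ∣ t := by
      by_contra hrt
      set g := Nat.gcd s (Fintype.card F - 1)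
      have ht0 : t ≠ 0 := fun e => by rw [e, mul_zero] at ht; omega
      have hg0 : g ≠ 0 := fun e => by rw [e, zero_mul] at ht; omega
      have h1 : padicValNat r (Fintype.card F - 1) = padicValNat r g := by
        rw [ht, padicValNat.mul hg0 ht0, padicValNat.eq_zero_of_not_dvd hrt, add_zero]
      have h2 : padicValNat r g ≤ padicValNat r s :=
        (padicValNat_dvd_iff_le hs.ne').mp (pow_padicValNat_dvd.trans (Nat.gcd_dvd_left _ _))
      omega
    obtain ⟨u, rfl⟩ := hrt
    refine ⟨u, Nat.div_eq_of_eq_mul_left hr.pos ?_⟩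
    conv_lhs => rw [ht]
    ring
  obtain ⟨u, hu⟩ := hdiv
  rw [hu, pow_mul, hg, one_pow]

/-- A scalar of full `r`-power order. -/
theorem exists_nonpower {r : ℕ} (hr : r.Prime) (hdvd : r ∣ Fintype.card F - 1) :
    ∃ c : F, c ≠ 0 ∧ (∀ b : F, b ^ r ≠ c) ∧ c ^ r ^ padicValNat r (Fintype.card F - 1) = 1 := by
  haveI := Fact.mk hr
  obtain ⟨g, hg0, hg, -⟩ := exists_gen (F := F)
  set Q := Fintype.card F - 1
  have hQ : Q ≠ 0 := (Nat.sub_pos_of_lt Fintype.one_lt_card).ne'
  obtain ⟨u, hu⟩ := pow_padicValNat_dvd (p := r) (n := Q)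
  set v := padicValNat r Q with hv
  refine ⟨g ^ u, pow_ne_zero _ hg0, fun b hb => ?_, ?_⟩
  · have hb0 : b ≠ 0 := fun e => pow_ne_zero u hg0 (by rw [← hb, e, zero_pow hr.ne_zero])
    have h1 : (g ^ u) ^ (Q / r) = 1 := by
      rw [← hb, ← pow_mul, Nat.mul_div_cancel' hdvd]
      exact FiniteField.pow_card_sub_one_eq_one b hb0
    rw [← pow_mul, ← orderOf_dvd_iff_pow_eq_one, hg] at h1
    have hu0 : 0 < u := Nat.pos_of_ne_zero fun e => hQ (by rw [hu, e, mul_zero])
    obtain ⟨w, hw⟩ := hdvd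
    rw [show g = g from rfl] at hg
    rw [hw, Nat.mul_div_cancel_left _ hr.pos] at h1
    have hw0 : 0 < w := Nat.pos_of_ne_zero fun e => hQ (by rw [hw, e, mul_zero])
    have hru : r ∣ u := (Nat.mul_dvd_mul_iff_right hw0).mp h1
    refine pow_succ_padicValNat_not_dvd (p := r) hQ ?_
    rw [← hv, pow_succ, hu]
    exact mul_dvd_mul_left _ hru
  · rw [← pow_mul, mul_comm, ← hu, ← hg, pow_orderOf_eq_one]

/-! ### Existence of invariant subspaces -/

variable {V : Type v} [AddCommGroup V] [Module F V] [FiniteDimensional F V]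

/-- Independent invariant subspaces, given fixed and moved dimensions. -/
theorem build {x : Module.End F V} {r : ℕ} [Fact r.Prime] (hr : (r : F) ≠ 0) (hrF : ¬ r ∣ Fintype.card F)
    (hx : x ^ r = 1) {e₁ e₂ j₁ j₂ : ℕ} (he : e₁ + e₂ ≤ Module.finrank F (fix x))
    (hj : j₁ * orderOf (Fintype.card F : ZMod r) + j₂ * orderOf (Fintype.card F : ZMod r) ≤ Module.finrank F (mov x)) :
    ∃ U₁ U₂ : Submodule F V, Inv x U₁ ∧ Inv x U₂ ∧ Disjoint U₁ U₂ ∧
      Module.finrank F U₁ = e₁ + j₁ * orderOf (Fintype.card F : ZMod r) ∧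
      Module.finrank F U₂ = e₂ + j₂ * orderOf (Fintype.card F : ZMod r) := by
  set i := orderOf (Fintype.card F : ZMod r)
  have hss := semisimple (c := (1 : F)) hr one_ne_zero (by rw [hx, one_smul] : x ^ r = (1 : F) • 1)
  have hc := isCompl_fix_mov hr hx
  obtain ⟨X₁, X₂, hX1, hX2, hX1i, hX2i, hXd, hX1d, hX2d⟩ := grow_two hss (a := 1) (fix x) (inv_fix x)
    (fun W hW hWi hW0 => by
      obtain ⟨w, hw, hw0⟩ := W.exists_mem_ne_zero_of_ne_bot hW0
      refine ⟨span F {w}, by simpa using hw, fun u hu => ?_, finrank_span_singleton hw0⟩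
      obtain ⟨c, rfl⟩ := mem_span_singleton.mp hu
      rw [map_smul, mem_fix.mp (hW hw)]
      exact smul_mem _ _ (mem_span_singleton_self w)) e₁ e₂ (by simpa using he)
  obtain ⟨Y₁, Y₂, hY1, hY2, hY1i, hY2i, hYd, hY1d, hY2d⟩ := grow_two hss (a := i) (mov x) (inv_mov x)
    (fun W hW hWi hW0 => by
      obtain ⟨U, hUW, hU, hU0, hmin⟩ := exists_minimal hWi hW0
      refine ⟨U, hUW, hU, le_antisymm (minimal_le Fact.out (ord_pos hrF).ne' ((dvd_pow_sub_one _).mpr dvd_rfl) hx hU hU0 hmin) ?_⟩
      refine Nat.le_of_dvd (Nat.pos_of_ne_zero fun e => hU0 (finrank_eq_zero.mp e)) (dvd_of_fpf hx hU ?_)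
      rw [eq_bot_iff]
      rintro u ⟨hu, huf⟩
      exact hc.disjoint.le_bot ⟨huf, hW (hUW hu)⟩) j₁ j₂ hj
  refine ⟨X₁ ⊔ Y₁, X₂ ⊔ Y₂, hX1i.sup hY1i, hX2i.sup hY2i, ?_, ?_, ?_⟩
  · rw [Submodule.disjoint_def]
    intro w h1 h2
    obtain ⟨a, ha, b, hb, rfl⟩ := mem_sup.mp h1
    obtain ⟨a', ha', b', hb', e⟩ := mem_sup.mp h2
    have h0 : a - a' = b' - b := by rw [sub_eq_sub_iff_add_eq_add, add_comm b' a', e]
    have h00 : a - a' = 0 := Submodule.disjoint_def.mp hc.disjoint _ (sub_mem (hX1 ha) (hX2 ha'))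
      (h0 ▸ sub_mem (hY2 hb') (hY1 hb))
    have hb0 : b' = b := sub_eq_zero.mp (h0.symm.trans h00)
    rw [Submodule.disjoint_def.mp hXd a ha (sub_eq_zero.mp h00 ▸ ha'), Submodule.disjoint_def.mp hYd b hb (hb0 ▸ hb'),
      add_zero]
  · have h := Submodule.finrank_sup_add_finrank_inf_eq X₁ Y₁
    rw [((hc.disjoint.mono hX1 hY1)).eq_bot, finrank_bot] at h
    omega
  · have h := Submodule.finrank_sup_add_finrank_inf_eq X₂ Y₂
    rw [((hc.disjoint.mono hX2 hY2)).eq_bot, finrank_bot] at h
    omega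

/-- Existence for an element of order `r`. -/
theorem exists_one {x : Module.End F V} {r : ℕ} [Fact r.Prime] (hr : (r : F) ≠ 0) (hrF : ¬ r ∣ Fintype.card F)
    (hx : x ^ r = 1) {m : ℕ} (hm : m ≤ Module.finrank F V)
    (h : m % orderOf (Fintype.card F : ZMod r) ≤ Module.finrank F V % orderOf (Fintype.card F : ZMod r)) :
    ∃ U : Submodule F V, Inv x U ∧ Module.finrank F U = m := by
  set i := orderOf (Fintype.card F : ZMod r)
  have hc := finrank_add_eq_of_isCompl (isCompl_fix_mov hr hx)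
  obtain ⟨N, hN⟩ : i ∣ Module.finrank F (mov x) := dvd_of_fpf hx (inv_mov x)
    (disjoint_iff.mp (isCompl_fix_mov hr hx).symm.disjoint)
  have hmod := Nat.div_add_mod m i
  have hk : Module.finrank F V % i ≤ Module.finrank F (fix x) := by
    rw [← hc, hN, Nat.add_mul_mod_self_left]
    exact Nat.mod_le _ _
  obtain ⟨U, -, hU, -, -, hd, -⟩ := build hr hrF hx (e₁ := m - min (m / i) N * i) (e₂ := 0) (j₁ := min (m / i) N) (j₂ := 0)
    (by
      rcases le_total (m / i) N with h' | h'
      · rw [min_eq_left h', mul_comm]; omega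
      · rw [min_eq_right h', mul_comm]; omega)
    (by rw [hN, Nat.zero_mul, add_zero, mul_comm i N]; exact Nat.mul_le_mul_right i (min_le_right _ _))
  have : min (m / i) N * i ≤ m := (Nat.mul_le_mul_right i (min_le_left _ _)).trans (Nat.div_mul_le_self m i)
  exact ⟨U, hU, hd.trans (Nat.sub_add_cancel this)⟩

/-- Existence of two independent subspaces for an element of order `r`. -/
theorem exists_two {x : Module.End F V} {r : ℕ} [Fact r.Prime] (hr : (r : F) ≠ 0) (hrF : ¬ r ∣ Fintype.card F)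
    (hx : x ^ r = 1) {m : ℕ} (hm : 2 * m ≤ Module.finrank F V)
    (h : 2 * (m % orderOf (Fintype.card F : ZMod r)) ≤ Module.finrank F V % orderOf (Fintype.card F : ZMod r)) :
    ∃ U U' : Submodule F V, Inv x U ∧ Inv x U' ∧ Disjoint U U' ∧ Module.finrank F U = m ∧ Module.finrank F U' = m := by
  set i := orderOf (Fintype.card F : ZMod r)
  have hc := finrank_add_eq_of_isCompl (isCompl_fix_mov hr hx)
  obtain ⟨N, hN⟩ : i ∣ Module.finrank F (mov x) := dvd_of_fpf hx (inv_mov x)
    (disjoint_iff.mp (isCompl_fix_mov hr hx).symm.disjoint)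
  have hmod := Nat.div_add_mod m i
  have hk : Module.finrank F V % i ≤ Module.finrank F (fix x) := by
    rw [← hc, hN, Nat.add_mul_mod_self_left]
    exact Nat.mod_le _ _
  set J := m / i
  set j₁ := min J N with hj1
  set j₂ := min J (N - j₁) with hj2
  have e1 : j₁ * i ≤ J * i := Nat.mul_le_mul_right i (min_le_left _ _)
  have e2 : j₂ * i ≤ J * i := Nat.mul_le_mul_right i (min_le_left _ _)
  have e3 : J * i ≤ m := Nat.div_mul_le_self m i
  obtain ⟨U, U', hU, hU', hd, h1, h2⟩ := build hr hrF hx (e₁ := m - j₁ * i) (e₂ := m - j₂ * i) (j₁ := j₁) (j₂ := j₂)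
    (by
      rcases Nat.lt_or_ge (2 * J) N with h' | h'
      · have a1 : j₁ = J := min_eq_left (by omega)
        have a2 : j₂ = J := by rw [hj2, a1]; exact min_eq_left (by omega)
        rw [a1, a2, mul_comm J i]; omega
      · have a3 : j₁ + j₂ = N := by rw [hj2, hj1]; omega
        have : j₁ * i + j₂ * i = i * N := by rw [← add_mul, mul_comm, a3]
        omega)
    (by rw [hN, ← add_mul, mul_comm i N]; exact Nat.mul_le_mul_right i (by omega))
  exact ⟨U, U', hU, hU', hd, h1.trans (Nat.sub_add_cancel (e1.trans e3)), h2.trans (Nat.sub_add_cancel (e2.trans e3))⟩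

/-- Existence of two independent subspaces when the scalar has no root. -/
theorem exists_two_nonpower {x : Module.End F V} {r : ℕ} (hr : r.Prime) (hrc : (r : F) ≠ 0) {c : F} (hc : c ≠ 0)
    (hx : x ^ r = c • 1) (hnp : ∀ b : F, b ^ r ≠ c) (l₁ l₂ : ℕ) (hl : l₁ * r + l₂ * r ≤ Module.finrank F V) :
    ∃ U U' : Submodule F V, Inv x U ∧ Inv x U' ∧ Disjoint U U' ∧ Module.finrank F U = l₁ * r ∧
      Module.finrank F U' = l₂ * r := by
  obtain ⟨U, U', -, -, hU, hU', hd, h1, h2⟩ := grow_two (semisimple hrc hc hx) (a := r) (⊤ : Submodule F V)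
    (fun _ _ => mem_top) (fun W _ hWi hW0 => by
      obtain ⟨w, hw, hw0⟩ := W.exists_mem_ne_zero_of_ne_bot hW0
      have hmem : ∀ j : ℕ, (x ^ j) w ∈ W := fun j => by
        induction j with
        | zero => simpa using hw
        | succ j ih => rw [pow_succ', Module.End.mul_apply]; exact hWi _ ih
      set U := span F (Set.range fun j : Fin r => (x ^ (j : ℕ)) w)
      have hUi : Inv x U := by
        intro u hu
        induction hu using span_induction with
        | mem u hu =>
          obtain ⟨j, rfl⟩ := hu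
          show x ((x ^ (j : ℕ)) w) ∈ U
          rw [← Module.End.mul_apply, ← pow_succ']
          rcases Nat.lt_or_ge ((j : ℕ) + 1) r with h | h
          · exact subset_span ⟨⟨_, h⟩, rfl⟩
          · rw [show (j : ℕ) + 1 = r by omega, hx]
            exact smul_mem _ _ (subset_span ⟨⟨0, hr.pos⟩, by simp⟩)
        | zero => simp
        | add a b _ _ ha hb => rw [map_add]; exact add_mem ha hb
        | smul s a _ ha => rw [map_smul]; exact smul_mem _ _ ha
      refine ⟨U, span_le.mpr (by rintro _ ⟨j, rfl⟩; exact hmem j), hUi, le_antisymm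
        ((finrank_range_le_card _).trans (Fintype.card_fin r).le) (Nat.le_of_dvd ?_ (dvd_of_nonpower hr hc hx hnp hUi))⟩
      refine Nat.pos_of_ne_zero fun e => hw0 ((Submodule.mem_bot F).mp (finrank_eq_zero.mp e ▸ ?_))
      exact subset_span ⟨⟨0, hr.pos⟩, by simp⟩) l₁ l₂ (by rwa [finrank_top])
  exact ⟨U, U', hU, hU', hd, h1, h2⟩

/-- The fixed dimensions of independent subspaces add. -/
theorem two_split {x : Module.End F V} {r : ℕ} [Fact r.Prime] (hr : (r : F) ≠ 0) (hx : x ^ r = 1)
    {U U' : Submodule F V} (hU : Inv x U) (hU' : Inv x U') (hd : Disjoint U U') :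
    ∃ e e' j j' : ℕ, e + e' ≤ Module.finrank F (fix x) ∧
      Module.finrank F U = e + j * orderOf (Fintype.card F : ZMod r) ∧
      Module.finrank F U' = e' + j' * orderOf (Fintype.card F : ZMod r) := by
  obtain ⟨e, j, he, h⟩ := dim_split hr hx hU
  obtain ⟨e', j', he', h'⟩ := dim_split hr hx hU'
  refine ⟨e, e', j, j', ?_, h, h'⟩
  have h1 := Submodule.finrank_sup_add_finrank_inf_eq (fix x ⊓ U) (fix x ⊓ U')
  rw [((hd.mono inf_le_right inf_le_right)).eq_bot, finrank_bot] at h1
  have h2 := finrank_mono (sup_le inf_le_left inf_le_left : fix x ⊓ U ⊔ fix x ⊓ U' ≤ fix x)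
  omega

/-! ### Examples -/

variable {n : ℕ}

theorem toLin'_pow_eq {ι : Type} [Fintype ι] [DecidableEq ι] (A : Matrix ι ι F) (r : ℕ) :
    Matrix.toLin' A ^ r = Matrix.toLin' (A ^ r) := by
  exact (map_pow (Matrix.toLinAlgEquiv' (R := F) (n := ι)) A r).symm

/-- An element of order `r` with the least possible fixed space. -/
theorem exists_example {r : ℕ} [Fact r.Prime] (hr : (r : F) ≠ 0) (hrF : ¬ r ∣ Fintype.card F)
    (hi : 2 ≤ orderOf (Fintype.card F : ZMod r)) (hin : orderOf (Fintype.card F : ZMod r) ≤ n) :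
    ∃ X : Matrix (Fin n) (Fin n) F, X.det = 1 ∧ X ^ r = 1 ∧ (∀ z : F, X ≠ z • 1) ∧
      Module.finrank F (fix (Matrix.toLin' X)) ≤ n % orderOf (Fintype.card F : ZMod r) := by
  classical
  have hrp : r.Prime := Fact.out
  set i := orderOf (Fintype.card F : ZMod r)
  have hnd : ¬ r ∣ Fintype.card F - 1 := fun h => by
    have := (dvd_pow_sub_one (F := F) (r := r) 1).mp (by rwa [pow_one])
    rw [Nat.dvd_one] at this
    omega
  obtain ⟨g, hg⟩ := exists_prime_orderOf_dvd_card' (G := Matrix.GeneralLinearGroup (Fin i) F) r (by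
    rw [Matrix.card_GL_field]
    refine ((dvd_pow_sub_one i).mpr dvd_rfl).trans ?_
    have h := Finset.dvd_prod_of_mem (fun j : Fin i => Fintype.card F ^ i - Fintype.card F ^ (j : ℕ))
      (Finset.mem_univ (⟨0, by omega⟩ : Fin i))
    simpa using h)
  set M : Matrix (Fin i) (Fin i) F := g.val with hM
  have hMr : M ^ r = 1 := by rw [hM, ← Units.val_pow_eq_pow_val, ← hg, pow_orderOf_eq_one]; rfl
  have hMdet : M.det = 1 := root_one hrp hnd (by rw [← Matrix.det_pow, hMr, Matrix.det_one])
  have hMfix : ∀ w, M.mulVec w = w → w = 0 := by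
    set f := Matrix.toLin' M
    have hf : f ^ r = 1 := by rw [toLin'_pow_eq, hMr, Matrix.toLin'_one]; rfl
    have hc := finrank_add_eq_of_isCompl (isCompl_fix_mov hr hf)
    rw [Module.finrank_fintype_fun_eq_card, Fintype.card_fin] at hc
    obtain ⟨N, hN⟩ : i ∣ Module.finrank F (mov f) := dvd_of_fpf hf (inv_mov f)
      (disjoint_iff.mp (isCompl_fix_mov hr hf).symm.disjoint)
    have hne : Module.finrank F (mov f) ≠ 0 := fun e => by
      have h1 : f = 1 := sub_eq_zero.mp (LinearMap.range_eq_bot.mp (finrank_eq_zero.mp e))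
      have h2 : M = 1 := Matrix.toLin'.injective (by rw [Matrix.toLin'_one]; exact h1)
      exact hrp.ne_one (by rw [← hg, orderOf_eq_one_iff]; exact Units.ext h2)
    have : i ≤ Module.finrank F (mov f) := Nat.le_of_dvd (Nat.pos_of_ne_zero hne) ⟨N, hN⟩
    intro w hw
    have hbot : fix f = ⊥ := finrank_eq_zero.mp (by omega)
    exact (Submodule.mem_bot F).mp (hbot ▸ mem_fix.mpr (by simpa [f] using hw))
  set s := n / i
  set k := n % i
  let e : (Fin i × Fin s) ⊕ Fin k ≃ Fin n :=
    Fintype.equivFinOfCardEq (by simp [s, k, Nat.div_add_mod])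
  let B : Matrix ((Fin i × Fin s) ⊕ Fin k) ((Fin i × Fin s) ⊕ Fin k) F :=
    Matrix.fromBlocks (Matrix.blockDiagonal fun _ : Fin s => M) 0 0 1
  let X := Matrix.reindexAlgEquiv F F e B
  have hBr : B ^ r = 1 := by
    have h : ∀ j : ℕ, B ^ j = Matrix.fromBlocks (Matrix.blockDiagonal fun _ : Fin s => M ^ j) 0 0 1 := by
      intro j
      induction j with
      | zero => simp [← Matrix.fromBlocks_one, ← Matrix.blockDiagonal_one, Pi.one_def]
      | succ j ih =>
        rw [pow_succ, ih]
        simp [B, Matrix.fromBlocks_multiply, ← Matrix.blockDiagonal_mul, pow_succ]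
    rw [h, hMr, show (fun _ : Fin s => (1 : Matrix (Fin i) (Fin i) F)) = 1 from rfl, Matrix.blockDiagonal_one,
      Matrix.fromBlocks_one]
  have hfix : Module.finrank F (fix (Matrix.toLin' X)) ≤ k := by
    let π : fix (Matrix.toLin' X) →ₗ[F] (Fin k → F) :=
      (LinearMap.funLeft F F fun l => e (Sum.inr l)).comp (fix (Matrix.toLin' X)).subtype
    refine (LinearMap.finrank_le_finrank_of_injective (f := π) ?_).trans (by simp)
    rw [← LinearMap.ker_eq_bot, eq_bot_iff]
    rintro ⟨v, hv⟩ hπ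
    have hv' : X.mulVec v = v := by simpa using mem_fix.mp hv
    have hB : B.mulVec (v ∘ e) = v ∘ e := by
      have h : X.mulVec v = B.mulVec (v ∘ e) ∘ e.symm := by
        show (B.submatrix e.symm e.symm).mulVec v = _
        rw [Matrix.submatrix_mulVec_equiv]
        rfl
      rw [hv'] at h
      funext a
      have := congrFun h (e a)
      simpa using this.symm
    refine Subtype.ext (funext fun a => ?_)
    obtain ⟨a, rfl⟩ := e.surjective a
    rcases a with ⟨a, b⟩ | a
    · have hw : M.mulVec (fun a' => v (e (Sum.inl (a', b)))) = fun a' => v (e (Sum.inl (a', b))) := funext fun a' => by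
        have h := congrFun hB (Sum.inl (a', b))
        simp [B, Matrix.fromBlocks_mulVec, Matrix.mulVec, dotProduct, Matrix.blockDiagonal_apply, Fintype.sum_prod_type,
          Finset.sum_ite_eq] at h
        simpa [Matrix.mulVec, dotProduct] using h
      exact congrFun (hMfix _ hw) a
    · exact congrFun hπ a
  refine ⟨X, ?_, ?_, fun z hz => ?_, hfix⟩
  · show (Matrix.reindexAlgEquiv F F e B).det = 1
    rw [Matrix.det_reindexAlgEquiv, Matrix.det_fromBlocks_zero₂₁, Matrix.det_blockDiagonal, Matrix.det_one, mul_one]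
    exact Finset.prod_eq_one fun _ _ => hMdet
  · rw [← map_pow, hBr, map_one]
  · have h1 : X ^ r = 1 := by rw [← map_pow, hBr, map_one]
    rw [hz, _root_.smul_pow, one_pow] at h1
    obtain ⟨a⟩ : Nonempty (Fin n) := ⟨⟨0, by omega⟩⟩
    have hz1 : z = 1 := root_one hrp hnd (by have := congrFun (congrFun h1 a) a; simpa using this)
    have htop : fix (Matrix.toLin' X) = ⊤ := eq_top_iff.mpr fun v _ => mem_fix.mpr (by simp [hz, hz1])
    rw [htop, finrank_top, Module.finrank_fintype_fun_eq_card, Fintype.card_fin] at hfix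
    have : k < i := Nat.mod_lt _ (by omega)
    omega

/-- An element whose `r`-th power is a scalar without root. -/
theorem exists_example_nonpower {r : ℕ} (hr : r.Prime) {c : F} (hnp : ∀ b : F, b ^ r ≠ c) (hrn : r ∣ n)
    (hn : 0 < n) (hdet : ((-1) ^ (r + 1) * c) ^ (n / r) = 1) :
    ∃ X : Matrix (Fin n) (Fin n) F, X.det = 1 ∧ X ^ r = c • 1 ∧ (∀ z : F, X ≠ z • 1) := by
  classical
  have hf : (X ^ r - C c : F[X]).Monic := monic_X_pow_sub_C c hr.ne_zero
  let pb := AdjoinRoot.powerBasis' hf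
  have hdim : pb.dim = r := by simp [pb]
  let b := pb.basis.reindex (finCongr hdim)
  set M : Matrix (Fin r) (Fin r) F := Algebra.leftMulMatrix b pb.gen with hM
  have hgen : pb.gen ^ r = algebraMap F _ c := by
    have h := AdjoinRoot.eval₂_root (X ^ r - C c : F[X])
    rw [eval₂_sub, eval₂_X_pow, eval₂_C, sub_eq_zero] at h
    simpa [pb, AdjoinRoot.algebraMap_eq] using h
  have hMr : M ^ r = c • 1 := by rw [hM, ← map_pow, hgen, AlgHom.commutes, Algebra.algebraMap_eq_smul_one]
  have hMdet : M.det = (-1) ^ (r + 1) * c := by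
    rw [hM, ← Algebra.norm_eq_matrix_det, Algebra.PowerBasis.norm_gen_eq_coeff_zero_minpoly,
      show minpoly F pb.gen = X ^ r - C c from AdjoinRoot.minpoly_powerBasis_gen_of_monic hf, hdim]
    simp [coeff_X_pow, hr.ne_zero.symm, pow_succ]
  let e : Fin r × Fin (n / r) ≃ Fin n := Fintype.equivFinOfCardEq (by simp [Nat.mul_div_cancel' hrn])
  let B : Matrix (Fin r × Fin (n / r)) (Fin r × Fin (n / r)) F := Matrix.blockDiagonal fun _ => M
  have hXr : (Matrix.reindexAlgEquiv F F e B) ^ r = c • 1 := by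
    rw [← map_pow, ← Matrix.blockDiagonal_pow]
    have : ((fun _ : Fin (n / r) => M) ^ r) = c • (1 : Fin (n / r) → Matrix (Fin r) (Fin r) F) := funext fun _ => hMr
    rw [this, Matrix.blockDiagonal_smul, Matrix.blockDiagonal_one, map_smul, map_one]
  refine ⟨Matrix.reindexAlgEquiv F F e B, ?_, hXr, fun z hz => ?_⟩
  · rw [Matrix.det_reindexAlgEquiv, Matrix.det_blockDiagonal, Finset.prod_congr rfl fun _ _ => hMdet, Finset.prod_const,
      Finset.card_univ, Fintype.card_fin, hdet]
  · rw [hz, _root_.smul_pow, one_pow] at hXr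
    refine hnp z ?_
    have := congrFun (congrFun hXr ⟨0, hn⟩) ⟨0, hn⟩
    simpa using this

/-! ### Counting -/

/-- The number of subspaces. -/
theorem card_subspaces_mul {m : ℕ} (hm : m ≤ Module.finrank F V) :
    Nat.card {W : Submodule F V // Module.finrank F W = m} *
        ∏ j ∈ Finset.range m, (Fintype.card F ^ m - Fintype.card F ^ j) =
      ∏ j ∈ Finset.range m, (Fintype.card F ^ Module.finrank F V - Fintype.card F ^ j) := by
  classical
  haveI : Finite V := Module.finite_of_finite F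
  haveI : Finite (Submodule F V) := Finite.of_injective _ SetLike.coe_injective
  set S := {W : Submodule F V // Module.finrank F W = m}
  haveI := Fintype.ofFinite S
  have e : Nat.card (Σ W : S, {s : Fin m → W.1 // LinearIndependent F s}) =
      Nat.card {s : Fin m → V // LinearIndependent F s} := by
    refine Nat.card_eq_of_bijective (fun x => ⟨fun l => (x.2.1 l : V), x.2.2.map' x.1.1.subtype x.1.1.ker_subtype⟩) ⟨?_, ?_⟩
    · rintro ⟨W, s⟩ ⟨W', s'⟩ hss
      have hf : (fun l => (s.1 l : V)) = fun l => (s'.1 l : V) := congrArg Subtype.val hss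
      have hspan : ∀ (Z : S) (t : {s : Fin m → Z.1 // LinearIndependent F s}),
          span F (Set.range fun l => (t.1 l : V)) = Z.1 := fun Z t =>
        eq_of_le_of_finrank_eq (span_le.mpr (by rintro _ ⟨l, rfl⟩; exact (t.1 l).2)) (by
          rw [show (fun l => (t.1 l : V)) = Z.1.subtype ∘ t.1 from rfl,
            finrank_span_eq_card (t.2.map' Z.1.subtype Z.1.ker_subtype), Fintype.card_fin, Z.2])
      obtain rfl : W = W' := Subtype.ext (by rw [← hspan W s, hf, hspan W' s'])
      exact congrArg (Sigma.mk W) (Subtype.ext (funext fun l => Subtype.ext (congrFun hf l)))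
    · rintro ⟨f, hf⟩
      exact ⟨⟨⟨span F (Set.range f), by rw [finrank_span_eq_card hf, Fintype.card_fin]⟩,
        ⟨fun l => ⟨f l, subset_span (Set.mem_range_self l)⟩, LinearIndependent.of_comp (span F (Set.range f)).subtype hf⟩⟩, rfl⟩
  rw [Nat.card_sigma, card_linearIndependent hm, Finset.sum_congr rfl fun W _ => card_linearIndependent (K := F) (V := W.1) W.2.ge,
    Finset.sum_congr rfl (g := fun _ => ∏ l : Fin m, (Fintype.card F ^ m - Fintype.card F ^ (l : ℕ))) fun W _ => by rw [W.2],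
    Finset.sum_const, Finset.card_univ, smul_eq_mul, Fin.prod_univ_eq_prod_range (fun l => Fintype.card F ^ m - Fintype.card F ^ l) m,
    Fin.prod_univ_eq_prod_range (fun l => Fintype.card F ^ Module.finrank F V - Fintype.card F ^ l) m] at e
  rw [Nat.card_eq_fintype_card]
  exact e

/-- The product of the numbers `q ^ (n - j) - 1`. -/
def topProd (q n m : ℕ) : ℕ := ∏ j ∈ Finset.range m, (q ^ (n - j) - 1)

theorem topProd_split (q n : ℕ) : ∀ m, m ≤ n → topProd q n n = topProd q n m * topProd q (n - m) (n - m) := by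
  intro m hm
  rw [topProd, topProd, topProd, ← Nat.add_sub_cancel' hm, Finset.prod_range_add, Nat.add_sub_cancel_left]
  refine congrArg _ (Finset.prod_congr rfl fun j _ => ?_)
  rw [Nat.sub_add_eq]
  congr 2
  omega

theorem topProd_pos {q n m : ℕ} (hq : 1 < q) (hm : m ≤ n) : 0 < topProd q n m :=
  Finset.prod_pos fun j hj => Nat.sub_pos_of_lt (Nat.one_lt_pow (by rw [Finset.mem_range] at hj; omega) hq)

theorem card_subspaces_top {m : ℕ} (hm : m ≤ Module.finrank F V) :
    Nat.card {W : Submodule F V // Module.finrank F W = m} * topProd (Fintype.card F) m m =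
      topProd (Fintype.card F) (Module.finrank F V) m := by
  set q := Fintype.card F
  have h := card_subspaces_mul (F := F) (V := V) hm
  have e : ∀ N, m ≤ N → ∏ j ∈ Finset.range m, (q ^ N - q ^ j) = (∏ j ∈ Finset.range m, q ^ j) * topProd q N m := by
    intro N hN
    rw [topProd, ← Finset.prod_mul_distrib]
    refine Finset.prod_congr rfl fun j hj => ?_
    rw [Finset.mem_range] at hj
    rw [Nat.mul_sub_one, ← pow_add, Nat.add_sub_cancel' (by omega : j ≤ N)]
  rw [e m le_rfl, e _ hm, ← mul_assoc, mul_comm _ (∏ j ∈ Finset.range m, q ^ j), mul_assoc] at h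
  exact Nat.eq_of_mul_eq_mul_left (Finset.prod_pos fun j _ => pow_pos Fintype.card_pos j) h

theorem card_subspaces_symm {m : ℕ} (hm : m ≤ Module.finrank F V) :
    Nat.card {W : Submodule F V // Module.finrank F W = Module.finrank F V - m} =
      Nat.card {W : Submodule F V // Module.finrank F W = m} := by
  set q := Fintype.card F
  set N := Module.finrank F V
  have hq : 1 < q := Fintype.one_lt_card
  have h1 := card_subspaces_top (F := F) (V := V) (m := m) hm
  have h2 := card_subspaces_top (F := F) (V := V) (m := N - m) (Nat.sub_le _ _)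
  have s1 := topProd_split q N m hm
  have s2 := topProd_split q N (N - m) (Nat.sub_le _ _)
  rw [Nat.sub_sub_self hm] at s2
  refine Nat.eq_of_mul_eq_mul_right (Nat.mul_pos (topProd_pos hq (le_refl m)) (topProd_pos hq (le_refl (N - m)))) ?_
  calc _ = Nat.card {W : Submodule F V // Module.finrank F W = N - m} * topProd q (N - m) (N - m) * topProd q m m := by ring
    _ = topProd q N N := by rw [h2, s2]
    _ = Nat.card {W : Submodule F V // Module.finrank F W = m} * topProd q m m * topProd q (N - m) (N - m) := by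
      rw [h1, s1]
    _ = _ := by ring

/-- A prime dividing the number of subspaces. -/
theorem exists_multiple {p r : ℕ} [Fact p.Prime] [CharP F p] (hr : r.Prime) {m : ℕ} (hm : m ≤ Module.finrank F V)
    (h : r ∣ Nat.card {W : Submodule F V // Module.finrank F W = m}) :
    r ≠ p ∧ ∃ j < m, orderOf (Fintype.card F : ZMod r) ∣ Module.finrank F V - j := by
  have h' : r ∣ topProd (Fintype.card F) (Module.finrank F V) m := by
    rw [← card_subspaces_top (F := F) (V := V) hm]
    exact h.mul_right _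
  obtain ⟨j, hj, hd⟩ := (Prime.dvd_finsetProd_iff hr.prime _).mp h'
  rw [Finset.mem_range] at hj
  refine ⟨fun e => ?_, j, hj, (dvd_pow_sub_one _).mp hd⟩
  subst e
  obtain ⟨f, -, hf⟩ := FiniteField.card F r
  have h1 : r ∣ Fintype.card F ^ (Module.finrank F V - j) :=
    dvd_pow (hf ▸ dvd_pow_self r f.pos.ne') (by omega)
  have h2 := Nat.dvd_sub h1 hd
  rw [Nat.sub_sub_self (Nat.one_le_pow _ _ Fintype.card_pos), Nat.dvd_one] at h2
  exact hr.ne_one h2

/-- The number of flags. -/
theorem card_flags {m l : ℕ} (hl : l ≤ Module.finrank F V) (hml : m ≤ l) :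
    Nat.card {P : Submodule F V × Submodule F V // P.1 ≤ P.2 ∧ Module.finrank F P.1 = m ∧ Module.finrank F P.2 = l} =
      Nat.card {W : Submodule F V // Module.finrank F W = l} *
        Nat.card {U : Submodule F (Fin l → F) // Module.finrank F U = m} := by
  classical
  haveI : Finite V := Module.finite_of_finite F
  haveI : Finite (Submodule F V) := Finite.of_injective _ SetLike.coe_injective
  haveI := Fintype.ofFinite {W : Submodule F V // Module.finrank F W = l}
  have e : Nat.card {P : Submodule F V × Submodule F V // P.1 ≤ P.2 ∧ Module.finrank F P.1 = m ∧ Module.finrank F P.2 = l} =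
      Nat.card (Σ W : {W : Submodule F V // Module.finrank F W = l}, {U : Submodule F W.1 // Module.finrank F U = m}) := by
    refine (Nat.card_eq_of_bijective (fun x : (Σ W : {W : Submodule F V // Module.finrank F W = l},
      {U : Submodule F W.1 // Module.finrank F U = m}) => (⟨(x.2.1.map x.1.1.subtype, x.1.1), map_subtype_le _ _,
        (finrank_map_subtype_eq _ _).trans x.2.2, x.1.2⟩ :
        {P : Submodule F V × Submodule F V // P.1 ≤ P.2 ∧ Module.finrank F P.1 = m ∧ Module.finrank F P.2 = l})) ⟨?_, ?_⟩).symm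
    · rintro ⟨⟨W, hW⟩, U⟩ ⟨⟨W', hW'⟩, U'⟩ h
      have h1 := congrArg (fun z => z.1.2) h
      dsimp only at h1
      subst h1
      have h2 := congrArg (fun z => z.1.1) h
      dsimp only at h2
      exact congrArg (Sigma.mk (⟨W, hW⟩ : {W : Submodule F V // Module.finrank F W = l}))
        (Subtype.ext (map_injective_of_injective W.injective_subtype h2))
    · rintro ⟨⟨U, W⟩, hle, hU, hW⟩
      have hmap : (U.comap W.subtype).map W.subtype = U := by rw [map_comap_subtype, inf_eq_right.mpr hle]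
      refine ⟨⟨⟨W, hW⟩, ⟨U.comap W.subtype, ?_⟩⟩, Subtype.ext (Prod.ext hmap rfl)⟩
      rw [← finrank_map_subtype_eq, hmap]
      exact hU
  have hfib : ∀ W : {W : Submodule F V // Module.finrank F W = l}, Nat.card {U : Submodule F W.1 // Module.finrank F U = m} =
      Nat.card {U : Submodule F (Fin l → F) // Module.finrank F U = m} := by
    intro W
    let φ : W.1 ≃ₗ[F] (Fin l → F) := LinearEquiv.ofFinrankEq _ _ (by rw [W.2, Module.finrank_fintype_fun_eq_card, Fintype.card_fin])
    exact Nat.card_congr ((Submodule.orderIsoMapComap φ).toEquiv.subtypeEquiv fun U => by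
      show _ ↔ Module.finrank F (U.map φ.toLinearMap) = m
      rw [LinearEquiv.finrank_map_eq])
  rw [e, Nat.card_sigma, Finset.sum_congr rfl (g := fun _ => Nat.card {U : Submodule F (Fin l → F) // Module.finrank F U = m})
    fun W _ => hfib W, Finset.sum_const, Finset.card_univ, smul_eq_mul]
  simp only [Nat.card_eq_fintype_card]

/-! ### Criteria -/

/-- The data extracted from an element of `SL` with scalar `r`-th power. -/
theorem data {r : ℕ} (hr : r.Prime) (hn : 0 < n) (x : Matrix.SpecialLinearGroup (Fin n) F)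
    (hx : ∃ c : F, ((x ^ r : Matrix.SpecialLinearGroup (Fin n) F) : Matrix (Fin n) (Fin n) F) = c • (1 : Matrix (Fin n) (Fin n) F)) :
    ∃ c : F, c ≠ 0 ∧ Matrix.toLin' (x : Matrix (Fin n) (Fin n) F) ^ r = c • (1 : Module.End F (Fin n → F)) ∧ c ^ n = 1 := by
  obtain ⟨c, hc⟩ := hx
  have h1 : c ^ n = 1 := by
    have := congrArg Matrix.det hc
    rw [Matrix.det_smul, Matrix.det_one, mul_one, Fintype.card_fin, Matrix.SpecialLinearGroup.det_coe] at this
    exact this.symm
  refine ⟨c, fun e => by rw [e, zero_pow hn.ne'] at h1; exact zero_ne_one h1, ?_, h1⟩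
  rw [toLin'_pow_eq, ← Matrix.SpecialLinearGroup.coe_pow, hc, map_smul, Matrix.toLin'_one]
  rfl

/-- Reduction to order `r` when the scalar has a root. -/
theorem normalise {r : ℕ} {c b : F} (hc : c ≠ 0) (hb : b ^ r = c) (hr : r ≠ 0) {x : Module.End F V}
    (hx : x ^ r = c • 1) : (b⁻¹ • x) ^ r = 1 ∧ b⁻¹ ≠ 0 := by
  have hb0 : b ≠ 0 := fun e => hc (by rw [← hb, e, zero_pow hr])
  refine ⟨?_, inv_ne_zero hb0⟩
  rw [_root_.smul_pow, hx, inv_pow, hb, smul_smul, inv_mul_cancel₀ hc, one_smul]

/-- The determinant when the scalar has no root. -/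
theorem det_of_nonpower {x : Module.End F V} {r s : ℕ} (hr : r.Prime) {c : F} (hx : x ^ r = c • 1)
    (hnp : ∀ b : F, b ^ r ≠ c) (hV : Module.finrank F V = r * s) :
    LinearMap.det x = ((-1) ^ (r + 1) * c) ^ s := by
  classical
  have hm : (X ^ r - C c : F[X]).Monic := monic_X_pow_sub_C c hr.ne_zero
  haveI : Fact (Irreducible (X ^ r - C c : F[X])) := ⟨X_pow_sub_C_irreducible_of_prime hr hnp⟩
  let φ : AdjoinRoot (X ^ r - C c : F[X]) →ₐ[F] Module.End F V :=
    Ideal.Quotient.liftₐ (Ideal.span {X ^ r - C c}) (aeval x) fun a ha => by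
      obtain ⟨b, rfl⟩ := Ideal.mem_span_singleton'.mp ha
      simp [hx, Algebra.algebraMap_eq_smul_one]
  let pb := AdjoinRoot.powerBasis' hm
  have hroot : φ pb.gen = x := by
    show φ (AdjoinRoot.root _) = x
    exact (Ideal.Quotient.lift_mk _ _ _).trans (aeval_X x)
  letI : Module (AdjoinRoot (X ^ r - C c : F[X])) V := Module.compHom V φ.toRingHom
  haveI : IsScalarTower F (AdjoinRoot (X ^ r - C c : F[X])) V := ⟨fun a e v => by
    show φ (a • e) v = a • φ e v
    rw [map_smul]; rfl⟩
  haveI : Module.Finite F (AdjoinRoot (X ^ r - C c : F[X])) := pb.finite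
  haveI : Module.Finite (AdjoinRoot (X ^ r - C c : F[X])) V := Module.Finite.of_restrictScalars_finite F _ V
  let L : V →ₗ[AdjoinRoot (X ^ r - C c : F[X])] V := pb.gen • LinearMap.id
  have hL : L.restrictScalars F = x := LinearMap.ext fun v => by
    show φ pb.gen v = x v
    rw [hroot]
  have hdim : pb.dim = r := by simp [pb]
  have hs : Module.finrank (AdjoinRoot (X ^ r - C c : F[X])) V = s := by
    have h := Module.finrank_mul_finrank F (AdjoinRoot (X ^ r - C c : F[X])) V
    rw [pb.finrank, hdim, hV] at h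
    exact Nat.eq_of_mul_eq_mul_left hr.pos h
  rw [← hL, LinearMap.det_restrictScalars, LinearMap.det_smul, LinearMap.det_id, mul_one, map_pow, hs,
    Algebra.PowerBasis.norm_gen_eq_coeff_zero_minpoly,
    show minpoly F pb.gen = X ^ r - C c from AdjoinRoot.minpoly_powerBasis_gen_of_monic hm, hdim]
  simp [coeff_X_pow, hr.ne_zero.symm, pow_succ]

/-- The scalar has a root when the `r`-part of `n` is small. -/
theorem root_of_small {r : ℕ} [Fact r.Prime] (hdvd : r ∣ Fintype.card F - 1)
    (hv : padicValNat r n ≤ padicValNat r (Fintype.card F - 1)) (h2 : r = 2 → Even n → Fintype.card F % 4 = 1)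
    (hn : 0 < n) {x : Module.End F (Fin n → F)} (hdet : LinearMap.det x = 1) {c : F} (hc : c ≠ 0)
    (hx : x ^ r = c • 1) : ∃ b : F, b ^ r = c := by
  have hr : r.Prime := Fact.out
  by_contra hnp
  push Not at hnp
  obtain ⟨s, rfl⟩ : r ∣ n := by
    have := dvd_of_nonpower hr hc hx hnp (W := ⊤) (fun _ _ => mem_top)
    rwa [finrank_top, Module.finrank_fintype_fun_eq_card, Fintype.card_fin] at this
  have hs : 0 < s := Nat.pos_of_ne_zero fun e => by simp [e] at hn
  -- the determinant of `x` is `((-1) ^ (r + 1) * c) ^ s`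
  have hdet' : ((-1) ^ (r + 1) * c) ^ s = 1 :=
    (det_of_nonpower hr hx hnp (by rw [Module.finrank_fintype_fun_eq_card, Fintype.card_fin])).symm.trans hdet
  by_cases h2' : r = 2
  · subst h2'
    have h4 : Fintype.card F % 4 = 1 := h2 rfl ⟨s, by ring⟩
    have hm1 : IsSquare (-1 : F) := FiniteField.isSquare_neg_one_iff.mpr (by omega)
    obtain ⟨z, hz⟩ := hm1
    rw [show ((-1 : F)) ^ (2 + 1) * c = -c by ring] at hdet'
    obtain ⟨b, hb⟩ := power_of_small hr hdvd hs hv (neg_ne_zero.mpr hc) hdet'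
    exact hnp (z * b) (by rw [mul_pow, hb, sq z, ← hz]; ring)
  · have hodd := hr.odd_of_ne_two h2'
    rw [(hodd.add_odd odd_one).neg_one_pow, one_mul] at hdet'
    obtain ⟨b, hb⟩ := power_of_small hr hdvd hs hv hc hdet'
    exact hnp b hb

/-- An element of `SL` from a matrix. -/
theorem mk_elt {r : ℕ} (x : Matrix.SpecialLinearGroup (Fin n) F) {c : F}
    (hX : (x : Matrix (Fin n) (Fin n) F) ^ r = c • 1) :
    ∃ z : F, ((x ^ r : Matrix.SpecialLinearGroup (Fin n) F) :
      Matrix (Fin n) (Fin n) F) = z • (1 : Matrix (Fin n) (Fin n) F) :=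
  ⟨c, by rw [Matrix.SpecialLinearGroup.coe_pow]; exact hX⟩

/-- The element without invariant subspaces of dimension prime to `r`. -/
theorem bad_one {r : ℕ} [Fact r.Prime] (hdvd : r ∣ Fintype.card F - 1) (hn : 0 < n)
    (hcond : ¬ (padicValNat r n ≤ padicValNat r (Fintype.card F - 1) ∧ (r = 2 → Even n → Fintype.card F % 4 = 1))) :
    ∃ x : Matrix.SpecialLinearGroup (Fin n) F,
      (∃ z : F, ((x ^ r : Matrix.SpecialLinearGroup (Fin n) F) : Matrix (Fin n) (Fin n) F) = z • (1 : Matrix (Fin n) (Fin n) F)) ∧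
      (∀ z : F, (x : Matrix (Fin n) (Fin n) F) ≠ z • (1 : Matrix (Fin n) (Fin n) F)) ∧
      ∀ W : Submodule F (Fin n → F), Inv (Matrix.toLin' (x : Matrix (Fin n) (Fin n) F)) W →
        r ∣ Module.finrank F W := by
  have hr : r.Prime := Fact.out
  have key : ∀ c : F, (∀ b : F, b ^ r ≠ c) → r ∣ n → ((-1) ^ (r + 1) * c) ^ (n / r) = 1 →
      ∃ x : Matrix.SpecialLinearGroup (Fin n) F,
      (∃ z : F, ((x ^ r : Matrix.SpecialLinearGroup (Fin n) F) : Matrix (Fin n) (Fin n) F) = z • (1 : Matrix (Fin n) (Fin n) F)) ∧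
      (∀ z : F, (x : Matrix (Fin n) (Fin n) F) ≠ z • (1 : Matrix (Fin n) (Fin n) F)) ∧
      ∀ W : Submodule F (Fin n → F), Inv (Matrix.toLin' (x : Matrix (Fin n) (Fin n) F)) W →
        r ∣ Module.finrank F W := by
    intro c hnp hrn hdet
    obtain ⟨X, hd, hX, hns⟩ := exists_example_nonpower hr hnp hrn hn hdet
    refine ⟨⟨X, hd⟩, mk_elt ⟨X, hd⟩ hX, hns, fun W hW => dvd_of_nonpower hr ?_ ?_ hnp hW⟩
    · exact fun e => hnp 0 (by rw [e, zero_pow hr.ne_zero])
    · show Matrix.toLin' X ^ r = _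
      rw [toLin'_pow_eq, hX, map_smul, Matrix.toLin'_one]
      rfl
  by_cases hv : padicValNat r n ≤ padicValNat r (Fintype.card F - 1)
  · push Not at hcond
    obtain ⟨rfl, he, h4⟩ := hcond hv
    refine key (-1) (fun b hb => ?_) he.two_dvd (by norm_num)
    have hsq : IsSquare (-1 : F) := ⟨b, by rw [← hb, sq]⟩
    rw [FiniteField.isSquare_neg_one_iff] at hsq
    have hodd : Fintype.card F % 2 = 1 := by
      obtain ⟨t, ht⟩ := hdvd
      have := Fintype.one_lt_card (α := F)
      omega
    omega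
  · push Not at hv
    obtain ⟨c, hc, hnp, hcv⟩ := exists_nonpower hr hdvd
    set v := padicValNat r (Fintype.card F - 1)
    obtain ⟨t, ht⟩ : r ^ (v + 1) ∣ n := (padicValNat_dvd_iff_le hn.ne').mpr hv
    have hrn : r ∣ n := ⟨r ^ v * t, by rw [ht, pow_succ]; ring⟩
    have hnr : n / r = r ^ v * t := Nat.div_eq_of_eq_mul_left hr.pos (by rw [ht, pow_succ]; ring)
    refine key c hnp hrn ?_
    rw [mul_pow, hnr, pow_mul c, hcv, one_pow, mul_one, ← pow_mul]
    refine Even.neg_one_pow ?_
    rcases hr.eq_two_or_odd' with rfl | hodd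
    · have hv1 : v ≠ 0 := fun e => by
        rcases padicValNat.eq_zero_iff.mp e with h | h | h
        · omega
        · have := Fintype.one_lt_card (α := F); omega
        · exact h hdvd
      exact ((Nat.even_pow.mpr ⟨even_two, hv1⟩).mul_right t).mul_left _
    · exact (hodd.add_odd odd_one).mul_right _

/-- Fixing a subspace. -/
theorem one_iff {p : ℕ} [Fact p.Prime] [CharP F p] {q : ℕ} (hq : Fintype.card F = q) (m : ℕ) (hm : 1 ≤ m) (hmn : m < n)
    (r : ℕ) [Fact r.Prime] (hrp : r ≠ p) (hj : ∃ j < m, orderOf (q : ZMod r) ∣ n - j) :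
    (∀ x : Matrix.SpecialLinearGroup (Fin n) F,
      (∃ c : F, ((x ^ r : Matrix.SpecialLinearGroup (Fin n) F) : Matrix (Fin n) (Fin n) F) = c • (1 : Matrix (Fin n) (Fin n) F)) →
      (∀ c : F, (x : Matrix (Fin n) (Fin n) F) ≠ c • (1 : Matrix (Fin n) (Fin n) F)) →
      ∃ W : Submodule F (Fin n → F), Module.finrank F ↥W = m ∧ Inv (Matrix.toLin' (x : Matrix (Fin n) (Fin n) F)) W) ↔
    ((orderOf (q : ZMod r) = 1 ∧ (r ∣ m ∨ (padicValNat r n ≤ padicValNat r (q - 1) ∧ (r = 2 → Even n → q % 4 = 1)))) ∨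
       (2 ≤ orderOf (q : ZMod r) ∧ orderOf (q : ZMod r) ≤ m ∧ m % orderOf (q : ZMod r) ≤ n % orderOf (q : ZMod r))) := by
  have hr : r.Prime := Fact.out
  have hrc : (r : F) ≠ 0 := cast_ne_zero hr hrp
  have hrF := not_dvd_card (F := F) hr hrp
  subst hq
  set i := orderOf (Fintype.card F : ZMod r) with hi
  have hipos : 0 < i := ord_pos hrF
  have hdim : Module.finrank F (Fin n → F) = n := by rw [Module.finrank_fintype_fun_eq_card, Fintype.card_fin]
  obtain ⟨j, hjm, hjd⟩ := hj
  have hin : i ≤ n := (Nat.le_of_dvd (by omega) hjd).trans (Nat.sub_le _ _)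
  constructor
  · intro hall
    rcases Nat.lt_or_ge i 2 with h | h
    · have hi1 : i = 1 := by omega
      refine Or.inl ⟨hi1, ?_⟩
      by_contra hcon
      push Not at hcon
      have hdvd : r ∣ Fintype.card F - 1 := by rw [← pow_one (Fintype.card F), dvd_pow_sub_one, ← hi, hi1]
      obtain ⟨x, hx, hns, hW⟩ := bad_one hdvd (by omega : 0 < n) (fun hh => by
        obtain ⟨a, b, c⟩ := hcon.2 hh.1
        exact c (hh.2 a b))
      obtain ⟨W, hWm, hWi⟩ := hall x hx hns
      exact hcon.1 (hWm ▸ hW W hWi)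
    · obtain ⟨X, hd, hX, hns, hk⟩ := exists_example (F := F) (n := n) hrc hrF h hin
      obtain ⟨W, hWm, hWi⟩ := hall ⟨X, hd⟩ (mk_elt ⟨X, hd⟩ (c := (1 : F)) (by rw [hX, one_smul])) hns
      obtain ⟨e, J, he, hdimW⟩ := dim_split hrc (by rw [toLin'_pow_eq, hX, Matrix.toLin'_one]; rfl) hWi
      have he' : e ≤ n % i := he.trans ((Submodule.finrank_mono inf_le_left).trans hk)
      have hki : n % i < i := Nat.mod_lt _ hipos
      rw [hWm] at hdimW
      rcases Nat.eq_zero_or_pos J with rfl | hJ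
      · exfalso
        rw [Nat.zero_mul, add_zero] at hdimW
        obtain ⟨t, ht⟩ := hjd
        have h1 : n % i = j % i := by
          rw [show n = j + i * t by omega, Nat.add_mul_mod_self_left]
        rw [Nat.mod_eq_of_lt (show j < i by omega)] at h1
        omega
      · have hJi : i ≤ J * orderOf (Fintype.card F : ZMod r) := Nat.le_mul_of_pos_left i hJ
        refine Or.inr ⟨h, by omega, ?_⟩
        rw [hdimW, ← hi, Nat.add_mul_mod_self_right]
        exact (Nat.mod_le _ _).trans he'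
  · intro hR x hx hns
    obtain ⟨c, hc, hxr, hcn⟩ := data hr (by omega) x hx
    set f := Matrix.toLin' (x : Matrix (Fin n) (Fin n) F) with hf
    have hdet : LinearMap.det f = 1 := by rw [hf, LinearMap.det_toLin']; exact x.2
    by_cases hpow : ∃ b : F, b ^ r = c
    · obtain ⟨b, hb⟩ := hpow
      obtain ⟨hy, hb'⟩ := normalise hc hb hr.ne_zero hxr
      obtain ⟨U, hU, hUm⟩ := exists_one hrc hrF hy (m := m) (by omega) (by
        rw [hdim]
        rcases hR with ⟨h1, -⟩ | ⟨-, -, h3⟩
        · rw [← hi, h1]; simp [Nat.mod_one]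
        · exact h3)
      exact ⟨U, hUm, (inv_smul hb').mp hU⟩
    · push Not at hpow
      rcases hR with ⟨h1, hR⟩ | ⟨h1, -, -⟩
      · rcases hR with hrm | ⟨hv, h4⟩
        · obtain ⟨l, rfl⟩ := hrm
          obtain ⟨U, -, hU, -, -, hUm, -⟩ := exists_two_nonpower hr hrc hc hxr hpow l 0 (by rw [hdim, mul_comm l]; omega)
          exact ⟨U, by rw [hUm, mul_comm], hU⟩
        · have hdvd : r ∣ Fintype.card F - 1 := by rw [← pow_one (Fintype.card F), dvd_pow_sub_one, ← hi, h1]
          obtain ⟨b, hb⟩ := root_of_small hdvd hv h4 (by omega) hdet hc hxr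
          exact absurd hb (hpow b)
      · have hnd : ¬ r ∣ Fintype.card F - 1 := fun hh => by
          rw [← pow_one (Fintype.card F), dvd_pow_sub_one, ← hi, Nat.dvd_one] at hh
          omega
        obtain ⟨b, hb⟩ := power_of_coprime hr hnd c
        exact absurd hb (hpow b)

/-- Fixing two independent subspaces. -/
theorem two_iff {p : ℕ} [Fact p.Prime] [CharP F p] {q : ℕ} (hq : Fintype.card F = q) (m : ℕ) (hm : 1 ≤ m) (hmn : 2 * m ≤ n)
    (r : ℕ) [Fact r.Prime] (hrp : r ≠ p) (hj : ∃ j < 2 * m, orderOf (q : ZMod r) ∣ n - j) :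
    (∀ x : Matrix.SpecialLinearGroup (Fin n) F,
      (∃ c : F, ((x ^ r : Matrix.SpecialLinearGroup (Fin n) F) : Matrix (Fin n) (Fin n) F) = c • (1 : Matrix (Fin n) (Fin n) F)) →
      (∀ c : F, (x : Matrix (Fin n) (Fin n) F) ≠ c • (1 : Matrix (Fin n) (Fin n) F)) →
      ∃ U U' : Submodule F (Fin n → F), Inv (Matrix.toLin' (x : Matrix (Fin n) (Fin n) F)) U ∧
        Inv (Matrix.toLin' (x : Matrix (Fin n) (Fin n) F)) U' ∧ Disjoint U U' ∧
        Module.finrank F U = m ∧ Module.finrank F U' = m) ↔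
    ((orderOf (q : ZMod r) = 1 ∧ (r ∣ m ∨ (padicValNat r n ≤ padicValNat r (q - 1) ∧ (r = 2 → Even n → q % 4 = 1)))) ∨
       (2 ≤ orderOf (q : ZMod r) ∧ orderOf (q : ZMod r) ≤ m ∧ 2 * (m % orderOf (q : ZMod r)) ≤ n % orderOf (q : ZMod r))) := by
  have hr : r.Prime := Fact.out
  have hrc : (r : F) ≠ 0 := cast_ne_zero hr hrp
  have hrF := not_dvd_card (F := F) hr hrp
  subst hq
  set i := orderOf (Fintype.card F : ZMod r) with hi
  have hipos : 0 < i := ord_pos hrF
  have hdim : Module.finrank F (Fin n → F) = n := by rw [Module.finrank_fintype_fun_eq_card, Fintype.card_fin]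
  obtain ⟨j, hjm, hjd⟩ := hj
  have hin : i ≤ n := (Nat.le_of_dvd (by omega) hjd).trans (Nat.sub_le _ _)
  constructor
  · intro hall
    rcases Nat.lt_or_ge i 2 with h | h
    · have hi1 : i = 1 := by omega
      refine Or.inl ⟨hi1, ?_⟩
      by_contra hcon
      push Not at hcon
      have hdvd : r ∣ Fintype.card F - 1 := by rw [← pow_one (Fintype.card F), dvd_pow_sub_one, ← hi, hi1]
      obtain ⟨x, hx, hns, hW⟩ := bad_one hdvd (by omega : 0 < n) (fun hh => by
        obtain ⟨a, b, c⟩ := hcon.2 hh.1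
        exact c (hh.2 a b))
      obtain ⟨U, -, hU, -, -, hUm, -⟩ := hall x hx hns
      exact hcon.1 (hUm ▸ hW U hU)
    · obtain ⟨X, hd, hX, hns, hk⟩ := exists_example (F := F) (n := n) hrc hrF h hin
      obtain ⟨U, U', hU, hU', hdis, hUm, hU'm⟩ := hall ⟨X, hd⟩ (mk_elt ⟨X, hd⟩ (c := (1 : F)) (by rw [hX, one_smul])) hns
      obtain ⟨e, e', J, J', he, h1, h2⟩ := two_split hrc (by rw [toLin'_pow_eq, hX, Matrix.toLin'_one]; rfl) hU hU' hdis
      have hee : e + e' ≤ n % i := he.trans hk
      have hki : n % i < i := Nat.mod_lt _ hipos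
      rw [hUm, ← hi] at h1
      rw [hU'm, ← hi] at h2
      have hm1 : m % i ≤ e := by rw [h1, Nat.add_mul_mod_self_right]; exact Nat.mod_le _ _
      have hm2 : m % i ≤ e' := by rw [h2, Nat.add_mul_mod_self_right]; exact Nat.mod_le _ _
      refine Or.inr ⟨h, ?_, by omega⟩
      by_contra hlt
      rw [Nat.mod_eq_of_lt (by omega)] at hm1 hm2
      obtain ⟨t, ht⟩ := hjd
      have h3 : n % i = j % i := by rw [show n = j + i * t by omega, Nat.add_mul_mod_self_left]
      rw [Nat.mod_eq_of_lt (show j < i by omega)] at h3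
      omega
  · intro hR x hx hns
    obtain ⟨c, hc, hxr, hcn⟩ := data hr (by omega) x hx
    set f := Matrix.toLin' (x : Matrix (Fin n) (Fin n) F) with hf
    have hdet : LinearMap.det f = 1 := by rw [hf, LinearMap.det_toLin']; exact x.2
    by_cases hpow : ∃ b : F, b ^ r = c
    · obtain ⟨b, hb⟩ := hpow
      obtain ⟨hy, hb'⟩ := normalise hc hb hr.ne_zero hxr
      obtain ⟨U, U', hU, hU', hd, h1, h2⟩ := exists_two hrc hrF hy (m := m) (by omega) (by
        rw [hdim]
        rcases hR with ⟨h1, -⟩ | ⟨-, -, h3⟩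
        · rw [← hi, h1]; simp [Nat.mod_one]
        · exact h3)
      exact ⟨U, U', (inv_smul hb').mp hU, (inv_smul hb').mp hU', hd, h1, h2⟩
    · push Not at hpow
      rcases hR with ⟨h1, hR⟩ | ⟨h1, -, -⟩
      · rcases hR with hrm | ⟨hv, h4⟩
        · obtain ⟨l, rfl⟩ := hrm
          obtain ⟨U, U', hU, hU', hd, hUm, hU'm⟩ := exists_two_nonpower hr hrc hc hxr hpow l l
            (by rw [hdim, mul_comm l]; omega)
          exact ⟨U, U', hU, hU', hd, by rw [hUm, mul_comm], by rw [hU'm, mul_comm]⟩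
        · have hdvd : r ∣ Fintype.card F - 1 := by rw [← pow_one (Fintype.card F), dvd_pow_sub_one, ← hi, h1]
          obtain ⟨b, hb⟩ := root_of_small hdvd hv h4 (by omega) hdet hc hxr
          exact absurd hb (hpow b)
      · have hnd : ¬ r ∣ Fintype.card F - 1 := fun hh => by
          rw [← pow_one (Fintype.card F), dvd_pow_sub_one, ← hi, Nat.dvd_one] at hh
          omega
        obtain ⟨b, hb⟩ := power_of_coprime hr hnd c
        exact absurd hb (hpow b)

/-- A prime dividing the number of flags. -/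
theorem flag_multiple {p r : ℕ} [Fact p.Prime] [CharP F p] (hr : r.Prime) {m : ℕ} (hm : 2 * m ≤ n)
    (h : r ∣ Nat.card {P : Submodule F (Fin n → F) × Submodule F (Fin n → F) //
      P.1 ≤ P.2 ∧ Module.finrank F P.1 = m ∧ Module.finrank F P.2 = n - m}) :
    r ≠ p ∧ ∃ j < 2 * m, orderOf (Fintype.card F : ZMod r) ∣ n - j := by
  have hdim : Module.finrank F (Fin n → F) = n := by rw [Module.finrank_fintype_fun_eq_card, Fintype.card_fin]
  rw [card_flags (by omega) (by omega)] at h
  rcases hr.dvd_mul.mp h with h | h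
  · rw [← hdim] at h
    rw [hdim, show Nat.card {W : Submodule F (Fin n → F) // Module.finrank F W = n - m} =
      Nat.card {W : Submodule F (Fin n → F) // Module.finrank F W = m} by
      have := card_subspaces_symm (F := F) (V := Fin n → F) (m := m) (by omega)
      rwa [hdim] at this] at h
    obtain ⟨h1, j, hj, hd⟩ := exists_multiple (p := p) hr (by omega) h
    rw [hdim] at hd
    exact ⟨h1, j, by omega, hd⟩
  · obtain ⟨h1, j, hj, hd⟩ := exists_multiple (p := p) hr (by rw [Module.finrank_fintype_fun_eq_card, Fintype.card_fin]; omega) h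
    rw [Module.finrank_fintype_fun_eq_card, Fintype.card_fin] at hd
    refine ⟨h1, m + j, by omega, ?_⟩
    rwa [Nat.sub_add_eq]

/-- Flags and independent pairs. -/
theorem flag_iff_two {x : Module.End F (Fin n → F)} (hs : x.IsSemisimple) {m : ℕ} (hm : 2 * m ≤ n) :
    (∃ U W : Submodule F (Fin n → F), U ≤ W ∧ Module.finrank F U = m ∧ Module.finrank F W = n - m ∧ Inv x U ∧ Inv x W) ↔
    ∃ U U' : Submodule F (Fin n → F), Inv x U ∧ Inv x U' ∧ Disjoint U U' ∧ Module.finrank F U = m ∧ Module.finrank F U' = m := by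
  have hdim : Module.finrank F (Fin n → F) = n := by rw [Module.finrank_fintype_fun_eq_card, Fintype.card_fin]
  constructor
  · rintro ⟨U, W, hle, hUm, hWm, hU, hW⟩
    obtain ⟨C, hC, hc⟩ := exists_compl hs hW
    have := finrank_add_eq_of_isCompl hc
    exact ⟨U, C, hU, hC, hc.disjoint.mono_left hle, hUm, by omega⟩
  · rintro ⟨U, U', hU, hU', hd, hUm, hU'm⟩
    obtain ⟨C, hC, hc⟩ := exists_compl hs (hU.sup hU')
    have h1 := finrank_add_eq_of_isCompl hc
    have h2 := Submodule.finrank_sup_add_finrank_inf_eq U U'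
    rw [hd.eq_bot, finrank_bot] at h2
    have h3 := Submodule.finrank_sup_add_finrank_inf_eq U C
    rw [(hc.disjoint.mono_left le_sup_left).eq_bot, finrank_bot] at h3
    exact ⟨U, U ⊔ C, le_sup_left, hUm, by omega, hU, hU.sup hC⟩

end Cfsg.Lib.Classical.PrimeOrd
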