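import Mathlib
import Cfsg.Prelude.Def_GeometricClasses
import Cfsg.Agent.Known.FormIndex
import Cfsg.Agent.Classical.Misc.Spinor
import Cfsg.Agent.Classical.Orth.FamilyOvergroups
import Cfsg.Agent.Classical.Orth.StdForms
import Cfsg.Agent.Classical.Orth.Orders
import Cfsg.Agent.Classical.Misc.PrimeOrderCriteria
import Cfsg.Agent.Classical.Symp.Decomp

/-! Elements of prime order of `Ω±` in characteristic two without fixed nonsingular points. -/

set_option autoImplicit false
set_option linter.unusedSimpArgs false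
set_option linter.unusedSectionVars false
set_option linter.unusedVariables false
set_option linter.style.haveILetI false
set_option linter.flexible false

namespace Cfsg.Lib.Classical.NsPoint

open Submodule QuadraticMap PrimeOrd Cfsg.Lib.FormNormal

universe u

section Gen

variable {F : Type u} [Field F] [Fintype F] [CharP F 2] {ι : Type} [Fintype ι] [DecidableEq ι]
  (Q : QuadraticForm F (ι → F)) (hQ : (polarBilin Q).Nondegenerate)

include hQ

theorem sq_one {z : F} (h : z ^ 2 = 1) : z = 1 := by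
  have h0 : (z + 1) ^ 2 = 0 := by
    rw [CharTwo.add_sq, h, one_pow, CharTwo.add_self_eq_zero]
  exact CharTwo.add_eq_zero.mp (pow_eq_zero_iff two_ne_zero |>.mp h0)

theorem exists_ne_zero (hn : 1 ≤ Fintype.card ι) : ∃ v, Q v ≠ 0 := by
  by_contra h
  push Not at h
  haveI : Nonempty ι := Fintype.card_pos_iff.mp hn
  refine one_ne_zero (α := F) (congrFun (hQ.1 (fun _ => (1 : F)) fun y => ?_) (Classical.arbitrary ι))
  show polar (⇑Q) _ y = 0
  simp [polar, h]

/-- An element with trivial scalar power and no fixed nonsingular vector. -/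
theorem no_point (x : GL ι F) (hx : ∀ v, Q ((x : Matrix ι ι F).mulVec v) = Q v)
    (hfix : ∀ v, (x : Matrix ι ι F).mulVec v = v → Q v = 0) (W : Submodule F (ι → F))
    (hW : ∃ v ∈ W, Q v ≠ 0) (h1 : Module.finrank F W = 1) (hmap : W.map (Matrix.toLin' (x : Matrix ι ι F)) ≤ W) :
    False := by
  obtain ⟨v, hv, hQv⟩ := hW
  have hv0 : v ≠ 0 := fun h => hQv (by rw [h, QuadraticMap.map_zero])
  have hspan : span F {v} = W := eq_of_le_of_finrank_eq ((span_singleton_le_iff_mem _ _).mpr hv)
    (by rw [finrank_span_singleton hv0, h1])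
  obtain ⟨μ, hμ⟩ := mem_span_singleton.mp (hspan.ge (hmap (mem_map_of_mem hv)))
  rw [Matrix.toLin'_apply] at hμ
  have h2 : μ ^ 2 * Q v = 1 * Q v := by
    rw [one_mul]
    conv_rhs => rw [← hx v, ← hμ]
    rw [QuadraticMap.map_smul, smul_eq_mul]
    ring
  rw [sq_one Q hQ (mul_right_cancel₀ hQv h2), one_smul] at hμ
  exact hQv (hfix v hμ.symm)

theorem point_of_fix (x : GL ι F) {v : ι → F} (hv : (x : Matrix ι ι F).mulVec v = v) (hQv : Q v ≠ 0) :
    ∃ W : Submodule F (ι → F), (Module.finrank F W = 1 ∧ ∃ w ∈ W, Q w ≠ 0) ∧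
      W.map (Matrix.toLin' (x : Matrix ι ι F)) ≤ W := by
  have hv0 : v ≠ 0 := fun h => hQv (by rw [h, QuadraticMap.map_zero])
  refine ⟨span F {v}, ⟨finrank_span_singleton hv0, v, mem_span_singleton_self v, hQv⟩, ?_⟩
  rw [map_span_le]
  intro w hw
  rw [Set.mem_singleton_iff] at hw
  rw [hw, Matrix.toLin'_apply, hv]
  exact mem_span_singleton_self v

/-- The scalar is one. -/
theorem pow_one' (x : GL ι F) (hx : ∀ v, Q ((x : Matrix ι ι F).mulVec v) = Q v) (hn : 1 ≤ Fintype.card ι) {r : ℕ}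
    {z : F} (hz : ((x ^ r : GL ι F) : Matrix ι ι F) = z • (1 : Matrix ι ι F)) : x ^ r = 1 := by
  obtain ⟨v, hv⟩ := exists_ne_zero Q hQ hn
  have hj : ∀ j : ℕ, ∀ v, Q (((x ^ j : GL ι F) : Matrix ι ι F).mulVec v) = Q v := by
    intro j
    induction j with
    | zero => simp
    | succ j ih => intro v; rw [pow_succ', Units.val_mul, ← Matrix.mulVec_mulVec, hx, ih]
  have h2 := hj r v
  rw [hz, Matrix.smul_mulVec, Matrix.one_mulVec, QuadraticMap.map_smul, smul_eq_mul] at h2
  have hz1 : z = 1 := sq_one Q hQ (mul_right_cancel₀ hv (by rw [one_mul, _root_.sq]; exact h2))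
  exact Units.ext (by rw [hz, hz1, one_smul, Units.val_one])

theorem nonscalar (x : GL ι F) (hx : ∀ v, Q ((x : Matrix ι ι F).mulVec v) = Q v) (hn : 1 ≤ Fintype.card ι)
    (hfix : ∀ v, (x : Matrix ι ι F).mulVec v = v → Q v = 0) (z : F) : (x : Matrix ι ι F) ≠ z • (1 : Matrix ι ι F) := by
  intro h
  obtain ⟨v, hv⟩ := exists_ne_zero Q hQ hn
  have := pow_one' Q hQ x hx hn (r := 1) (z := z) (by rw [pow_one, h])
  rw [pow_one] at this
  exact hv (hfix v (by rw [this, Units.val_one, Matrix.one_mulVec]))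

/-- Odd order elements lie in `Ω`. -/
theorem mem_omega_odd (hn : 6 ≤ Fintype.card ι) (x : GL ι F) (hx : ∀ v, Q ((x : Matrix ι ι F).mulVec v) = Q v)
    {r : ℕ} (hr : Odd r) (hxr : x ^ r = 1) : x ∈ Cfsg.Geo.omegaGL (⇑Q) := by
  classical
  let g : Cfsg.isometryGroup F (⇑Q) := ⟨x, (Refl.mem_iff Q).mpr hx⟩
  refine (Refl.mem_omegaGL Q x).mpr ⟨g, ?_, rfl⟩
  obtain ⟨j, rfl⟩ := hr
  have h1 : g ^ (2 * j + 1) = 1 := Subtype.ext (by simp [g, hxr])
  have h2 : g = (g ^ (j + 1)) * (g ^ (j + 1)) := by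
    rw [← pow_add, show j + 1 + (j + 1) = (2 * j + 1) + 1 by ring, pow_succ, h1, one_mul]
  rw [h2]
  exact Subgroup.mul_self_mem_of_index_two (Refl.index_omega_two Q hQ (by omega) (Or.inr (by omega))) _

/-- The kernel of the Dickson invariant. -/
theorem mem_omega_dickson (hn : 6 ≤ Fintype.card ι) (g : Cfsg.isometryGroup F (⇑Q))
    (h : Refl.dickson Q hQ g = 1) : g ∈ Cfsg.Omega F (⇑Q) := by
  classical
  set O := Cfsg.Omega F (⇑Q)
  have hidx : O.index = 2 := Refl.index_omega_two Q hQ (by omega) (Or.inr (by omega))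
  obtain ⟨v, hv⟩ := exists_ne_zero Q hQ (by omega)
  set a := Refl.refl Q v hv
  have ha : a ∉ O := fun ha => by
    have := Refl.dickson_omega Q hQ a ha
    rw [Refl.dickson_refl] at this
    exact absurd this (by decide)
  by_contra hg
  have := (Subgroup.mul_mem_iff_of_index_two hidx (a := a) (b := g)).mpr (iff_of_false ha hg)
  have h2 := Refl.dickson_omega Q hQ _ this
  rw [map_mul, Refl.dickson_refl, h, mul_one] at h2
  exact absurd h2 (by decide)

/-- An involution whose fixed space is totally singular of half dimension forces even half dimension. -/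
theorem even_half (d : ℕ) (hn : Fintype.card ι = 2 * d) (x : GL ι F)
    (hx : ∀ v, Q ((x : Matrix ι ι F).mulVec v) = Q v) (hx2 : x ^ 2 = 1)
    (hfix : ∀ v, (x : Matrix ι ι F).mulVec v = v → Q v = 0) :
    ∃ K : Submodule F (ι → F), Module.finrank F K = d ∧ (∀ v ∈ K, Q v = 0) ∧ Even d := by
  haveI : CharP (Matrix ι ι F) 2 ∨ True := Or.inr trivial
  set N : (ι → F) →ₗ[F] (ι → F) := Matrix.toLin' (x : Matrix ι ι F) + LinearMap.id with hN
  have hsq : ∀ v, (x : Matrix ι ι F).mulVec ((x : Matrix ι ι F).mulVec v) = v := fun v => by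
    rw [Matrix.mulVec_mulVec, ← Units.val_mul, ← _root_.sq, hx2, Units.val_one, Matrix.one_mulVec]
  have hNa : ∀ v, N v = (x : Matrix ι ι F).mulVec v + v := fun v => by simp [hN]
  have htwo : ∀ w : ι → F, w + w = 0 := fun w => funext fun i => CharTwo.add_self_eq_zero (w i)
  have hneg : ∀ w : ι → F, -w = w := fun w => funext fun i => CharTwo.neg_eq (w i)
  have hker : ∀ v, v ∈ LinearMap.ker N ↔ (x : Matrix ι ι F).mulVec v = v := fun v => by
    rw [LinearMap.mem_ker, hNa, add_eq_zero_iff_eq_neg, hneg]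
  have hrange : LinearMap.range N ≤ LinearMap.ker N := by
    rintro _ ⟨v, rfl⟩
    rw [hker, hNa, Matrix.mulVec_add, hsq, add_comm]
  have hK : ∀ v ∈ LinearMap.ker N, Q v = 0 := fun v hv => hfix v ((hker v).mp hv)
  have hdim := LinearMap.finrank_range_add_finrank_ker N
  rw [Module.finrank_fintype_fun_eq_card, hn] at hdim
  have h1 := finrank_mono hrange
  have h2 := finrank_mono (HypQuad.le_perp Q hK)
  rw [HypQuad.finrank_perp Q hQ, Module.finrank_fintype_fun_eq_card, hn] at h2
  have hkd : Module.finrank F (LinearMap.ker N) = d := by omega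
  have hKperp : LinearMap.ker N = HypQuad.perp Q (LinearMap.ker N) :=
    eq_of_le_of_finrank_eq (HypQuad.le_perp Q hK) (by rw [HypQuad.finrank_perp Q hQ, Module.finrank_fintype_fun_eq_card, hn, hkd]; omega)
  refine ⟨LinearMap.ker N, hkd, hK, ?_⟩
  obtain ⟨C, hC⟩ := Submodule.exists_isCompl (LinearMap.ker N)
  have hCd := finrank_add_eq_of_isCompl hC
  rw [Module.finrank_fintype_fun_eq_card, hn, hkd] at hCd
  let β : LinearMap.BilinForm F C := LinearMap.BilinForm.restrict ((polarBilin Q).compl₂ N) C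
  have hβa : β.IsAlt := fun v => by
    show polar (⇑Q) (v : ι → F) (N v) = 0
    rw [polar, hK _ (hrange ⟨_, rfl⟩), hNa, add_left_comm, htwo, add_zero, hx]
    ring
  have key : ∀ v : C, (∀ u : C, β u v = 0) → v = 0 := fun v hv => by
    have hNv : N v = 0 := hQ.2 _ fun u => by
      obtain ⟨k, hk, c, hc, rfl⟩ := mem_sup.mp (hC.sup_eq_top ▸ mem_top : u ∈ LinearMap.ker N ⊔ C)
      show polar (⇑Q) (k + c) (N v) = 0
      rw [polar_add_left, HypQuad.polar_zero_of_singular Q hK hk (hrange ⟨_, rfl⟩), zero_add]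
      exact hv ⟨c, hc⟩
    exact Subtype.ext (Submodule.disjoint_def.mp hC.disjoint _ hNv v.2)
  have hβn : β.Nondegenerate := ⟨fun v hv => key v fun u => by rw [← hβa.neg_eq, hv u, neg_zero], fun v hv => key v hv⟩
  obtain ⟨m, -, hm, -⟩ := exists_symplectic_basis_nondegenerate (B := β) hβa hβn
  exact ⟨m, by omega⟩

/-- Points and nonzero values. -/
theorem card_points : Nat.card {W : Submodule F (ι → F) // Module.finrank F W = 1 ∧ ∃ v ∈ W, Q v ≠ 0} *
    (Fintype.card F - 1) + Nat.card {v : ι → F // Q v = 0} = Fintype.card F ^ Fintype.card ι := by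
  classical
  haveI : Finite (Submodule F (ι → F)) := Finite.of_injective _ SetLike.coe_injective
  have e : Nat.card ({W : Submodule F (ι → F) // Module.finrank F W = 1 ∧ ∃ v ∈ W, Q v ≠ 0} × Fˣ) =
      Nat.card {v : ι → F // ¬ Q v = 0} := by
    refine Nat.card_eq_of_bijective (fun p => ⟨(p.2 : F) • p.1.2.2.choose, by
      rw [QuadraticMap.map_smul, smul_eq_mul]
      exact mul_ne_zero (mul_ne_zero p.2.ne_zero p.2.ne_zero) p.1.2.2.choose_spec.2⟩) ⟨?_, ?_⟩
    · rintro ⟨W, c⟩ ⟨W', c'⟩ h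
      have h' : (c : F) • W.2.2.choose = (c' : F) • W'.2.2.choose := congrArg Subtype.val h
      have hs : ∀ W : {W : Submodule F (ι → F) // Module.finrank F W = 1 ∧ ∃ v ∈ W, Q v ≠ 0}, ∀ c : Fˣ,
          span F {(c : F) • W.2.2.choose} = W.1 := fun W c => eq_of_le_of_finrank_eq
        ((span_singleton_le_iff_mem _ _).mpr (smul_mem _ _ W.2.2.choose_spec.1)) (by
          rw [finrank_span_singleton (smul_ne_zero c.ne_zero fun e => W.2.2.choose_spec.2 (by rw [e, QuadraticMap.map_zero])),
            W.2.1])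
      obtain rfl : W = W' := Subtype.ext (by rw [← hs W c, h', hs W' c'])
      exact Prod.ext rfl (Units.ext (smul_left_injective F (fun e => W.2.2.choose_spec.2 (by
        rw [e, QuadraticMap.map_zero])) h'))
    · rintro ⟨v, hv⟩
      have hv0 : v ≠ 0 := fun h => hv (by rw [h, QuadraticMap.map_zero])
      let W : {W : Submodule F (ι → F) // Module.finrank F W = 1 ∧ ∃ v ∈ W, Q v ≠ 0} :=
        ⟨span F {v}, finrank_span_singleton hv0, v, mem_span_singleton_self v, hv⟩
      obtain ⟨c, hc⟩ := mem_span_singleton.mp W.2.2.choose_spec.1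
      have hc0 : c ≠ 0 := fun e => W.2.2.choose_spec.2 (by rw [← hc, e, zero_smul, QuadraticMap.map_zero])
      refine ⟨(W, (Units.mk0 c hc0)⁻¹), Subtype.ext ?_⟩
      show (((Units.mk0 c hc0)⁻¹ : Fˣ) : F) • W.2.2.choose = v
      rw [← hc, smul_smul, Units.val_inv_eq_inv_val, Units.val_mk0, inv_mul_cancel₀ hc0, one_smul]
  rw [Nat.card_prod, Nat.card_eq_fintype_card (α := Fˣ), Fintype.card_units] at e
  rw [e, Nat.card_eq_fintype_card, Nat.card_eq_fintype_card, Fintype.card_subtype_compl]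
  have := Fintype.card_subtype_le (fun v : ι → F => Q v = 0)
  have hc : Fintype.card (ι → F) = Fintype.card F ^ Fintype.card ι := Fintype.card_fun
  omega

end Gen

section Field

variable {F : Type u} [Field F] [Fintype F] [CharP F 2]

/-- A fixed-point-free isometry of order `r` of some form without the zero count of plus type. -/
theorem exists_model {d r : ℕ} (hd : 1 ≤ d) [Fact r.Prime] (hr : r ∣ Fintype.card F ^ d + 1) :
    ∃ (K : Type) (_ : AddCommGroup K) (_ : Module F K) (_ : FiniteDimensional F K) (P : QuadraticForm F K)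
      (T : Module.End F K), (polarBilin P).Nondegenerate ∧ Module.finrank F K = 2 * d ∧
      (Fintype.card F ^ d + 1 ∣ Nat.card {z : K // P z = 0} - 1) ∧
      T ^ r = 1 ∧ (∀ z, P (T z) = P z) ∧ (∀ z, T z = z → z = 0) := by
  classical
  have hrp : r.Prime := Fact.out
  haveI : Fact (Nat.Prime 2) := ⟨Nat.prime_two⟩
  haveI : NeZero (2 * d) := ⟨by omega⟩
  let K := FiniteField.Extension F 2 (2 * d)
  haveI : Finite K := Module.finite_of_finite F
  haveI : Fintype K := Fintype.ofFinite K
  haveI : CharP K 2 := charP_of_injective_algebraMap (algebraMap F K).injective 2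
  set q := Fintype.card F with hq
  have hq1 : 1 < q := Fintype.one_lt_card
  set R := q ^ d with hR
  have hR1 : 1 < R := Nat.one_lt_pow (by omega) hq1
  have hK : Nat.card K = R * R := by
    rw [FiniteField.natCard_extension, Nat.card_eq_fintype_card, hR, ← pow_add, two_mul]
  let φ : K →ₐ[F] K := (FiniteField.frobeniusAlgHom F K) ^ d
  have hφ : ∀ z : K, φ z = z ^ R := by
    intro z
    have : ∀ j : ℕ, ((FiniteField.frobeniusAlgHom F K) ^ j) z = z ^ (q ^ j) := by
      intro j
      induction j with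
      | zero => simp
      | succ j ih =>
        rw [pow_succ', AlgHom.mul_apply, ih, FiniteField.coe_frobeniusAlgHom]
        simp [← pow_mul, pow_succ, hq]
    exact this d
  have hφφ : ∀ z : K, (z ^ R) ^ R = z := fun z => by
    rw [← pow_mul, ← hK, Nat.card_eq_fintype_card, FiniteField.pow_card]
  obtain ⟨a₀, ha₀⟩ : ∃ a : K, a + φ a ≠ 0 := by
    by_contra h
    push Not at h
    have hall : ∀ a : K, a ^ R = a := fun a => by rw [← hφ]; exact (CharTwo.add_eq_zero.mp (h a)).symm
    obtain ⟨g, hg⟩ := IsCyclic.exists_generator (α := Kˣ)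
    have h1 : orderOf g = R * R - 1 := by
      rw [orderOf_eq_card_of_forall_mem_zpowers hg, Nat.card_units, hK]
    have h2 : g ^ R = g := Units.ext (by simpa using hall g)
    have h3 : orderOf g ∣ R - 1 := orderOf_dvd_of_pow_eq_one (by
      refine mul_right_cancel (b := g) ?_
      rw [← pow_succ, Nat.sub_add_cancel hR1.le, h2, one_mul])
    have h4 := Nat.le_of_dvd (by omega) h3
    have : 2 * R ≤ R * R := Nat.mul_le_mul_right R hR1
    omega
  obtain ⟨lam, hlam⟩ : ∃ lam : K →ₗ[F] F, lam (a₀ + φ a₀) ≠ 0 := by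
    by_contra h
    push Not at h
    exact ha₀ ((Module.forall_dual_apply_eq_zero_iff F _).mp h)
  let Bf : LinearMap.BilinMap F K F := ((LinearMap.mul F K).comp φ.toLinearMap).compr₂ lam
  let P : QuadraticForm F K := Bf.toQuadraticMap
  have hP : ∀ z, P z = lam (z ^ (R + 1)) := fun z => by
    show lam (φ z * z) = _
    rw [hφ, pow_succ]
  have hpol : ∀ z w, polar (⇑P) z w = lam (z ^ R * w + w ^ R * z) := fun z w => by
    rw [LinearMap.BilinMap.polar_toQuadraticMap]
    show lam (φ z * w) + lam (φ w * z) = _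
    rw [hφ, hφ, map_add]
  have hnd : (polarBilin P).Nondegenerate := by
    have key : ∀ z : K, z ≠ 0 → ∃ w, polar (⇑P) z w ≠ 0 := fun z hz => by
      refine ⟨a₀ / z ^ R, ?_⟩
      rw [hpol, mul_div_cancel₀ _ (pow_ne_zero _ hz), div_pow, hφφ, div_mul_cancel₀ _ hz, ← hφ]
      exact hlam
    refine ⟨fun z hz => ?_, fun z hz => ?_⟩ <;> by_contra h0 <;> obtain ⟨w, hw⟩ := key z h0
    · exact hw (hz w)
    · exact hw (by rw [polar_comm]; exact hz w)
  let C : Subgroup Kˣ := (powMonoidHom (R + 1) : Kˣ →* Kˣ).ker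
  have hC : Nat.card C = R + 1 := by
    rw [IsCyclic.card_powMonoidHom_ker, Nat.card_units, hK]
    exact Nat.gcd_eq_right ⟨R - 1, by rw [Nat.mul_sub_one, Nat.add_mul, one_mul]; omega⟩
  haveI : Fintype C := Fintype.ofFinite C
  obtain ⟨ζ, hζ⟩ := exists_prime_orderOf_dvd_card (G := C) r (by
    rw [← Nat.card_eq_fintype_card, hC]
    exact hr)
  have hζC : ∀ c : C, ((c : Kˣ) : K) ^ (R + 1) = 1 := fun c => by
    have := congrArg Units.val (MonoidHom.mem_ker.mp c.2)
    simpa using this
  refine ⟨K, inferInstance, inferInstance, inferInstance, P, LinearMap.mulLeft F ((ζ : Kˣ) : K), hnd,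
    FiniteField.finrank_extension F 2 (2 * d), ?_, ?_, ?_, ?_⟩
  · let S : Set Kˣ := {z | P (z : K) = 0}
    have hsat : S = QuotientGroup.mk ⁻¹' ((QuotientGroup.mk : Kˣ → Kˣ ⧸ C) '' S) := by
      refine Set.Subset.antisymm (Set.subset_preimage_image _ _) ?_
      rintro z ⟨w, hw, hzw⟩
      have hc := QuotientGroup.eq.mp hzw
      show P (z : K) = 0
      have hz : (z : K) = w * ((w⁻¹ * z : Kˣ) : K) := by simp
      rw [hP, hz, mul_pow, hζC ⟨_, hc⟩, mul_one, ← hP]
      exact hw
    have hS : Nat.card {z : K // P z = 0} - 1 = Nat.card S := by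
      have e : {z : K // P z = 0} ≃ Option S :=
        { toFun := fun z => if h : z.1 = 0 then none else some ⟨Units.mk0 z.1 h, z.2⟩
          invFun := fun o => o.elim ⟨0, QuadraticMap.map_zero P⟩ fun z => ⟨(z.1 : K), z.2⟩
          left_inv := fun z => by
            by_cases h : z.1 = 0
            · simp only [dif_pos h]; exact Subtype.ext h.symm
            · simp only [dif_neg h]; rfl
          right_inv := fun o => by
            rcases o with _ | z
            · simp
            · simp [z.1.ne_zero] }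
      rw [Nat.card_congr e, Finite.card_option, Nat.add_sub_cancel]
    rw [hS, hsat, Nat.card_congr (QuotientGroup.preimageMkEquivSubgroupProdSet C _), Nat.card_prod, hC]
    exact dvd_mul_right _ _
  · refine LinearMap.ext fun z => ?_
    rw [LinearMap.pow_mulLeft, LinearMap.mulLeft_apply, Module.End.one_apply, ← Units.val_pow_eq_pow_val,
      ← Subgroup.coe_pow, ← hζ, pow_orderOf_eq_one]
    simp
  · intro z
    rw [hP, hP, LinearMap.mulLeft_apply, mul_pow, hζC, one_mul]
  · intro z hz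
    rw [LinearMap.mulLeft_apply] at hz
    by_contra h0
    have : ((ζ : Kˣ) : K) = 1 := mul_right_cancel₀ h0 (by rw [one_mul]; exact hz)
    exact hrp.ne_one (by rw [← hζ, orderOf_eq_one_iff]; exact Subtype.ext (Units.ext this))

/-- The zero counts differ. -/
theorem not_plus_count {q d : ℕ} (hd : 2 ≤ d) (hq : 2 ≤ q) :
    ¬ (q ^ d + 1 ∣ q ^ (2 * d - 1) + q ^ d - q ^ (d - 1) - 1) ∧
      q ^ (2 * d - 1) + q ^ (d - 1) - q ^ d ≠ q ^ (2 * d - 1) + q ^ d - q ^ (d - 1) := by
  obtain ⟨e, rfl⟩ : ∃ e, d = e + 1 := ⟨d - 1, by omega⟩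
  rw [show 2 * (e + 1) - 1 = (e + 1) + e by omega, show q ^ (e + 1 + e) = q ^ (e + 1) * q ^ e from pow_add q (e + 1) e,
    show e + 1 - 1 = e by omega]
  have hA1 : 1 < q ^ e := Nat.one_lt_pow (by omega) hq
  have hBA : q ^ (e + 1) = q * q ^ e := by rw [pow_succ, mul_comm]
  generalize q ^ e = A at *
  generalize q ^ (e + 1) = B at *
  have hBA2 : 2 * A ≤ B := by rw [hBA]; exact Nat.mul_le_mul_right A hq
  have hBA3 : B ≤ B * A := Nat.le_mul_of_pos_right B (by omega)
  refine ⟨fun h => ?_, fun h => ?_⟩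
  · have e1 : B * A + B - A - 1 + 2 * (A + 1) = (A + 1) * (B + 1) := by
      rw [show (A + 1) * (B + 1) = B * A + A + B + 1 by ring]
      omega
    obtain ⟨c, hc⟩ : B + 1 ∣ 2 * (A + 1) := (Nat.dvd_add_right h).mp (by rw [e1]; exact dvd_mul_left _ _)
    have hc1 : c = 1 := by
      rcases c with _ | _ | c
      · omega
      · rfl
      · exfalso
        have : (B + 1) * 2 ≤ (B + 1) * (c + 1 + 1) := Nat.mul_le_mul_left _ (by omega)
        omega
    rw [hc1, mul_one] at hc
    rcases Nat.lt_or_ge q 3 with hq3 | hq3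
    · rw [show q = 2 by omega] at hBA
      omega
    · have : 3 * A ≤ q * A := Nat.mul_le_mul_right A hq3
      omega
  · omega

end Field

section Main

variable {F : Type u} [Field F] [Fintype F] [CharP F 2]

/-- Plus type. -/
theorem plus_main (d : ℕ) (hd : 4 ≤ d) (r : ℕ) [Fact r.Prime]
    (hrΩ : r ∣ Nat.card {W : Submodule F (Fin d ⊕ Fin d → F) // Module.finrank F ↥W = 1 ∧ ∃ v ∈ W, Cfsg.quadFormPlus d F v ≠ 0}) :
    (∀ x : GL (Fin d ⊕ Fin d) F, x ∈ Cfsg.Geo.omegaGL (Cfsg.quadFormPlus d F) →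
      (∃ z : F, ((x ^ r : GL (Fin d ⊕ Fin d) F) : Matrix (Fin d ⊕ Fin d) (Fin d ⊕ Fin d) F) = z • (1 : Matrix (Fin d ⊕ Fin d) (Fin d ⊕ Fin d) F)) →
      (∀ z : F, (x : Matrix (Fin d ⊕ Fin d) (Fin d ⊕ Fin d) F) ≠ z • (1 : Matrix (Fin d ⊕ Fin d) (Fin d ⊕ Fin d) F)) →
      ∃ W : Submodule F (Fin d ⊕ Fin d → F), (Module.finrank F ↥W = 1 ∧ ∃ v ∈ W, Cfsg.quadFormPlus d F v ≠ 0) ∧ W.map (Matrix.toLin' (x : Matrix (Fin d ⊕ Fin d) (Fin d ⊕ Fin d) F)) ≤ W) ↔ (r = 2 ∧ Odd d) := by
  classical
  have hrp : r.Prime := Fact.out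
  have hQe : Cfsg.quadFormPlus d F = ⇑(HypQuad.plusForm d F) := (funext (HypQuad.plusForm_apply d)).symm
  simp only [hQe] at hrΩ ⊢
  set Q := HypQuad.plusForm d F with hQdef
  have hQ : (polarBilin Q).Nondegenerate := HypQuad.plusForm_nondegenerate d
  have hn : Fintype.card (Fin d ⊕ Fin d) = 2 * d := by simp [two_mul]
  constructor
  · intro hall
    by_contra hne
    rcases eq_or_ne r 2 with rfl | hr2
    · have hde : Even d := Nat.not_odd_iff_even.mp fun h => hne ⟨rfl, h⟩
      obtain ⟨h, rfl⟩ := hde.two_dvd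
      let e : Fin (2 * h) ≃ Fin h × Fin 2 := Fintype.equivOfCardEq (by simp [mul_comm])
      let π : Equiv.Perm (Fin (2 * h)) := e.symm.permCongr (Equiv.prodCongr (Equiv.refl _) (Equiv.swap 0 1))
      have hπ : ∀ i, π i ≠ i := fun i => by
        intro hi
        have := congrArg (fun j => (e j).2) hi
        simp [π, Equiv.permCongr_apply] at this
        generalize (e i).2 = j at this
        fin_cases j <;> simp at this
      have hππ : ∀ i, π (π i) = i := fun i => by simp [π, Equiv.permCongr_apply, Prod.map]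
      let A : Matrix (Fin (2 * h)) (Fin (2 * h)) F := π.permMatrix F
      have hA : ∀ w, A.mulVec w = w ∘ π := fun w => Matrix.permMatrix_mulVec π
      let X : Matrix (Fin (2 * h) ⊕ Fin (2 * h)) (Fin (2 * h) ⊕ Fin (2 * h)) F := Matrix.fromBlocks 1 A 0 1
      have hXX : X ^ 2 = 1 := by
        rw [_root_.sq, Matrix.fromBlocks_multiply, ← Matrix.fromBlocks_one]
        simp [← two_smul F A, CharTwo.two_eq_zero]
      let x : GL (Fin (2 * h) ⊕ Fin (2 * h)) F := ⟨X, X, by rw [← _root_.sq, hXX], by rw [← _root_.sq, hXX]⟩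
      have hmv : ∀ v, X.mulVec v = Sum.elim (v ∘ Sum.inl + (v ∘ Sum.inr) ∘ π) (v ∘ Sum.inr) := fun v => by
        rw [Matrix.fromBlocks_mulVec, hA]
        simp
      have hQx : ∀ v, Q ((x : Matrix _ _ F).mulVec v) = Q v := fun v => by
        show Q (X.mulVec v) = _
        rw [HypQuad.plusForm_apply, HypQuad.plusForm_apply, hmv]
        simp only [Cfsg.quadFormPlus, Sum.elim_inl, Sum.elim_inr, Pi.add_apply, Function.comp_apply, add_mul,
          Finset.sum_add_distrib, add_eq_left]
        refine Finset.sum_involution (fun i _ => π i) (fun i _ => ?_) (fun i _ _ => hπ i) (fun i _ => Finset.mem_univ _)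
          (fun i _ => hππ i)
        rw [hππ, mul_comm, CharTwo.add_self_eq_zero]
      have hfix : ∀ v, X.mulVec v = v → ∀ i, v (Sum.inr i) = 0 := fun v hv i => by
        have h1 := congrFun hv (Sum.inl (π i))
        rw [hmv, Sum.elim_inl, Pi.add_apply] at h1
        simpa [hππ] using h1
      have hfix' : ∀ v, (x : Matrix _ _ F).mulVec v = v → Q v = 0 := fun v hv => by
        rw [HypQuad.plusForm_apply, Cfsg.quadFormPlus]
        exact Finset.sum_eq_zero fun i _ => by rw [hfix v hv i, mul_zero]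
      let g : Cfsg.isometryGroup F (⇑Q) := ⟨x, (Refl.mem_iff Q).mpr hQx⟩
      have hmem : x ∈ Cfsg.Geo.omegaGL (⇑Q) := by
        refine (Refl.mem_omegaGL Q x).mpr ⟨g, mem_omega_dickson Q hQ (by omega) g ?_, rfl⟩
        show (-1 : ℤˣ) ^ Refl.gap Q g 1 = 1
        refine Even.neg_one_pow ?_
        have hker : LinearMap.ker (Matrix.toLin' (Refl.mat Q g) - Matrix.toLin' (Refl.mat Q 1)) =
            LinearMap.range (LinearMap.funLeft F F (Sum.elim id id : Fin (2 * h) ⊕ Fin (2 * h) → Fin (2 * h))) ⊓ ⊥ ⊔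
            LinearMap.ker (LinearMap.funLeft F F (Sum.inr : Fin (2 * h) → Fin (2 * h) ⊕ Fin (2 * h))) := by
          rw [inf_bot_eq, bot_sup_eq]
          ext v
          rw [LinearMap.mem_ker, LinearMap.sub_apply, sub_eq_zero, Matrix.toLin'_apply, Matrix.toLin'_apply,
            show Refl.mat Q 1 = 1 from rfl, Matrix.one_mulVec, LinearMap.mem_ker,
            show Refl.mat Q g = X from rfl]
          refine ⟨fun hv => funext fun i => hfix v hv i, fun hv => ?_⟩
          rw [hmv]
          funext i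
          rcases i with i | i
          · simp [show v (Sum.inr (π i)) = 0 from congrFun hv (π i)]
          · rfl
        have hdim := LinearMap.finrank_range_add_finrank_ker
          (LinearMap.funLeft F F (Sum.inr : Fin (2 * h) → Fin (2 * h) ⊕ Fin (2 * h)))
        rw [LinearMap.range_eq_top.mpr (LinearMap.funLeft_surjective_of_injective _ _ _ Sum.inr_injective), finrank_top,
          Module.finrank_fintype_fun_eq_card, Module.finrank_fintype_fun_eq_card, Fintype.card_fin, hn] at hdim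
        rw [Refl.gap, hker, inf_bot_eq, bot_sup_eq, hn]
        exact ⟨h, by omega⟩
      obtain ⟨W, ⟨h1, hW⟩, hmap⟩ := hall x hmem ⟨1, by
        rw [one_smul, Units.val_pow_eq_pow_val]; exact hXX⟩ (nonscalar Q hQ x hQx (by omega) hfix')
      exact no_point Q hQ x hQx hfix' W hW h1 hmap
    · have hodd := hrp.odd_of_ne_two hr2
      have hrF : ¬ r ∣ Fintype.card F := not_dvd_card (p := 2) hrp hr2
      have hrc : (r : F) ≠ 0 := cast_ne_zero (p := 2) hrp hr2
      -- counting
      have hdiv : r ∣ Fintype.card F ^ d - 1 := by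
        have h := card_points Q hQ
        have hz := OrthCard.count_plus (F := F) d (by omega)
        rw [hn, show Nat.card {v // Q v = 0} = _ from (Nat.card_congr (Equiv.subtypeEquivRight fun v => by
          rw [hQe])).trans hz, Nat.card_eq_fintype_card (α := F)] at h
        obtain ⟨t, ht⟩ := hrΩ
        rw [ht] at h
        obtain ⟨e, rfl⟩ : ∃ e, d = e + 1 := ⟨d - 1, by omega⟩
        rw [show 2 * (e + 1) - 1 = (e + 1) + e by omega, show e + 1 - 1 = e by omega, two_mul] at h
        set q := Fintype.card F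
        set A := q ^ e with hA
        set B := q ^ (e + 1) with hB
        have hBA : B = q * A := by rw [hB, pow_succ, mul_comm]
        rw [pow_add, ← hB, pow_add, ← hB, ← hA] at h
        have hq1 : 1 ≤ q := Fintype.card_pos
        have hB1 : 1 ≤ B := Nat.one_le_pow _ _ hq1
        have key : r * t * (q - 1) = A * (B - 1) * (q - 1) := by
          have hle : A ≤ B * A + B := le_trans (Nat.le_mul_of_pos_left A hB1) (Nat.le_add_right _ _)
          zify [hq1, hB1, hle] at h ⊢
          rw [show (B : ℤ) = q * A by exact_mod_cast hBA] at h ⊢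
          linear_combination h
        have h3 := Nat.eq_of_mul_eq_mul_right (Nat.sub_pos_of_lt Fintype.one_lt_card) key
        have h4 : r ∣ A * (B - 1) := ⟨t, h3.symm⟩
        exact (hrp.dvd_mul.mp h4).resolve_left fun hA' => hrF (hrp.dvd_of_dvd_pow hA')
      obtain ⟨M, hMr, hMfix⟩ : ∃ M : Matrix (Fin d) (Fin d) F, M ^ r = 1 ∧ (M - 1).det ≠ 0 := by
        rcases Nat.lt_or_ge (orderOf (Fintype.card F : ZMod r)) 2 with he | he
        · have h1 : r ∣ Fintype.card Fˣ := by
            rw [Fintype.card_units, ← pow_one (Fintype.card F), dvd_pow_sub_one]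
            have := ord_pos hrF
            rw [Nat.dvd_one]
            omega
          obtain ⟨ζ, hζ⟩ := exists_prime_orderOf_dvd_card r h1
          refine ⟨(ζ : F) • 1, ?_, ?_⟩
          · rw [_root_.smul_pow, one_pow, ← Units.val_pow_eq_pow_val, ← hζ, pow_orderOf_eq_one, Units.val_one, one_smul]
          · rw [show ((ζ : F) • (1 : Matrix (Fin d) (Fin d) F) - 1) = ((ζ : F) - 1) • 1 by rw [sub_smul, one_smul],
              Matrix.det_smul, Matrix.det_one, mul_one]
            refine pow_ne_zero _ (sub_ne_zero.mpr fun e => ?_)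
            exact hrp.ne_one (by rw [← hζ, orderOf_eq_one_iff]; exact Units.ext e)
        · have hed := (dvd_pow_sub_one d).mp hdiv
          obtain ⟨M, -, hM, -, hk⟩ := exists_example (n := d) hrc hrF he (Nat.le_of_dvd (by omega) hed)
          rw [Nat.mod_eq_zero_of_dvd hed, Nat.le_zero] at hk
          refine ⟨M, hM, fun h0 => ?_⟩
          obtain ⟨v, hv0, hv⟩ := Matrix.exists_mulVec_eq_zero_iff.mpr h0
          rw [Matrix.sub_mulVec, Matrix.one_mulVec, sub_eq_zero] at hv
          exact hv0 ((Submodule.mem_bot F).mp (finrank_eq_zero.mp hk ▸ mem_fix.mpr (by simpa using hv)))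
      let N := (M ^ (r - 1)).transpose
      let X : Matrix (Fin d ⊕ Fin d) (Fin d ⊕ Fin d) F := Matrix.fromBlocks M 0 0 N
      have hXr : X ^ r = 1 := by
        have h : ∀ j : ℕ, X ^ j = Matrix.fromBlocks (M ^ j) 0 0 (N ^ j) := by
          intro j
          induction j with
          | zero => simp [← Matrix.fromBlocks_one]
          | succ j ih =>
            rw [pow_succ, ih]
            simp [X, Matrix.fromBlocks_multiply, pow_succ]
        rw [h, hMr, ← Matrix.transpose_pow, ← pow_mul, mul_comm, pow_mul, hMr, one_pow, Matrix.transpose_one,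
          Matrix.fromBlocks_one]
      let x : GL (Fin d ⊕ Fin d) F := Units.ofPowEqOne X r hXr hrp.ne_zero
      have hMN : M.transpose * N = 1 := by
        rw [← Matrix.transpose_mul, ← pow_succ, Nat.sub_add_cancel hrp.pos, hMr, Matrix.transpose_one]
      have hQx : ∀ v, Q ((x : Matrix _ _ F).mulVec v) = Q v := fun v => by
        show Q (X.mulVec v) = _
        rw [HypQuad.plusForm_apply, HypQuad.plusForm_apply, Matrix.fromBlocks_mulVec]
        simp only [Cfsg.quadFormPlus, Sum.elim_inl, Sum.elim_inr, Matrix.zero_mulVec, add_zero, zero_add]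
        show dotProduct (M.mulVec (v ∘ Sum.inl)) (N.mulVec (v ∘ Sum.inr)) = dotProduct (v ∘ Sum.inl) (v ∘ Sum.inr)
        rw [← Matrix.vecMul_transpose, ← Matrix.dotProduct_mulVec, Matrix.mulVec_mulVec, hMN, Matrix.one_mulVec]
      have hfix : ∀ v, (x : Matrix _ _ F).mulVec v = v → Q v = 0 := fun v hv => by
        have h1 : M.mulVec (v ∘ Sum.inl) = v ∘ Sum.inl := funext fun i => by
          have := congrFun hv (Sum.inl i)
          simpa [x, X, Matrix.fromBlocks_mulVec] using this
        have h2 : v ∘ Sum.inl = 0 := by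
          by_contra h0
          exact hMfix (Matrix.exists_mulVec_eq_zero_iff.mp ⟨_, h0, by rw [Matrix.sub_mulVec, Matrix.one_mulVec, h1, sub_self]⟩)
        rw [HypQuad.plusForm_apply, Cfsg.quadFormPlus]
        exact Finset.sum_eq_zero fun i _ => by rw [show v (Sum.inl i) = 0 from congrFun h2 i, zero_mul]
      have hxr : x ^ r = 1 := Units.ext (by rw [Units.val_pow_eq_pow_val]; exact hXr)
      obtain ⟨W, ⟨h1, hW⟩, hmap⟩ := hall x (mem_omega_odd Q hQ (by omega) x hQx hodd hxr)
        ⟨1, by rw [hxr, Units.val_one, one_smul]⟩ (nonscalar Q hQ x hQx (by omega) hfix)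
      exact no_point Q hQ x hQx hfix W hW h1 hmap
  · rintro ⟨rfl, hdo⟩ x hxΩ ⟨z, hz⟩ hns
    obtain ⟨g, -, rfl⟩ := (Refl.mem_omegaGL Q x).mp hxΩ
    have hQx := (Refl.mem_iff Q).mp g.2
    by_contra hno
    obtain ⟨K, -, -, he⟩ := even_half Q hQ d hn _ hQx (pow_one' Q hQ _ hQx (by omega) hz) fun v hv => by
      by_contra h
      exact hno (point_of_fix Q hQ _ hv h)
    exact Nat.not_even_iff_odd.mpr hdo he

/-- The minus form has no singular subspace of half dimension. -/
theorem minus_no_half (d : ℕ) (hd : 1 ≤ d) (a b : F) (hab : ∀ x y : F, x ^ 2 + a * x * y + b * y ^ 2 = 0 → x = 0 ∧ y = 0)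
    (W : Submodule F ((Fin (d - 1) ⊕ Fin (d - 1)) ⊕ Fin 2 → F)) (hW : Module.finrank F W = d)
    (hWQ : ∀ w ∈ W, Refl.minusForm (d - 1) F a b w = 0) : False := by
  classical
  set Q := Refl.minusForm (d - 1) F a b with hQdef
  have hQ : (polarBilin Q).Nondegenerate := Refl.minusForm_nondegenerate' _ hab
  let f : (Fin (d - 1) → F) →ₗ[F] ((Fin (d - 1) ⊕ Fin (d - 1)) ⊕ Fin 2 → F) :=
    { toFun := fun u => Sum.elim (Sum.elim u 0) 0
      map_add' := fun u v => by funext i; rcases i with (i | i) | i <;> simp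
      map_smul' := fun c u => by funext i; rcases i with (i | i) | i <;> simp }
  let L := LinearMap.range f
  have hLd : Module.finrank F L = d - 1 := by
    rw [LinearMap.finrank_range_of_inj fun u v h => funext fun i => congrFun h (Sum.inl (Sum.inl i)),
      Module.finrank_fintype_fun_eq_card, Fintype.card_fin]
  have hL : ∀ w ∈ L, Q w = 0 := by
    rintro _ ⟨u, rfl⟩
    simp [hQdef, Refl.minusForm_coe, Cfsg.quadFormMinus, f]
  have hLmax : ∀ W' : Submodule F _, L ≤ W' → (∀ w ∈ W', Q w = 0) → W' = L := by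
    intro W' hle hW'
    refine le_antisymm (fun w hw => ?_) hle
    have h1 : ∀ i, w (Sum.inl (Sum.inr i)) = 0 := fun i => by
      have hp := HypQuad.polar_zero_of_singular Q hW' (hle ⟨Pi.single i 1, rfl⟩) hw
      simpa [hQdef, polar, Refl.minusForm_coe, Cfsg.quadFormMinus, f, Pi.single_apply, add_mul, mul_add,
        Finset.sum_add_distrib] using hp
    have h2 := hW' w hw
    simp [hQdef, Refl.minusForm_coe, Cfsg.quadFormMinus, h1] at h2
    obtain ⟨e0, e1⟩ := hab _ _ h2
    refine ⟨fun i => w (Sum.inl (Sum.inl i)), funext fun i => ?_⟩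
    rcases i with (i | i) | i
    · rfl
    · simp [f, h1]
    · fin_cases i <;> simp [f, e0, e1]
  have h := (WittQuad.witt_index Q hQ L W hL hWQ hLmax (half_max hQ W hWQ (by
    rw [Module.finrank_fintype_fun_eq_card, hW]
    simp
    omega))).1
  omega

/-- Minus type. -/
theorem minus_main (d : ℕ) (hd : 4 ≤ d) (a b : F) (hab : ∀ x y : F, x ^ 2 + a * x * y + b * y ^ 2 = 0 → x = 0 ∧ y = 0)
    (r : ℕ) [Fact r.Prime]
    (hrΩ : r ∣ Nat.card {W : Submodule F ((Fin (d - 1) ⊕ Fin (d - 1)) ⊕ Fin 2 → F) // Module.finrank F ↥W = 1 ∧ ∃ v ∈ W, Cfsg.quadFormMinus (d - 1) F a b v ≠ 0}) :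
    (∀ x : GL ((Fin (d - 1) ⊕ Fin (d - 1)) ⊕ Fin 2) F, x ∈ Cfsg.Geo.omegaGL (Cfsg.quadFormMinus (d - 1) F a b) →
      (∃ z : F, ((x ^ r : GL ((Fin (d - 1) ⊕ Fin (d - 1)) ⊕ Fin 2) F) : Matrix ((Fin (d - 1) ⊕ Fin (d - 1)) ⊕ Fin 2) ((Fin (d - 1) ⊕ Fin (d - 1)) ⊕ Fin 2) F) = z • (1 : Matrix ((Fin (d - 1) ⊕ Fin (d - 1)) ⊕ Fin 2) ((Fin (d - 1) ⊕ Fin (d - 1)) ⊕ Fin 2) F)) →
      (∀ z : F, (x : Matrix ((Fin (d - 1) ⊕ Fin (d - 1)) ⊕ Fin 2) ((Fin (d - 1) ⊕ Fin (d - 1)) ⊕ Fin 2) F) ≠ z • (1 : Matrix ((Fin (d - 1) ⊕ Fin (d - 1)) ⊕ Fin 2) ((Fin (d - 1) ⊕ Fin (d - 1)) ⊕ Fin 2) F)) →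
      ∃ W : Submodule F ((Fin (d - 1) ⊕ Fin (d - 1)) ⊕ Fin 2 → F), (Module.finrank F ↥W = 1 ∧ ∃ v ∈ W, Cfsg.quadFormMinus (d - 1) F a b v ≠ 0) ∧ W.map (Matrix.toLin' (x : Matrix ((Fin (d - 1) ⊕ Fin (d - 1)) ⊕ Fin 2) ((Fin (d - 1) ⊕ Fin (d - 1)) ⊕ Fin 2) F)) ≤ W) ↔ r = 2 := by
  classical
  have hrp : r.Prime := Fact.out
  have hQe : Cfsg.quadFormMinus (d - 1) F a b = ⇑(Refl.minusForm (d - 1) F a b) := (Refl.minusForm_coe _ _ _).symm
  simp only [hQe] at hrΩ ⊢
  set Q := Refl.minusForm (d - 1) F a b with hQdef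
  have hQ : (polarBilin Q).Nondegenerate := Refl.minusForm_nondegenerate' _ hab
  have hn : Fintype.card ((Fin (d - 1) ⊕ Fin (d - 1)) ⊕ Fin 2) = 2 * d := by simp; omega
  constructor
  · intro hall
    by_contra hr2
    have hodd := hrp.odd_of_ne_two hr2
    have hrF : ¬ r ∣ Fintype.card F := not_dvd_card (p := 2) hrp hr2
    have hdiv : r ∣ Fintype.card F ^ d + 1 := by
      have h := card_points Q hQ
      have hz := OrthCard.count_minus (F := F) d (by omega) hab
      rw [hn, show Nat.card {v // Q v = 0} = _ from (Nat.card_congr (Equiv.subtypeEquivRight fun v => by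
        rw [hQe])).trans hz, Nat.card_eq_fintype_card (α := F)] at h
      obtain ⟨t, ht⟩ := hrΩ
      rw [ht] at h
      obtain ⟨e, rfl⟩ : ∃ e, d = e + 1 := ⟨d - 1, by omega⟩
      rw [show 2 * (e + 1) - 1 = (e + 1) + e by omega, show e + 1 - 1 = e by omega, two_mul] at h
      set q := Fintype.card F
      set A := q ^ e with hA
      set B := q ^ (e + 1) with hB
      have hBA : B = q * A := by rw [hB, pow_succ, mul_comm]
      rw [pow_add, ← hB, pow_add, ← hB, ← hA] at h
      have hq1 : 1 ≤ q := Fintype.card_pos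
      have key : r * t * (q - 1) = A * (B + 1) * (q - 1) := by
        have hle : B ≤ B * A + A := le_trans (Nat.le_mul_of_pos_right B (Nat.one_le_pow _ _ hq1)) (Nat.le_add_right _ _)
        zify [hq1, hle] at h ⊢
        rw [show (B : ℤ) = q * A by exact_mod_cast hBA] at h ⊢
        linear_combination h
      have h3 := Nat.eq_of_mul_eq_mul_right (Nat.sub_pos_of_lt Fintype.one_lt_card) key
      have h4 : r ∣ A * (B + 1) := ⟨t, h3.symm⟩
      exact (hrp.dvd_mul.mp h4).resolve_left fun hA' => hrF (hrp.dvd_of_dvd_pow hA')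
    obtain ⟨K, _, _, _, P, T, hP, hKd, hPz, hTr, hTP, hTfix⟩ := exists_model (by omega) hdiv
    obtain ⟨D⟩ := exists_decomp (Q := P) (Module.finrank F K) ⊤ (finrank_top F K) (by
      intro v _ hv
      exact hP.1 v fun w => hv w mem_top)
    obtain ⟨D'⟩ := exists_decomp (Q := Q) _ ⊤ (finrank_top F _) (by
      intro v _ hv
      exact hQ.1 v fun w => hv w mem_top)
    have h1 := D.dim
    have h2 := D'.dim
    have s1 := D.small
    have s2 := D'.small
    rw [finrank_top] at h1 h2
    rw [Module.finrank_fintype_fun_eq_card, hn] at h2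
    rw [hKd] at h1
    have hz := OrthCard.count_plus (F := F) d (by omega)
    rw [Nat.card_eq_fintype_card (α := F)] at hz
    obtain ⟨hne1, hne2⟩ := not_plus_count (q := Fintype.card F) (d := d) (by omega) Fintype.one_lt_card
    have hKn : Module.finrank F D.K ≠ 0 := fun h0 => by
      obtain ⟨g, hg⟩ := FormNormal.plus_equiv D (k := d) (by omega) h0
      refine hne1 ?_
      rw [← hz, ← Nat.card_congr (g.toEquiv.subtypeEquiv (fun z => by rw [hg z]; rfl) :
        {z : K // P z = 0} ≃ {v // Cfsg.quadFormPlus d F v = 0})]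
      exact hPz
    have hKn' : Module.finrank F D'.K ≠ 0 := fun h0 => by
      obtain ⟨g, hg⟩ := FormNormal.plus_equiv D' (k := d) (by omega) h0
      have hm := OrthCard.count_minus (F := F) d (by omega) hab
      rw [Nat.card_eq_fintype_card (α := F)] at hm
      refine hne2 ?_
      rw [← hz, ← hm]
      exact Nat.card_congr (g.toEquiv.subtypeEquiv fun z => by rw [hQe, hg z]; rfl)
    obtain ⟨g, hg⟩ := equiv_of_index D D' (by omega) (by rw [hKd, Module.finrank_fintype_fun_eq_card, hn])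
      (by rw [hKd]; exact even_two_mul d)
    let X := LinearMap.toMatrix' (g.conj T)
    have hX : ∀ v, X.mulVec v = g (T (g.symm v)) := fun v => by
      simp [X, LinearMap.toMatrix'_mulVec, LinearEquiv.conj_apply]
    have hXr : X ^ r = 1 := by
      have h : ∀ j : ℕ, ∀ v, (X ^ j).mulVec v = g ((T ^ j) (g.symm v)) := by
        intro j
        induction j with
        | zero => simp
        | succ j ih => intro v; rw [pow_succ', ← Matrix.mulVec_mulVec, ih, hX, pow_succ']; simp
      exact Matrix.ext_of_mulVec_single fun i => by rw [h, hTr, Module.End.one_apply, g.apply_symm_apply, Matrix.one_mulVec]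
    let x : GL ((Fin (d - 1) ⊕ Fin (d - 1)) ⊕ Fin 2) F := Units.ofPowEqOne X r hXr hrp.ne_zero
    have hQx : ∀ v, Q ((x : Matrix _ _ F).mulVec v) = Q v := fun v => by
      show Q (X.mulVec v) = _
      rw [hX, ← hg, hTP, hg, g.apply_symm_apply]
    have hfix : ∀ v, (x : Matrix _ _ F).mulVec v = v → Q v = 0 := fun v hv => by
      have h3 : T (g.symm v) = g.symm v := g.injective (by rw [← hX, g.apply_symm_apply]; exact hv)
      rw [← g.apply_symm_apply v, hTfix _ h3, map_zero, QuadraticMap.map_zero]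
    have hxr : x ^ r = 1 := Units.ext (by rw [Units.val_pow_eq_pow_val]; exact hXr)
    obtain ⟨W, ⟨hW1, hW⟩, hmap⟩ := hall x (mem_omega_odd Q hQ (by omega) x hQx hodd hxr)
      ⟨1, by rw [hxr, Units.val_one, one_smul]⟩ (nonscalar Q hQ x hQx (by omega) hfix)
    exact no_point Q hQ x hQx hfix W hW hW1 hmap
  · rintro rfl x hxΩ ⟨z, hz⟩ hns
    obtain ⟨g, -, rfl⟩ := (Refl.mem_omegaGL Q x).mp hxΩ
    have hQx := (Refl.mem_iff Q).mp g.2
    by_contra hno
    obtain ⟨K, hK, hKQ, -⟩ := even_half Q hQ d hn _ hQx (pow_one' Q hQ _ hQx (by omega) hz) fun v hv => by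
      by_contra h
      exact hno (point_of_fix Q hQ _ hv h)
    exact minus_no_half d (by omega) a b hab K hK hKQ

end Main

end Cfsg.Lib.Classical.NsPoint
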