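import Mathlib
import Cfsg.Prelude.Def_GeometricClasses
import Cfsg.Agent.Classical.Misc.NonsingularDerangement
import Cfsg.Agent.Classical.MaxBridge

/-! Elements of prime order of `Sp_{2d}(2^f)` preserving a quadratic form of given type. -/

set_option autoImplicit false
set_option linter.unusedSimpArgs false
set_option linter.unusedSectionVars false
set_option linter.unusedVariables false
set_option linter.style.haveILetI false
set_option linter.flexible false

namespace Cfsg.Lib.Classical.EvenForm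

open Submodule QuadraticMap PrimeOrd Cfsg.Lib.FormNormal

universe u

variable {F : Type u} [Field F] [Fintype F] [CharP F 2] {d : ℕ}

local notation "V" => (Fin d ⊕ Fin d → F)

theorem symp_eq (u v : V) :
    Cfsg.sympForm d F u v = ∑ i, (u (Sum.inl i) * v (Sum.inr i) + u (Sum.inr i) * v (Sum.inl i)) := by
  simp [Cfsg.sympForm, Matrix.J, dotProduct, Fintype.sum_sum_type, Matrix.fromBlocks_mulVec, Finset.sum_add_distrib,
    Matrix.neg_mulVec, CharTwo.neg_eq, Matrix.mulVec, Matrix.one_apply]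

theorem plus_polar (u v : V) : polar (⇑(HypQuad.plusForm d F)) u v = Cfsg.sympForm d F u v := by
  rw [symp_eq, polar, HypQuad.plusForm_apply, HypQuad.plusForm_apply, HypQuad.plusForm_apply]
  simp only [Cfsg.quadFormPlus, Pi.add_apply, ← Finset.sum_sub_distrib]
  exact Finset.sum_congr rfl fun i _ => by ring

theorem symp_comm (u v : V) : Cfsg.sympForm d F u v = Cfsg.sympForm d F v u := by
  rw [← plus_polar, ← plus_polar, polar_comm]

theorem nd_of_polar (Q : QuadraticForm F V) (h : ∀ u v, polar (⇑Q) u v = Cfsg.sympForm d F u v) :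
    (polarBilin Q).Nondegenerate := by
  have hp := HypQuad.plusForm_nondegenerate (F := F) d
  refine ⟨fun u hu => hp.1 u fun v => ?_, fun u hu => hp.2 u fun v => ?_⟩
  · show polar (⇑(HypQuad.plusForm d F)) u v = 0
    rw [plus_polar, ← h]; exact hu v
  · show polar (⇑(HypQuad.plusForm d F)) v u = 0
    rw [plus_polar, ← h]; exact hu v

theorem dim_V : Module.finrank F V = 2 * d := by simp [two_mul]

/-- Plus type. -/
def Plus (Q : QuadraticForm F V) : Prop := ∃ W : Submodule F V, Module.finrank F W = d ∧ ∀ w ∈ W, Q w = 0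

theorem plus_iff (Q : QuadraticForm F V) : Cfsg.Geo.IsPlusTypeOn (⇑Q) ⊤ ↔ Plus Q := by
  constructor
  · rintro ⟨U, -, hU, hd⟩
    rw [finrank_top, dim_V] at hd
    exact ⟨U, by omega, hU⟩
  · rintro ⟨U, hd, hU⟩
    exact ⟨U, le_top, hU, by rw [finrank_top, dim_V, hd]⟩

theorem plus_plus : Plus (HypQuad.plusForm d F) :=
  ⟨_, (HypQuad.leftSpace_isMax (F := F) d).1, (HypQuad.leftSpace_isMax (F := F) d).2⟩

/-- Duals show that singular orthogonal vectors span a singular subspace of full dimension. -/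
theorem plus_of_family (Q : QuadraticForm F V) {κ : Type} [Fintype κ] (hc : Fintype.card κ = d) (w a : κ → V)
    (hq : ∀ i, Q (w i) = 0) (hp : ∀ i j, i ≠ j → polar (⇑Q) (w i) (w j) = 0)
    (hd1 : ∀ i, polar (⇑Q) (w i) (a i) = 1) (hd0 : ∀ i j, i ≠ j → polar (⇑Q) (w i) (a j) = 0) : Plus Q := by
  classical
  have hpw : ∀ i j, polar (⇑Q) (w i) (w j) = 0 := fun i j => by
    by_cases h : i = j
    · subst h
      rw [polar_self, hq, smul_zero]
    · exact hp i j h
  refine ⟨span F (Set.range w), ?_, fun x hx => ?_⟩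
  · rw [finrank_span_eq_card, hc]
    rw [Fintype.linearIndependent_iff]
    intro g hg j
    have h := congrArg (fun z => polarBilin Q z (a j)) hg
    simp only [map_sum, map_smul, LinearMap.sum_apply, LinearMap.smul_apply, polarBilin_apply_apply, smul_eq_mul,
      map_zero, LinearMap.zero_apply] at h
    rw [Finset.sum_eq_single j] at h
    · rwa [hd1, mul_one] at h
    · intro i _ hij
      rw [hd0 i j hij, mul_zero]
    · simp
  · have hs : ∀ y ∈ span F (Set.range w), ∀ i, polar (⇑Q) (w i) y = 0 := fun y hy i => by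
      have hle : span F (Set.range w) ≤ LinearMap.ker (polarBilin Q (w i)) :=
        span_le.2 (by rintro _ ⟨j, rfl⟩; exact hpw i j)
      exact hle hy
    induction hx using Submodule.span_induction with
    | mem x hx => obtain ⟨i, rfl⟩ := hx; exact hq i
    | zero => exact QuadraticMap.map_zero Q
    | add x y hx hy ihx ihy =>
      rw [QuadraticMap.map_add (f := Q), ihx, ihy]
      have hle : span F (Set.range w) ≤ LinearMap.ker ((polarBilin Q).flip y) :=
        span_le.2 (by rintro _ ⟨j, rfl⟩; exact hs y hy j)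
      rw [show polar (⇑Q) x y = 0 from hle hx]
      simp
    | smul c x _ ih => rw [QuadraticMap.map_smul, ih, smul_zero]

/-- Forms of the same type are isometric. -/
theorem equiv_same (hd : 1 ≤ d) (Q Q' : QuadraticForm F V) (hQ : (polarBilin Q).Nondegenerate)
    (hQ' : (polarBilin Q').Nondegenerate) (h : Plus Q ↔ Plus Q') : ∃ g : V ≃ₗ[F] V, ∀ v, Q v = Q' (g v) := by
  classical
  have key : ∀ (Q : QuadraticForm F V), (polarBilin Q).Nondegenerate → ∀ D : Decomp Q (⊤ : Submodule F V),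
      (Plus Q → D.m = d) ∧ (¬ Plus Q → D.m + 1 = d) := by
    intro Q hQ D
    have h1 := D.dim
    have h2 := D.small
    rw [finrank_top, dim_V] at h1
    refine ⟨fun ⟨W, hWd, hW⟩ => ?_, fun hn => ?_⟩
    · rw [index_eq hQ D W hW (half_max hQ W hW (by rw [dim_V, hWd]; omega)), hWd]
    · have : D.m ≠ d := fun e => hn ⟨span F (Set.range D.e), by
        rw [finrank_span_eq_card D.e_indep, Fintype.card_fin, e], D.span_e_singular⟩
      omega
  obtain ⟨D⟩ := exists_decomp (Q := Q) _ ⊤ (finrank_top F V) (nd_top Q hQ)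
  obtain ⟨D'⟩ := exists_decomp (Q := Q') _ ⊤ (finrank_top F V) (nd_top Q' hQ')
  refine equiv_of_index D D' ?_ rfl (by rw [dim_V]; exact even_two_mul d)
  by_cases hp : Plus Q
  · rw [(key Q hQ D).1 hp, (key Q' hQ' D').1 (h.mp hp)]
  · have a := (key Q hQ D).2 hp
    have b := (key Q' hQ' D').2 fun hp' => hp (h.mpr hp')
    omega

/-- An element without roots of `t² + t + ε`. -/
theorem exists_eps : ∃ ε : F, ε ≠ 0 ∧ ∀ t : F, t ^ 2 + t + ε ≠ 0 := by
  classical
  obtain ⟨ε, hε⟩ : ∃ ε : F, ∀ t : F, t ^ 2 + t ≠ ε := by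
    by_contra h
    push Not at h
    have hs : Function.Surjective fun t : F => t ^ 2 + t := fun e => h e
    have := (Finite.injective_iff_surjective.mpr hs) (a₁ := 0) (a₂ := 1)
      (by show (0 : F) ^ 2 + 0 = 1 ^ 2 + 1; simp [CharTwo.two_eq_zero, one_add_one_eq_two])
    exact zero_ne_one this
  exact ⟨ε, fun e => hε 0 (by simp [e]), fun t ht => hε t (CharTwo.add_eq_zero.mp ht)⟩

/-- The other form with the same polar form. -/
noncomputable def sw (Q : QuadraticForm F V) (w : V) : QuadraticForm F V :=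
  Q + QuadraticMap.linMulLin (polarBilin Q w) (polarBilin Q w)

theorem sw_apply (Q : QuadraticForm F V) (w v : V) : sw Q w v = Q v + polar (⇑Q) w v * polar (⇑Q) w v := by
  simp [sw]

theorem sw_polar (Q : QuadraticForm F V) (w u v : V) : polar (⇑(sw Q w)) u v = polar (⇑Q) u v := by
  simp only [polar, sw_apply]
  rw [show Q (w + (u + v)) - Q w - Q (u + v) = (Q (w + u) - Q w - Q u) + (Q (w + v) - Q w - Q v) from
    polar_add_right (⇑Q |> fun _ => Q) w u v]
  linear_combination (Q (w + u) - Q w - Q u) * (Q (w + v) - Q w - Q v) * (CharTwo.two_eq_zero (R := F))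

theorem polar_self_zero (Q : QuadraticForm F V) (w : V) : polar (⇑Q) w w = 0 := by
  rw [polar_self, two_smul, CharTwo.add_self_eq_zero]

theorem sw_not_both (hd : 1 ≤ d) (Q : QuadraticForm F V) (hQ : (polarBilin Q).Nondegenerate) {w : V} {ε : F}
    (hw : Q w = ε) (hε : ∀ t : F, t ^ 2 + t + ε ≠ 0) (h1 : Plus Q) (h2 : Plus (sw Q w)) : False := by
  obtain ⟨W', hW'd, hW'⟩ := h1
  obtain ⟨W, hWd, hW⟩ := h2
  have hQW : ∀ y ∈ W, Q y = polar (⇑Q) w y * polar (⇑Q) w y := fun y hy => by
    have := hW y hy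
    rw [sw_apply] at this
    exact CharTwo.add_eq_zero.mp this
  have hpol : ∀ y ∈ W, ∀ z ∈ W, polar (⇑Q) y z = 0 := fun y hy z hz => by
    rw [← sw_polar Q w]
    exact HypQuad.polar_zero_of_singular _ hW hy hz
  have hWp : HypQuad.perp Q W = W := (eq_of_le_of_finrank_eq (fun y hy => HypQuad.mem_perp Q |>.mpr fun z hz =>
    hpol z hz y hy) (by rw [HypQuad.finrank_perp Q hQ, dim_V, hWd]; omega)).symm
  have hwW : w ∉ W := fun h => by
    have := hQW w h
    rw [hw, polar_self_zero, mul_zero] at this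
    exact hε 0 (by simp [this])
  obtain ⟨u, hu, hwu⟩ : ∃ u ∈ W, polar (⇑Q) w u ≠ 0 := by
    by_contra h
    push Not at h
    exact hwW (hWp ▸ (HypQuad.mem_perp Q).mpr fun z hz => by rw [polar_comm]; exact h z hz)
  let T := W ⊓ LinearMap.ker (polarBilin Q w)
  have hTd : Module.finrank F T + 1 = d := by
    have hr := LinearMap.finrank_range_add_finrank_ker ((polarBilin Q w).comp W.subtype)
    have hsur : LinearMap.range ((polarBilin Q w).comp W.subtype) = ⊤ :=
      LinearMap.range_eq_top.mpr (LinearMap.surjective_iff_ne_zero.mpr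
        fun e => hwu (by simpa using LinearMap.congr_fun e ⟨u, hu⟩))
    rw [hsur, finrank_top, Module.finrank_self, hWd, LinearMap.ker_comp] at hr
    have : Module.finrank F T = Module.finrank F ((LinearMap.ker (polarBilin Q w)).comap W.subtype) := by
      rw [← finrank_map_subtype_eq, map_comap_subtype]
    omega
  have hTQ : ∀ y ∈ T, Q y = 0 := fun y hy => by
    rw [hQW y hy.1, show polar (⇑Q) w y = 0 from hy.2, mul_zero]
  have hsup : W ⊔ span F {w} = HypQuad.perp Q T := by
    refine eq_of_le_of_finrank_eq (sup_le (fun y hy => (HypQuad.mem_perp Q).mpr fun z hz => hpol z hz.1 y hy)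
      ((span_singleton_le_iff_mem _ _).mpr ((HypQuad.mem_perp Q).mpr fun z hz => by rw [polar_comm]; exact hz.2))) ?_
    have h := Submodule.finrank_sup_add_finrank_inf_eq W (span F {w})
    have hd' : Disjoint W (span F {w}) := by
      rw [disjoint_span_singleton]
      exact fun h => absurd h hwW
    rw [hd'.eq_bot, finrank_bot, finrank_span_singleton (fun e => hwW (by rw [e]; exact zero_mem W))] at h
    rw [HypQuad.finrank_perp Q hQ, dim_V]
    omega
  have hTmax : ∀ S : Submodule F V, T ≤ S → (∀ s ∈ S, Q s = 0) → S = T := by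
    intro S hle hS
    refine le_antisymm (fun s hs => ?_) hle
    have hsp : s ∈ HypQuad.perp Q T := (HypQuad.mem_perp Q).mpr fun z hz =>
      HypQuad.polar_zero_of_singular Q hS (hle hz) hs
    rw [← hsup] at hsp
    obtain ⟨y, hy, z, hz, rfl⟩ := mem_sup.mp hsp
    obtain ⟨x, rfl⟩ := mem_span_singleton.mp hz
    have h0 := hS _ hs
    rw [QuadraticMap.map_add (f := Q), QuadraticMap.map_smul, polar_smul_right, hw, hQW y hy, polar_comm (⇑Q) y w,
      smul_eq_mul, smul_eq_mul] at h0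
    by_cases hx : x = 0
    · subst hx
      rw [zero_smul, add_zero]
      refine ⟨hy, ?_⟩
      simpa using h0
    · refine absurd ?_ (hε (polar (⇑Q) w y / x))
      field_simp
      linear_combination h0
  have h := (WittQuad.witt_index Q hQ T W' hTQ hW' hTmax (half_max hQ W' hW' (by rw [dim_V, hW'd]; omega))).1
  omega

theorem sw_plus (hd : 2 ≤ d) (Q : QuadraticForm F V) (hQ : (polarBilin Q).Nondegenerate) {w : V} {ε : F}
    (hw : Q w = ε) (hε : ∀ t : F, t ^ 2 + t + ε ≠ 0) (hn : ¬ Plus Q) : Plus (sw Q w) := by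
  classical
  have hw0 : w ≠ 0 := fun e => hε 0 (by rw [← hw, e, QuadraticMap.map_zero]; simp)
  obtain ⟨v₁, hv₁⟩ : ∃ v, polar (⇑Q) w v ≠ 0 := by
    by_contra h
    push Not at h
    exact hw0 (hQ.1 w h)
  let v₀ := (polar (⇑Q) w v₁)⁻¹ • v₁
  have hv₀ : polar (⇑Q) w v₀ = 1 := by rw [polar_smul_right, smul_eq_mul, inv_mul_cancel₀ hv₁]
  -- the complement of a hyperbolic pair for the polar form
  have key : ∀ v, polar (⇑Q) w v = 1 → ND Q (HypQuad.perp Q (span F {w, v})) ∧
      Module.finrank F (HypQuad.perp Q (span F {w, v})) + 2 = 2 * d := by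
    intro v hv
    have hvw : polar (⇑Q) v w = 1 := by rw [polar_comm]; exact hv
    have hli : LinearIndependent F ![w, v] := by
      rw [LinearIndependent.pair_iff]
      intro s t h
      have h1 := congrArg (fun z => polar (⇑Q) w z) h
      have h2 := congrArg (fun z => polar (⇑Q) v z) h
      simp only [polar_add_right, polar_smul_right, polar_self_zero, hv, hvw, polar_zero_right, smul_eq_mul, mul_zero,
        mul_one, zero_add, add_zero] at h1 h2
      exact ⟨h2, h1⟩
    have hP : Module.finrank F (span F {w, v}) = 2 := by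
      have := finrank_span_eq_card hli
      rwa [Matrix.range_cons, Matrix.range_cons, Matrix.range_empty, Set.union_empty, Set.singleton_union,
        Fintype.card_fin] at this
    refine ⟨?_, by rw [HypQuad.finrank_perp Q hQ, dim_V, hP]; omega⟩
    have hdisj : Disjoint (span F {w, v}) (HypQuad.perp Q (span F {w, v})) := by
      rw [Submodule.disjoint_def]
      intro x hx hxp
      obtain ⟨s, t, rfl⟩ := mem_span_pair.mp hx
      have h1 := (HypQuad.mem_perp Q).mp hxp w (subset_span (by simp))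
      have h2 := (HypQuad.mem_perp Q).mp hxp v (subset_span (by simp))
      simp only [polar_add_right, polar_smul_right, polar_self_zero, hv, hvw, smul_eq_mul, mul_zero, mul_one, zero_add,
        add_zero] at h1 h2
      simp [h1, h2]
    have htop : span F {w, v} ⊔ HypQuad.perp Q (span F {w, v}) = ⊤ := by
      refine eq_top_of_finrank_eq ?_
      have h := Submodule.finrank_sup_add_finrank_inf_eq (span F {w, v}) (HypQuad.perp Q (span F {w, v}))
      rw [hdisj.eq_bot, finrank_bot, HypQuad.finrank_perp Q hQ, hP, dim_V] at h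
      rw [dim_V]
      omega
    intro x hx hx0
    refine hQ.1 x fun y => ?_
    obtain ⟨y₁, hy₁, y₂, hy₂, rfl⟩ := mem_sup.mp (htop ▸ mem_top : y ∈ span F {w, v} ⊔ HypQuad.perp Q (span F {w, v}))
    show polar (⇑Q) x (y₁ + y₂) = 0
    rw [polar_add_right, hx0 y₂ hy₂, polar_comm (⇑Q) x y₁, (HypQuad.mem_perp Q).mp hx y₁ hy₁, add_zero]
  -- choose the second vector with value one
  obtain ⟨v, hv, hQv⟩ : ∃ v, polar (⇑Q) w v = 1 ∧ Q v = 1 := by
    by_cases h1 : Q v₀ = 1
    · exact ⟨v₀, hv₀, h1⟩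
    · obtain ⟨hnd, hdim⟩ := key v₀ hv₀
      obtain ⟨t, ht, hQt⟩ := exists_value Q _ hnd (by omega) (Q v₀ + 1) (fun e => h1 (CharTwo.add_eq_zero.mp e))
      have htw := (HypQuad.mem_perp Q).mp ht w (subset_span (by simp))
      have htv := (HypQuad.mem_perp Q).mp ht v₀ (subset_span (by simp))
      refine ⟨v₀ + t, by rw [polar_add_right, hv₀, htw, add_zero], ?_⟩
      rw [QuadraticMap.map_add (f := Q), hQt, htv, add_zero, ← add_assoc, CharTwo.add_self_eq_zero, zero_add]
  obtain ⟨hnd, hdim⟩ := key v hv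
  set R := HypQuad.perp Q (span F {w, v})
  have hRw : ∀ x ∈ R, polar (⇑Q) w x = 0 := fun x hx => (HypQuad.mem_perp Q).mp hx w (subset_span (by simp))
  have hRv : ∀ x ∈ R, polar (⇑Q) v x = 0 := fun x hx => (HypQuad.mem_perp Q).mp hx v (subset_span (by simp))
  obtain ⟨D⟩ := exists_decomp (Q := Q) _ R rfl hnd
  have h1 := D.dim
  have h2 := D.small
  rcases Nat.eq_zero_or_pos (Module.finrank F D.K) with hK | hK
  · refine plus_of_family (sw Q w) (κ := Fin D.m ⊕ Unit) (by simp; omega) (Sum.elim D.e fun _ => v)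
      (Sum.elim D.f fun _ => w) ?_ ?_ ?_ ?_
    · rintro (i | i) <;> simp [sw_apply, D.qe, hRw _ (D.he _), hv, hQv, CharTwo.add_self_eq_zero]
    · rintro (i | i) (j | j) h <;>
        simp [sw_polar, D.ee, hRv _ (D.he _), polar_comm (⇑Q) (D.e _) v] at h ⊢
    · rintro (i | i) <;> simp [sw_polar, D.ef, polar_comm (⇑Q) v w, hv]
    · rintro (i | i) (j | j) h <;>
        simp [sw_polar, D.ef, hRv _ (D.hf _), polar_comm (⇑Q) (D.e _) w, hRw _ (D.he _)] at h ⊢ <;> simp [h]
  · exfalso
    have hK2 : Module.finrank F D.K = 2 := by omega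
    obtain ⟨ζ, -, hex⟩ := exists_plane Q D.ndK D.aniso hK2
    obtain ⟨g, hg, -, h0, h01, hg1⟩ := hex ε hε
    have hgR : ∀ k, g k ∈ R := fun k => D.hK (hg k)
    refine hn (plus_of_family Q (κ := Fin D.m ⊕ Fin 2) (by simp; omega) (Sum.elim D.e ![w + g 1, v + g 0])
      (Sum.elim D.f ![v, w]) ?_ ?_ ?_ ?_)
    · rintro (i | i)
      · exact D.qe i
      · fin_cases i <;>
          simp [QuadraticMap.map_add (f := Q), hw, hg1, h0, hQv, hRw _ (hgR _), hRv _ (hgR _), CharTwo.add_self_eq_zero]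
    · rintro (i | i) (j | j) h
      · exact D.ee i j
      · fin_cases j <;> simp [polar_add_right, D.ek _ _ (hg _), polar_comm (⇑Q) (D.e _) w, polar_comm (⇑Q) (D.e _) v,
          hRw _ (D.he _), hRv _ (D.he _)]
      · fin_cases i <;> simp [polar_add_left, polar_comm (⇑Q) (g _) (D.e _), D.ek _ _ (hg _), hRw _ (D.he _),
          hRv _ (D.he _)]
      · fin_cases i <;> fin_cases j <;>
          simp [polar_add_left, polar_add_right, hv, polar_comm (⇑Q) v w, polar_comm (⇑Q) (g _) w, polar_comm (⇑Q) (g _) v,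
            polar_comm (⇑Q) (g 1) (g 0), h01, hRw _ (hgR _), hRv _ (hgR _), CharTwo.add_self_eq_zero] at h ⊢
    · rintro (i | i)
      · simpa using D.ef i i
      · fin_cases i <;> simp [polar_add_left, hv, polar_comm (⇑Q) v w, polar_comm (⇑Q) (g _) w,
          polar_comm (⇑Q) (g _) v, hRw _ (hgR _), hRv _ (hgR _)]
    · rintro (i | i) (j | j) h
      · simpa [D.ef] using h
      · fin_cases j <;> simp [polar_comm (⇑Q) (D.e _) w, polar_comm (⇑Q) (D.e _) v, hRw _ (D.he _), hRv _ (D.he _)]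
      · fin_cases i <;> simp [polar_add_left, polar_comm (⇑Q) (g _) (D.f _), D.fk _ _ (hg _), hRw _ (D.hf _),
          hRv _ (D.hf _)]
      · fin_cases i <;> fin_cases j <;>
          simp [polar_add_left, polar_self_zero, polar_comm (⇑Q) (g _) w, polar_comm (⇑Q) (g _) v, hRw _ (hgR _),
            hRv _ (hgR _), CharTwo.two_eq_zero] at h ⊢

/-- A square root of a function that is additive and scales by squares. -/
theorem exists_root {W : Type u} [AddCommGroup W] [Module F W] (D : W → F) (hadd : ∀ x y, D (x + y) = D x + D y)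
    (hsmul : ∀ (c : F) x, D (c • x) = c ^ 2 * D x) : ∃ s : W →ₗ[F] F, ∀ x, s x ^ 2 = D x := by
  haveI : Fact (Nat.Prime 2) := ⟨Nat.prime_two⟩
  refine ⟨{ toFun := fun x => (frobeniusEquiv F 2).symm (D x)
            map_add' := fun x y => by rw [hadd, map_add]
            map_smul' := fun c x => by
              rw [hsmul, map_mul, RingHom.id_apply, smul_eq_mul, ← frobeniusEquiv_def, RingEquiv.symm_apply_apply] },
    fun x => frobeniusEquiv_symm_pow_p F 2 (D x)⟩

/-- An involution preserves some quadratic form with the given polar form. -/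
theorem exists_invariant (x : GL (Fin d ⊕ Fin d) F) (hx : x ∈ Cfsg.spGL d F) (hx2 : x ^ 2 = 1) :
    ∃ Q : QuadraticForm F V, (∀ u v, polar (⇑Q) u v = Cfsg.sympForm d F u v) ∧
      ∀ v, Q ((x : Matrix _ _ F).mulVec v) = Q v := by
  classical
  let X : Matrix (Fin d ⊕ Fin d) (Fin d ⊕ Fin d) F := x
  let Q0 := HypQuad.plusForm d F
  have hB : ∀ u v, polar (⇑Q0) (X.mulVec u) (X.mulVec v) = polar (⇑Q0) u v := fun u v => by
    rw [plus_polar, plus_polar]; exact hx u v
  have hsq : ∀ v, X.mulVec (X.mulVec v) = v := fun v => by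
    rw [Matrix.mulVec_mulVec, show X * X = 1 by rw [← Units.val_mul, ← _root_.sq, hx2]; rfl, Matrix.one_mulVec]
  let N : V →ₗ[F] V := Matrix.toLin' X + LinearMap.id
  have hN : ∀ v, N v = X.mulVec v + v := fun v => by simp [N]
  have hadj : ∀ u v, polar (⇑Q0) (N u) v = polar (⇑Q0) u (N v) := fun u v => by
    rw [hN, hN, polar_add_left, polar_add_right]
    conv_lhs => rw [← hB (X.mulVec u) v, hsq]
  have htwo : ∀ z : V, z + z = 0 := fun z => funext fun i => CharTwo.add_self_eq_zero (z i)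
  have hNN : ∀ v, N (N v) = 0 := fun v => by
    rw [hN, hN, Matrix.mulVec_add, hsq, add_comm v, htwo]
  obtain ⟨s, hs⟩ := exists_root (F := F) (fun v : V => Q0 (N v) + polar (⇑Q0) v (N v))
    (fun u v => by
      rw [map_add, QuadraticMap.map_add (f := Q0), polar_add_left, polar_add_right, polar_add_right,
        hadj u (N v), hNN, polar_zero_right, polar_comm (⇑Q0) v (N u), hadj u v]
      linear_combination polar (⇑Q0) u (N v) * (CharTwo.two_eq_zero (R := F)))
    (fun c v => by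
      rw [map_smul, QuadraticMap.map_smul, polar_smul_left, polar_smul_right]
      simp only [smul_eq_mul]
      ring)
  have hker : LinearMap.ker N ≤ LinearMap.ker s := fun v hv => by
    rw [LinearMap.mem_ker] at hv ⊢
    refine pow_eq_zero_iff two_ne_zero |>.mp ?_
    rw [hs, hv, QuadraticMap.map_zero, polar_zero_right, add_zero]
  obtain ⟨L, hL⟩ := LinearMap.exists_extend
    (((LinearMap.ker N).liftQ s hker).comp N.quotKerEquivRange.symm.toLinearMap)
  have hLN : ∀ v, L (N v) = s v := fun v => by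
    have := LinearMap.congr_fun hL ⟨N v, LinearMap.mem_range_self N v⟩
    simp only [LinearMap.comp_apply, Submodule.subtype_apply, LinearEquiv.coe_coe] at this
    rw [this, LinearMap.quotKerEquivRange_symm_apply_image N v (LinearMap.mem_range_self N v)]
    rfl
  refine ⟨Q0 + QuadraticMap.linMulLin L L, fun u v => ?_, fun v => ?_⟩
  · rw [← plus_polar u v]
    simp only [polar, QuadraticMap.add_apply, QuadraticMap.linMulLin_apply, map_add]
    linear_combination L u * L v * (CharTwo.two_eq_zero (R := F))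
  · show (Q0 + QuadraticMap.linMulLin L L) (X.mulVec v) = _
    have hXv : X.mulVec v = v + N v := by rw [hN, add_left_comm, htwo, add_zero]
    have h2 := hs v
    simp only [QuadraticMap.add_apply, QuadraticMap.linMulLin_apply, hXv, map_add, QuadraticMap.map_add (f := Q0), hLN]
    linear_combination h2 + (L v * s v + Q0 (N v) + polar (⇑Q0) v (N v)) * (CharTwo.two_eq_zero (R := F))

/-- Conjugation into the group of a given form. -/
theorem conj_into (hd : 1 ≤ d) (Q Q' : QuadraticForm F V) (hQ : ∀ u v, polar (⇑Q) u v = Cfsg.sympForm d F u v)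
    (hQ' : ∀ u v, polar (⇑Q') u v = Cfsg.sympForm d F u v) (h : Plus Q ↔ Plus Q') (x : GL (Fin d ⊕ Fin d) F)
    (hx : ∀ v, Q' ((x : Matrix _ _ F).mulVec v) = Q' v) :
    ∃ g ∈ Cfsg.spGL d F, g⁻¹ * x * g ∈ Cfsg.Geo.quadSimilarityGroup (⇑Q) := by
  obtain ⟨g, hg⟩ := equiv_same hd Q Q' (nd_of_polar Q hQ) (nd_of_polar Q' hQ') h
  let G : GL (Fin d ⊕ Fin d) F := ⟨LinearMap.toMatrix' g.toLinearMap, LinearMap.toMatrix' g.symm.toLinearMap,
    by rw [← LinearMap.toMatrix'_comp]; simp, by rw [← LinearMap.toMatrix'_comp]; simp⟩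
  have hG : ∀ v, (G : Matrix _ _ F).mulVec v = g v := fun v => LinearMap.toMatrix'_mulVec _ v
  have hGi : ∀ v, ((G⁻¹ : GL (Fin d ⊕ Fin d) F) : Matrix _ _ F).mulVec v = g.symm v := fun v =>
    LinearMap.toMatrix'_mulVec _ v
  refine ⟨G, fun u v => ?_, 1, fun v => ?_⟩
  · show Cfsg.sympForm d F ((G : Matrix _ _ F).mulVec u) ((G : Matrix _ _ F).mulVec v) = _
    rw [hG, hG, ← hQ', ← hQ, polar, polar, ← map_add, ← hg, ← hg, ← hg]
  · rw [Units.val_mul, Units.val_mul, ← Matrix.mulVec_mulVec, ← Matrix.mulVec_mulVec, hG, hGi, hg, g.apply_symm_apply,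
      hx, ← hg]
    simp

/-- A conjugate in the group of `Q` gives an invariant form of the same type. -/
theorem of_conj (Q : QuadraticForm F V) (hQ : ∀ u v, polar (⇑Q) u v = Cfsg.sympForm d F u v) (hd : 1 ≤ d)
    (x g : GL (Fin d ⊕ Fin d) F) (hx : x ∈ Cfsg.spGL d F) (hg : g ∈ Cfsg.spGL d F)
    (h : g⁻¹ * x * g ∈ Cfsg.Geo.quadSimilarityGroup (⇑Q)) :
    ∃ Q' : QuadraticForm F V, (∀ u v, polar (⇑Q') u v = Cfsg.sympForm d F u v) ∧ (Plus Q ↔ Plus Q') ∧
      ∀ v, Q' ((x : Matrix _ _ F).mulVec v) = Q' v := by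
  classical
  obtain ⟨c, hc⟩ := h
  let Gi : V →ₗ[F] V := Matrix.toLin' ((g⁻¹ : GL (Fin d ⊕ Fin d) F) : Matrix _ _ F)
  have hgi : ∀ u v, Cfsg.sympForm d F (Gi u) (Gi v) = Cfsg.sympForm d F u v := fun u v => by
    have := (Cfsg.spGL d F).inv_mem hg u v
    simpa [Gi] using this
  have hpol : ∀ u v, polar (⇑(Q.comp Gi)) u v = Cfsg.sympForm d F u v := fun u v => by
    rw [← hgi, ← hQ]; simp [polar]
  have hsim : ∀ v, Q.comp Gi ((x : Matrix _ _ F).mulVec v) = (c : F) * Q.comp Gi v := fun v => by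
    have := hc (Gi v)
    simp only [Gi, Matrix.toLin'_apply, Matrix.mulVec_mulVec] at this
    rw [← Units.val_mul, mul_inv_cancel_right, Units.val_mul] at this
    simpa [Gi, QuadraticMap.comp_apply, Matrix.mulVec_mulVec] using this
  have hc1 : (c : F) = 1 := by
    obtain ⟨i⟩ : Nonempty (Fin d) := ⟨⟨0, hd⟩⟩
    have h1 := hx (Pi.single (Sum.inl i) 1) (Pi.single (Sum.inr i) 1)
    change Cfsg.sympForm d F ((x : Matrix (Fin d ⊕ Fin d) (Fin d ⊕ Fin d) F).mulVec _) ((x : Matrix (Fin d ⊕ Fin d) (Fin d ⊕ Fin d) F).mulVec _) = _ at h1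
    rw [← hpol, ← hpol, polar, ← Matrix.mulVec_add, hsim, hsim, hsim, ← mul_sub, ← mul_sub, ← polar, hpol, symp_eq] at h1
    simpa [Finset.sum_add_distrib, Pi.single_apply] using h1
  refine ⟨Q.comp Gi, hpol, ?_, fun v => by rw [hsim, hc1, one_mul]⟩
  let e : V ≃ₗ[F] V := LinearEquiv.ofLinearMap (Matrix.toLin' (g : Matrix _ _ F)) Gi
    (by rw [← Matrix.toLin'_mul, ← Units.val_mul, mul_inv_cancel, Units.val_one, Matrix.toLin'_one])
    (by rw [← Matrix.toLin'_mul, ← Units.val_mul, inv_mul_cancel, Units.val_one, Matrix.toLin'_one])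
  constructor
  · rintro ⟨W, hWd, hW⟩
    refine ⟨W.map e.toLinearMap, (LinearEquiv.finrank_map_eq e W).trans hWd, ?_⟩
    rintro _ ⟨w, hw, rfl⟩
    show Q (Gi (e w)) = 0
    rw [show Gi (e w) = w from e.symm_apply_apply w]
    exact hW w hw
  · rintro ⟨W, hWd, hW⟩
    refine ⟨W.map e.symm.toLinearMap, (LinearEquiv.finrank_map_eq e.symm W).trans hWd, ?_⟩
    rintro _ ⟨w, hw, rfl⟩
    exact hW w hw

/-- A fixed-point-free element preserves one form only. -/
theorem unique_form (Q Q' : QuadraticForm F V) (h : ∀ u v, polar (⇑Q) u v = polar (⇑Q') u v)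
    (X : Matrix (Fin d ⊕ Fin d) (Fin d ⊕ Fin d) F) (hX : ∀ v, Q (X.mulVec v) = Q v) (hX' : ∀ v, Q' (X.mulVec v) = Q' v)
    (hfix : ∀ v, X.mulVec v = v → v = 0) : Q = Q' := by
  obtain ⟨s, hs⟩ := exists_root (F := F) (fun v : V => Q v + Q' v)
    (fun u v => by
      rw [QuadraticMap.map_add (f := Q), QuadraticMap.map_add (f := Q'), h]
      linear_combination polar (⇑Q') u v * (CharTwo.two_eq_zero (R := F)))
    (fun c v => by rw [QuadraticMap.map_smul, QuadraticMap.map_smul, smul_eq_mul, smul_eq_mul]; ring)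
  let T : V →ₗ[F] V := Matrix.toLin' X + LinearMap.id
  have hT : Function.Surjective T := by
    refine LinearMap.surjective_of_injective ?_
    rw [← LinearMap.ker_eq_bot, eq_bot_iff]
    intro v hv
    refine (Submodule.mem_bot F).mpr (hfix v ?_)
    have : X.mulVec v + v = 0 := by simpa [T] using hv
    funext i
    exact CharTwo.add_eq_zero.mp (congrFun this i)
  ext v
  obtain ⟨u, rfl⟩ := hT v
  have h0 : s (T u) = 0 := by
    refine pow_eq_zero_iff two_ne_zero |>.mp ?_
    have e : T u = X.mulVec u + u := by simp [T]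
    have := hs u
    rw [e, map_add, CharTwo.add_sq, hs, hs, hX, hX', CharTwo.add_self_eq_zero]
  have := hs (T u)
  rw [h0, zero_pow two_ne_zero] at this
  exact CharTwo.add_eq_zero.mp this.symm

/-- The reindexing for the minus form. -/
noncomputable def rho (hd : 1 ≤ d) : (Fin (d - 1) ⊕ Fin (d - 1)) ⊕ Fin 2 ≃ Fin d ⊕ Fin d :=
  let e : Fin (d - 1) ⊕ Fin 1 ≃ Fin d := finSumFinEquiv.trans (finCongr (by omega))
  (((Equiv.refl _).sumCongr finSumFinEquiv.symm).trans (Equiv.sumSumSumComm _ _ _ _)).trans (e.sumCongr e)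

/-- The standard minus form on the symplectic space. -/
noncomputable def Qm (hd : 1 ≤ d) (ε : F) : QuadraticForm F V :=
  (Refl.minusForm (d - 1) F 1 ε).comp (LinearMap.funLeft F F (rho hd))

theorem Qm_polar (hd : 1 ≤ d) (ε : F) (u v : V) : polar (⇑(Qm hd ε)) u v = Cfsg.sympForm d F u v := by
  classical
  let e : Fin (d - 1) ⊕ Fin 1 ≃ Fin d := finSumFinEquiv.trans (finCongr (by omega))
  have h1 : ∀ i, rho hd (Sum.inl (Sum.inl i)) = Sum.inl (e (Sum.inl i)) := fun i => rfl
  have h2 : ∀ i, rho hd (Sum.inl (Sum.inr i)) = Sum.inr (e (Sum.inl i)) := fun i => rfl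
  have h3 : rho hd (Sum.inr 0) = Sum.inl (e (Sum.inr 0)) := rfl
  have h4 : rho hd (Sum.inr 1) = Sum.inr (e (Sum.inr 0)) := rfl
  rw [symp_eq, ← e.sum_comp, Fintype.sum_sum_type, Fin.sum_univ_one]
  simp only [polar, Qm, QuadraticMap.comp_apply, Refl.minusForm_coe, Cfsg.quadFormMinus, LinearMap.funLeft_apply,
    h1, h2, h3, h4, Pi.add_apply, map_add]
  have hsum : ∑ i, (u (Sum.inl (e (Sum.inl i))) + v (Sum.inl (e (Sum.inl i)))) *
      (u (Sum.inr (e (Sum.inl i))) + v (Sum.inr (e (Sum.inl i)))) =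
      ∑ i, u (Sum.inl (e (Sum.inl i))) * u (Sum.inr (e (Sum.inl i))) +
      ∑ i, v (Sum.inl (e (Sum.inl i))) * v (Sum.inr (e (Sum.inl i))) +
      ∑ i, (u (Sum.inl (e (Sum.inl i))) * v (Sum.inr (e (Sum.inl i))) +
        u (Sum.inr (e (Sum.inl i))) * v (Sum.inl (e (Sum.inl i)))) := by
    rw [← Finset.sum_add_distrib, ← Finset.sum_add_distrib]
    exact Finset.sum_congr rfl fun i _ => by ring
  rw [hsum]
  linear_combination (u (Sum.inl (e (Sum.inr 0))) * v (Sum.inl (e (Sum.inr 0))) +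
    ε * u (Sum.inr (e (Sum.inr 0))) * v (Sum.inr (e (Sum.inr 0)))) * (CharTwo.two_eq_zero (R := F))

theorem Qm_not_plus (hd : 1 ≤ d) {ε : F} (hε : ∀ t : F, t ^ 2 + t + ε ≠ 0) : ¬ Plus (Qm hd ε) := by
  rintro ⟨W, hWd, hW⟩
  have hab : ∀ x y : F, x ^ 2 + 1 * x * y + ε * y ^ 2 = 0 → x = 0 ∧ y = 0 := fun x y h => by
    by_cases hy : y = 0
    · subst hy
      exact ⟨pow_eq_zero_iff two_ne_zero |>.mp (by linear_combination h), rfl⟩
    · refine absurd ?_ (hε (x / y))
      field_simp
      linear_combination h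
  let g : V ≃ₗ[F] ((Fin (d - 1) ⊕ Fin (d - 1)) ⊕ Fin 2 → F) := LinearEquiv.funCongrLeft F F (rho hd)
  refine NsPoint.minus_no_half d hd 1 ε hab (W.map g.toLinearMap) ((LinearEquiv.finrank_map_eq g W).trans hWd) ?_
  rintro _ ⟨w, hw, rfl⟩
  exact hW w hw

/-- Fixed-point-free elements of order `r` on the plus form. -/
theorem plus_element (hd : 1 ≤ d) {r : ℕ} [Fact r.Prime] (hr2 : r ≠ 2) (hdiv : r ∣ Fintype.card F ^ d - 1) :
    ∃ X : Matrix (Fin d ⊕ Fin d) (Fin d ⊕ Fin d) F, X ^ r = 1 ∧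
      (∀ v, HypQuad.plusForm d F (X.mulVec v) = HypQuad.plusForm d F v) ∧ ∀ v, X.mulVec v = v → v = 0 := by
  classical
  haveI : Fact (Nat.Prime 2) := ⟨Nat.prime_two⟩
  have hrp : r.Prime := Fact.out
  have hrF : ¬ r ∣ Fintype.card F := not_dvd_card (p := 2) hrp hr2
  have hrc : (r : F) ≠ 0 := cast_ne_zero (p := 2) hrp hr2
  obtain ⟨M, hMr, hMfix⟩ : ∃ M : Matrix (Fin d) (Fin d) F, M ^ r = 1 ∧ ∀ v, M.mulVec v = v → v = 0 := by
    rcases Nat.lt_or_ge (orderOf (Fintype.card F : ZMod r)) 2 with he | he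
    · have h1 : r ∣ Fintype.card Fˣ := by
        rw [Fintype.card_units, ← pow_one (Fintype.card F), dvd_pow_sub_one]
        have := ord_pos hrF
        rw [Nat.dvd_one]
        omega
      obtain ⟨ζ, hζ⟩ := exists_prime_orderOf_dvd_card r h1
      refine ⟨(ζ : F) • 1, ?_, fun v hv => ?_⟩
      · rw [_root_.smul_pow, one_pow, ← Units.val_pow_eq_pow_val, ← hζ, pow_orderOf_eq_one, Units.val_one, one_smul]
      · rw [Matrix.smul_mulVec, Matrix.one_mulVec] at hv
        by_contra h0
        exact hrp.ne_one (by rw [← hζ, orderOf_eq_one_iff]; exact Units.ext (smul_left_injective F h0 (hv.trans (one_smul F v).symm)))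
    · have hed := (dvd_pow_sub_one d).mp hdiv
      obtain ⟨M, -, hM, -, hk⟩ := exists_example (n := d) hrc hrF he (Nat.le_of_dvd (by omega) hed)
      rw [Nat.mod_eq_zero_of_dvd hed, Nat.le_zero] at hk
      exact ⟨M, hM, fun v hv => (Submodule.mem_bot F).mp (finrank_eq_zero.mp hk ▸ mem_fix.mpr (by simpa using hv))⟩
  let N := (M ^ (r - 1)).transpose
  refine ⟨Matrix.fromBlocks M 0 0 N, ?_, fun v => ?_, fun v hv => ?_⟩
  · have h : ∀ j : ℕ, (Matrix.fromBlocks M 0 0 N) ^ j = Matrix.fromBlocks (M ^ j) 0 0 (N ^ j) := by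
      intro j
      induction j with
      | zero => simp [← Matrix.fromBlocks_one]
      | succ j ih =>
        rw [pow_succ, ih]
        simp [Matrix.fromBlocks_multiply, pow_succ]
    rw [h, hMr, ← Matrix.transpose_pow, ← pow_mul, mul_comm, pow_mul, hMr, one_pow, Matrix.transpose_one,
      Matrix.fromBlocks_one]
  · have hMN : M.transpose * N = 1 := by
      rw [← Matrix.transpose_mul, ← pow_succ, Nat.sub_add_cancel hrp.pos, hMr, Matrix.transpose_one]
    rw [HypQuad.plusForm_apply, HypQuad.plusForm_apply, Matrix.fromBlocks_mulVec]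
    simp only [Cfsg.quadFormPlus, Sum.elim_inl, Sum.elim_inr, Matrix.zero_mulVec, add_zero, zero_add]
    show dotProduct (M.mulVec (v ∘ Sum.inl)) (N.mulVec (v ∘ Sum.inr)) = dotProduct (v ∘ Sum.inl) (v ∘ Sum.inr)
    rw [← Matrix.vecMul_transpose, ← Matrix.dotProduct_mulVec, Matrix.mulVec_mulVec, hMN, Matrix.one_mulVec]
  · rw [Matrix.fromBlocks_mulVec] at hv
    have h1 : v ∘ Sum.inl = 0 := hMfix _ (funext fun i => by simpa using congrFun hv (Sum.inl i))
    have h2 : N.mulVec (v ∘ Sum.inr) = v ∘ Sum.inr := funext fun i => by simpa using congrFun hv (Sum.inr i)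
    have hMN : M.transpose * N = 1 := by
      rw [← Matrix.transpose_mul, ← pow_succ, Nat.sub_add_cancel hrp.pos, hMr, Matrix.transpose_one]
    have h3 : M.transpose.mulVec (v ∘ Sum.inr) = v ∘ Sum.inr := by
      conv_lhs => rw [← h2]
      rw [Matrix.mulVec_mulVec, hMN, Matrix.one_mulVec]
    have h4 : v ∘ Sum.inr = 0 := by
      by_contra h0
      have h5 : (M.transpose - 1).det = 0 := Matrix.exists_mulVec_eq_zero_iff.mp
        ⟨_, h0, by rw [Matrix.sub_mulVec, Matrix.one_mulVec, h3, sub_self]⟩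
      rw [show M.transpose - 1 = (M - 1).transpose by rw [Matrix.transpose_sub, Matrix.transpose_one],
        Matrix.det_transpose] at h5
      obtain ⟨w, hw0, hw⟩ := Matrix.exists_mulVec_eq_zero_iff.mpr h5
      rw [Matrix.sub_mulVec, Matrix.one_mulVec, sub_eq_zero] at hw
      exact hw0 (hMfix w hw)
    funext i
    rcases i with i | i
    · exact congrFun h1 i
    · exact congrFun h4 i

/-- Fixed-point-free elements of order `r` on the minus form. -/
theorem minus_element (hd : 2 ≤ d) {ε : F} (hε : ∀ t : F, t ^ 2 + t + ε ≠ 0) {r : ℕ} [Fact r.Prime]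
    (hdiv : r ∣ Fintype.card F ^ d + 1) :
    ∃ X : Matrix (Fin d ⊕ Fin d) (Fin d ⊕ Fin d) F, X ^ r = 1 ∧
      (∀ v, Qm (show 1 ≤ d by omega) ε (X.mulVec v) = Qm (show 1 ≤ d by omega) ε v) ∧ ∀ v, X.mulVec v = v → v = 0 := by
  classical
  obtain ⟨K, _, _, _, P, T, hP, hKd, hPz, hTr, hTP, hTfix⟩ := NsPoint.exists_model (by omega) hdiv
  obtain ⟨D⟩ := exists_decomp (Q := P) (Module.finrank F K) ⊤ (finrank_top F K) (nd_top P hP)
  have h1 := D.dim
  have s1 := D.small
  rw [finrank_top, hKd] at h1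
  have hKn : Module.finrank F D.K ≠ 0 := fun h0 => by
    obtain ⟨g, hg⟩ := FormNormal.plus_equiv D (k := d) (by omega) h0
    refine (NsPoint.not_plus_count (q := Fintype.card F) hd Fintype.one_lt_card).1 ?_
    have hz := OrthCard.count_plus (F := F) d (by omega)
    rw [Nat.card_eq_fintype_card (α := F)] at hz
    rw [← hz, ← Nat.card_congr (g.toEquiv.subtypeEquiv (fun z => by rw [hg z]; rfl) :
      {z : K // P z = 0} ≃ {v // Cfsg.quadFormPlus d F v = 0})]
    exact hPz
  obtain ⟨g₀, hg₀⟩ := FormNormal.minus_equiv D (k := d - 1) (by omega) (by omega) hε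
  let g : K ≃ₗ[F] V := g₀ ≪≫ₗ (LinearEquiv.funCongrLeft F F (rho (show 1 ≤ d by omega))).symm
  have hg : ∀ z, P z = Qm (show 1 ≤ d by omega) ε (g z) := fun z => by
    rw [hg₀ z, ← Refl.minusForm_coe, Qm, QuadraticMap.comp_apply]
    congr 1
    funext i
    simp [g, LinearMap.funLeft_apply, LinearEquiv.funCongrLeft_symm]
  let X := LinearMap.toMatrix' (g.conj T)
  have hX : ∀ v, X.mulVec v = g (T (g.symm v)) := fun v => by
    simp [X, LinearMap.toMatrix'_mulVec, LinearEquiv.conj_apply]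
  refine ⟨X, ?_, fun v => by rw [hX, ← hg, hTP, hg, g.apply_symm_apply], fun v hv => ?_⟩
  · have h : ∀ j : ℕ, ∀ v, (X ^ j).mulVec v = g ((T ^ j) (g.symm v)) := by
      intro j
      induction j with
      | zero => simp
      | succ j ih => intro v; rw [pow_succ', ← Matrix.mulVec_mulVec, ih, hX, pow_succ']; simp
    exact Matrix.ext_of_mulVec_single fun i => by rw [h, hTr, Module.End.one_apply, g.apply_symm_apply, Matrix.one_mulVec]
  · have h3 : T (g.symm v) = g.symm v := g.injective (by rw [← hX, g.apply_symm_apply]; exact hv)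
    rw [← g.apply_symm_apply v, hTfix _ h3, map_zero]

/-- The prime divisors of the index. -/
theorem index_div (hd : 2 ≤ d) (Q : QuadraticForm F V) (hQ : ∀ u v, polar (⇑Q) u v = Cfsg.sympForm d F u v) {r : ℕ}
    (hr : r.Prime) (hr2 : r ≠ 2)
    (hΩ : r ∣ (Cfsg.Geo.quadSimilarityGroup (⇑Q)).relIndex (Cfsg.spGL d F)) :
    (Plus Q → r ∣ Fintype.card F ^ d + 1) ∧ (¬ Plus Q → r ∣ Fintype.card F ^ d - 1) := by
  classical
  haveI : Fact (Nat.Prime 2) := ⟨Nat.prime_two⟩
  have hrF : ¬ r ∣ Fintype.card F := not_dvd_card (p := 2) hr hr2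
  set H := Cfsg.Geo.quadSimilarityGroup (⇑Q)
  have hmem : ∀ g : GL (Fin d ⊕ Fin d) F, g ∈ Cfsg.spGL d F ∧ g ∈ H ↔ g ∈ Cfsg.isometryGroup F (⇑Q) := by
    intro g
    rw [Refl.mem_iff Q]
    constructor
    · rintro ⟨hs, c, hc⟩
      have hc1 : (c : F) = 1 := by
        obtain ⟨i⟩ : Nonempty (Fin d) := ⟨⟨0, by omega⟩⟩
        have h1 := hs (Pi.single (Sum.inl i) 1) (Pi.single (Sum.inr i) 1)
        change Cfsg.sympForm d F ((g : Matrix (Fin d ⊕ Fin d) (Fin d ⊕ Fin d) F).mulVec _) ((g : Matrix (Fin d ⊕ Fin d) (Fin d ⊕ Fin d) F).mulVec _) = _ at h1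
        rw [← hQ, ← hQ, polar, ← Matrix.mulVec_add, hc, hc, hc, ← mul_sub, ← mul_sub, ← polar, hQ, symp_eq] at h1
        simpa [Finset.sum_add_distrib, Pi.single_apply] using h1
      intro v
      rw [hc, hc1, one_mul]
    · intro h
      refine ⟨fun u v => ?_, 1, fun v => by rw [Units.val_one, one_mul]; exact h v⟩
      show Cfsg.sympForm d F ((g : Matrix (Fin d ⊕ Fin d) (Fin d ⊕ Fin d) F).mulVec u) ((g : Matrix (Fin d ⊕ Fin d) (Fin d ⊕ Fin d) F).mulVec v) = _
      rw [← hQ, ← hQ, polar, polar, ← Matrix.mulVec_add, h, h, h]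
  have hcard : Nat.card (H.subgroupOf (Cfsg.spGL d F)) = Nat.card (Cfsg.isometryGroup F (⇑Q)) :=
    Nat.card_congr
      { toFun := fun g => ⟨(g.1 : GL (Fin d ⊕ Fin d) F), (hmem _).mp ⟨g.1.2, g.2⟩⟩
        invFun := fun g => ⟨⟨g.1, ((hmem _).mpr g.2).1⟩, ((hmem _).mpr g.2).2⟩
        left_inv := fun g => rfl
        right_inv := fun g => rfl }
  have hsp : Nat.card (Cfsg.spGL d F) = Fintype.card F ^ (d ^ 2) * OrthCard.prodQ (Fintype.card F) d := by
    rw [← range_sympToGL, ← Nat.card_congr (MonoidHom.ofInjective (f := sympToGL d F) ?_).toEquiv,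
      ← Nat.card_congr (sympEquiv d F).toEquiv, card_symplecticGroup, Nat.card_eq_fintype_card]
    · rfl
    · intro a b h
      refine Subtype.ext (LinearEquiv.ext fun v => ?_)
      have := congrArg (fun z : GL (Fin d ⊕ Fin d) F => (z : Matrix (Fin d ⊕ Fin d) (Fin d ⊕ Fin d) F).mulVec v) h
      simpa [sympToGL_mulVec] using this
  obtain ⟨t, ht⟩ := hΩ
  have hmul : Nat.card (Cfsg.isometryGroup F (⇑Q)) * (r * t) = Nat.card (Cfsg.spGL d F) := by
    rw [← hcard, ← ht, Subgroup.relIndex, Subgroup.card_mul_index]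
  have htr : ∀ Q' : QuadraticForm F V, (∀ u v, polar (⇑Q') u v = Cfsg.sympForm d F u v) → (Plus Q ↔ Plus Q') →
      Nat.card (Cfsg.isometryGroup F (⇑Q)) = Nat.card (OrthCard.Aut Q') := fun Q' hQ' h => by
    obtain ⟨g, hg⟩ := equiv_same (by omega) Q Q' (nd_of_polar Q hQ) (nd_of_polar Q' hQ') h
    rw [OrthCard.card_isometryGroup, OrthCard.card_congr Q Q' g fun v => (hg v).symm]
  obtain ⟨k, rfl⟩ : ∃ k, d = k + 1 := ⟨d - 1, by omega⟩
  rw [hsp, OrthCard.prodQ_succ, show Fintype.card F ^ (2 * (k + 1)) - 1 =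
    (Fintype.card F ^ (k + 1) + 1) * (Fintype.card F ^ (k + 1) - 1) from (OrthCard.sq_pow_sub_one _ _).symm] at hmul
  set q := Fintype.card F
  have hq : 1 < q := Fintype.one_lt_card
  have hP0 : 0 < OrthCard.prodQ q k := Finset.prod_pos fun i _ => Nat.sub_pos_of_lt (Nat.one_lt_pow (by omega) hq)
  have hexp : q ^ ((k + 1) ^ 2) = q ^ ((k + 1) * k) * q ^ (k + 1) := by rw [← pow_add]; congr 1; ring
  have hq0 : 0 < q ^ ((k + 1) * k) := pow_pos (by omega) _
  have fin : ∀ A : ℕ, 2 * (r * t) = q ^ (k + 1) * A → r ∣ A := fun A h => by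
    have : r ∣ q ^ (k + 1) * A := ⟨2 * t, by rw [← h]; ring⟩
    exact (hr.dvd_mul.mp this).resolve_left fun hd' => hrF (hr.dvd_of_dvd_pow hd')
  constructor
  · intro hp
    rw [htr (HypQuad.plusForm (k + 1) F) plus_polar (iff_of_true hp plus_plus), ← OrthCard.card_isometryGroup,
      show (⇑(HypQuad.plusForm (k + 1) F)) = Cfsg.quadFormPlus (k + 1) F from funext (HypQuad.plusForm_apply _),
      OrthCard.card_plus, Nat.card_eq_fintype_card] at hmul
    refine fin _ ?_
    have hB : 0 < q ^ (k + 1) - 1 := Nat.sub_pos_of_lt (Nat.one_lt_pow (by omega) hq)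
    refine Nat.eq_of_mul_eq_mul_left (Nat.mul_pos (Nat.mul_pos hq0 hB) hP0) ?_
    rw [hexp] at hmul
    linear_combination hmul
  · intro hp
    obtain ⟨ε, -, hε⟩ := exists_eps (F := F)
    have hab : ∀ x y : F, x ^ 2 + 1 * x * y + ε * y ^ 2 = 0 → x = 0 ∧ y = 0 := fun x y h => by
      by_cases hy : y = 0
      · subst hy
        exact ⟨pow_eq_zero_iff two_ne_zero |>.mp (by linear_combination h), rfl⟩
      · refine absurd ?_ (hε (x / y))
        field_simp
        linear_combination h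
    rw [htr (Qm (Nat.le_add_left 1 k) ε) (Qm_polar _ _) (iff_of_false hp (Qm_not_plus _ hε)),
      OrthCard.card_congr (Qm (Nat.le_add_left 1 k) ε) (Refl.minusForm k F 1 ε)
        (LinearEquiv.funCongrLeft F F (rho (Nat.le_add_left 1 k))) (fun v => rfl),
      ← OrthCard.card_isometryGroup, Refl.minusForm_coe, OrthCard.card_minus hab, Nat.card_eq_fintype_card] at hmul
    refine fin _ ?_
    have hB : 0 < q ^ (k + 1) + 1 := Nat.succ_pos _
    refine Nat.eq_of_mul_eq_mul_left (Nat.mul_pos (Nat.mul_pos hq0 hB) hP0) ?_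
    rw [hexp] at hmul
    linear_combination hmul

set_option maxHeartbeats 1600000 in
/-- Elements of prime order of `Sp` preserving a form of the given type. -/
theorem main (hd : 2 ≤ d) (Q : (Fin d ⊕ Fin d → F) → F) (hQ : Cfsg.Geo.IsNondegenerateQuadraticForm Q)
    (hQf : ∀ u v, QuadraticMap.polar Q u v = Cfsg.sympForm d F u v) (r : ℕ) [Fact r.Prime]
    (hΩ : r ∣ (Cfsg.Geo.quadSimilarityGroup Q).relIndex (Cfsg.spGL d F)) :
    (∀ x ∈ Cfsg.spGL d F, (∃ z : F, ((x ^ r : GL (Fin d ⊕ Fin d) F) : Matrix (Fin d ⊕ Fin d) (Fin d ⊕ Fin d) F) = z • (1 : Matrix (Fin d ⊕ Fin d) (Fin d ⊕ Fin d) F)) →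
      (∀ z : F, (x : Matrix (Fin d ⊕ Fin d) (Fin d ⊕ Fin d) F) ≠ z • (1 : Matrix (Fin d ⊕ Fin d) (Fin d ⊕ Fin d) F)) →
      ∃ g ∈ Cfsg.spGL d F, g⁻¹ * x * g ∈ Cfsg.Geo.quadSimilarityGroup Q) ↔
    (r = 2 ∧ (Cfsg.Geo.IsPlusTypeOn Q ⊤ ∨ Odd d)) := by
  classical
  obtain ⟨Q, rfl, -⟩ := Refl.exists_form hQ
  rw [plus_iff]
  have hrp : r.Prime := Fact.out
  haveI : Fact (Nat.Prime 2) := ⟨Nat.prime_two⟩
  obtain ⟨ε, -, hε⟩ := exists_eps (F := F)
  have hn : Fintype.card (Fin d ⊕ Fin d) = 2 * d := by simp [two_mul]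
  constructor
  · intro hall
    rcases eq_or_ne r 2 with rfl | hr2
    · refine ⟨rfl, ?_⟩
      by_contra hne
      push Not at hne
      obtain ⟨hnp, hde⟩ := hne
      obtain ⟨h, rfl⟩ := (Nat.not_odd_iff_even.mp hde).two_dvd
      let e : Fin (2 * h) ≃ Fin h × Fin 2 := Fintype.equivOfCardEq (by simp [mul_comm])
      let π : Equiv.Perm (Fin (2 * h)) := e.symm.permCongr (Equiv.prodCongr (Equiv.refl _) (Equiv.swap 0 1))
      have hππ : ∀ i, π (π i) = i := fun i => by simp [π, Equiv.permCongr_apply, Prod.map]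
      let A : Matrix (Fin (2 * h)) (Fin (2 * h)) F := π.permMatrix F
      let X : Matrix (Fin (2 * h) ⊕ Fin (2 * h)) (Fin (2 * h) ⊕ Fin (2 * h)) F := Matrix.fromBlocks 1 A 0 1
      have hXX : X ^ 2 = 1 := by
        rw [_root_.sq, Matrix.fromBlocks_multiply, ← Matrix.fromBlocks_one]
        simp [← two_smul F A, CharTwo.two_eq_zero]
      let x : GL (Fin (2 * h) ⊕ Fin (2 * h)) F := ⟨X, X, by rw [← _root_.sq, hXX], by rw [← _root_.sq, hXX]⟩
      have hmv : ∀ v, X.mulVec v = Sum.elim (v ∘ Sum.inl + (v ∘ Sum.inr) ∘ π) (v ∘ Sum.inr) := fun v => by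
        rw [Matrix.fromBlocks_mulVec, Matrix.permMatrix_mulVec]
        simp
      have hxsp : x ∈ Cfsg.spGL (2 * h) F := fun u v => by
        show Cfsg.sympForm (2 * h) F (X.mulVec u) (X.mulVec v) = _
        rw [symp_eq, symp_eq, hmv, hmv]
        simp only [Sum.elim_inl, Sum.elim_inr, Pi.add_apply, Function.comp_apply, Finset.sum_add_distrib, add_mul, mul_add]
        rw [← Equiv.sum_comp π fun i => u (Sum.inr i) * v (Sum.inr (π i))]
        simp only [hππ]
        have h2 : (2 : F) = 0 := CharTwo.two_eq_zero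
        linear_combination (∑ i, u (Sum.inr (π i)) * v (Sum.inr i)) * h2
      have hx2 : x ^ 2 = 1 := Units.ext (by rw [Units.val_pow_eq_pow_val]; exact hXX)
      obtain ⟨g, hg, hmem⟩ := hall x hxsp ⟨1, by rw [hx2, Units.val_one, one_smul]⟩ (fun z hz => by
        have := congrFun (congrFun hz (Sum.inl (π ⟨0, by omega⟩))) (Sum.inr ⟨0, by omega⟩)
        simp [x, X, A, Equiv.Perm.permMatrix, PEquiv.toMatrix_apply, hππ, Matrix.one_apply] at this)
      obtain ⟨Q', hQ', hiff, hinv⟩ := of_conj Q hQf (by omega) x g hxsp hg hmem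
      refine hnp (hiff.mpr ⟨LinearMap.ker (LinearMap.funLeft F F (Sum.inr : Fin (2 * h) → _)), ?_, fun w hw => ?_⟩)
      · have hdim := LinearMap.finrank_range_add_finrank_ker
          (LinearMap.funLeft F F (Sum.inr : Fin (2 * h) → Fin (2 * h) ⊕ Fin (2 * h)))
        rw [LinearMap.range_eq_top.mpr (LinearMap.funLeft_surjective_of_injective _ _ _ Sum.inr_injective), finrank_top,
          Module.finrank_fintype_fun_eq_card, Module.finrank_fintype_fun_eq_card, Fintype.card_fin, hn] at hdim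
        omega
      · have hw0 : ∀ i, w (Sum.inr i) = 0 := fun i => congrFun hw i
        let v : Fin (2 * h) ⊕ Fin (2 * h) → F := Sum.elim 0 fun i => w (Sum.inl (π i))
        have hXv : X.mulVec v = v + w := by
          rw [hmv]
          funext i
          rcases i with i | i <;> simp [v, hππ, hw0]
        have h1 := hinv v
        rw [show (x : Matrix _ _ F) = X from rfl, hXv, QuadraticMap.map_add (f := Q'), hQ'] at h1
        have h2 : Cfsg.sympForm (2 * h) F v w = 0 := by
          rw [symp_eq]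
          simp only [v, Sum.elim_inl, Sum.elim_inr, Pi.zero_apply, zero_mul, zero_add]
          refine Finset.sum_involution (fun i _ => π i) (fun i _ => ?_) (fun i _ _ => ?_) (fun i _ => Finset.mem_univ _)
            (fun i _ => hππ i)
          · rw [hππ, mul_comm, CharTwo.add_self_eq_zero]
          · intro hi
            have := congrArg (fun j => (e j).2) hi
            simp [π, Equiv.permCongr_apply] at this
            generalize (e i).2 = j at this
            fin_cases j <;> simp at this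
        rw [h2] at h1
        linear_combination h1
    · exfalso
      obtain ⟨hplus, hminus⟩ := index_div hd Q hQf hrp hr2 hΩ
      obtain ⟨X, Qo, hQo, hXr, hXQ, hXfix, hne⟩ : ∃ (X : Matrix (Fin d ⊕ Fin d) (Fin d ⊕ Fin d) F) (Qo : QuadraticForm F (Fin d ⊕ Fin d → F)),
          (∀ u v, polar (⇑Qo) u v = Cfsg.sympForm d F u v) ∧ X ^ r = 1 ∧ (∀ v, Qo (X.mulVec v) = Qo v) ∧
          (∀ v, X.mulVec v = v → v = 0) ∧ ¬ (Plus Q ↔ Plus Qo) := by
        by_cases hp : Plus Q
        · obtain ⟨X, h1, h2, h3⟩ := minus_element hd hε (hplus hp)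
          exact ⟨X, _, Qm_polar _ _, h1, h2, h3, fun hiff => Qm_not_plus _ hε (hiff.mp hp)⟩
        · obtain ⟨X, h1, h2, h3⟩ := plus_element (by omega) hr2 (hminus hp)
          exact ⟨X, _, plus_polar, h1, h2, h3, fun hiff => hp (hiff.mpr plus_plus)⟩
      let x : GL (Fin d ⊕ Fin d) F := Units.ofPowEqOne X r hXr hrp.ne_zero
      have hxsp : x ∈ Cfsg.spGL d F := fun u v => by
        show Cfsg.sympForm d F (X.mulVec u) (X.mulVec v) = _
        rw [← hQo, ← hQo, polar, polar, ← Matrix.mulVec_add, hXQ, hXQ, hXQ]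
      obtain ⟨g, hg, hmem⟩ := hall x hxsp
        ⟨1, by rw [one_smul, Units.val_pow_eq_pow_val]; exact hXr⟩
        (NsPoint.nonscalar Qo (nd_of_polar Qo hQo) x hXQ (by omega) fun v hv => by rw [hXfix v hv, QuadraticMap.map_zero])
      obtain ⟨Q', hQ', hiff, hinv⟩ := of_conj Q hQf (by omega) x g hxsp hg hmem
      obtain rfl : Qo = Q' := unique_form Qo Q' (fun u v => by rw [hQo, hQ']) X hXQ hinv hXfix
      exact hne hiff
  · rintro ⟨rfl, hR⟩ x hx ⟨z, hz⟩ hns
    have hx2 : x ^ 2 = 1 := by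
      obtain ⟨i⟩ : Nonempty (Fin d) := ⟨⟨0, by omega⟩⟩
      have h1 := (Cfsg.spGL d F).pow_mem hx 2 (Pi.single (Sum.inl i) 1) (Pi.single (Sum.inr i) 1)
      change Cfsg.sympForm d F (((x ^ 2 : GL (Fin d ⊕ Fin d) F) : Matrix (Fin d ⊕ Fin d) (Fin d ⊕ Fin d) F).mulVec _)
        (((x ^ 2 : GL (Fin d ⊕ Fin d) F) : Matrix (Fin d ⊕ Fin d) (Fin d ⊕ Fin d) F).mulVec _) = _ at h1
      rw [hz, Matrix.smul_mulVec, Matrix.smul_mulVec, Matrix.one_mulVec, Matrix.one_mulVec, symp_eq, symp_eq] at h1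
      simp [Finset.sum_add_distrib, Pi.single_apply] at h1
      have hz1 : z = 1 := NsPoint.sq_one Q (nd_of_polar Q hQf) (by linear_combination h1)
      exact Units.ext (by rw [hz, hz1, one_smul, Units.val_one])
    obtain ⟨Q', hQ', hinv⟩ := exists_invariant x hx hx2
    by_cases hiff : Plus Q ↔ Plus Q'
    · exact conj_into (by omega) Q Q' hQf hQ' hiff x hinv
    have hnd := nd_of_polar Q' hQ'
    obtain ⟨w, hwx, hwQ⟩ : ∃ w, (x : Matrix _ _ F).mulVec w = w ∧ Q' w = ε := by
      by_contra hno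
      push Not at hno
      obtain ⟨K, hK, hKQ, hde⟩ := NsPoint.even_half Q' hnd d hn x hinv hx2 fun k hk => by
        by_contra h0
        haveI : PerfectRing F 2 := inferInstance
        refine hno ((frobeniusEquiv F 2).symm (ε / Q' k) • k) (by rw [Matrix.mulVec_smul, hk]) ?_
        rw [QuadraticMap.map_smul, ← _root_.sq, frobeniusEquiv_symm_pow_p, smul_eq_mul, div_mul_cancel₀ _ h0]
      exact hiff (iff_of_true (hR.resolve_right fun ho => Nat.not_even_iff_odd.mpr ho hde) ⟨K, hK, hKQ⟩)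
    refine conj_into (by omega) Q (sw Q' w) hQf (fun u v => by rw [sw_polar, hQ']) ?_ x fun v => ?_
    · constructor
      · intro hp
        exact sw_plus hd Q' hnd hwQ hε fun hp' => hiff (iff_of_true hp hp')
      · intro hs
        by_contra hp
        exact sw_not_both (by omega) Q' hnd hwQ hε (by
          by_contra hp'
          exact hiff (iff_of_false hp hp')) hs
    · rw [sw_apply, sw_apply, hinv]
      have h1 : polar (⇑Q') w ((x : Matrix _ _ F).mulVec v) = polar (⇑Q') w v := by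
        conv_lhs => rw [← hwx]
        simp only [polar, ← Matrix.mulVec_add, hinv]
      rw [h1]

end Cfsg.Lib.Classical.EvenForm
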