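import Mathlib

/-! The imprimitive subgroup with four blocks of size two in the alternating group of degree eight. -/

set_option autoImplicit false

namespace Cfsg.Lib.Classical.EvenImprimitive

open Equiv

/-- Addition in the Klein group on four letters. -/
def x4 (a b : Fin 4) : Fin 4 := ⟨(a.val ^^^ b.val) % 4, Nat.mod_lt _ (by norm_num)⟩

/-- The affine ternary operation of `F₂³`. -/
def tern (x y z : Fin 4 × Fin 2) : Fin 4 × Fin 2 := (x4 (x4 x.1 y.1) z.1, x.2 + y.2 + z.2)

/-- The affine maps. -/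
def affine : Subgroup (Perm (Fin 4 × Fin 2)) where
  carrier := {g | ∀ x y z, g (tern x y z) = tern (g x) (g y) (g z)}
  one_mem' := fun _ _ _ => rfl
  mul_mem' := fun {a b} ha hb x y z => by
    show a (b (tern x y z)) = tern (a (b x)) (a (b y)) (a (b z))
    rw [hb, ha]
  inv_mem' := fun {a} ha x y z => by
    apply a.injective
    rw [ha]
    simp

theorem perm_four : ∀ π : Perm (Fin 4), ∀ a b c : Fin 4, π (x4 (x4 a b) c) = x4 (x4 (π a) (π b)) (π c) := by
  decide +kernel

theorem even_four : ∀ t : Fin 4 → Fin 2, t 0 + t 1 + t 2 + t 3 = 0 →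
    ∀ a b c : Fin 4, t (x4 (x4 a b) c) = t a + t b + t c := by
  decide +kernel

theorem perm_two : ∀ s : Perm (Fin 2), (∀ b, s b = b + s 0) ∧ (Perm.sign s = 1 ↔ s 0 = 0) := by
  decide +kernel

theorem prod_four : ∀ t : Fin 4 → Fin 2, ((if t 0 = 0 then (1 : ℤˣ) else -1) * (if t 1 = 0 then 1 else -1) *
    (if t 2 = 0 then 1 else -1) * (if t 3 = 0 then 1 else -1) = 1) → t 0 + t 1 + t 2 + t 3 = 0 := by
  decide +kernel

theorem mem_affine (g : Perm (Fin 4 × Fin 2)) (hg : ∀ x y : Fin 4 × Fin 2, x.1 = y.1 ↔ (g x).1 = (g y).1)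
    (hs : Perm.sign g = 1) : g ∈ affine := by
  have hbij : Function.Bijective (fun a : Fin 4 => (g (a, 0)).1) :=
    Finite.injective_iff_bijective.mp fun a b h => (hg (a, 0) (b, 0)).mpr h
  let π : Perm (Fin 4) := Equiv.ofBijective _ hbij
  have h1 : ∀ a b, (g (a, b)).1 = π a := fun a b => (hg (a, b) (a, 0)).mp rfl
  have h2 : ∀ a, Function.Bijective (fun b : Fin 2 => (g (a, b)).2) := fun a =>
    Finite.injective_iff_bijective.mp fun b b' h =>
      congrArg Prod.snd (g.injective (Prod.ext ((h1 a b).trans (h1 a b').symm) h))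
  let σ : Fin 4 → Perm (Fin 2) := fun a => Equiv.ofBijective _ (h2 a)
  have hgf : g = (Equiv.prodCongrLeft fun _ => π : Perm (Fin 4 × Fin 2)) * Equiv.prodCongrRight σ := by
    ext ⟨a, b⟩ <;> simp [σ, h1]
  let t : Fin 4 → Fin 2 := fun a => σ a 0
  have hsum : t 0 + t 1 + t 2 + t 3 = 0 := by
    apply prod_four
    rw [hgf, map_mul, Perm.sign_prodCongrLeft, Perm.sign_prodCongrRight, Fin.prod_univ_two, Int.units_mul_self,
      one_mul, Fin.prod_univ_four] at hs
    have e : ∀ a, (if t a = 0 then (1 : ℤˣ) else -1) = Perm.sign (σ a) := by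
      intro a
      by_cases h : t a = 0
      · rw [if_pos h, ((perm_two (σ a)).2.mpr h)]
      · rw [if_neg h]
        exact ((Int.units_eq_one_or _).resolve_left fun h' => h ((perm_two (σ a)).2.mp h')).symm
    rw [e, e, e, e, hs]
  intro x y z
  have key : ∀ p : Fin 4 × Fin 2, g p = (π p.1, p.2 + t p.1) := fun p =>
    Prod.ext (h1 p.1 p.2) ((perm_two (σ p.1)).1 p.2)
  simp only [key, tern]
  rw [perm_four, even_four t hsum]
  refine Prod.ext rfl ?_
  show _ + _ = _
  generalize t x.1 = u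
  generalize t y.1 = v
  generalize t z.1 = w
  abel

theorem witness_affine : ∃ g : Perm (Fin 4 × Fin 2), Perm.sign g = 1 ∧
    (∀ x y z, g (tern x y z) = tern (g x) (g y) (g z)) ∧
    ¬ ∀ x y : Fin 4 × Fin 2, x.1 = y.1 ↔ (g x).1 = (g y).1 :=
  ⟨swap ((0 : Fin 4), (1 : Fin 2)) (1, 0) * swap (2, 1) (3, 0), by decide +kernel, by decide +kernel, by decide +kernel⟩

theorem witness_not_affine : ∃ g : Perm (Fin 4 × Fin 2), Perm.sign g = 1 ∧
    ¬ ∀ x y z, g (tern x y z) = tern (g x) (g y) (g z) :=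
  ⟨swap ((0 : Fin 4), (0 : Fin 2)) (0, 1) * swap (1, 0) (2, 0), by decide +kernel, by decide +kernel⟩

theorem not_isCoatom {Ω : Type*} [Fintype Ω] [DecidableEq Ω] (f : Ω → Fin 4)
    (hf : ∀ i : Fin 4, Nat.card {x : Ω // f x = i} = 2) :
    ¬ IsCoatom ((Subgroup.closure {g : Perm Ω | ∀ x y : Ω, f x = f y ↔ f (g x) = f (g y)} ⊓
      alternatingGroup Ω).subgroupOf (alternatingGroup Ω)) := by
  let e : Ω ≃ Fin 4 × Fin 2 := ((Equiv.sigmaFiberEquiv f).symm.trans
    (Equiv.sigmaCongrRight fun i => Finite.equivFinOfCardEq (hf i))).trans (Equiv.sigmaEquivProd _ _)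
  have he : ∀ x, (e x).1 = f x := fun x => rfl
  let φ : Perm Ω ≃* Perm (Fin 4 × Fin 2) := e.permCongrHom
  have hsign : ∀ g, Perm.sign (φ g) = Perm.sign g := fun g => Perm.sign_permCongr e g
  have hφ : ∀ (g : Perm Ω) x, φ g x = e (g (e.symm x)) := fun g x => rfl
  intro hco
  let K : Subgroup (alternatingGroup Ω) := (affine.comap φ.toMonoidHom).subgroupOf (alternatingGroup Ω)
  have hcl : ∀ g ∈ Subgroup.closure {g : Perm Ω | ∀ x y : Ω, f x = f y ↔ f (g x) = f (g y)},
      ∀ x y : Ω, f x = f y ↔ f (g x) = f (g y) := by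
    intro g hg
    induction hg using Subgroup.closure_induction with
    | mem g hg => exact hg
    | one => exact fun x y => Iff.rfl
    | mul a b _ _ ha hb => exact fun x y => (hb x y).trans (ha (b x) (b y))
    | inv a _ ha => exact fun x y => by simpa using (ha (a⁻¹ x) (a⁻¹ y)).symm
  have hle : (Subgroup.closure {g : Perm Ω | ∀ x y : Ω, f x = f y ↔ f (g x) = f (g y)} ⊓
      alternatingGroup Ω).subgroupOf (alternatingGroup Ω) ≤ K := by
    rintro ⟨g, hgA⟩ ⟨hg, -⟩
    refine mem_affine (φ g) (fun x y => ?_) ((hsign g).trans hgA)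
    rw [hφ, hφ, he, he]
    have h2 := hcl g hg (e.symm x) (e.symm y)
    rwa [show f (e.symm x) = x.1 by rw [← he, e.apply_symm_apply],
      show f (e.symm y) = y.1 by rw [← he, e.apply_symm_apply]] at h2
  rcases eq_or_lt_of_le hle with heq | hlt
  · obtain ⟨g', hs, haff, hbad⟩ := witness_affine
    have hA : φ.symm g' ∈ alternatingGroup Ω := by
      rw [Equiv.Perm.mem_alternatingGroup, ← hsign, φ.apply_symm_apply, hs]
    have hK : (⟨φ.symm g', hA⟩ : alternatingGroup Ω) ∈ K := by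
      show φ (φ.symm g') ∈ affine
      rw [φ.apply_symm_apply]
      exact haff
    rw [← heq] at hK
    refine hbad fun x y => ?_
    have h := hcl _ hK.1 (e.symm x) (e.symm y)
    change f (e.symm x) = f (e.symm y) ↔ f ((φ.symm g') (e.symm x)) = f ((φ.symm g') (e.symm y)) at h
    rw [← he, ← he, e.apply_symm_apply, e.apply_symm_apply, ← he, ← he] at h
    have e' : ∀ x, e ((φ.symm g') (e.symm x)) = g' x := fun x => by rw [← hφ, φ.apply_symm_apply]
    rwa [e', e'] at h
  · obtain ⟨g', hs, hbad⟩ := witness_not_affine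
    have hA : φ.symm g' ∈ alternatingGroup Ω := by
      rw [Equiv.Perm.mem_alternatingGroup, ← hsign, φ.apply_symm_apply, hs]
    have hK : (⟨φ.symm g', hA⟩ : alternatingGroup Ω) ∈ K := (hco.2 K hlt).symm ▸ Subgroup.mem_top _
    have : φ (φ.symm g') ∈ affine := hK
    rw [φ.apply_symm_apply] at this
    exact hbad this

end Cfsg.Lib.Classical.EvenImprimitive
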