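import Mathlib
import Cfsg.Prelude.Def_GeometricClasses

/-! Elements of prime order and the normaliser of a group `3^{1+2}` of three by three matrices. -/

set_option autoImplicit false
set_option linter.unusedSimpArgs false
set_option linter.unusedSectionVars false
set_option linter.unusedVariables false
set_option linter.style.haveILetI false
set_option linter.flexible false

namespace Cfsg.Lib.Classical.ExtraThree

open Matrix

universe u

variable {F : Type u} [Field F]

local notation "MM" => Matrix (Fin 3) (Fin 3) F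
local notation "GG" => GL (Fin 3) F

/-- The diagonal generator. -/
def dA (ω : F) : Matrix (Fin 3) (Fin 3) F := Matrix.diagonal ![1, ω, ω ^ 2]

/-- The shift. -/
def mB : Matrix (Fin 3) (Fin 3) F := !![0, 0, 1; 1, 0, 0; 0, 1, 0]

/-- Coordinates in which `R` is the standard Heisenberg group. -/
structure Frame (R : Subgroup (GL (Fin 3) F)) (ω : F) (Pm : GL (Fin 3) F) (c a b : GL (Fin 3) F) : Prop where
  root : ω ^ 2 + ω + 1 = 0
  mem_c : c ∈ R
  mem_a : a ∈ R
  mem_b : b ∈ R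
  gen : Subgroup.closure {a, b} = R
  eqc : (c : Matrix (Fin 3) (Fin 3) F) = ω • 1
  eqa : (a : Matrix (Fin 3) (Fin 3) F) * (Pm : Matrix (Fin 3) (Fin 3) F) = (Pm : Matrix (Fin 3) (Fin 3) F) * dA ω
  eqb : (b : Matrix (Fin 3) (Fin 3) F) * (Pm : Matrix (Fin 3) (Fin 3) F) = (Pm : Matrix (Fin 3) (Fin 3) F) * mB

theorem root_pow {ω : F} (h : ω ^ 2 + ω + 1 = 0) : ω ^ 3 = 1 := by linear_combination (ω - 1) * h

theorem root_ne {ω : F} (h3 : (3 : F) ≠ 0) (h : ω ^ 2 + ω + 1 = 0) : ω ≠ 1 := fun e => h3 (by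
  rw [e] at h; linear_combination h)

theorem cube_cases {ω α : F} (h : ω ^ 2 + ω + 1 = 0) (hα : α ^ 3 = 1) : α = 1 ∨ α = ω ∨ α = ω ^ 2 := by
  have e : (α - 1) * ((α - ω) * (α - ω ^ 2)) = 0 := by
    linear_combination hα + (α - α ^ 2) * h + (α - 1) * root_pow h
  rcases mul_eq_zero.mp e with e | e
  · exact Or.inl (sub_eq_zero.mp e)
  · exact Or.inr ((mul_eq_zero.mp e).imp sub_eq_zero.mp sub_eq_zero.mp)

theorem comm_of_card {G : Type*} [Group G] [Finite G] (h : Nat.card G = 1 ∨ Nat.card G = 3 ∨ Nat.card G = 9) :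
    ∀ x y : G, x * y = y * x := by
  haveI : Fact (Nat.Prime 3) := ⟨Nat.prime_three⟩
  rcases h with h | h | h
  · haveI : Subsingleton G := (Nat.card_eq_one_iff_unique.mp h).1
    exact fun x y => Subsingleton.elim _ _
  · haveI : IsCyclic G := isCyclic_of_prime_card h
    exact fun x y => IsCyclic.isMulCommutative.is_comm.comm x y
  · exact fun x y => (IsPGroup.isMulCommutative_of_card_eq_prime_sq (p := 3) (by rw [h]; norm_num)).is_comm.comm x y

theorem card_cases {n : ℕ} (h : n ∣ 27) : n = 1 ∨ n = 3 ∨ n = 9 ∨ n = 27 := by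
  have := Nat.le_of_dvd (by norm_num) h
  interval_cases n <;> omega

theorem exists_frame [Fintype F] (h3 : (3 : F) ≠ 0) {ω₀ : F} (hω₀ : ω₀ ^ 2 + ω₀ + 1 = 0) (R : Subgroup (GL (Fin 3) F))
    (hR : Nat.card R = 27) (hRe : Monoid.exponent R = 3) (hRna : ¬ IsMulCommutative R) :
    ∃ (ω : F) (Pm c a b : GG), Frame R ω Pm c a b := by
  classical
  haveI : Fact (Nat.Prime 3) := ⟨Nat.prime_three⟩
  have hcube : ∀ g ∈ R, g ^ 3 = (1 : GG) := fun g hg => by
    have h := Monoid.pow_exponent_eq_one (⟨g, hg⟩ : R)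
    rw [hRe] at h
    exact congrArg Subtype.val h
  obtain ⟨a', b', hab⟩ : ∃ a b : R, a * b ≠ b * a := by
    by_contra hcon
    push Not at hcon
    exact hRna ⟨⟨hcon⟩⟩
  have hp : IsPGroup 3 R := IsPGroup.of_card (n := 3) (by rw [hR]; norm_num)
  have hcen : ∀ x y : R, x * y * x⁻¹ * y⁻¹ ∈ Subgroup.center R := by
    haveI : Nontrivial R := ⟨a', b', fun e => hab (by rw [e])⟩
    haveI hne := hp.center_nontrivial
    have h1 := Subgroup.card_eq_card_quotient_mul_card_subgroup (Subgroup.center R)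
    rw [hR] at h1
    have hq : Nat.card (R ⧸ Subgroup.center R) ∣ 27 := ⟨_, h1⟩
    have h2 : 1 < Nat.card (Subgroup.center R) := Finite.one_lt_card
    have hc := comm_of_card (G := R ⧸ Subgroup.center R) (by
      rcases card_cases hq with h | h | h | h
      · exact Or.inl h
      · exact Or.inr (Or.inl h)
      · exact Or.inr (Or.inr h)
      · rw [h] at h1; omega)
    intro x y
    rw [← QuotientGroup.eq_one_iff]
    simp only [QuotientGroup.mk_mul, QuotientGroup.mk_inv]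
    rw [hc (x : R ⧸ Subgroup.center R) y]
    group
  set a0 : GG := (a' : GG) with ha0
  set b : GG := (b' : GG) with hb
  set c : GG := a0 * b * a0⁻¹ * b⁻¹ with hc
  have hcR : c ∈ R := mul_mem (mul_mem (mul_mem a'.2 b'.2) (inv_mem a'.2)) (inv_mem b'.2)
  have hc1 : c ≠ 1 := fun e => hab (Subtype.ext (by
    show a0 * b = b * a0
    calc a0 * b = c * (b * a0) := by rw [hc]; group
      _ = b * a0 := by rw [e, one_mul]))
  have hcc : ∀ g ∈ R, c * g = g * c := fun g hg => by
    have := Subgroup.mem_center_iff.mp (hcen a' b') ⟨g, hg⟩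
    exact (congrArg Subtype.val this).symm
  have hab0 : a0 * b = c * (b * a0) := by rw [hc]; group
  -- an eigenvector of the commutator
  have hcM : ∀ g ∈ R, ((g : MM) * (g : MM)) * (g : MM) = 1 := fun g hg => by
    rw [← Units.val_mul, ← Units.val_mul, ← pow_three', hcube g hg, Units.val_one]
  obtain ⟨κ, v, hκ, hv0, hcv⟩ : ∃ (κ : F) (v : Fin 3 → F), κ ^ 2 + κ + 1 = 0 ∧ v ≠ 0 ∧ (c : MM) *ᵥ v = κ • v := by
    obtain ⟨y, hy⟩ : ∃ y, ((c : MM) - 1) *ᵥ y ≠ 0 := by
      by_contra hcon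
      push Not at hcon
      refine hc1 (Units.ext (Matrix.ext_of_mulVec_single fun i => ?_))
      have := hcon (Pi.single i 1)
      rw [Matrix.sub_mulVec, sub_eq_zero] at this
      exact this
    set w := ((c : MM) - 1) *ᵥ y with hw
    by_cases h : (c : MM) *ᵥ w - ω₀ • w = 0
    · exact ⟨ω₀, w, hω₀, hy, sub_eq_zero.mp h⟩
    · refine ⟨ω₀ ^ 2, _, by linear_combination (ω₀ ^ 2 - ω₀ + 1) * hω₀, h, ?_⟩
      have h0 : (c : MM) *ᵥ ((c : MM) *ᵥ w) + (c : MM) *ᵥ w + w = 0 := by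
        rw [hw]
        simp only [Matrix.sub_mulVec, Matrix.one_mulVec, Matrix.mulVec_sub, Matrix.mulVec_mulVec, ← mul_assoc, hcM c hcR]
        abel
      have h1 : (c : MM) *ᵥ ((c : MM) *ᵥ w) = -((c : MM) *ᵥ w) - w := by
        rw [← sub_eq_zero, ← h0]; abel
      rw [Matrix.mulVec_sub, Matrix.mulVec_smul, h1, smul_sub, smul_smul,
        show ω₀ ^ 2 * ω₀ = 1 by linear_combination root_pow hω₀, one_smul,
        show ω₀ ^ 2 = -ω₀ - 1 by linear_combination hω₀]
      module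
  have hk3 := root_pow hκ
  -- an eigenvector of `a0` in it
  obtain ⟨α, u, hα, hu0, hau, hcu⟩ : ∃ (α : F) (u : Fin 3 → F), α ^ 3 = 1 ∧ u ≠ 0 ∧ (a0 : MM) *ᵥ u = α • u ∧
      (c : MM) *ᵥ u = κ • u := by
    have hm : ∀ μ : F, μ ^ 3 = 1 → ∀ u, u = v + μ • ((a0 : MM) *ᵥ v) + μ ^ 2 • ((a0 : MM) *ᵥ ((a0 : MM) *ᵥ v)) →
        (a0 : MM) *ᵥ u = μ ^ 2 • u ∧ (c : MM) *ᵥ u = κ • u := by
      intro μ hμ u hu
      have hca : (c : MM) * (a0 : MM) = (a0 : MM) * (c : MM) := congrArg Units.val (hcc a0 a'.2)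
      have hcav : ∀ w, (c : MM) *ᵥ w = κ • w → (c : MM) *ᵥ ((a0 : MM) *ᵥ w) = κ • ((a0 : MM) *ᵥ w) := fun w hw => by
        rw [Matrix.mulVec_mulVec, hca, ← Matrix.mulVec_mulVec, hw, Matrix.mulVec_smul]
      have ha3 : (a0 : MM) *ᵥ ((a0 : MM) *ᵥ ((a0 : MM) *ᵥ v)) = v := by
        rw [Matrix.mulVec_mulVec, Matrix.mulVec_mulVec, hcM a0 a'.2, Matrix.one_mulVec]
      subst hu
      refine ⟨?_, ?_⟩
      · simp only [Matrix.mulVec_add, Matrix.mulVec_smul, ha3, smul_add, smul_smul,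
          show μ ^ 2 * μ = 1 by linear_combination hμ, show μ ^ 2 * μ ^ 2 = μ by linear_combination μ * hμ, one_smul]
        abel
      · simp only [Matrix.mulVec_add, Matrix.mulVec_smul, hcav _ hcv, hcav _ (hcav _ hcv), hcv, smul_add,
          smul_smul, mul_comm κ]
    have hk32 : (κ ^ 2) ^ 3 = 1 := by rw [← pow_mul, mul_comm, pow_mul, hk3, one_pow]
    by_contra hcon
    push Not at hcon
    have hz : ∀ μ : F, μ ^ 3 = 1 →
        v + μ • ((a0 : MM) *ᵥ v) + μ ^ 2 • ((a0 : MM) *ᵥ ((a0 : MM) *ᵥ v)) = 0 := fun μ hμ => by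
      by_contra hne
      exact hcon (μ ^ 2) _ (by rw [← pow_mul, mul_comm, pow_mul, hμ, one_pow]) hne (hm μ hμ _ rfl).1 (hm μ hμ _ rfl).2
    have h1 := hz 1 (one_pow 3)
    have h2 := hz κ hk3
    have h3' := hz (κ ^ 2) hk32
    have hsum : (3 : F) • v + (1 + κ + κ ^ 2) • ((a0 : MM) *ᵥ v) +
        (1 + κ ^ 2 + (κ ^ 2) ^ 2) • ((a0 : MM) *ᵥ ((a0 : MM) *ᵥ v)) = 0 := by
      rw [← add_zero (0 : Fin 3 → F)]
      nth_rw 1 [← h1]
      rw [← add_zero (0 : Fin 3 → F)] at h3'
      linear_combination (norm := module) h2 + h3'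
    rw [show 1 + κ + κ ^ 2 = 0 by linear_combination hκ,
      show 1 + κ ^ 2 + (κ ^ 2) ^ 2 = 0 by linear_combination (κ ^ 2 - κ + 1) * hκ, zero_smul, zero_smul, add_zero,
      add_zero, smul_eq_zero] at hsum
    exact hv0 (hsum.resolve_left h3)
  obtain ⟨i, hi⟩ : ∃ i : ℕ, α * κ ^ i = 1 := by
    rcases cube_cases hκ hα with rfl | rfl | rfl
    · exact ⟨0, by ring⟩
    · exact ⟨2, by linear_combination hk3⟩
    · exact ⟨1, by linear_combination hk3⟩
  set a : GG := a0 * c ^ i with ha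
  have haR : a ∈ R := mul_mem a'.2 (pow_mem hcR _)
  have hau1 : (a : MM) *ᵥ u = u := by
    have hp : ∀ j : ℕ, ((c : MM) ^ j) *ᵥ u = κ ^ j • u := fun j => by
      induction j with
      | zero => simp
      | succ j ih => rw [pow_succ, ← Matrix.mulVec_mulVec, hcu, Matrix.mulVec_smul, ih, smul_smul, pow_succ']
    rw [ha, Units.val_mul, Units.val_pow_eq_pow_val, ← Matrix.mulVec_mulVec, hp, Matrix.mulVec_smul, hau, smul_smul,
      mul_comm, hi, one_smul]
  have hab1 : a * b = c * (b * a) := by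
    have hci : Commute (c ^ i) b := Commute.pow_left (hcc b b'.2) i
    rw [ha, mul_assoc, hci.eq, ← mul_assoc, hab0]
    simp only [mul_assoc]
  have habM : ∀ w, (a : MM) *ᵥ ((b : MM) *ᵥ w) = (c : MM) *ᵥ ((b : MM) *ᵥ ((a : MM) *ᵥ w)) := fun w => by
    rw [Matrix.mulVec_mulVec, Matrix.mulVec_mulVec, Matrix.mulVec_mulVec, ← Units.val_mul, ← Units.val_mul,
      ← Units.val_mul, hab1]
    exact congrArg (fun g : GG => (g : MM) *ᵥ w) (mul_assoc c b a).symm
  have hcb : ∀ w, (c : MM) *ᵥ ((b : MM) *ᵥ w) = (b : MM) *ᵥ ((c : MM) *ᵥ w) := fun w => by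
    rw [Matrix.mulVec_mulVec, Matrix.mulVec_mulVec, ← Units.val_mul, ← Units.val_mul, hcc b b'.2]
  set u1 := (b : MM) *ᵥ u with hu1
  set u2 := (b : MM) *ᵥ u1 with hu2
  have hau1' : (a : MM) *ᵥ u1 = κ • u1 := by rw [hu1, habM, hau1, hcb, hcu, Matrix.mulVec_smul]
  have hcu1 : (c : MM) *ᵥ u1 = κ • u1 := by rw [hu1, hcb, hcu, Matrix.mulVec_smul]
  have hau2 : (a : MM) *ᵥ u2 = κ ^ 2 • u2 := by
    rw [hu2, habM, hau1', Matrix.mulVec_smul, Matrix.mulVec_smul, hcb, hcu1, Matrix.mulVec_smul, smul_smul, sq]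
  have hbu2 : (b : MM) *ᵥ u2 = u := by
    rw [hu2, hu1, Matrix.mulVec_mulVec, Matrix.mulVec_mulVec, hcM b b'.2, Matrix.one_mulVec]
  set P : MM := Matrix.of fun o l => ![u, u1, u2] l o with hP
  have hPcol : ∀ x : Fin 3 → F, P *ᵥ x = x 0 • u + x 1 • u1 + x 2 • u2 := fun x => by
    funext o
    simp [hP, Matrix.mulVec, dotProduct, Fin.sum_univ_three]
    ring
  have hu1' : u1 ≠ 0 := fun e => hu0 (by rw [← hbu2, hu2, e, Matrix.mulVec_zero, Matrix.mulVec_zero])
  have hu2' : u2 ≠ 0 := fun e => hu0 (by rw [← hbu2, e, Matrix.mulVec_zero])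
  have hinj : Function.Injective P.mulVec := by
    refine fun x y hxy => ?_
    have h0 : P *ᵥ (x - y) = 0 := by rw [Matrix.mulVec_sub]; exact sub_eq_zero.mpr hxy
    rw [hPcol] at h0
    have h1 := congrArg (fun w => (a : MM) *ᵥ w) h0
    have h2 := congrArg (fun w => (a : MM) *ᵥ ((a : MM) *ᵥ w)) h0
    simp only [Matrix.mulVec_add, Matrix.mulVec_smul, hau1, hau1', hau2, Matrix.mulVec_zero, smul_smul] at h1 h2
    set z := x - y
    have g := fun o : Fin 3 => congrFun h0 o
    have g' := fun o : Fin 3 => congrFun h1 o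
    have g'' := fun o : Fin 3 => congrFun h2 o
    simp only [Pi.add_apply, Pi.smul_apply, smul_eq_mul, Pi.zero_apply] at g g' g''
    have e0 : (3 * z 0) • u = 0 := by
      funext o
      simp only [Pi.smul_apply, smul_eq_mul, Pi.zero_apply]
      linear_combination g o + g' o + g'' o - (z 1 * u1 o + z 2 * u2 o * (κ ^ 2 - κ + 1)) * hκ
    have e1 : (3 * z 1) • u1 = 0 := by
      funext o
      simp only [Pi.smul_apply, smul_eq_mul, Pi.zero_apply]
      linear_combination g o + κ ^ 2 * g' o + κ * g'' o - (z 0 * u o + z 2 * u2 o) * hκ -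
        (2 * z 1 * u1 o + z 2 * u2 o * (κ + κ ^ 2)) * hk3
    have e2 : (3 * z 2) • u2 = 0 := by
      funext o
      simp only [Pi.smul_apply, smul_eq_mul, Pi.zero_apply]
      linear_combination g o + κ * g' o + κ ^ 2 * g'' o - (z 0 * u o + z 1 * u1 o * (κ ^ 2 - κ + 1)) * hκ -
        z 2 * u2 o * (κ ^ 3 + 2) * hk3
    funext l
    refine sub_eq_zero.mp ?_
    have g0 := (mul_eq_zero.mp ((smul_eq_zero.mp e0).resolve_right hu0)).resolve_left h3
    have g1 := (mul_eq_zero.mp ((smul_eq_zero.mp e1).resolve_right hu1')).resolve_left h3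
    have g2 := (mul_eq_zero.mp ((smul_eq_zero.mp e2).resolve_right hu2')).resolve_left h3
    fin_cases l
    exacts [g0, g1, g2]
  obtain ⟨Pm, hPm⟩ := Matrix.mulVec_injective_iff_isUnit.mp hinj
  have hcols : ∀ (X : MM) (Y : MM), (∀ l : Fin 3, X *ᵥ (![u, u1, u2] l) = P *ᵥ (Y *ᵥ Pi.single l 1)) → X * P = P * Y := by
    intro X Y h
    refine Matrix.ext_of_mulVec_single fun l => ?_
    rw [← Matrix.mulVec_mulVec, ← Matrix.mulVec_mulVec, ← h]
    congr 1
    funext o
    simp [hP, Matrix.mulVec_single]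
  have hA : (a : MM) * P = P * dA κ := by
    refine hcols _ _ fun l => ?_
    rw [hPcol]
    fin_cases l <;> simp [dA, Matrix.mulVec_single, Matrix.diagonal, hau1, hau1', hau2]
  have hB : (b : MM) * P = P * mB := by
    refine hcols _ _ fun l => ?_
    rw [hPcol]
    fin_cases l <;> simp [mB, Matrix.mulVec_single, ← hu1, ← hu2, hbu2]
  have hC : (c : MM) * P = κ • P := by
    refine Matrix.ext_of_mulVec_single fun l => ?_
    rw [← Matrix.mulVec_mulVec, Matrix.smul_mulVec, hPcol]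
    fin_cases l <;> simp [hcu, hcu1, hu2, hcb, Matrix.mulVec_smul]
  refine ⟨κ, Pm, c, a, b, ⟨hκ, hcR, haR, b'.2, ?_, ?_, by rw [hPm]; exact hA, by rw [hPm]; exact hB⟩⟩
  · set H := Subgroup.closure {a, b} with hH
    have hle : H ≤ R := (Subgroup.closure_le _).mpr (by
      rintro g (rfl | rfl)
      exacts [haR, b'.2])
    have hd : Nat.card H ∣ 27 := hR ▸ Subgroup.card_dvd_of_le hle
    refine Subgroup.eq_of_le_of_card_ge hle ?_
    rw [hR]
    rcases card_cases hd with h | h | h | h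
    iterate 3
      exfalso
      have hcm := comm_of_card (G := H) (by omega) ⟨a, Subgroup.subset_closure (by simp)⟩
        ⟨b, Subgroup.subset_closure (by simp)⟩
      have hcm' : a * b = b * a := congrArg Subtype.val hcm
      exact hc1 (mul_right_cancel (b := b * a) (by rw [one_mul, ← hab1, hcm']))
    omega
  · calc (c : MM) = (c : MM) * (P * ((Pm⁻¹ : GG) : MM)) := by rw [← hPm, ← Units.val_mul Pm, mul_inv_cancel, Units.val_one, mul_one]
      _ = κ • (1 : MM) := by
        rw [← mul_assoc, hC, smul_mul_assoc, ← hPm, ← Units.val_mul, mul_inv_cancel, Units.val_one]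

variable {R : Subgroup (GL (Fin 3) F)} {ω : F} {Pm c a b : GL (Fin 3) F}

theorem Frame.scale (S : Frame R ω Pm c a b) {t : F} (Q : GG) (hQ : (Q : MM) = t • (Pm : MM)) :
    Frame R ω Q c a b :=
  { S with
    eqa := by rw [hQ, mul_smul_comm, S.eqa, smul_mul_assoc]
    eqb := by rw [hQ, mul_smul_comm, S.eqb, smul_mul_assoc] }

theorem Frame.det_one (S : Frame R ω Pm c a b) : (a : MM).det = 1 ∧ (b : MM).det = 1 := by
  have h0 : (Pm : MM).det ≠ 0 := (Matrix.isUnits_det_units Pm).ne_zero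
  have h1 := congrArg Matrix.det S.eqa
  have h2 := congrArg Matrix.det S.eqb
  rw [Matrix.det_mul, Matrix.det_mul] at h1 h2
  rw [show (dA ω).det = 1 by simp [dA, Matrix.det_diagonal, Fin.prod_univ_three]; linear_combination root_pow S.root,
    mul_one] at h1
  rw [show (mB : MM).det = 1 by simp [mB, Matrix.det_fin_three], mul_one] at h2
  exact ⟨(mul_eq_right₀ h0).mp h1, (mul_eq_right₀ h0).mp h2⟩

theorem Frame.mem_normalizer [Fintype F] (S : Frame R ω Pm c a b) {g : GG} {D : MM}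
    (hg : (g : MM) * (Pm : MM) = (Pm : MM) * D)
    (hA : ∃ i j k : ℕ, D * dA ω = (ω ^ i • (dA ω ^ j * mB ^ k)) * D)
    (hB : ∃ i j k : ℕ, D * mB = (ω ^ i • (dA ω ^ j * mB ^ k)) * D) : g ∈ Cfsg.Geo.subgroupNormalizer R := by
  classical
  have hpow : ∀ (x : GG) (X : MM), (x : MM) * (Pm : MM) = (Pm : MM) * X →
      ∀ j : ℕ, (x : MM) ^ j * (Pm : MM) = (Pm : MM) * X ^ j := fun x X h j => by
    induction j with
    | zero => simp
    | succ j ih => rw [pow_succ', pow_succ', mul_assoc, ih, ← mul_assoc, h, mul_assoc]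
  have key : ∀ (x : GG) (X : MM), (x : MM) * (Pm : MM) = (Pm : MM) * X →
      (∃ i j k : ℕ, D * X = (ω ^ i • (dA ω ^ j * mB ^ k)) * D) → g * x * g⁻¹ ∈ R := by
    rintro x X hx ⟨i, j, k, hD⟩
    suffices g * x = (c ^ i * a ^ j * b ^ k) * g by
      rw [this, mul_inv_cancel_right]
      exact mul_mem (mul_mem (pow_mem S.mem_c _) (pow_mem S.mem_a _)) (pow_mem S.mem_b _)
    refine mul_right_cancel (b := Pm) (Units.ext ?_)
    simp only [Units.val_mul, Units.val_pow_eq_pow_val, mul_assoc, hx, hg]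
    rw [← mul_assoc (g : MM), hg, mul_assoc, hD, S.eqc, _root_.smul_pow, one_pow]
    simp only [smul_mul_assoc, one_mul, mul_smul_comm, ← mul_assoc]
    congr 1
    rw [mul_assoc ((a : MM) ^ j), hpow b mB S.eqb, ← mul_assoc, hpow a _ S.eqa]
  refine Subgroup.mem_normalizer_fintype fun x hx => ?_
  rw [SetLike.mem_coe] at hx ⊢
  rw [← S.gen] at hx
  induction hx using Subgroup.closure_induction with
  | mem x hx =>
    rcases hx with rfl | rfl
    exacts [key x _ S.eqa hA, key x _ S.eqb hB]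
  | one => simp [one_mem]
  | mul x y _ _ hx hy =>
    have := mul_mem hx hy
    rwa [show g * x * g⁻¹ * (g * y * g⁻¹) = g * (x * y) * g⁻¹ by group] at this
  | inv x _ hx =>
    have := inv_mem hx
    rwa [show (g * x * g⁻¹)⁻¹ = g * x⁻¹ * g⁻¹ by group] at this

theorem Frame.diag_normalizes [Fintype F] (S : Frame R ω Pm c a b) {g : GG} (d : Fin 3 → F)
    (hg : (g : MM) * (Pm : MM) = (Pm : MM) * Matrix.diagonal d) {z : F} (hz : z ≠ 0) (hd : ∀ l, d l ^ 3 = z) :
    g ∈ Cfsg.Geo.subgroupNormalizer R := by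
  have hω := root_pow S.root
  have hd0 : ∀ l, d l ≠ 0 := fun l e => hz (by rw [← hd l, e]; ring)
  refine S.mem_normalizer hg ⟨0, 1, 0, ?_⟩ ?_
  · simp [dA, Matrix.diagonal_mul_diagonal, mul_comm]
  have hpw : ∀ s : F, s ^ 3 = 1 → ∃ i : ℕ, s = ω ^ i := fun s hs => by
    rcases cube_cases S.root hs with h | h | h
    exacts [⟨0, by simpa using h⟩, ⟨1, by simpa using h⟩, ⟨2, h⟩]
  obtain ⟨i, hi⟩ := hpw (d 0 / d 2) (by rw [div_pow, hd, hd, div_self hz])
  obtain ⟨j, hj⟩ := hpw (d 1 * d 2 / (d 0 * d 0)) (by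
    rw [div_pow, mul_pow, mul_pow, hd, hd, hd, div_self (mul_ne_zero hz hz)])
  refine ⟨i, j, 1, ?_⟩
  have e1 : d 1 = ω ^ i * ω ^ j * d 0 := by
    rw [← hi, ← hj]; field_simp [hd0 0, hd0 2]
  have e0 : d 0 = ω ^ i * d 2 := by rw [← hi]; field_simp [hd0 2]
  have e2 : d 2 = ω ^ i * ω ^ (2 * j) * d 1 := by
    rw [mul_comm 2 j, pow_mul, ← hi, ← hj]
    rw [show d 0 / d 2 * (d 1 * d 2 / (d 0 * d 0)) ^ 2 * d 1 = d 2 * (d 1 ^ 3 / d 0 ^ 3) by
      field_simp [hd0 0, hd0 2], hd, hd, div_self hz, mul_one]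
  rw [pow_one, dA, Matrix.diagonal_pow]
  ext o l
  rw [Matrix.diagonal_mul, Matrix.mul_diagonal, Matrix.smul_apply, Matrix.diagonal_mul]
  fin_cases o <;> fin_cases l <;> simp [mB, ← pow_mul]
  · exact e0
  · exact e1
  · exact e2

theorem Frame.swap_normalizes [Fintype F] (S : Frame R ω Pm c a b) {g : GG} {μ : F}
    (hg : (g : MM) * (Pm : MM) = (Pm : MM) * (μ • !![-1, 0, 0; 0, 0, -1; 0, -1, 0])) :
    g ∈ Cfsg.Geo.subgroupNormalizer R := by
  have hω := root_pow S.root
  refine S.mem_normalizer hg ⟨0, 2, 0, ?_⟩ ⟨0, 0, 2, ?_⟩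
  · rw [dA, Matrix.diagonal_pow, pow_zero, one_smul, pow_zero, mul_one]
    ext o l
    rw [Matrix.mul_diagonal, Matrix.diagonal_mul]
    fin_cases o <;> fin_cases l <;> simp <;>
      first | linear_combination (-(μ * ω)) * hω | linear_combination (0 : F) * hω
  · ext o l
    fin_cases o <;> fin_cases l <;> simp [mB, pow_two, Matrix.mul_apply, Fin.sum_univ_three]

/-- An element of prime order at least five in the normaliser is scalar. -/
theorem Frame.scalar_of_order [Fintype F] (S : Frame R ω Pm c a b) (h3 : (3 : F) ≠ 0) (hR : Nat.card R = 27) {r : ℕ}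
    [Fact r.Prime] (hr : 5 ≤ r) {y : GG} (hy : y ∈ Cfsg.Geo.subgroupNormalizer R) (hyr : y ^ r = 1) :
    ∃ l : F, (y : MM) = l • 1 := by
  classical
  have hyR : ∀ x, x ∈ R → y * x * y⁻¹ ∈ R := fun x hx => (Subgroup.mem_set_normalizer_iff.mp hy x).mp hx
  let f : Function.End R := fun x => ⟨y * x.1 * y⁻¹, hyR x.1 x.2⟩
  have hfn : ∀ (n : ℕ) (x : R), ((f ^ n : Function.End R) x).1 = y ^ n * x.1 * (y ^ n)⁻¹ := fun n => by
    induction n with
    | zero => intro x; simp; rfl
    | succ n ih =>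
      intro x
      rw [pow_succ']
      show y * ((f ^ n : Function.End R) x).1 * y⁻¹ = _
      rw [ih, pow_succ', _root_.mul_inv_rev]
      group
  have hf : f ^ r ^ 1 = 1 := by
    funext x
    refine Subtype.ext ?_
    show _ = x.1
    rw [pow_one, hfn, hyr, one_mul, inv_one, mul_one]
  haveI : Fintype R := Fintype.ofFinite R
  have hmod := Equiv.Perm.card_fixedPoints_modEq (p := r) hf
  set Z : Subgroup R := (Subgroup.centralizer {y}).subgroupOf R
  have hfix : Fintype.card (Function.fixedPoints f) = Nat.card Z := by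
    rw [← Nat.card_eq_fintype_card]
    refine Nat.card_congr (Equiv.subtypeEquivRight fun x => ?_)
    show f x = x ↔ _
    rw [Subgroup.mem_subgroupOf, Subgroup.mem_centralizer_singleton_iff, Subtype.ext_iff]
    show y * x.1 * y⁻¹ = x.1 ↔ _
    rw [mul_inv_eq_iff_eq_mul]
    exact eq_comm
  rw [hfix, ← Nat.card_eq_fintype_card, hR] at hmod
  have hdvd : Nat.card Z ∣ 27 := hR ▸ Subgroup.card_subgroup_dvd_card Z
  have hcZ : (⟨c, S.mem_c⟩ : R) ∈ Z := by
    rw [Subgroup.mem_subgroupOf, Subgroup.mem_centralizer_singleton_iff]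
    refine Units.ext ?_
    rw [Units.val_mul, Units.val_mul]
    show (c : MM) * (y : MM) = (y : MM) * (c : MM)
    rw [S.eqc, smul_mul_assoc, one_mul, mul_smul_comm, mul_one]
  have hc1 : c ≠ 1 := fun e => root_ne h3 S.root (by
    have h := congrFun (congrFun (S.eqc.symm.trans (congrArg Units.val e)) 0) 0
    simpa using h)
  have hne : Nat.card Z ≠ 1 := fun e => hc1 (by
    have := (Subgroup.card_eq_one.mp e) ▸ hcZ
    exact congrArg Subtype.val (Subgroup.mem_bot.mp this))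
  have h27 : Nat.card Z = 27 := by
    have hrp : r.Prime := Fact.out
    rcases card_cases hdvd with h | h | h | h
    · exact absurd h hne
    all_goals first
      | exact h
      | (exfalso
         rw [h, Nat.modEq_iff_dvd] at hmod
         norm_num at hmod
         have h' : r ∣ 2 * 3 * 2 * 3 * 2 * 2 := by
           have := Int.natCast_dvd.mp hmod
           exact dvd_trans this (by norm_num)
         have h23 : r ∣ 2 ∨ r ∣ 3 := by
           rcases hrp.dvd_mul.mp h' with h' | h'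
           rcases hrp.dvd_mul.mp h' with h' | h'
           rcases hrp.dvd_mul.mp h' with h' | h'
           rcases hrp.dvd_mul.mp h' with h' | h'
           rcases hrp.dvd_mul.mp h' with h' | h'
           all_goals first | exact Or.inl h' | exact Or.inr h'
         rcases h23 with h' | h' <;> have := Nat.le_of_dvd (by norm_num) h' <;> omega)
  have htop : Z = ⊤ := Subgroup.eq_top_of_card_eq Z (by rw [h27, hR])
  have hcomm : ∀ x ∈ R, x * y = y * x := fun x hx => by
    have : (⟨x, hx⟩ : R) ∈ Z := htop ▸ Subgroup.mem_top _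
    rwa [Subgroup.mem_subgroupOf, Subgroup.mem_centralizer_singleton_iff] at this
  set M : MM := ((Pm⁻¹ : GG) : MM) * (y : MM) * (Pm : MM) with hM
  have hPM : (y : MM) * (Pm : MM) = (Pm : MM) * M := by
    rw [hM, ← mul_assoc, ← mul_assoc, ← Units.val_mul Pm, mul_inv_cancel, Units.val_one, one_mul]
  have hcX : ∀ (x : GG) (X : MM), x ∈ R → (x : MM) * (Pm : MM) = (Pm : MM) * X → X * M = M * X := fun x X hx hX => by
    refine (Units.isUnit Pm).mul_left_cancel ?_
    rw [← mul_assoc, ← hX, mul_assoc, ← hPM, ← mul_assoc, ← Units.val_mul, hcomm x hx, Units.val_mul, mul_assoc, hX,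
      ← mul_assoc, hPM, mul_assoc]
  have hA := hcX a _ S.mem_a S.eqa
  have hB := hcX b _ S.mem_b S.eqb
  have hω1 := root_ne h3 S.root
  have hω3 := root_pow S.root
  have hω0 : ω ≠ 0 := fun e => by rw [e] at hω3; simp at hω3
  have hdist : ∀ o l : Fin 3, o ≠ l → M o l = 0 := fun o l hol => by
    have h := congrFun (congrFun hA o) l
    rw [dA, Matrix.diagonal_mul, Matrix.mul_diagonal] at h
    have h' : (![1, ω, ω ^ 2] o - ![1, ω, ω ^ 2] l) * M o l = 0 := by linear_combination h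
    refine (mul_eq_zero.mp h').resolve_left ?_
    have h21 : ω ^ 2 ≠ 1 := fun e => hω1 (by linear_combination (-ω) * e + hω3)
    have h2w : ω ^ 2 ≠ ω := fun e => hω1 (mul_left_cancel₀ hω0 (by linear_combination e))
    fin_cases o <;> fin_cases l <;> first
      | exact absurd rfl hol
      | simp [sub_eq_zero, hω1, hω1.symm, h21, h21.symm, h2w, h2w.symm]
  have h01 := congrFun (congrFun hB 1) 0
  have h12 := congrFun (congrFun hB 2) 1
  simp [mB, Matrix.mul_apply, Fin.sum_univ_three] at h01 h12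
  refine ⟨M 0 0, (Units.isUnit Pm).mul_right_cancel ?_⟩
  rw [hPM, smul_mul_assoc, one_mul]
  have : M = M 0 0 • 1 := by
    ext o l
    fin_cases o <;> fin_cases l <;> simp [hdist] <;> first
      | exact hdist _ _ (by decide)
      | exact h01.symm
      | exact h12.symm.trans h01.symm
  rw [this]
  simp

end Cfsg.Lib.Classical.ExtraThree
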