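import Mathlib
import Cfsg.Agent.Classical.Misc.ExtraThree
import Cfsg.Agent.Classical.Unitary.Matrix
import Cfsg.Agent.Classical.SL

/-! Which elements of prime order of `SL₃(p)` and `SU₃(p)` have a conjugate normalising `3^{1+2}`. -/

set_option autoImplicit false
set_option linter.unusedSimpArgs false
set_option linter.unusedSectionVars false
set_option linter.unusedVariables false
set_option linter.style.haveILetI false
set_option linter.flexible false

namespace Cfsg.Lib.Classical.ExtraThree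

open Matrix Cfsg.Lib.Classical

universe u v

variable {F : Type u} [Field F]

local notation "MM" => Matrix (Fin 3) (Fin 3) F
local notation "GG" => GL (Fin 3) F

/-- Permutation matrices. -/
def perm3 (σ : Equiv.Perm (Fin 3)) : Matrix (Fin 3) (Fin 3) F := Matrix.of fun i j => if i = σ j then 1 else 0

theorem perm3_mul (σ τ : Equiv.Perm (Fin 3)) : (perm3 σ : MM) * perm3 τ = perm3 (σ * τ) := by
  ext i j
  simp [perm3, Matrix.mul_apply, Equiv.Perm.mul_apply]
  split_ifs <;> simp_all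

theorem perm3_one : (perm3 1 : MM) = 1 := by
  ext i j
  simp [perm3, Matrix.one_apply]
  split_ifs <;> simp_all

/-- Permutation matrices as units. -/
def permGL (σ : Equiv.Perm (Fin 3)) : GL (Fin 3) F :=
  ⟨perm3 σ, perm3 σ⁻¹, by rw [perm3_mul, mul_inv_cancel, perm3_one], by rw [perm3_mul, inv_mul_cancel, perm3_one]⟩

theorem diagonal_perm (d : Fin 3 → F) (σ : Equiv.Perm (Fin 3)) :
    Matrix.diagonal d * perm3 σ = perm3 σ * Matrix.diagonal (fun i => d (σ i)) := by
  ext i j
  rw [Matrix.diagonal_mul, Matrix.mul_diagonal]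
  by_cases h : i = σ j
  · simp [perm3, h]
  · simp [perm3, h]

/-- The properties of the ambient group. -/
structure Amb (G : Subgroup (GL (Fin 3) F)) (nine : Prop) : Prop where
  perm : ∀ σ : Equiv.Perm (Fin 3), permGL σ ∈ G
  negOne : (-1 : GL (Fin 3) F) ∈ G
  diag : ∀ g ∈ G, ∃ t ∈ G, (t : Matrix (Fin 3) (Fin 3) F) =
    Matrix.diagonal ![(g : Matrix (Fin 3) (Fin 3) F).det, 1, 1]
  frame : ∀ x ∈ G, ∀ (n : ℕ) (z : F), z ^ 3 = 1 → (n = 2 ∨ (n = 3 ∧ nine)) →
    (x : Matrix (Fin 3) (Fin 3) F) ^ n = z • 1 → ∃ P ∈ G, ∃ d : Fin 3 → F,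
      (x : Matrix (Fin 3) (Fin 3) F) * (P : Matrix (Fin 3) (Fin 3) F) =
        (P : Matrix (Fin 3) (Fin 3) F) * Matrix.diagonal d ∧ ∀ i, d i ^ n = z

variable {G : Subgroup (GL (Fin 3) F)} {nine : Prop}

theorem det_eq_one_iff (g : GG) : g ∈ Cfsg.Geo.specialLinear (Fin 3) F ↔ (g : MM).det = 1 := by
  rw [Cfsg.Geo.specialLinear, MonoidHom.mem_ker, Units.ext_iff, Matrix.GeneralLinearGroup.val_det_apply, Units.val_one]

theorem Amb.conj (A : Amb G nine) {P Q : GG} (hP : P ∈ G) (hQ : Q ∈ G) :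
    ∃ g ∈ G ⊓ Cfsg.Geo.specialLinear (Fin 3) F, ∀ (x y : GG) (d : Fin 3 → F),
      (x : MM) * (P : MM) = (P : MM) * Matrix.diagonal d → (y : MM) * (Q : MM) = (Q : MM) * Matrix.diagonal d →
      g⁻¹ * x * g = y := by
  obtain ⟨t, ht, htv⟩ := A.diag (P⁻¹ * Q) (mul_mem (inv_mem hP) hQ)
  refine ⟨P * t * Q⁻¹, Subgroup.mem_inf.mpr ⟨mul_mem (mul_mem hP ht) (inv_mem hQ), (det_eq_one_iff _).2 ?_⟩,
    fun x y d hx hy => ?_⟩
  · rw [Units.val_mul, Units.val_mul, Matrix.det_mul, Matrix.det_mul, htv, Matrix.det_diagonal, Fin.prod_univ_three]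
    simp only [Matrix.cons_val_zero, Matrix.cons_val_one, Matrix.cons_val_two, Matrix.tail_cons, Matrix.head_cons,
      mul_one, Units.val_mul, Matrix.det_mul]
    rw [show (P : MM).det * (((P⁻¹ : GG) : MM).det * (Q : MM).det) * ((Q⁻¹ : GG) : MM).det =
      ((P : MM).det * ((P⁻¹ : GG) : MM).det) * ((Q : MM).det * ((Q⁻¹ : GG) : MM).det) by ring,
      ← Matrix.det_mul, ← Matrix.det_mul, ← Units.val_mul, ← Units.val_mul, mul_inv_cancel, mul_inv_cancel,
      Units.val_one, Matrix.det_one, one_mul]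
  · suffices x * (P * t) = (P * t) * Q⁻¹ * y * Q by
      have h := congrArg (fun w => (P * t * Q⁻¹)⁻¹ * w * Q⁻¹) this
      simp only [mul_assoc, mul_inv_cancel, mul_one] at h
      simp only [← mul_assoc, inv_mul_cancel_right] at h ⊢
      rw [h]
      group
    refine Units.ext ?_
    simp only [Units.val_mul, mul_assoc, hy]
    rw [← mul_assoc (x : MM), hx, mul_assoc]
    congr 1
    rw [← mul_assoc ((Q⁻¹ : GG) : MM), ← Units.val_mul, inv_mul_cancel, Units.val_one, one_mul, htv,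
      Matrix.diagonal_mul_diagonal, Matrix.diagonal_mul_diagonal]
    simp only [mul_comm]

theorem pattern (h2 : (2 : F) ≠ 0) (e : Fin 3 → F) (he : ∀ i, e i * e i = 1) (hp : e 0 * e 1 * e 2 = 1)
    (hne : ¬ (e 0 = e 1 ∧ e 1 = e 2)) : ∃ σ : Equiv.Perm (Fin 3), (fun i => e (σ i)) = ![1, -1, -1] := by
  have hno : (1 : F) ≠ -1 := fun h => h2 (by linear_combination h)
  rcases mul_self_eq_one_iff.mp (he 0) with h0 | h0 <;> rcases mul_self_eq_one_iff.mp (he 1) with h1 | h1 <;>
    rcases mul_self_eq_one_iff.mp (he 2) with h2' | h2' <;> rw [h0, h1, h2'] at hp hne <;>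
    first
    | exact absurd ⟨rfl, rfl⟩ hne
    | exact absurd (show (1 : F) = -1 by linear_combination hp) hno
    | exact absurd (show (1 : F) = -1 by linear_combination -hp) hno
    | (refine ⟨1, funext fun i => ?_⟩; fin_cases i <;> simp [h0, h1, h2'] <;> done)
    | (refine ⟨Equiv.swap 0 1, funext fun i => ?_⟩; fin_cases i <;> simp [h0, h1, h2', Equiv.swap_apply_def] <;> done)
    | (refine ⟨Equiv.swap 0 2, funext fun i => ?_⟩; fin_cases i <;> simp [h0, h1, h2', Equiv.swap_apply_def] <;> done)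

variable [Fintype F] {R : Subgroup (GL (Fin 3) F)} {ω : F} {Pm c a b : GL (Fin 3) F}

theorem scalar_det {x : GG} {l : F} (hx : (x : MM) = l • 1) : (x : MM).det = l ^ 3 := by
  rw [hx, Matrix.det_smul, Matrix.det_one, mul_one, Fintype.card_fin]

theorem det_pow_eq {x : GG} {n : ℕ} {z : F} (hd : (x : MM).det = 1) (hx : (x : MM) ^ n = z • 1) : z ^ 3 = 1 := by
  have h := congrArg Matrix.det hx
  rw [Matrix.det_pow, hd, one_pow, Matrix.det_smul, Matrix.det_one, mul_one, Fintype.card_fin] at h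
  exact h.symm

set_option maxHeartbeats 800000 in
/-- Involutions have conjugates in the normaliser. -/
theorem Amb.two_fixed (A : Amb G nine) (S : Frame R ω Pm c a b) (hPm : Pm ∈ G) (h2 : (2 : F) ≠ 0) (x : GG)
    (hx : x ∈ G ⊓ Cfsg.Geo.specialLinear (Fin 3) F) {z : F} (hz : (x : MM) ^ 2 = z • 1)
    (hns : ∀ l : F, (x : MM) ≠ l • 1) :
    ∃ g ∈ G ⊓ Cfsg.Geo.specialLinear (Fin 3) F, g⁻¹ * x * g ∈ Cfsg.Geo.subgroupNormalizer R := by
  classical
  have hd1 := (det_eq_one_iff x).1 hx.2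
  have hz3 := det_pow_eq hd1 hz
  obtain ⟨P, hP, d, hPd, hd⟩ := A.frame x hx.1 2 z hz3 (Or.inl rfl) hz
  have hdet : d 0 * d 1 * d 2 = 1 := by
    have h := congrArg Matrix.det hPd
    rw [Matrix.det_mul, Matrix.det_mul, hd1, one_mul, Matrix.det_diagonal, Fin.prod_univ_three] at h
    exact (mul_eq_left₀ (Matrix.isUnits_det_units P).ne_zero).mp h.symm
  set μ := z ^ 2 with hμ
  have hμz : μ * z = 1 := by rw [hμ]; linear_combination hz3
  set e : Fin 3 → F := fun i => z * d i with he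
  have hde : ∀ i, d i = μ * e i := fun i => by rw [he, ← mul_assoc, hμz, one_mul]
  obtain ⟨σ, hσ⟩ := pattern h2 e (fun i => by
      show z * d i * (z * d i) = 1
      linear_combination z ^ 2 * hd i + hz3)
    (by show z * d 0 * (z * d 1) * (z * d 2) = 1; linear_combination z ^ 3 * hdet + hz3) fun hh => by
      have hdd : d = fun _ => μ * e 0 := funext fun i => by
        rw [hde]; fin_cases i
        · rfl
        · exact congrArg (μ * ·) hh.1.symm
        · exact congrArg (μ * ·) (hh.1.trans hh.2).symm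
      refine hns (μ * e 0) ((Units.isUnit P).mul_right_cancel ?_)
      rw [hPd, hdd, ← Matrix.smul_one_eq_diagonal, mul_smul_comm, mul_one, smul_mul_assoc, one_mul]
  -- the model
  set s : GG := Pm * ((-1 : GG) * permGL (Equiv.swap 1 2)) * Pm⁻¹ with hs
  have hsG : s ∈ G := mul_mem (mul_mem hPm (mul_mem A.negOne (A.perm _))) (inv_mem hPm)
  have hsPm : (s : MM) * (Pm : MM) = (Pm : MM) * (-1 * perm3 (Equiv.swap 1 2)) := by
    rw [← Units.val_mul, hs, inv_mul_cancel_right]
    rfl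
  have hS : (-1 * perm3 (Equiv.swap (1 : Fin 3) 2) : MM) = !![-1, 0, 0; 0, 0, -1; 0, -1, 0] := by
    ext i j
    fin_cases i <;> fin_cases j <;> simp [perm3, Equiv.swap_apply_def]
  rw [hS] at hsPm
  have hPmdet : (Pm : MM).det ≠ 0 := (Matrix.isUnits_det_units Pm).ne_zero
  have hsdet : (s : MM).det = 1 := by
    have h := congrArg Matrix.det hsPm
    rw [Matrix.det_mul, Matrix.det_mul] at h
    rw [show (!![-1, 0, 0; 0, 0, -1; 0, -1, 0] : MM).det = 1 by simp [Matrix.det_fin_three], mul_one] at h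
    exact (mul_eq_right₀ hPmdet).mp h
  have hs2 : (s : MM) ^ 2 = (1 : F) • 1 := by
    refine (Units.isUnit Pm).mul_right_cancel ?_
    rw [_root_.sq, mul_assoc, hsPm, ← mul_assoc, hsPm, mul_assoc, one_smul, one_mul]
    conv_rhs => rw [← mul_one (Pm : MM)]
    congr 1
    ext i j
    fin_cases i <;> fin_cases j <;> simp [Matrix.mul_apply, Fin.sum_univ_three]
  obtain ⟨P', hP', d', hPd', hd'⟩ := A.frame s hsG 2 1 (one_pow 3) (Or.inl rfl) hs2
  have hdet' : d' 0 * d' 1 * d' 2 = 1 := by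
    have h := congrArg Matrix.det hPd'
    rw [Matrix.det_mul, Matrix.det_mul, hsdet, one_mul, Matrix.det_diagonal, Fin.prod_univ_three] at h
    exact (mul_eq_left₀ (Matrix.isUnits_det_units P').ne_zero).mp h.symm
  obtain ⟨σ', hσ'⟩ := pattern h2 d' (fun i => by rw [← _root_.sq]; exact hd' i) hdet' fun hh => by
    have hdd : d' = fun _ => d' 0 := funext fun i => by
      fin_cases i
      · rfl
      · exact hh.1.symm
      · exact (hh.1.trans hh.2).symm
    have hsc : (s : MM) = d' 0 • 1 := by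
      refine (Units.isUnit P').mul_right_cancel ?_
      rw [hPd', hdd, ← Matrix.smul_one_eq_diagonal, mul_smul_comm, mul_one, smul_mul_assoc, one_mul]
    rw [hsc, smul_mul_assoc, one_mul, show d' 0 • (Pm : MM) = (Pm : MM) * (d' 0 • 1) by
      rw [mul_smul_comm, mul_one]] at hsPm
    have := congrFun (congrFun ((Units.isUnit Pm).mul_left_cancel hsPm) 1) 2
    simp at this
  -- conjugation
  obtain ⟨g, hg, hgc⟩ := A.conj (mul_mem hP (A.perm σ)) (mul_mem hP' (A.perm σ'))
  have hμ0 : μ ≠ 0 := left_ne_zero_of_mul (hμz ▸ one_ne_zero)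
  let m : GG := ⟨μ • 1, μ⁻¹ • 1, by rw [smul_mul_smul_comm, mul_inv_cancel₀ hμ0, one_smul, one_mul],
    by rw [smul_mul_smul_comm, inv_mul_cancel₀ hμ0, one_smul, one_mul]⟩
  refine ⟨g, hg, ?_⟩
  rw [hgc x (m * s) (fun i => μ * ![1, -1, -1] i) ?_ ?_]
  · refine S.swap_normalizes (μ := μ) ?_
    show μ • (1 : MM) * (s : MM) * (Pm : MM) = _
    rw [smul_mul_assoc, one_mul, smul_mul_assoc, hsPm, mul_smul_comm]
  · show (x : MM) * ((P : MM) * perm3 σ) = (P : MM) * perm3 σ * _
    rw [← mul_assoc, hPd, mul_assoc, diagonal_perm, ← mul_assoc]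
    congr 2
    funext i
    rw [hde, ← congrFun hσ i]
  · show μ • (1 : MM) * (s : MM) * ((P' : MM) * perm3 σ') = (P' : MM) * perm3 σ' * _
    rw [smul_mul_assoc, one_mul, smul_mul_assoc, ← mul_assoc, hPd', mul_assoc, diagonal_perm, ← mul_assoc,
      ← mul_smul_comm, ← Matrix.diagonal_smul]
    congr 2
    funext i
    rw [Pi.smul_apply, smul_eq_mul, ← congrFun hσ' i]

theorem Amb.three_fixed (A : Amb G nine) (S : Frame R ω Pm c a b) (hPm : Pm ∈ G) (h9 : nine) (x : GG)
    (hx : x ∈ G ⊓ Cfsg.Geo.specialLinear (Fin 3) F) {z : F} (hz : (x : MM) ^ 3 = z • 1) :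
    ∃ g ∈ G ⊓ Cfsg.Geo.specialLinear (Fin 3) F, g⁻¹ * x * g ∈ Cfsg.Geo.subgroupNormalizer R := by
  classical
  have hz3 := det_pow_eq ((det_eq_one_iff x).1 hx.2) hz
  have hz0 : z ≠ 0 := fun e => by rw [e] at hz3; simp at hz3
  obtain ⟨P, hP, d, hPd, hd⟩ := A.frame x hx.1 3 z hz3 (Or.inr ⟨rfl, h9⟩) hz
  have hd0 : ∀ i, d i ≠ 0 := fun i e => hz0 (by rw [← hd i, e]; ring)
  let D : GG := ⟨Matrix.diagonal d, Matrix.diagonal fun i => (d i)⁻¹,
    by rw [Matrix.diagonal_mul_diagonal, ← Matrix.diagonal_one]; exact congrArg _ (funext fun i => mul_inv_cancel₀ (hd0 i)),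
    by rw [Matrix.diagonal_mul_diagonal, ← Matrix.diagonal_one]; exact congrArg _ (funext fun i => inv_mul_cancel₀ (hd0 i))⟩
  obtain ⟨g, hg, hgc⟩ := A.conj hP hPm
  have hy : ((Pm * D * Pm⁻¹ : GG) : MM) * (Pm : MM) = (Pm : MM) * Matrix.diagonal d := by
    rw [← Units.val_mul, inv_mul_cancel_right]; rfl
  exact ⟨g, hg, by rw [hgc x _ d hPd hy]; exact S.diag_normalizes d hy hz0 hd⟩

set_option maxHeartbeats 400000 in
theorem Amb.main (A : Amb G nine) (S : Frame R ω Pm c a b) (hPm : Pm ∈ G) (h2 : (2 : F) ≠ 0) (h3 : (3 : F) ≠ 0)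
    (hR : Nat.card R = 27) (hRG : R ≤ G)
    (hcard : ¬ nine → ¬ 81 ∣ Nat.card (G ⊓ Cfsg.Geo.specialLinear (Fin 3) F : Subgroup GG))
    {r : ℕ} [Fact r.Prime]
    (hΩ : r ∣ (Cfsg.Geo.subgroupNormalizer R).relIndex (G ⊓ Cfsg.Geo.specialLinear (Fin 3) F)) :
    (∀ x ∈ G ⊓ Cfsg.Geo.specialLinear (Fin 3) F, (∃ z : F, ((x ^ r : GG) : MM) = z • (1 : MM)) →
      (∀ z : F, (x : MM) ≠ z • (1 : MM)) →
      ∃ g ∈ G ⊓ Cfsg.Geo.specialLinear (Fin 3) F, g⁻¹ * x * g ∈ Cfsg.Geo.subgroupNormalizer R) ↔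
    (r = 2 ∨ (r = 3 ∧ nine)) := by
  classical
  have hr : r.Prime := Fact.out
  set T := G ⊓ Cfsg.Geo.specialLinear (Fin 3) F with hT
  constructor
  · intro H
    by_contra hcon
    push Not at hcon
    have hr3 : r = 3 ∨ 5 ≤ r := by
      have := hr.two_le
      have h4 : r ≠ 4 := fun e => by rw [e] at hr; norm_num at hr
      have := hcon.1
      omega
    rcases hr3 with rfl | hr5
    · have h27 : 27 ∣ Nat.card (Cfsg.Geo.subgroupNormalizer R ⊓ T : Subgroup GG) := by
        rw [← hR]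
        refine Subgroup.card_dvd_of_le (le_inf Subgroup.le_normalizer (le_inf hRG ?_))
        rw [← S.gen, Subgroup.closure_le]
        rintro g (rfl | rfl)
        exacts [(det_eq_one_iff _).2 S.det_one.1, (det_eq_one_iff _).2 S.det_one.2]
      refine hcard (hcon.2 rfl) ?_
      have hc : Nat.card T = (Cfsg.Geo.subgroupNormalizer R).relIndex T *
          Nat.card (Cfsg.Geo.subgroupNormalizer R ⊓ T : Subgroup GG) := by
        rw [Subgroup.relIndex, mul_comm, ← Subgroup.card_mul_index ((Cfsg.Geo.subgroupNormalizer R).subgroupOf T)]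
        congr 1
        rw [← Subgroup.inf_subgroupOf_right]
        exact Nat.card_congr (Subgroup.subgroupOfEquivOfLe inf_le_right).toEquiv
      rw [hc, show 81 = 3 * 27 by norm_num]
      exact mul_dvd_mul hΩ h27
    · obtain ⟨⟨x, hxT⟩, hx⟩ := exists_prime_orderOf_dvd_card' (G := T) r (hΩ.trans (Subgroup.index_dvd_card _))
      have hxr : x ^ r = 1 := by
        have h := pow_orderOf_eq_one (⟨x, hxT⟩ : T)
        rw [hx] at h
        exact congrArg Subtype.val h
      have hns : ∀ l : F, (x : MM) ≠ l • 1 := fun l hl => by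
        have hl3 : l ^ 3 = 1 := (scalar_det hl).symm.trans ((det_eq_one_iff x).1 hxT.2)
        have hlr : l ^ r = 1 := by
          have h := congrArg (fun u : GG => (u : MM) 0 0) hxr
          simpa [hl, _root_.smul_pow] using h
        have hl1 : l = 1 := by
          have hc : Nat.Coprime 3 r := (Nat.coprime_primes Nat.prime_three hr).2 (by omega)
          have h := (pow_gcd_eq_one (a := l) (m := 3) (n := r)).mpr ⟨hl3, hlr⟩
          rwa [hc.gcd_eq_one, pow_one] at h
        have h1 : x = 1 := Units.ext (by rw [hl, hl1, one_smul, Units.val_one])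
        have h2' : orderOf (⟨x, hxT⟩ : T) = 1 := orderOf_eq_one_iff.mpr (Subtype.ext h1)
        rw [hx] at h2'
        exact hr.ne_one h2'
      obtain ⟨g, hg, hy⟩ := H x hxT ⟨1, by rw [hxr, Units.val_one, one_smul]⟩ hns
      obtain ⟨l, hl⟩ := S.scalar_of_order (r := r) h3 hR hr5 hy (by
        rw [show g⁻¹ * x * g = MulAut.conj g⁻¹ x by simp, ← map_pow, hxr, map_one])
      refine hns l ?_
      have e : x = g * (g⁻¹ * x * g) * g⁻¹ := by group
      rw [e, Units.val_mul, Units.val_mul _ (g⁻¹ * x * g), hl, mul_smul_comm, mul_one, smul_mul_assoc,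
        ← Units.val_mul, mul_inv_cancel, Units.val_one]
  · rintro (rfl | ⟨rfl, h9⟩) x hx ⟨z, hz⟩ hns
    · exact A.two_fixed S hPm h2 x hx (by rw [← Units.val_pow_eq_pow_val]; exact hz) hns
    · exact A.three_fixed S hPm h9 x hx (by rw [← Units.val_pow_eq_pow_val]; exact hz)

section Roots

theorem exists_order {n : ℕ} (hn : n ∣ Fintype.card F - 1) : ∃ ζ : F, ζ ≠ 0 ∧ orderOf ζ = n := by
  classical
  obtain ⟨g, hg⟩ := IsCyclic.exists_ofOrder_eq_natCard (α := Fˣ)
  rw [Nat.card_units, Nat.card_eq_fintype_card] at hg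
  refine ⟨((g ^ ((Fintype.card F - 1) / n) : Fˣ) : F), Units.ne_zero _, ?_⟩
  have hq := Fintype.one_lt_card (α := F)
  have hn0 : n ≠ 0 := fun e => by rw [e, zero_dvd_iff] at hn; omega
  obtain ⟨m, hm⟩ := hn
  have hm0 : m ≠ 0 := fun e => by rw [e, mul_zero] at hm; omega
  rw [orderOf_units, orderOf_pow, hg, hm, Nat.mul_div_cancel_left m (Nat.pos_of_ne_zero hn0),
    Nat.gcd_eq_right (Dvd.intro_left n rfl), Nat.mul_div_cancel _ (Nat.pos_of_ne_zero hm0)]

theorem exists_omega (hn : 3 ∣ Fintype.card F - 1) : ∃ ω : F, ω ^ 2 + ω + 1 = 0 := by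
  obtain ⟨ω, hω0, hω⟩ := exists_order hn
  refine ⟨ω, ?_⟩
  have h3 : ω ^ 3 = 1 := hω ▸ pow_orderOf_eq_one ω
  have h1 : ω - 1 ≠ 0 := fun h => by rw [sub_eq_zero.mp h, orderOf_one] at hω; omega
  exact (mul_eq_zero.mp (show (ω - 1) * (ω ^ 2 + ω + 1) = 0 by linear_combination h3)).resolve_left h1

theorem exists_root_three (hn : 9 ∣ Fintype.card F - 1) {z : F} (hz : z ^ 3 = 1) : ∃ l : F, l ^ 3 = z := by
  obtain ⟨ζ, hζ0, hζ⟩ := exists_order hn
  have h9 : ζ ^ 9 = 1 := hζ ▸ pow_orderOf_eq_one ζ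
  have h1 : ζ ^ 3 - 1 ≠ 0 := fun h => by
    have := orderOf_dvd_of_pow_eq_one (sub_eq_zero.mp h)
    rw [hζ] at this; omega
  have hω : (ζ ^ 3) ^ 2 + ζ ^ 3 + 1 = 0 :=
    (mul_eq_zero.mp (show (ζ ^ 3 - 1) * ((ζ ^ 3) ^ 2 + ζ ^ 3 + 1) = 0 by linear_combination h9)).resolve_left h1
  rcases cube_cases hω hz with rfl | rfl | rfl
  exacts [⟨1, one_pow 3⟩, ⟨ζ, rfl⟩, ⟨ζ ^ 2, by ring⟩]

/-- Every vector is a sum of eigenvectors. -/
theorem eigen_span {V : Type v} [AddCommGroup V] [Module F V] (T : Module.End F V) (h2 : (2 : F) ≠ 0) (h3 : (3 : F) ≠ 0)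
    {ω : F} (hω : ω ^ 2 + ω + 1 = 0) {n : ℕ} (hn : n = 2 ∨ n = 3) {z l : F} (hl : l ^ n = z) (hz : z ≠ 0)
    (hT : T ^ n = z • 1) (w : V) :
    w ∈ Submodule.span F {v : V | ∃ ν : F, ν ^ n = z ∧ T v = ν • v} := by
  have hl0 : l ≠ 0 := fun e => hz (by rw [← hl, e]; rcases hn with rfl | rfl <;> ring)
  rcases hn with rfl | rfl
  · have hTT : T (T w) = z • w := by rw [← Module.End.mul_apply, ← _root_.sq, hT]; rfl
    have e : w = (2 * l)⁻¹ • (l • w + T w) + (2 * l)⁻¹ • (l • w - T w) := by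
      rw [← smul_add, show l • w + T w + (l • w - T w) = (2 * l) • w by module, smul_smul,
        inv_mul_cancel₀ (mul_ne_zero h2 hl0), one_smul]
    rw [e]
    refine add_mem (Submodule.smul_mem _ _ (Submodule.subset_span ⟨l, hl, ?_⟩))
      (Submodule.smul_mem _ _ (Submodule.subset_span ⟨-l, by rw [← hl]; ring, ?_⟩))
    · rw [map_add, map_smul, hTT, ← hl]; module
    · rw [map_sub, map_smul, hTT, ← hl]; module
  · have hTTT : T (T (T w)) = z • w := by
      rw [← Module.End.mul_apply, ← Module.End.mul_apply, show T * T * T = T ^ 3 by rw [pow_succ, pow_two], hT]; rfl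
    have hmem : ∀ ν : F, ν ^ 3 = z → (ν ^ 2) • w + ν • T w + T (T w) ∈
        Submodule.span F {v : V | ∃ ν : F, ν ^ 3 = z ∧ T v = ν • v} := fun ν hν => by
      refine Submodule.subset_span ⟨ν, hν, ?_⟩
      rw [map_add, map_add, map_smul, map_smul, hTTT, ← hν]; module
    have hω3 := root_pow hω
    have h := add_mem (add_mem (hmem l hl) (hmem (ω * l) (by rw [mul_pow, hω3, one_mul, hl])))
      (hmem (ω ^ 2 * l) (by rw [mul_pow, hl, ← pow_mul, mul_comm 2 3, pow_mul, hω3, one_pow, one_mul]))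
    have h' := add_mem (add_mem (Submodule.smul_mem _ 1 (hmem l hl))
      (Submodule.smul_mem _ ω (hmem (ω * l) (by rw [mul_pow, hω3, one_mul, hl]))))
      (Submodule.smul_mem _ (ω ^ 2) (hmem (ω ^ 2 * l) (by rw [mul_pow, hl, ← pow_mul, mul_comm 2 3, pow_mul, hω3, one_pow, one_mul])))
    have e : (3 * l ^ 2) • w = (1 : F) • (l ^ 2 • w + l • T w + T (T w)) +
        ω • ((ω * l) ^ 2 • w + (ω * l) • T w + T (T w)) +
        ω ^ 2 • ((ω ^ 2 * l) ^ 2 • w + (ω ^ 2 * l) • T w + T (T w)) := by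
      match_scalars
      · linear_combination (-(l ^ 2) * (ω ^ 3 + 2)) * hω3
      · linear_combination (-l * (ω ^ 2 - ω + 1)) * hω
      · linear_combination -hω
    rw [← e] at h'
    have := Submodule.smul_mem _ (3 * l ^ 2)⁻¹ h'
    rwa [smul_smul, inv_mul_cancel₀ (mul_ne_zero h3 (pow_ne_zero 2 hl0)), one_smul] at this

end Roots

section Unitary

variable {V : Type v} [AddCommGroup V] [Module F V]

/-- A diagonalisable isometry has an orthonormal eigenbasis. -/
theorem orth_eigen (E : Set F) : ∀ (n : ℕ) {V : Type v} [AddCommGroup V] [Module F V] [FiniteDimensional F V]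
    (H : HermSpace F V) (T : Module.End F V), (∀ ν ∈ E, ν * H.σ ν = 1) → (∀ x y, H.h (T x) (T y) = H.h x y) →
    (∀ w, w ∈ Submodule.span F {v : V | ∃ ν ∈ E, T v = ν • v}) → Module.finrank F V = n →
    ∃ b : Module.Basis (Fin n) F V, (∀ i j, H.h (b i) (b j) = if i = j then 1 else 0) ∧
      ∀ i, ∃ ν ∈ E, T (b i) = ν • b i := by
  intro n
  induction n with
  | zero =>
    intro V _ _ _ H T hE hT hsp hn
    exact ⟨Module.finBasisOfFinrankEq F V hn, fun i => i.elim0, fun i => i.elim0⟩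
  | succ n ih =>
    intro V _ _ _ H T hE hT hsp hn
    haveI : Nontrivial V := Module.nontrivial_of_finrank_pos (R := F) (by omega)
    have hσ : ∀ ν ∈ E, ∀ x v : V, T v = ν • v → H.h (T x) v = ν * H.h x v := fun ν hν x v hv => by
      have h := hT x v
      rw [hv, H.smul_right] at h
      linear_combination ν * h - (H.h (T x) v) * hE ν hν
    obtain ⟨v, ⟨ν, hν, hv⟩, hvv⟩ : ∃ v ∈ {v : V | ∃ ν ∈ E, T v = ν • v}, H.h v v ≠ 0 := by
      by_contra hcon
      push Not at hcon
      have horth : ∀ u ∈ {v : V | ∃ ν ∈ E, T v = ν • v}, ∀ w ∈ {v : V | ∃ ν ∈ E, T v = ν • v}, H.h u w = 0 := by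
        rintro u ⟨α, hα, hu⟩ w ⟨β, hβ, hw⟩
        by_cases hαβ : α = β
        · subst hαβ
          by_contra h0
          obtain ⟨θ, hθ⟩ := H.conj.exists_trace_one
          have h := hcon (u + (H.σ (θ / H.h u w)) • w) ⟨α, hα, by rw [map_add, map_smul, hu, hw, smul_add, smul_comm]⟩
          rw [H.add_left, H.add_right, H.add_right, H.smul_left, H.smul_left, H.smul_right, H.smul_right,
            hcon u ⟨α, hα, hu⟩, hcon w ⟨α, hα, hw⟩, H.conj.invol, div_mul_cancel₀ θ h0, H.symm w u,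
            ← map_mul, div_mul_cancel₀ θ h0] at h
          exact one_ne_zero (show (1 : F) = 0 by linear_combination h - hθ)
        · have h := hσ β hβ u w hw
          rw [hu, H.smul_left] at h
          exact (mul_eq_zero.mp (show (α - β) * H.h u w = 0 by linear_combination h)).resolve_left (sub_ne_zero.mpr hαβ)
      obtain ⟨u, hu⟩ := exists_ne (0 : V)
      have h0 : ∀ x, ∀ w ∈ {v : V | ∃ ν ∈ E, T v = ν • v}, H.h x w = 0 := fun x w hw => by
        induction hsp x using Submodule.span_induction with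
        | mem x hx => exact horth x hx w hw
        | zero => exact H.zero_left _
        | add x y _ _ hx hy => rw [H.add_left, hx, hy, add_zero]
        | smul c x _ hx => rw [H.smul_left, hx, mul_zero]
      have h0' : ∀ y x, H.h x y = 0 := fun y x => by
        induction hsp y using Submodule.span_induction with
        | mem w hw => exact h0 x w hw
        | zero => exact H.zero_right _
        | add a b _ _ ha hb => rw [H.add_right, ha, hb, add_zero]
        | smul c a _ ha => rw [H.smul_right, ha, mul_zero]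
      exact hu (H.nondeg u fun x => h0' u x)
    obtain ⟨t, ht⟩ := H.conj.norm_surjective (a := (H.h v v)⁻¹) (by rw [map_inv₀, H.self_fixed])
    obtain ⟨e, he1, hTe⟩ : ∃ e : V, H.h e e = 1 ∧ T e = ν • e :=
      ⟨t • v, by rw [H.smul_left, H.smul_right, ← mul_assoc, ht, inv_mul_cancel₀ hvv],
        by rw [map_smul, hv, smul_comm]⟩
    have he0 : e ≠ 0 := fun h => by rw [h, H.zero_left] at he1; exact zero_ne_one he1
    have hW := H.nondegOn_span_singleton (v := e) (by rw [he1]; exact one_ne_zero)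
    set U := H.orth (Submodule.span F ({e} : Set V)) with hU
    have hUmem : ∀ x, x ∈ U ↔ H.h x e = 0 := fun x => by rw [hU, H.mem_orth_span]; simp
    have hTU : ∀ x ∈ U, T x ∈ U := fun x hx => by
      rw [hUmem] at hx ⊢; rw [hσ ν hν x e hTe, hx, mul_zero]
    let T' : Module.End F U := T.restrict hTU
    have hfr : Module.finrank F U = n := by rw [H.finrank_orth, finrank_span_singleton he0, hn]; omega
    let π : V →ₗ[F] U := LinearMap.codRestrict U (LinearMap.id - (H.lin e).smulRight e) fun x => by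
      rw [hUmem]
      show H.h (x - H.h x e • e) e = 0
      rw [H.sub_left, H.smul_left, he1, mul_one, sub_self]
    have hπ : ∀ x, (π x : V) = x - H.h x e • e := fun x => rfl
    have hπfix : ∀ x : U, π x.1 = x := fun x => Subtype.ext (by
      rw [hπ, (hUmem x.1).mp x.2, zero_smul, sub_zero])
    obtain ⟨b, hb, hbT⟩ := ih (H.restrict U (H.nondegOn_orth hW)) T' hE (fun x y => hT x y) (fun w => by
      rw [← hπfix w]
      have h := Submodule.apply_mem_span_image_of_mem_span π (hsp w.1)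
      refine Submodule.span_mono ?_ h
      rintro _ ⟨x, ⟨α, hα, hx⟩, rfl⟩
      refine ⟨α, hα, Subtype.ext ?_⟩
      show T (π x : V) = α • (π x : V)
      rw [hπ, map_sub, map_smul, hx, hTe, smul_sub, smul_smul, smul_smul,
        show H.h x e * ν = α * H.h x e by rw [mul_comm, ← hσ ν hν x e hTe, hx, H.smul_left]]) hfr
    let w : Fin (n + 1) → V := Fin.cons e fun i => (b i : V)
    have hspan : ⊤ ≤ Submodule.span F (Set.range w) := fun x _ => by
      have e1 : x = H.h x e • e + (π x : V) := by rw [hπ]; abel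
      rw [e1]
      refine add_mem (Submodule.smul_mem _ _ (Submodule.subset_span ⟨0, rfl⟩)) ?_
      refine Submodule.span_mono ?_ (Submodule.apply_mem_span_image_of_mem_span U.subtype
        (show π x ∈ Submodule.span F (Set.range b) by rw [b.span_eq]; trivial))
      rintro _ ⟨_, ⟨i, rfl⟩, rfl⟩
      exact ⟨i.succ, rfl⟩
    refine ⟨basisOfTopLeSpanOfCardEqFinrank w hspan (by rw [Fintype.card_fin, hn]), ?_, ?_⟩
    · simp only [coe_basisOfTopLeSpanOfCardEqFinrank]
      have o1 : ∀ i, H.h (b i : V) e = 0 := fun i => (hUmem _).mp (b i).2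
      intro i j
      refine Fin.cases ?_ (fun i => ?_) i <;> refine Fin.cases ?_ (fun j => ?_) j
      · simp [w, he1]
      · simp [w, H.eq_zero_symm (o1 j), (Fin.succ_ne_zero j).symm]
      · simp [w, o1 i, Fin.succ_ne_zero i]
      · simp only [w, Fin.cons_succ, Fin.succ_inj]
        exact hb i j
    · simp only [coe_basisOfTopLeSpanOfCardEqFinrank]
      intro i
      refine Fin.cases ⟨ν, hν, hTe⟩ (fun i => ?_) i
      obtain ⟨α, hα, hi⟩ := hbT i
      exact ⟨α, hα, congrArg Subtype.val hi⟩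

end Unitary

/-- Eigenbasis matrices. -/
theorem frame_of_basis {ι : Type} [Fintype ι] [DecidableEq ι] (x : GL ι F) (b : Module.Basis ι F (ι → F)) (d : ι → F)
    (h : ∀ i, (x : Matrix ι ι F) *ᵥ b i = d i • b i) :
    (x : Matrix ι ι F) * ((linToGL ι F b.equivFun.symm : GL ι F) : Matrix ι ι F) =
      ((linToGL ι F b.equivFun.symm : GL ι F) : Matrix ι ι F) * Matrix.diagonal d := by
  refine Matrix.ext_of_mulVec_single fun i => ?_
  rw [← Matrix.mulVec_mulVec, ← Matrix.mulVec_mulVec, linToGL_mulVec, linToGL_mulVec,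
    show b.equivFun.symm (Pi.single i 1) = b i by simp [Module.Basis.equivFun_symm_apply, Pi.single_apply], h,
    Matrix.diagonal_mulVec_single, mul_one, show (Pi.single i (d i) : ι → F) = d i • Pi.single i 1 by
      rw [← Pi.single_smul, smul_eq_mul, mul_one], map_smul]
  congr 1
  simp [Module.Basis.equivFun_symm_apply, Pi.single_apply]

theorem toLin_pow {x : GG} {n : ℕ} {z : F} (hx : (x : MM) ^ n = z • 1) :
    (Matrix.toLin' (x : MM)) ^ n = z • 1 := by
  rw [← Matrix.toLin'_pow, hx, map_smul, Matrix.toLin'_one]; rfl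

theorem amb_linear (h2 : (2 : F) ≠ 0) (h3 : (3 : F) ≠ 0) (hw : ∃ ω : F, ω ^ 2 + ω + 1 = 0) (hnine : nine → ∀ z : F, z ^ 3 = 1 → ∃ l, l ^ 3 = z) :
    Amb (⊤ : Subgroup GG) nine where
  perm := fun _ => trivial
  negOne := trivial
  diag := fun g _ => by
    have h0 : (g : MM).det ≠ 0 := (Matrix.isUnits_det_units g).ne_zero
    exact ⟨⟨Matrix.diagonal ![(g : MM).det, 1, 1], Matrix.diagonal ![((g : MM).det)⁻¹, 1, 1],
      by rw [Matrix.diagonal_mul_diagonal, ← Matrix.diagonal_one]; congr 1; funext i; fin_cases i <;> simp [h0],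
      by rw [Matrix.diagonal_mul_diagonal, ← Matrix.diagonal_one]; congr 1; funext i; fin_cases i <;> simp [h0]⟩,
      trivial, rfl⟩
  frame := by
    intro x _ n z hz hn hx
    classical
    obtain ⟨l, hl⟩ : ∃ l : F, l ^ n = z := by
      rcases hn with rfl | ⟨rfl, h9⟩
      · exact ⟨z ^ 2, by linear_combination z * hz⟩
      · exact hnine h9 z hz
    obtain ⟨ω, hω⟩ := hw
    have hz0 : z ≠ 0 := fun e => by rw [e] at hz; simp at hz
    have hsp : ⊤ ≤ Submodule.span F {v : Fin 3 → F | ∃ ν : F, ν ^ n = z ∧ Matrix.toLin' (x : MM) v = ν • v} :=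
      fun w _ => eigen_span _ h2 h3 hω (hn.imp id And.left) hl hz0 (toLin_pow hx) w
    let s := Module.Basis.ofSpan hsp
    let b := s.reindex (Fintype.equivOfCardEq (by
      rw [Fintype.card_fin, ← Module.finrank_eq_card_basis s, Module.finrank_fin_fun]))
    have hb : ∀ i, ∃ ν : F, ν ^ n = z ∧ Matrix.toLin' (x : MM) (b i) = ν • b i := fun i => by
      rw [Module.Basis.reindex_apply]
      exact Module.Basis.ofSpan_subset hsp ⟨_, rfl⟩
    choose d hd hbd using hb
    exact ⟨linToGL (Fin 3) F b.equivFun.symm, trivial, d, frame_of_basis x b d (fun i => by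
      rw [← Matrix.toLin'_apply]; exact hbd i), hd⟩

set_option maxHeartbeats 800000 in
theorem amb_unitary {q : ℕ} (hF : Fintype.card F = q ^ 2) (h2 : (2 : F) ≠ 0) (h3 : (3 : F) ≠ 0)
    (hw : ∃ ω : F, ω ^ 2 + ω + 1 = 0) (h6 : 6 ∣ q + 1) (hnine : nine → 9 ∣ q + 1) :
    Amb (Cfsg.GU 3 F q) nine where
  perm := fun σ u v => by
    show Cfsg.hermForm 3 F q (perm3 σ *ᵥ u) (perm3 σ *ᵥ v) = _
    have h : ∀ w : Fin 3 → F, perm3 σ *ᵥ w = fun i => w (σ.symm i) := fun w => funext fun i => by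
      simp [perm3, Matrix.mulVec, dotProduct, ← Equiv.symm_apply_eq σ, eq_comm]
    rw [h, h]
    exact Equiv.sum_comp σ.symm (fun i => u i * v i ^ q)
  negOne := fun u v => by
    show Cfsg.hermForm 3 F q (((-1 : GG) : MM) *ᵥ u) (((-1 : GG) : MM) *ᵥ v) = _
    rw [← stdHerm_h hF, ← stdHerm_h hF, Units.val_neg, Units.val_one, Matrix.neg_mulVec, Matrix.neg_mulVec,
      Matrix.one_mulVec, Matrix.one_mulVec, HermSpace.neg_left, HermSpace.neg_right, neg_neg]
  diag := fun g hg => by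
    obtain ⟨g', rfl⟩ := (range_unitToGL hF).symm ▸ hg
    set δ := ((unitToGL hF g' : GG) : MM).det with hδ
    have hd : δ * δ ^ q = 1 := by
      have hgram : ((unitToGL hF g' : GG) : MM)ᵀ * (((unitToGL hF g' : GG) : MM)).map (fun y => powConj hF y) = 1 := by
        ext i j
        have h := (stdHerm 3 hF).map_form g' (Pi.single i 1) (Pi.single j 1)
        rw [← unitToGL_mulVec, ← unitToGL_mulVec, Matrix.mulVec_single_one, Matrix.mulVec_single_one] at h
        simp only [stdHerm, Matrix.col_apply] at h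
        rw [Matrix.mul_apply]
        simp only [Matrix.transpose_apply, Matrix.map_apply]
        refine h.trans ?_
        rw [Matrix.one_apply]
        simp [Pi.single_apply, eq_comm]
      have h := congrArg Matrix.det hgram
      rw [Matrix.det_mul, Matrix.det_transpose, Matrix.det_one] at h
      rw [← powConj_apply hF, RingHom.map_det]
      exact h
    have h0 : δ ≠ 0 := left_ne_zero_of_mul (hd ▸ one_ne_zero)
    let t : GG := ⟨Matrix.diagonal ![δ, 1, 1], Matrix.diagonal ![δ⁻¹, 1, 1],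
      by rw [Matrix.diagonal_mul_diagonal, ← Matrix.diagonal_one]; congr 1; funext i; fin_cases i <;> simp [h0],
      by rw [Matrix.diagonal_mul_diagonal, ← Matrix.diagonal_one]; congr 1; funext i; fin_cases i <;> simp [h0]⟩
    refine ⟨t, fun u v => ?_, ?_⟩
    rotate_left
    · rfl
    show Cfsg.hermForm 3 F q (Matrix.diagonal ![δ, 1, 1] *ᵥ u) (Matrix.diagonal ![δ, 1, 1] *ᵥ v) = _
    simp only [Cfsg.hermForm, Fin.sum_univ_three, Matrix.mulVec_diagonal]
    simp [mul_pow]
    linear_combination (u 0 * v 0 ^ q) * hd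
  frame := by
    intro x hx n z hz hn hxn
    classical
    obtain ⟨ω, hω⟩ := hw
    have hz0 : z ≠ 0 := fun e => by rw [e] at hz; simp at hz
    obtain ⟨l, hl⟩ : ∃ l : F, l ^ n = z := by
      rcases hn with rfl | ⟨rfl, h9⟩
      · exact ⟨z ^ 2, by linear_combination z * hz⟩
      · refine exists_root_three ((hnine h9).trans ⟨q - 1, ?_⟩) hz
        rw [hF, ← Nat.sq_sub_sq, one_pow]
    have hdvd : 3 * n ∣ q + 1 := by
      rcases hn with rfl | ⟨rfl, h9⟩
      exacts [h6, hnine h9]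
    obtain ⟨b, hb, hbT⟩ := orth_eigen {ν : F | ν ^ n = z} 3 (stdHerm 3 hF) (Matrix.toLin' (x : MM))
      (fun ν hν => by
        rw [show (stdHerm 3 hF).σ ν = ν ^ q from powConj_apply hF ν, ← pow_succ']
        obtain ⟨k, hk⟩ := hdvd
        rw [hk, pow_mul, mul_comm 3 n, pow_mul, show ν ^ n = z from hν, hz, one_pow])
      (fun u v => by
        rw [Matrix.toLin'_apply, Matrix.toLin'_apply, stdHerm_h, stdHerm_h]; exact hx u v)
      (fun w => eigen_span _ h2 h3 hω (hn.imp id And.left) hl hz0 (toLin_pow hxn) w) (Module.finrank_fin_fun F)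
    choose d hd hbd using hbT
    refine ⟨linToGL (Fin 3) F b.equivFun.symm, fun u v => ?_, d, frame_of_basis x b d (fun i => by
      rw [← Matrix.toLin'_apply]; exact hbd i), hd⟩
    show Cfsg.hermForm 3 F q (((linToGL (Fin 3) F b.equivFun.symm : GG) : MM) *ᵥ u)
      (((linToGL (Fin 3) F b.equivFun.symm : GG) : MM) *ᵥ v) = _
    rw [linToGL_mulVec, linToGL_mulVec, ← stdHerm_h hF, ← stdHerm_h hF, (stdHerm 3 hF).h_eq_sum b hb,
      ← b.equivFun_apply, ← b.equivFun_apply, LinearEquiv.apply_symm_apply, LinearEquiv.apply_symm_apply]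
    rfl

end Cfsg.Lib.Classical.ExtraThree
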