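import Mathlib
import Cfsg.Agent.Classical.Misc.ExtraThreeMain
import Cfsg.Prelude.Def_Classical

/-! The normalisers of `3^{1+2}` in `SL₃(p)` and `SU₃(p)`. -/

set_option autoImplicit false
set_option linter.unusedSimpArgs false
set_option linter.unusedSectionVars false
set_option linter.unusedVariables false
set_option linter.style.haveILetI false
set_option linter.flexible false

namespace Cfsg.Lib.Classical.ExtraThree

open Matrix Cfsg.Lib.Classical

universe u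

variable {F : Type u} [Field F] [Fintype F]

local notation "MM" => Matrix (Fin 3) (Fin 3) F
local notation "GG" => GL (Fin 3) F

theorem mod_linear : ∀ k : ZMod 81, (k.val % 9 = 4 ∨ k.val % 9 = 7) → k ^ 3 * ((k ^ 2 - 1) * (k ^ 3 - 1)) ≠ 0 := by
  decide

theorem mod_unitary : ∀ k : ZMod 81, (k.val % 9 = 2 ∨ k.val % 9 = 5) → k ^ 3 * ((k ^ 2 - 1) * (k ^ 3 + 1)) ≠ 0 := by
  decide

theorem cast_ne_zero {p : ℕ} [Fact p.Prime] [CharP F p] {m : ℕ} (hm : ¬ p ∣ m) : (m : F) ≠ 0 := fun h =>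
  hm ((CharP.cast_eq_zero_iff F p m).mp h)

theorem not_dvd_card_SL {p : ℕ} (hF : Fintype.card F = p) (hp9 : p % 9 = 4 ∨ p % 9 = 7) :
    ¬ 81 ∣ Nat.card ((⊤ : Subgroup GG) ⊓ Cfsg.Geo.specialLinear (Fin 3) F : Subgroup GG) := by
  have hp1 : 1 < p := hF ▸ Fintype.one_lt_card
  have h := card_SL_mul_eq_prod (F := F) (n := 3) (by norm_num)
  rw [hF, Fin.prod_univ_three] at h
  simp only [Fin.val_zero, Fin.val_one, Fin.val_two, pow_zero, pow_one] at h
  have hSL : Nat.card (SpecialLinearGroup (Fin 3) F) = p ^ 3 * ((p ^ 2 - 1) * (p ^ 3 - 1)) := by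
    refine Nat.eq_of_mul_eq_mul_left (by omega : 0 < p - 1) (h.trans ?_)
    zify [Nat.one_le_pow 2 p (by omega), Nat.one_le_pow 3 p (by omega), hp1.le,
      Nat.pow_le_pow_right (by omega : 1 ≤ p) (by norm_num : 2 ≤ 3), Nat.le_self_pow (by norm_num : 3 ≠ 0) p]
    ring
  rw [top_inf_eq, Cfsg.Geo.specialLinear, ← range_toGL,
    ← Nat.card_congr (MonoidHom.ofInjective (toGL_injective' (ι := Fin 3) (F := F))).toEquiv, hSL]
  intro hd
  rw [← ZMod.natCast_eq_zero_iff] at hd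
  simp only [Nat.cast_mul, Nat.cast_pow, Nat.cast_sub (Nat.one_le_pow _ p (by omega)), Nat.cast_one] at hd
  exact mod_linear _ (by rw [ZMod.val_natCast, Nat.mod_mod_of_dvd _ (by norm_num : 9 ∣ 81)]; exact hp9) hd

theorem linear_main {p : ℕ} [Fact p.Prime] [CharP F p] (hF : Fintype.card F = p) (hp3 : p % 3 = 1)
    (R : Subgroup GG) (hR : Nat.card R = 27) (hRe : Monoid.exponent R = 3) (hRna : ¬ IsMulCommutative R)
    (r : ℕ) [Fact r.Prime]
    (hΩ : r ∣ (Cfsg.Geo.subgroupNormalizer R).relIndex (Cfsg.Geo.specialLinear (Fin 3) F)) :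
    (∀ x ∈ Cfsg.Geo.specialLinear (Fin 3) F, (∃ z : F, ((x ^ r : GG) : MM) = z • (1 : MM)) →
      (∀ z : F, (x : MM) ≠ z • (1 : MM)) →
      ∃ g ∈ Cfsg.Geo.specialLinear (Fin 3) F, g⁻¹ * x * g ∈ Cfsg.Geo.subgroupNormalizer R) ↔
    (r = 2 ∨ (r = 3 ∧ p % 9 = 1)) := by
  classical
  have hp := (Fact.out : p.Prime)
  have hp7 : 5 ≤ p := by
    have := hp.two_le
    have h4 : p ≠ 4 := fun e => by rw [e] at hp; norm_num at hp
    omega
  have h2 : (2 : F) ≠ 0 := by exact_mod_cast cast_ne_zero (F := F) (p := p) (m := 2) (Nat.not_dvd_of_pos_of_lt (by norm_num) (by omega))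
  have h3 : (3 : F) ≠ 0 := by exact_mod_cast cast_ne_zero (F := F) (p := p) (m := 3) (Nat.not_dvd_of_pos_of_lt (by norm_num) (by omega))
  have h31 : 3 ∣ Fintype.card F - 1 := by rw [hF]; omega
  obtain ⟨ω₀, hω₀⟩ := exists_omega h31
  obtain ⟨ω, Pm, c, a, b, S⟩ := exists_frame h3 hω₀ R hR hRe hRna
  have A := amb_linear (F := F) (nine := p % 9 = 1) h2 h3 ⟨ω₀, hω₀⟩
    (fun h9 z hz => exists_root_three (by rw [hF]; omega) hz)
  have h := A.main S trivial h2 h3 hR le_top (fun h9 => not_dvd_card_SL hF (by omega)) (r := r)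
    (by rw [top_inf_eq]; exact hΩ)
  rw [top_inf_eq] at h
  exact h

theorem card_GU_inf_SL {q : ℕ} :
    Nat.card (Cfsg.GU 3 F q ⊓ Cfsg.Geo.specialLinear (Fin 3) F : Subgroup GG) = Nat.card (Cfsg.SU 3 F q) := by
  have e : Cfsg.GU 3 F q ⊓ Cfsg.Geo.specialLinear (Fin 3) F =
      (Cfsg.SU 3 F q).map (SpecialLinearGroup.toGL : SpecialLinearGroup (Fin 3) F →* GG) := by
    ext g
    rw [Cfsg.Geo.specialLinear, ← range_toGL, Subgroup.mem_inf, Subgroup.mem_map]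
    constructor
    · rintro ⟨hg, A, rfl⟩
      exact ⟨A, hg, rfl⟩
    · rintro ⟨A, hA, rfl⟩
      exact ⟨hA, A, rfl⟩
  rw [e, ← Nat.card_congr ((Cfsg.SU 3 F q).equivMapOfInjective _ toGL_injective').toEquiv]

theorem not_dvd_card_SU {p : ℕ} (hF : Fintype.card F = p ^ 2) (hp1 : 1 ≤ p) (hp9 : p % 9 = 2 ∨ p % 9 = 5) :
    ¬ 81 ∣ Nat.card (Cfsg.GU 3 F p ⊓ Cfsg.Geo.specialLinear (Fin 3) F : Subgroup GG) := by
  have hSU : Nat.card (Cfsg.SU 3 F p) = p ^ 3 * ((p ^ 2 - 1) * (p ^ 3 + 1)) := by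
    refine Nat.eq_of_mul_eq_mul_left (by omega : 0 < p + 1) ((card_SU_mul hF (n := 3) (by norm_num)).trans ?_)
    simp [cardGUFormula, Finset.prod_range_succ, Nat.even_iff]
    ring
  rw [card_GU_inf_SL, hSU]
  intro hd
  rw [← ZMod.natCast_eq_zero_iff] at hd
  simp only [Nat.cast_mul, Nat.cast_add, Nat.cast_pow, Nat.cast_sub (Nat.one_le_pow _ p (by omega)), Nat.cast_one] at hd
  exact mod_unitary _ (by rw [ZMod.val_natCast, Nat.mod_mod_of_dvd _ (by norm_num : 9 ∣ 81)]; exact hp9) hd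

/-- A frame for a subgroup of the unitary group can be made orthonormal. -/
theorem exists_unitary_frame {q : ℕ} (hF : Fintype.card F = q ^ 2) (h3 : (3 : F) ≠ 0) (h31 : 3 ∣ q + 1)
    {R : Subgroup GG} (hRU : R ≤ Cfsg.GU 3 F q) {ω : F} {Pm c a b : GG} (S : Frame R ω Pm c a b) :
    ∃ Q ∈ Cfsg.GU 3 F q, Frame R ω Q c a b := by
  classical
  set H := stdHerm 3 hF with hH
  have hω3 := root_pow S.root
  have hω1 := root_ne h3 S.root
  set v : Fin 3 → Fin 3 → F := fun i => (Pm : MM) *ᵥ Pi.single i 1 with hv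
  have hiso : ∀ g ∈ R, ∀ x y, H.h ((g : MM) *ᵥ x) ((g : MM) *ᵥ y) = H.h x y := fun g hg x y => by
    rw [stdHerm_h, stdHerm_h]; exact hRU hg x y
  have hav : ∀ i, (a : MM) *ᵥ v i = ![1, ω, ω ^ 2] i • v i := fun i => by
    simp only [v]
    rw [Matrix.mulVec_mulVec, S.eqa, ← Matrix.mulVec_mulVec, dA, Matrix.diagonal_mulVec_single, mul_one,
      ← Matrix.mulVec_smul]
    congr 1
    simp [← Pi.single_smul]
  have hσ : ∀ x : F, H.σ x = x ^ q := powConj_apply hF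
  have horth : ∀ i j, i ≠ j → H.h (v i) (v j) = 0 := fun i j hij => by
    have h := hiso a S.mem_a (v i) (v j)
    rw [hav, hav, H.smul_left, H.smul_right, hσ, ← mul_assoc] at h
    refine (mul_eq_zero.mp (show (![1, ω, ω ^ 2] i * ![1, ω, ω ^ 2] j ^ q - 1) * H.h (v i) (v j) = 0 by
      linear_combination h)).resolve_left fun e => ?_
    have hω0 : ω ≠ 0 := fun e' => by rw [e'] at hω3; simp at hω3
    have hlq : ∀ k, (![1, ω, ω ^ 2] k) ^ q * ![1, ω, ω ^ 2] k = 1 := fun k => by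
      obtain ⟨m, hm⟩ := h31
      have h : (![1, ω, ω ^ 2] k) ^ 3 = 1 := by
        fin_cases k
        · exact one_pow 3
        · exact hω3
        · show (ω ^ 2) ^ 3 = 1
          rw [← pow_mul, mul_comm, pow_mul, hω3, one_pow]
      rw [← pow_succ, hm, pow_mul, h, one_pow]
    have e' : (![1, ω, ω ^ 2] i : F) = ![1, ω, ω ^ 2] j := by
      linear_combination ![1, ω, ω ^ 2] j * e - ![1, ω, ω ^ 2] i * hlq j
    have h21 : ω ^ 2 ≠ 1 := fun e2 => hω1 (by linear_combination (-ω) * e2 + hω3)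
    have h2w : ω ^ 2 ≠ ω := fun e2 => hω1 (mul_left_cancel₀ hω0 (by linear_combination e2))
    fin_cases i <;> fin_cases j <;> simp [hω1, hω1.symm, h21, h21.symm, h2w, h2w.symm] at hij e'
  have hb01 : (b : MM) *ᵥ v 0 = v 1 ∧ (b : MM) *ᵥ v 1 = v 2 := by
    simp only [v]
    rw [Matrix.mulVec_mulVec, S.eqb, ← Matrix.mulVec_mulVec, Matrix.mulVec_mulVec (Pi.single 1 1) (b : MM), S.eqb,
      ← Matrix.mulVec_mulVec]
    constructor <;> congr 1 <;> funext o <;> fin_cases o <;> simp [mB, Matrix.mulVec_single]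
  set k := H.h (v 0) (v 0) with hk
  have hkk : ∀ i, H.h (v i) (v i) = k := fun i => by
    have h1 := hiso b S.mem_b (v 0) (v 0)
    have h2 := hiso b S.mem_b (v 1) (v 1)
    rw [hb01.1] at h1
    rw [hb01.2] at h2
    fin_cases i
    exacts [rfl, h1, h2.trans h1]
  have hexp : ∀ u, (Pm : MM) *ᵥ u = u 0 • v 0 + u 1 • v 1 + u 2 • v 2 := fun u => by
    simp only [v, ← Matrix.mulVec_smul, ← Matrix.mulVec_add]
    congr 1
    funext o
    fin_cases o <;> simp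
  have hgram : ∀ u w, H.h ((Pm : MM) *ᵥ u) ((Pm : MM) *ᵥ w) = k * H.h u w := fun u w => by
    rw [hexp, hexp]
    simp only [H.add_left, H.add_right, H.smul_left, H.smul_right, horth 0 1 (by decide), horth 0 2 (by decide),
      horth 1 0 (by decide), horth 1 2 (by decide), horth 2 0 (by decide), horth 2 1 (by decide), hkk, mul_zero,
      add_zero, zero_add]
    rw [stdHerm_h, Cfsg.hermForm, Fin.sum_univ_three, hσ, hσ, hσ]
    ring
  have hk0 : k ≠ 0 := fun e => by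
    have h1 : ∀ x, (Pm : MM) *ᵥ (((Pm⁻¹ : GG) : MM) *ᵥ x) = x := fun x => by
      rw [Matrix.mulVec_mulVec, ← Units.val_mul, mul_inv_cancel, Units.val_one, Matrix.one_mulVec]
    have h2 : (Pi.single 0 1 : Fin 3 → F) = 0 := H.nondeg _ fun x => by
      rw [← h1 (Pi.single 0 1), ← h1 x, hgram, e, zero_mul]
    simpa using congrFun h2 0
  obtain ⟨t, ht⟩ := H.conj.norm_surjective (a := k⁻¹) (by rw [map_inv₀, H.self_fixed])
  have ht0 : t ≠ 0 := fun e => by rw [e, zero_mul] at ht; exact inv_ne_zero hk0 ht.symm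
  let Q : GG := ⟨t • (Pm : MM), t⁻¹ • ((Pm⁻¹ : GG) : MM),
    by rw [smul_mul_smul_comm, mul_inv_cancel₀ ht0, one_smul, ← Units.val_mul, mul_inv_cancel, Units.val_one],
    by rw [smul_mul_smul_comm, inv_mul_cancel₀ ht0, one_smul, ← Units.val_mul, inv_mul_cancel, Units.val_one]⟩
  refine ⟨Q, fun u w => ?_, S.scale Q rfl⟩
  show Cfsg.hermForm 3 F q ((t • (Pm : MM)) *ᵥ u) ((t • (Pm : MM)) *ᵥ w) = _
  rw [← stdHerm_h hF, ← stdHerm_h hF, ← hH, Matrix.smul_mulVec, Matrix.smul_mulVec, H.smul_left, H.smul_right, hgram,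
    show t * (H.σ t * (k * H.h u w)) = (t * H.σ t * k) * H.h u w by ring, ht, inv_mul_cancel₀ hk0, one_mul]

theorem unitary_main {p : ℕ} [Fact p.Prime] [CharP F p] (hF : Fintype.card F = p ^ 2) (hp : 5 ≤ p) (hp3 : p % 3 = 2)
    (R : Subgroup GG) (hRU : R ≤ Cfsg.GU 3 F p) (hR : Nat.card R = 27) (hRe : Monoid.exponent R = 3)
    (hRna : ¬ IsMulCommutative R) (r : ℕ) [Fact r.Prime]
    (hΩ : r ∣ (Cfsg.Geo.subgroupNormalizer R).relIndex (Cfsg.GU 3 F p ⊓ Cfsg.Geo.specialLinear (Fin 3) F)) :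
    (∀ x ∈ Cfsg.GU 3 F p ⊓ Cfsg.Geo.specialLinear (Fin 3) F, (∃ z : F, ((x ^ r : GG) : MM) = z • (1 : MM)) →
      (∀ z : F, (x : MM) ≠ z • (1 : MM)) →
      ∃ g ∈ Cfsg.GU 3 F p ⊓ Cfsg.Geo.specialLinear (Fin 3) F, g⁻¹ * x * g ∈ Cfsg.Geo.subgroupNormalizer R) ↔
    (r = 2 ∨ (r = 3 ∧ p % 9 = 8)) := by
  classical
  have hpp := (Fact.out : p.Prime)
  have h2 : (2 : F) ≠ 0 := by exact_mod_cast cast_ne_zero (F := F) (p := p) (m := 2) (Nat.not_dvd_of_pos_of_lt (by norm_num) (by omega))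
  have h3 : (3 : F) ≠ 0 := by exact_mod_cast cast_ne_zero (F := F) (p := p) (m := 3) (Nat.not_dvd_of_pos_of_lt (by norm_num) (by omega))
  have hodd : p % 2 = 1 := Nat.odd_iff.mp (hpp.odd_of_ne_two (by omega))
  have h31 : 3 ∣ Fintype.card F - 1 := by
    have e : p ^ 2 - 1 = (p + 1) * (p - 1) := by rw [← Nat.sq_sub_sq, one_pow]
    rw [hF, e]
    exact Dvd.dvd.mul_right (by omega) _
  obtain ⟨ω₀, hω₀⟩ := exists_omega h31
  obtain ⟨ω, Pm, c, a, b, S⟩ := exists_frame h3 hω₀ R hR hRe hRna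
  obtain ⟨Q, hQ, SQ⟩ := exists_unitary_frame hF h3 (by omega) hRU S
  have A := amb_unitary (F := F) (nine := p % 9 = 8) hF h2 h3 ⟨ω₀, hω₀⟩ (by omega) (fun h9 => by omega)
  exact A.main SQ hQ h2 h3 hR hRU (fun h9 => not_dvd_card_SU hF (by omega) (by omega)) hΩ

end Cfsg.Lib.Classical.ExtraThree
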