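import Mathlib
import Cfsg.Prelude.Def_GeometricClasses

/-! Fixed-point spaces in primitive soluble linear groups. -/

set_option autoImplicit false
set_option linter.unusedSimpArgs false
set_option linter.unusedSectionVars false
set_option linter.style.haveILetI false
set_option linter.flexible false

namespace Cfsg.Lib.Classical.SolFix

open Matrix
open scoped MatrixGroups commutatorElement

universe u

variable {F : Type u} [Field F] {n : ℕ}

/-- The fixed space. -/
def fixSp (g : GL (Fin n) F) : Submodule F (Fin n → F) :=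
  LinearMap.ker (Matrix.toLin' (g : Matrix (Fin n) (Fin n) F) - 1)

theorem mem_fixSp (g : GL (Fin n) F) (v : Fin n → F) :
    v ∈ fixSp g ↔ (g : Matrix (Fin n) (Fin n) F) *ᵥ v = v := by
  simp [fixSp, sub_eq_zero]

theorem fixSp_eq (g : GL (Fin n) F) :
    Module.End.eigenspace (Matrix.toLin' (g : Matrix (Fin n) (Fin n) F)) 1 = fixSp g := by
  ext v
  rw [Module.End.mem_eigenspace_iff, mem_fixSp, Matrix.toLin'_apply, one_smul]

/-- A commutator fixes a large space. -/
theorem commutator_fix (g y : GL (Fin n) F) :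
    2 * Module.finrank F (fixSp g) ≤ n + Module.finrank F (fixSp ⁅g, y⁆) := by
  set W := (fixSp g).map (Matrix.toLin' (y : Matrix (Fin n) (Fin n) F)) with hW
  have hinj : Function.Injective (Matrix.toLin' (y : Matrix (Fin n) (Fin n) F)) :=
    Function.LeftInverse.injective (g := Matrix.toLin' ((y⁻¹ : GL (Fin n) F) : Matrix (Fin n) (Fin n) F)) fun v => by
      rw [Matrix.toLin'_apply, Matrix.toLin'_apply, Matrix.mulVec_mulVec, ← Units.val_mul, inv_mul_cancel,
        Units.val_one, Matrix.one_mulVec]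
  have hd : Module.finrank F W = Module.finrank F (fixSp g) :=
    (LinearEquiv.finrank_eq (Submodule.equivMapOfInjective _ hinj (fixSp g))).symm
  have hle : fixSp g ⊓ W ≤ fixSp ⁅g, y⁆ := by
    rintro v ⟨hv, w, hw, rfl⟩
    rw [SetLike.mem_coe, mem_fixSp] at hw hv
    rw [Matrix.toLin'_apply] at hv ⊢
    rw [mem_fixSp, commutatorElement_def, Units.val_mul, Units.val_mul, Units.val_mul,
      ← Matrix.mulVec_mulVec, ← Matrix.mulVec_mulVec, ← Matrix.mulVec_mulVec]
    rw [show ((y⁻¹ : GL (Fin n) F) : Matrix (Fin n) (Fin n) F) *ᵥ ((y : Matrix (Fin n) (Fin n) F) *ᵥ w) = w by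
      rw [Matrix.mulVec_mulVec, ← Units.val_mul, inv_mul_cancel, Units.val_one, Matrix.one_mulVec]]
    rw [show ((g⁻¹ : GL (Fin n) F) : Matrix (Fin n) (Fin n) F) *ᵥ w = w by
      conv_lhs => rw [← hw]
      rw [Matrix.mulVec_mulVec, ← Units.val_mul, inv_mul_cancel, Units.val_one, Matrix.one_mulVec]]
    rw [hv]
  have h1 := Submodule.finrank_sup_add_finrank_inf_eq (fixSp g) W
  have h2 : Module.finrank F ↥(fixSp g ⊔ W) ≤ n := (Submodule.finrank_le _).trans (by simp)
  have h3 := Submodule.finrank_mono hle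
  omega

variable [Fintype F] (G : Subgroup (GL (Fin n) F))
  (hirr : Cfsg.Geo.ActsIrreducibly (Cfsg.Geo.matrixSet G))
  (hprim : ∀ (m t : ℕ) (D : Fin t → Submodule F (Fin n → F)), 2 ≤ t → Cfsg.Geo.IsMDecomposition m D →
    ¬ G ≤ Cfsg.Geo.decompositionStabilizer D)
include hirr hprim

/-- Non-identity elements of normal abelian subgroups move every vector. -/
theorem abelian_fix (A : Subgroup (GL (Fin n) F)) (hcomm : ∀ a ∈ A, ∀ b ∈ A, a * b = b * a)
    (hnorm : ∀ x ∈ G, ∀ a ∈ A, x * a * x⁻¹ ∈ A) {z : GL (Fin n) F} (hz : z ∈ A) (hz1 : z ≠ 1) :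
    fixSp z = ⊥ := by
  classical
  set S : Set (Matrix (Fin n) (Fin n) F) := Cfsg.Geo.matrixSet A
  set R : Subalgebra F (Matrix (Fin n) (Fin n) F) := Algebra.adjoin F S with hR
  have hSc : ∀ a ∈ S, ∀ b ∈ S, a * b = b * a := by
    rintro _ ⟨a, ha, rfl⟩ _ ⟨b, hb, rfl⟩
    show (a : Matrix (Fin n) (Fin n) F) * b = b * a
    rw [← Units.val_mul, hcomm a ha b hb, Units.val_mul]
  have hRc : ∀ a ∈ R, ∀ b ∈ R, a * b = b * a := fun a ha b hb =>
    Subtype.ext_iff.mp (((Algebra.adjoinCommSemiringOfComm F hSc).mul_comm : ∀ a b : R, a * b = b * a) ⟨a, ha⟩ ⟨b, hb⟩)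
  have hconj : ∀ x ∈ G, ∀ r ∈ R, (x : Matrix (Fin n) (Fin n) F) * r * ((x⁻¹ : GL (Fin n) F) : Matrix (Fin n) (Fin n) F) ∈ R := by
    intro x hx r hr
    have hxx : ((x⁻¹ : GL (Fin n) F) : Matrix (Fin n) (Fin n) F) * (x : Matrix (Fin n) (Fin n) F) = 1 := by
      rw [← Units.val_mul, inv_mul_cancel, Units.val_one]
    induction hr using Algebra.adjoin_induction with
    | mem a ha =>
      obtain ⟨a, ha, rfl⟩ := ha
      exact Algebra.subset_adjoin ⟨x * a * x⁻¹, hnorm x hx a ha, by simp [Units.val_mul]⟩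
    | algebraMap c =>
      rw [Algebra.algebraMap_eq_smul_one, mul_smul_comm, mul_one, smul_mul_assoc, ← Units.val_mul, mul_inv_cancel,
        Units.val_one, ← Algebra.algebraMap_eq_smul_one]
      exact R.algebraMap_mem c
    | add a b _ _ ha hb => rw [mul_add, add_mul]; exact R.add_mem ha hb
    | mul a b _ _ ha hb =>
      rw [show (x : Matrix (Fin n) (Fin n) F) * (a * b) * ((x⁻¹ : GL (Fin n) F) : Matrix (Fin n) (Fin n) F) =
        ((x : Matrix (Fin n) (Fin n) F) * a * ((x⁻¹ : GL (Fin n) F) : Matrix (Fin n) (Fin n) F)) *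
          ((x : Matrix (Fin n) (Fin n) F) * b * ((x⁻¹ : GL (Fin n) F) : Matrix (Fin n) (Fin n) F)) by
        simp only [mul_assoc]
        rw [← mul_assoc _ (x : Matrix (Fin n) (Fin n) F), hxx, one_mul]]
      exact R.mul_mem ha hb
  have hinvar : ∀ (W : Submodule F (Fin n → F)),
      (∀ x ∈ G, ∀ w ∈ W, (x : Matrix (Fin n) (Fin n) F) *ᵥ w ∈ W) → W = ⊥ ∨ W = ⊤ := fun W hW =>
    hirr W fun s hs => by
      obtain ⟨x, hx, rfl⟩ := hs
      rintro _ ⟨w, hw, rfl⟩
      rw [Matrix.toLin'_apply]
      exact hW x hx w hw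
  -- no non-zero nilpotent element
  have hred : ∀ r ∈ R, IsNilpotent r → r = 0 := by
    intro r hr hnil
    let N : Submodule F (Fin n → F) :=
      ⨆ x : {s : Matrix (Fin n) (Fin n) F // s ∈ R ∧ IsNilpotent s}, LinearMap.range (Matrix.toLin' x.1)
    let K : Submodule F (Fin n → F) :=
      ⨅ x : {s : Matrix (Fin n) (Fin n) F // s ∈ R ∧ IsNilpotent s}, LinearMap.ker (Matrix.toLin' x.1)
    have hK : K = ⊥ ∨ K = ⊤ := by
      refine hinvar K fun x hx w hw => ?_
      simp only [K, Submodule.mem_iInf, LinearMap.mem_ker, Matrix.toLin'_apply] at hw ⊢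
      rintro ⟨s, hs, hn⟩
      have hs' := hconj x⁻¹ (G.inv_mem hx) s hs
      rw [inv_inv] at hs'
      have hn' : IsNilpotent (((x⁻¹ : GL (Fin n) F) : Matrix (Fin n) (Fin n) F) * s * (x : Matrix (Fin n) (Fin n) F)) := by
        obtain ⟨k, hk⟩ := hn
        refine ⟨k, ?_⟩
        rw [Units.conj_pow', hk]
        simp
      have := hw ⟨_, hs', hn'⟩
      simp only at this
      have h2 := congrArg ((x : Matrix (Fin n) (Fin n) F) *ᵥ ·) this
      simp only [Matrix.mulVec_mulVec, Matrix.mulVec_zero, ← mul_assoc, ← Units.val_mul, mul_inv_cancel,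
        Units.val_one, one_mul] at h2
      rw [Matrix.mulVec_mulVec]
      exact h2
    rcases hK with hK | hK
    · -- some non-zero vector is killed by every nilpotent element
      exfalso
      have key : ∀ T : Finset {s : Matrix (Fin n) (Fin n) F // s ∈ R ∧ IsNilpotent s}, ∀ W : Submodule F (Fin n → F),
          W ≠ ⊥ → (∀ s ∈ R, ∀ w ∈ W, s *ᵥ w ∈ W) → ∃ v ∈ W, v ≠ 0 ∧ ∀ x ∈ T, x.1 *ᵥ v = 0 := by
        intro T
        induction T using Finset.induction_on with
        | empty =>
          intro W hW _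
          obtain ⟨v, hv, hv0⟩ := Submodule.exists_mem_ne_zero_of_ne_bot hW
          exact ⟨v, hv, hv0, by simp⟩
        | insert s T _ ih =>
          intro W hW hWR
          obtain ⟨⟨s, hsR, k, hk⟩, rfl⟩ : ∃ a, a = s := ⟨s, rfl⟩
          set W' := W ⊓ LinearMap.ker (Matrix.toLin' s) with hW'
          have hW'0 : W' ≠ ⊥ := by
            intro hbot
            have hz : ∀ v ∈ W, s *ᵥ v = 0 → v = 0 := fun v hv h => by
              have : v ∈ W' := ⟨hv, by simpa using h⟩
              simpa [hbot] using this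
            obtain ⟨v, hv, hv0⟩ := Submodule.exists_mem_ne_zero_of_ne_bot hW
            have : ∀ j, (s ^ j) *ᵥ v ∈ W ∧ (s ^ j) *ᵥ v ≠ 0 := by
              intro j
              induction j with
              | zero => simpa using ⟨hv, hv0⟩
              | succ j ihj =>
                rw [pow_succ', ← Matrix.mulVec_mulVec]
                exact ⟨hWR s hsR _ ihj.1, fun h => ihj.2 (hz _ ihj.1 h)⟩
            exact (this k).2 (by rw [hk, Matrix.zero_mulVec])
          obtain ⟨v, hv, hv0, hvT⟩ := ih W' hW'0 fun r hr w hw => by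
            refine ⟨hWR r hr w hw.1, ?_⟩
            have := hw.2
            simp only [SetLike.mem_coe, LinearMap.mem_ker, Matrix.toLin'_apply] at this ⊢
            rw [Matrix.mulVec_mulVec, hRc s hsR r hr, ← Matrix.mulVec_mulVec, this, Matrix.mulVec_zero]
          refine ⟨v, hv.1, hv0, fun x hx => ?_⟩
          rcases Finset.mem_insert.mp hx with rfl | hx
          · simpa using hv.2
          · exact hvT x hx
      haveI : Nonempty (Fin n) := by
        by_contra he
        rw [not_nonempty_iff] at he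
        exact hz1 (Units.ext (by ext i; exact he.elim i))
      haveI : Fintype {s : Matrix (Fin n) (Fin n) F // s ∈ R ∧ IsNilpotent s} := Fintype.ofFinite _
      obtain ⟨v, -, hv0, hv⟩ := key Finset.univ ⊤ top_ne_bot (by simp)
      have : v ∈ K := Submodule.mem_iInf _ |>.mpr fun x => by simpa using hv x (Finset.mem_univ x)
      rw [hK, Submodule.mem_bot] at this
      exact hv0 this
    · have h : LinearMap.ker (Matrix.toLin' r) = ⊤ := by
        rw [eq_top_iff, ← hK]
        exact iInf_le (fun x : {s : Matrix (Fin n) (Fin n) F // s ∈ R ∧ IsNilpotent s} => LinearMap.ker (Matrix.toLin' x.1)) ⟨r, hr, hnil⟩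
      rw [LinearMap.ker_eq_top] at h
      simpa using h
  -- only trivial idempotents
  have hidem : ∀ e ∈ R, e * e = e → e = 0 ∨ e = 1 := by
    by_contra hc
    push Not at hc
    obtain ⟨e0, he0, he0e, he00, he01⟩ := hc
    haveI : Fintype (Matrix (Fin n) (Fin n) F) := Fintype.ofFinite _
    let P : Finset (Matrix (Fin n) (Fin n) F) := Finset.univ.filter fun e => e ∈ R ∧ e * e = e ∧ e ≠ 0
    obtain ⟨e, heP, hmin⟩ := P.exists_min_image (fun e => Module.finrank F (LinearMap.range (Matrix.toLin' e)))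
      ⟨e0, by simp [P, he0, he0e, he00]⟩
    simp only [P, Finset.mem_filter, Finset.mem_univ, true_and] at heP hmin
    obtain ⟨heR, hee, he0'⟩ := heP
    have hrank : Module.finrank F (LinearMap.range (Matrix.toLin' e)) < n := by
      refine lt_of_le_of_lt (hmin e0 ⟨he0, he0e, he00⟩) ?_
      by_contra hlt
      have htop : LinearMap.range (Matrix.toLin' e0) = ⊤ := Submodule.eq_top_of_finrank_eq (by
        have := Submodule.finrank_le (LinearMap.range (Matrix.toLin' e0)); simp at this ⊢; omega)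
      apply he01
      apply Matrix.toLin'.injective
      refine LinearMap.ext fun v => ?_
      obtain ⟨w, rfl⟩ := (htop ▸ Submodule.mem_top : v ∈ LinearMap.range (Matrix.toLin' e0))
      simp [Matrix.mulVec_mulVec, he0e]
    let T : Finset (Matrix (Fin n) (Fin n) F) := Finset.univ.filter fun f =>
      ∃ x ∈ G, f = (x : Matrix (Fin n) (Fin n) F) * e * ((x⁻¹ : GL (Fin n) F) : Matrix (Fin n) (Fin n) F)
    have hTprop : ∀ f ∈ T, f ∈ R ∧ f * f = f ∧ Module.finrank F (LinearMap.range (Matrix.toLin' f)) =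
        Module.finrank F (LinearMap.range (Matrix.toLin' e)) := by
      intro f hf
      simp only [T, Finset.mem_filter, Finset.mem_univ, true_and] at hf
      obtain ⟨x, hx, rfl⟩ := hf
      refine ⟨hconj x hx e heR, ?_, ?_⟩
      · simp only [mul_assoc]
        rw [← mul_assoc ((x⁻¹ : GL (Fin n) F) : Matrix (Fin n) (Fin n) F), ← Units.val_mul, inv_mul_cancel,
          Units.val_one, one_mul, ← mul_assoc e e, hee]
      · show (Matrix.rank _) = Matrix.rank e
        rw [Matrix.rank_mul_eq_left_of_isUnit_det, Matrix.rank_mul_eq_right_of_isUnit_det] <;>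
          exact (Matrix.isUnit_iff_isUnit_det _).mp (Units.isUnit _)
    have horth : ∀ f ∈ T, ∀ f' ∈ T, f ≠ f' → f * f' = 0 := by
      intro f hf f' hf' hne
      obtain ⟨h1, h2, h3⟩ := hTprop f hf
      obtain ⟨h1', h2', h3'⟩ := hTprop f' hf'
      by_contra hne0
      have hcm := hRc f h1 f' h1'
      have hidm : (f * f') * (f * f') = f * f' := by
        rw [mul_assoc, ← mul_assoc f' f f', ← hcm, mul_assoc f f' f', h2', ← mul_assoc, h2]
      have hsame : ∀ a b : Matrix (Fin n) (Fin n) F, a * a = a →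
          LinearMap.range (Matrix.toLin' b) ≤ LinearMap.range (Matrix.toLin' a) → a * b = b := by
        intro a b ha hle
        apply Matrix.toLin'.injective
        refine LinearMap.ext fun v => ?_
        obtain ⟨w, hw⟩ := hle ⟨v, rfl⟩
        simp only [Matrix.toLin'_apply] at hw ⊢
        rw [← Matrix.mulVec_mulVec, ← hw, Matrix.mulVec_mulVec, ha]
      have hle : LinearMap.range (Matrix.toLin' (f * f')) ≤ LinearMap.range (Matrix.toLin' f) := by
        rw [Matrix.toLin'_mul]; exact LinearMap.range_comp_le_range _ _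
      have hle' : LinearMap.range (Matrix.toLin' (f * f')) ≤ LinearMap.range (Matrix.toLin' f') := by
        rw [hcm, Matrix.toLin'_mul]; exact LinearMap.range_comp_le_range _ _
      have hd := hmin (f * f') ⟨R.mul_mem h1 h1', hidm, hne0⟩
      have e1 := Submodule.eq_of_le_of_finrank_le hle (h3.le.trans hd)
      have e2 := Submodule.eq_of_le_of_finrank_le hle' (h3'.le.trans hd)
      have a1 := hsame f f' h2 (by rw [← e2]; exact hle)
      have a2 := hsame f' f h2' (by rw [← e1]; exact hle')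
      exact hne (by rw [← a2, ← hcm, a1])
    set Wt := fun f : T => LinearMap.range (Matrix.toLin' (f : Matrix (Fin n) (Fin n) F)) with hWt
    let E := ∑ f ∈ T, f
    have hEfix : ∀ f ∈ T, E * f = f := by
      intro f hf
      rw [Finset.sum_mul, Finset.sum_eq_single f (fun f' hf' hne => horth f' hf' f hf hne) (fun h => absurd hf h)]
      exact (hTprop f hf).2.1
    have hperm : ∀ x ∈ G, ∀ f ∈ T,
        (x : Matrix (Fin n) (Fin n) F) * f * ((x⁻¹ : GL (Fin n) F) : Matrix (Fin n) (Fin n) F) ∈ T := by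
      intro x hx f hf
      simp only [T, Finset.mem_filter, Finset.mem_univ, true_and] at hf ⊢
      obtain ⟨y, hy, rfl⟩ := hf
      exact ⟨x * y, G.mul_mem hx hy, by simp [Units.val_mul, mul_assoc, _root_.mul_inv_rev]⟩
    have hmapW : ∀ x, ∀ hx : x ∈ G, ∀ f : T, (Wt f).map (Matrix.toLin' (x : Matrix (Fin n) (Fin n) F)) = Wt ⟨_, hperm x hx f f.2⟩ := by
      intro x hx f
      have hxx : ((x⁻¹ : GL (Fin n) F) : Matrix (Fin n) (Fin n) F) * (x : Matrix (Fin n) (Fin n) F) = 1 := by
        rw [← Units.val_mul, inv_mul_cancel, Units.val_one]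
      ext v
      simp only [hWt, Submodule.mem_map, LinearMap.mem_range, Matrix.toLin'_apply]
      constructor
      · rintro ⟨_, ⟨w, rfl⟩, rfl⟩
        refine ⟨(x : Matrix (Fin n) (Fin n) F) *ᵥ w, ?_⟩
        simp only [Matrix.mulVec_mulVec, mul_assoc, hxx, mul_one]
      · rintro ⟨w, rfl⟩
        exact ⟨_, ⟨((x⁻¹ : GL (Fin n) F) : Matrix (Fin n) (Fin n) F) *ᵥ w, rfl⟩, by
          simp [Matrix.mulVec_mulVec, mul_assoc]⟩
    have heT : e ∈ T := by
      simp only [T, Finset.mem_filter, Finset.mem_univ, true_and]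
      exact ⟨1, G.one_mem, by simp⟩
    have hsup : iSup Wt = ⊤ := by
      refine (hinvar _ fun x hx w hw => ?_).resolve_left fun hbot => ?_
      · have : (x : Matrix (Fin n) (Fin n) F) *ᵥ w ∈ (iSup Wt).map (Matrix.toLin' (x : Matrix (Fin n) (Fin n) F)) :=
          ⟨w, hw, Matrix.toLin'_apply _ _⟩
        rw [Submodule.map_iSup] at this
        exact iSup_le (fun f => (hmapW x hx f).le.trans (le_iSup Wt _)) this
      · apply he0'
        have := le_bot_iff.mp (hbot ▸ le_iSup Wt ⟨e, heT⟩)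
        simpa [hWt] using LinearMap.range_eq_bot.mp this
    have hind : iSupIndep Wt := by
      intro f
      rw [Submodule.disjoint_def]
      intro v hv hv'
      have hle : (⨆ (g : T) (_ : g ≠ f), Wt g) ≤ LinearMap.ker (Matrix.toLin' (f : Matrix (Fin n) (Fin n) F)) := by
        refine iSup₂_le fun g hg => ?_
        rintro _ ⟨w, rfl⟩
        rw [LinearMap.mem_ker, Matrix.toLin'_apply, Matrix.toLin'_apply, Matrix.mulVec_mulVec,
          horth f f.2 g g.2 (fun e' => hg (Subtype.ext e'.symm)), Matrix.zero_mulVec]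
      obtain ⟨w, rfl⟩ := hv
      have := hle hv'
      rwa [LinearMap.mem_ker, Matrix.toLin'_apply, Matrix.toLin'_apply, Matrix.mulVec_mulVec, (hTprop f f.2).2.1,
        ← Matrix.toLin'_apply] at this
    let k := Fintype.card T
    let φ : Fin k ≃ T := (Fintype.equivFin T).symm
    have ht2 : 2 ≤ k := by
      by_contra hlt
      have : ∀ f : T, f = ⟨e, heT⟩ := fun f => (Fintype.card_le_one_iff_subsingleton.mp (by omega : Fintype.card T ≤ 1)).elim f _
      have htop : Wt ⟨e, heT⟩ = ⊤ := by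
        rw [eq_top_iff, ← hsup]
        exact iSup_le fun f => by rw [this f]
      have := congrArg (fun W : Submodule F (Fin n → F) => Module.finrank F W) htop
      rw [finrank_top, Module.finrank_fin_fun] at this
      change Module.finrank F (LinearMap.range (Matrix.toLin' e)) = n at this
      omega
    refine hprim (Module.finrank F (LinearMap.range (Matrix.toLin' e))) k (Wt ∘ φ) ht2 ?_ fun x hx => ?_
    · exact
        { two_le := ht2
          pos := Nat.pos_of_ne_zero fun h0 => he0' (by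
            simpa using LinearMap.range_eq_bot.mp (Submodule.finrank_eq_zero.mp h0))
          finrank_eq := fun i => (hTprop _ (φ i).2).2.2
          indep := hind.comp φ.injective
          iSup_eq_top := by rw [← hsup]; exact φ.iSup_comp (g := Wt) }
    · let π : T → T := fun f => ⟨_, hperm x hx f f.2⟩
      have hπ : Function.Injective π := fun a b hab => Subtype.ext (by
        have := congrArg (fun f : T => ((x⁻¹ : GL (Fin n) F) : Matrix (Fin n) (Fin n) F) * f.1 * (x : Matrix (Fin n) (Fin n) F)) hab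
        simpa [π, mul_assoc] using this)
      refine ⟨φ.trans ((Equiv.ofBijective π (Finite.injective_iff_bijective.mp hπ)).trans φ.symm), fun i => ?_⟩
      show (Wt (φ i)).map _ = Wt (φ _)
      rw [hmapW x hx]
      simp [π]
  -- so non-zero elements are invertible
  have hzR : (z : Matrix (Fin n) (Fin n) F) - 1 ∈ R := R.sub_mem (Algebra.subset_adjoin ⟨z, hz, rfl⟩) R.one_mem
  set a := (z : Matrix (Fin n) (Fin n) F) - 1 with ha
  have ha0 : a ≠ 0 := fun h => hz1 (Units.ext (by simpa [ha, sub_eq_zero] using h))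
  obtain ⟨i, j, hij, hpow⟩ : ∃ i j : ℕ, i < j ∧ a ^ i = a ^ j := by
    haveI : Fintype (Matrix (Fin n) (Fin n) F) := Fintype.ofFinite _
    obtain ⟨x, y, hne, hxy⟩ := Finite.exists_ne_map_eq_of_infinite (fun k : ℕ => a ^ k)
    rcases lt_or_gt_of_ne hne with h | h
    · exact ⟨x, y, h, hxy⟩
    · exact ⟨y, x, h, hxy.symm⟩
  have hper : ∀ k, a ^ (i + k + (j - i)) = a ^ (i + k) := fun k => by
    rw [show i + k + (j - i) = j + k by omega, pow_add, ← hpow, ← pow_add]
  have hper2 : ∀ k l, a ^ (i + k + (j - i) * l) = a ^ (i + k) := by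
    intro k l
    induction l with
    | zero => simp
    | succ l ih =>
      rw [show i + k + (j - i) * (l + 1) = i + (k + (j - i) * l) + (j - i) by ring, hper, ← add_assoc]
      exact ih
  set M := (j - i) * (i + 1) with hM
  have hMi : i ≤ M := by
    have : i + 1 ≤ M := Nat.le_mul_of_pos_left _ (by omega)
    omega
  have hidM : a ^ M * a ^ M = a ^ M := by
    obtain ⟨k, hk⟩ : ∃ k, M = i + k := ⟨M - i, by omega⟩
    calc a ^ M * a ^ M = a ^ (i + k + (j - i) * (i + 1)) := by rw [← pow_add, ← hk]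
      _ = a ^ (i + k) := hper2 k (i + 1)
      _ = a ^ M := by rw [hk]
  rcases hidem (a ^ M) (pow_mem hzR M) hidM with h | h
  · exact absurd (hred a hzR ⟨M, h⟩) ha0
  · rw [Submodule.eq_bot_iff]
    intro v hv
    rw [mem_fixSp] at hv
    have hav : a *ᵥ v = 0 := by rw [ha, Matrix.sub_mulVec, hv, Matrix.one_mulVec, sub_self]
    have hM1 : 1 ≤ M := Nat.one_le_iff_ne_zero.mpr (Nat.mul_ne_zero (by omega) (by omega))
    have := congrArg (· *ᵥ v) h
    simp only [Matrix.one_mulVec] at this
    rw [← this, show M = M - 1 + 1 by omega, pow_succ, ← Matrix.mulVec_mulVec, hav, Matrix.mulVec_zero]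

theorem main (hsol : Group.IsSolvable G) {g : GL (Fin n) F} (hg : g ∈ G) (hg1 : g ≠ 1) :
    4 * Module.finrank F (fixSp g) ≤ 3 * n := by
  classical
  -- maximal normal abelian subgroup
  let P : Set (Subgroup G) := {A | A.Normal ∧ ∀ a ∈ A, ∀ b ∈ A, a * b = b * a}
  obtain ⟨Z, ⟨hZn, hZc⟩, hZmax⟩ := (Set.toFinite P).exists_maximalFor id P
    ⟨⊥, inferInstance, by simp [Subgroup.mem_bot]⟩
  have fix0 : ∀ z : G, z ∈ Z → z ≠ 1 → fixSp (z : GL (Fin n) F) = ⊥ := fun z hz hz1 => by
    refine abelian_fix G hirr hprim (Z.map G.subtype) ?_ ?_ ⟨z, hz, rfl⟩ (fun h => hz1 (Subtype.ext h))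
    · rintro _ ⟨a, ha, rfl⟩ _ ⟨b, hb, rfl⟩
      exact congrArg G.subtype (hZc a ha b hb)
    · rintro x hx _ ⟨a, ha, rfl⟩
      refine ⟨⟨x, hx⟩ * a * ⟨x, hx⟩⁻¹, hZn.conj_mem a ha _, ?_⟩
      simp only [map_mul, map_inv]
      rfl
  have half : ∀ c y : G, ⁅c, y⁆ ∈ Z → ⁅c, y⁆ ≠ 1 → 2 * Module.finrank F (fixSp (c : GL (Fin n) F)) ≤ n := fun c y h h1 => by
    have := commutator_fix (c : GL (Fin n) F) (y : GL (Fin n) F)
    have e : ((⁅c, y⁆ : G) : GL (Fin n) F) = ⁅(c : GL (Fin n) F), (y : GL (Fin n) F)⁆ := map_commutatorElement G.subtype c y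
    rw [← e, fix0 _ h h1, finrank_bot, add_zero] at this
    exact this
  set γ : G := ⟨g, hg⟩
  have hγ1 : γ ≠ 1 := fun h => hg1 (congrArg Subtype.val h)
  by_cases hγZ : γ ∈ Z
  · have := fix0 γ hγZ hγ1
    rw [show fixSp g = ⊥ from this, finrank_bot]; omega
  haveI := hZn
  let H : Subgroup G := Subgroup.centralizer (Z : Set G)
  by_cases hγH : γ ∈ H
  swap
  · simp only [H, Subgroup.mem_centralizer_iff, SetLike.mem_coe] at hγH
    push Not at hγH
    obtain ⟨z, hz, hne⟩ := hγH
    have h1 : ⁅γ, z⁆ ∈ Z := by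
      rw [commutatorElement_def]
      exact Z.mul_mem (hZn.conj_mem z hz γ) (Z.inv_mem hz)
    have : 2 * Module.finrank F (fixSp g) ≤ n := half γ z h1 (fun h => hne (commutatorElement_eq_one_iff_mul_comm.mp h).symm)
    omega
  haveI hHn : H.Normal := inferInstance
  have hZH : Z ≤ H := fun z hz => Subgroup.mem_centralizer_iff.mpr fun w hw => hZc w hw z hz
  let Q : Set (Subgroup G) := {N | N.Normal ∧ Z ≤ N ∧ N ≤ H ∧ ∀ a ∈ N, ∀ b ∈ N, ⁅a, b⁆ ∈ Z}
  obtain ⟨N, ⟨hNn, hZN, hNH, hNN⟩, hNmax⟩ := (Set.toFinite Q).exists_maximalFor id Q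
    ⟨Z, hZn, le_rfl, hZH, fun a ha b hb => by rw [commutatorElement_eq_one_iff_mul_comm.mpr (hZc a ha b hb)]; exact Z.one_mem⟩
  haveI := hNn
  have hcentre : ∀ c ∈ N, (∀ w ∈ N, c * w = w * c) → c ∈ Z := by
    intro c hc hcw
    have hle : Z ≤ N ⊓ Subgroup.centralizer (N : Set G) := le_inf hZN fun z hz =>
      Subgroup.mem_centralizer_iff.mpr fun w hw => (Subgroup.mem_centralizer_iff.mp (hNH hw) z hz).symm
    have hP : (N ⊓ Subgroup.centralizer (N : Set G)) ∈ P :=
      ⟨inferInstance, fun a ha b hb => (Subgroup.mem_centralizer_iff.mp hb.2 a ha.1)⟩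
    exact hZmax hP hle ⟨hc, Subgroup.mem_centralizer_iff.mpr fun w hw => (hcw w hw).symm⟩
  let C : Subgroup G := H ⊓ Subgroup.centralizer (N : Set G)
  haveI : C.Normal := inferInstance
  have hCZ : C ≤ Z := by
    by_contra hC
    haveI : Group.IsSolvable G := hsol
    let S : ℕ → Subgroup G := fun k => (derivedSeries C k).map C.subtype
    have hS0 : S 0 = C := by simp [S, ← MonoidHom.range_eq_map]
    obtain ⟨k0, hk0⟩ : ∃ k, S k ≤ Z := by
      obtain ⟨k, hk⟩ := (inferInstance : Group.IsSolvable C).solvable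
      exact ⟨k, by simp [S, hk]⟩
    have hex : ∃ k, ¬ S k ≤ Z ∧ S (k + 1) ≤ Z := by
      by_contra hall
      push Not at hall
      have : ∀ k, ¬ S k ≤ Z := by
        intro k
        induction k with
        | zero => rwa [hS0]
        | succ k ih => exact hall k ih
      exact this k0 hk0
    obtain ⟨k, hk, hk1⟩ := hex
    haveI : (S k).Normal := by
      haveI : (derivedSeries C k).Characteristic := inferInstance
      exact inferInstance
    have hSC : S k ≤ C := Subgroup.map_subtype_le _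
    have hSS : ∀ a ∈ S k, ∀ b ∈ S k, ⁅a, b⁆ ∈ Z := by
      rintro _ ⟨a, ha, rfl⟩ _ ⟨b, hb, rfl⟩
      exact hk1 ⟨⁅a, b⁆, by rw [derivedSeries_succ]; exact Subgroup.commutator_mem_commutator ha hb,
        map_commutatorElement C.subtype a b⟩
    have hQ : (N ⊔ S k) ∈ Q := by
      refine ⟨inferInstance, hZN.trans le_sup_left, sup_le hNH (hSC.trans inf_le_left), ?_⟩
      intro a ha b hb
      rw [← SetLike.mem_coe, Subgroup.normal_mul] at ha hb
      obtain ⟨a1, ha1, a2, ha2, rfl⟩ := ha
      obtain ⟨b1, hb1, b2, hb2, rfl⟩ := hb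
      rw [← QuotientGroup.eq_one_iff]
      have z1 := (QuotientGroup.eq_one_iff _).mpr (hNN a1 ha1 b1 hb1)
      have z2 := (QuotientGroup.eq_one_iff _).mpr (hSS a2 ha2 b2 hb2)
      have c1 : a1 * b2 = b2 * a1 := Subgroup.mem_centralizer_iff.mp (hSC hb2).2 a1 ha1
      have c2 : b1 * a2 = a2 * b1 := Subgroup.mem_centralizer_iff.mp (hSC ha2).2 b1 hb1
      have d1 := commutatorElement_eq_one_iff_mul_comm.mp ((map_commutatorElement (QuotientGroup.mk' Z) a1 b1).symm.trans z1)
      have d2 := commutatorElement_eq_one_iff_mul_comm.mp ((map_commutatorElement (QuotientGroup.mk' Z) a2 b2).symm.trans z2)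
      have d3 := congrArg (QuotientGroup.mk' Z) c1
      have d4 := congrArg (QuotientGroup.mk' Z) c2
      rw [map_mul, map_mul] at d3 d4
      show QuotientGroup.mk' Z ⁅a1 * a2, b1 * b2⁆ = 1
      rw [map_commutatorElement, commutatorElement_eq_one_iff_mul_comm, map_mul, map_mul]
      have k1 : Commute (QuotientGroup.mk' Z a1) (QuotientGroup.mk' Z b1 * QuotientGroup.mk' Z b2) := Commute.mul_right d1 d3
      have k2 : Commute (QuotientGroup.mk' Z a2) (QuotientGroup.mk' Z b1 * QuotientGroup.mk' Z b2) := Commute.mul_right d4.symm d2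
      exact k1.mul_left k2
    refine hk fun x hx => hcentre x (hNmax hQ le_sup_left (Subgroup.mem_sup_right hx)) fun w hw => ?_
    exact (Subgroup.mem_centralizer_iff.mp (hSC hx).2 w hw).symm
  obtain ⟨y, hy, hne⟩ : ∃ y ∈ N, γ * y ≠ y * γ := by
    by_contra hc
    push Not at hc
    exact hγZ (hCZ ⟨hγH, Subgroup.mem_centralizer_iff.mpr fun w hw => (hc w hw).symm⟩)
  set c := ⁅γ, y⁆ with hc
  have hcN : c ∈ N := by
    rw [hc, commutatorElement_def]
    exact N.mul_mem (hNn.conj_mem y hy γ) (N.inv_mem hy)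
  have hc1 : c ≠ 1 := fun h => hne (commutatorElement_eq_one_iff_mul_comm.mp h)
  by_cases hcZ : c ∈ Z
  · have : 2 * Module.finrank F (fixSp g) ≤ n := half γ y hcZ hc1
    omega
  obtain ⟨w, hw, hcw⟩ : ∃ w ∈ N, c * w ≠ w * c := by
    by_contra hh
    push Not at hh
    exact hcZ (hcentre c hcN hh)
  have h2 := half c w (hNN c hcN w hw) (fun h => hcw (commutatorElement_eq_one_iff_mul_comm.mp h))
  have h1 := commutator_fix g (y : GL (Fin n) F)
  have e : ((c : G) : GL (Fin n) F) = ⁅g, (y : GL (Fin n) F)⁆ := map_commutatorElement G.subtype γ y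
  rw [← e] at h1
  omega

end Cfsg.Lib.Classical.SolFix
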