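import Mathlib
import Cfsg.Prelude.Def_GeometricClasses
import Cfsg.Agent.Classical.Misc.SolubleFixedSpace

/-! Eigenspaces of elements normalising an absolutely irreducible extraspecial group. -/

set_option autoImplicit false
set_option linter.unusedSimpArgs false
set_option linter.unusedSectionVars false
set_option linter.style.haveILetI false
set_option linter.flexible false

namespace Cfsg.Lib.Classical.ExtraEig

open Matrix Cfsg.Lib.Classical.SolFix
open scoped MatrixGroups commutatorElement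

universe u

variable {F : Type u} [Field F] {n : ℕ}

/-- The linear map of an invertible matrix. -/
def act (g : GL (Fin n) F) : Module.End F (Fin n → F) :=
  Matrix.toLin' (g : Matrix (Fin n) (Fin n) F)

theorem act_mul (g h : GL (Fin n) F) (v : Fin n → F) : act (g * h) v = act g (act h v) := by
  simp [act, Matrix.toLin'_apply, Matrix.mulVec_mulVec]

theorem act_one (v : Fin n → F) : act (1 : GL (Fin n) F) v = v := by
  simp [act]

theorem act_inv (g : GL (Fin n) F) (v : Fin n → F) : act g⁻¹ (act g v) = v := by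
  rw [← act_mul, inv_mul_cancel, act_one]

theorem act_injective (g : GL (Fin n) F) : Function.Injective (act g) :=
  Function.LeftInverse.injective (act_inv g)

theorem act_pow_succ (g : GL (Fin n) F) (k : ℕ) (v : Fin n → F) :
    act (g ^ (k + 1)) v = act g (act (g ^ k) v) := by
  rw [pow_succ', act_mul]

theorem mem_fix (g : GL (Fin n) F) (v : Fin n → F) : v ∈ fixSp g ↔ act g v = v := by
  rw [mem_fixSp, act, Matrix.toLin'_apply]

theorem finrank_map_act (g : GL (Fin n) F) (W : Submodule F (Fin n → F)) :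
    Module.finrank F (W.map (act g)) = Module.finrank F W :=
  (LinearEquiv.finrank_eq (Submodule.equivMapOfInjective _ (act_injective g) W)).symm

theorem finrank_le_n (W : Submodule F (Fin n → F)) : Module.finrank F W ≤ n :=
  (Submodule.finrank_le W).trans (by simp)

theorem sum_finrank_le {ι : Type} [Fintype ι] (W : ι → Submodule F (Fin n → F)) (hind : iSupIndep W) :
    ∑ i, Module.finrank F (W i) ≤ n := by
  classical
  suffices ∀ s : Finset ι, ∑ i ∈ s, Module.finrank F (W i) = Module.finrank F ↥(s.sup W) from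
    (this Finset.univ).trans_le (finrank_le_n _)
  intro s
  induction s using Finset.induction_on with
  | empty =>
    rw [Finset.sum_empty, Finset.sup_empty, finrank_bot]
  | insert a s ha ih =>
    rw [Finset.sum_insert ha, ih, Finset.sup_insert]
    have hd : Disjoint (W a) (s.sup W) := by
      rw [Finset.sup_eq_iSup]
      exact hind.disjoint_biSup (y := (s : Set ι)) ha
    have := Submodule.finrank_sup_add_finrank_inf_eq (W a) (s.sup W)
    rw [hd.eq_bot, finrank_bot, add_zero] at this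
    exact this.symm

/-- `a b = ζ b a` as linear maps. -/
def Tw (ζ : F) (a b : GL (Fin n) F) : Prop :=
  ∀ v, act a (act b v) = ζ • act b (act a v)

theorem primitive {r : ℕ} (hr : r.Prime) {ζ : F} (hζr : ζ ^ r = 1) (hζ : ζ ≠ 1) : IsPrimitiveRoot ζ r := by
  haveI := Fact.mk hr
  rw [← orderOf_eq_prime hζr hζ]
  exact IsPrimitiveRoot.orderOf ζ

theorem natCast_ne_zero {r : ℕ} (hr : r.Prime) {ζ : F} (hζr : ζ ^ r = 1) (hζ : ζ ≠ 1) : (r : F) ≠ 0 := by
  intro h
  haveI := Fact.mk hr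
  haveI : CharP F r := by
    obtain ⟨p, hp⟩ := CharP.exists F
    have hd := (CharP.cast_eq_zero_iff F p r).mp h
    rcases (Nat.dvd_prime hr).mp hd with h1 | h1
    · exact absurd h1 (CharP.char_ne_one F p)
    · rwa [← h1]
  have h2 : (ζ - 1) ^ r = 0 := by rw [sub_pow_char, one_pow, hζr, sub_self]
  exact hζ (sub_eq_zero.mp ((pow_eq_zero_iff hr.ne_zero).mp h2))

/-- The eigenspaces of a twisted element are permuted cyclically. -/
theorem fix_bound {r : ℕ} (hr : r.Prime) {ζ : F} (hζr : ζ ^ r = 1) (hζ : ζ ≠ 1) {m y : GL (Fin n) F}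
    (h : Tw ζ m y) : r * Module.finrank F (fixSp m) ≤ n := by
  have hle : ∀ k : ℕ, (fixSp m).map (act (y ^ k)) ≤ Module.End.eigenspace (act m) (ζ ^ k) := by
    intro k
    rintro _ ⟨v, hv, rfl⟩
    rw [SetLike.mem_coe, mem_fix] at hv
    rw [Module.End.mem_eigenspace_iff]
    induction k with
    | zero => simp [act_one, hv]
    | succ k ih => rw [act_pow_succ, h, ih, map_smul, smul_smul, ← pow_succ']
  have hind : iSupIndep fun k : Fin r => (fixSp m).map (act (y ^ (k : ℕ))) := by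
    refine ((Module.End.eigenspaces_iSupIndep (act m)).comp (f := fun k : Fin r => ζ ^ (k : ℕ)) ?_).mono fun k => hle k
    intro a b hab
    exact Fin.ext ((primitive hr hζr hζ).pow_inj a.2 b.2 hab)
  have := sum_finrank_le _ hind
  simp only [finrank_map_act, Finset.sum_const, Finset.card_univ, Fintype.card_fin, smul_eq_mul] at this
  exact this

theorem dvd_n {r : ℕ} (hr : r.Prime) {ζ : F} (hζr : ζ ^ r = 1) (hζ : ζ ≠ 1) {m y : GL (Fin n) F}
    (h : Tw ζ m y) : r ∣ n := by
  have hmat : (m : Matrix (Fin n) (Fin n) F) * y = ζ • ((y : Matrix (Fin n) (Fin n) F) * m) := by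
    apply Matrix.toLin'.injective
    refine LinearMap.ext fun v => ?_
    simpa [act, Matrix.toLin'_apply, Matrix.smul_mulVec, Matrix.mulVec_mulVec] using h v
  have hd := congrArg Matrix.det hmat
  rw [Matrix.det_mul, Matrix.det_smul, Matrix.det_mul, Fintype.card_fin,
    mul_comm (Matrix.det (y : Matrix (Fin n) (Fin n) F))] at hd
  have h0 : (m : Matrix (Fin n) (Fin n) F).det * (y : Matrix (Fin n) (Fin n) F).det ≠ 0 :=
    mul_ne_zero ((Matrix.isUnit_iff_isUnit_det _).mp m.isUnit).ne_zero ((Matrix.isUnit_iff_isUnit_det _).mp y.isUnit).ne_zero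
  have h1 : ζ ^ n = 1 := by
    have h2 : (ζ ^ n - 1) * ((m : Matrix (Fin n) (Fin n) F).det * (y : Matrix (Fin n) (Fin n) F).det) = 0 := by
      rw [sub_mul, one_mul, ← hd, sub_self]
    exact sub_eq_zero.mp ((mul_eq_zero.mp h2).resolve_right h0)
  exact (primitive hr hζr hζ).dvd_of_pow_eq_one n h1

theorem twist_zero {ζ : F} (hζ : ζ ≠ 1) {a b : GL (Fin n) F} (h : Tw ζ a b) {u : Fin n → F}
    (ha : act a u = u) (hb : act b u = u) : u = 0 := by
  have h1 := h u
  rw [hb, ha, hb] at h1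
  have h2 : (1 - ζ) • u = 0 := by rw [sub_smul, one_smul, ← h1, sub_self]
  exact (smul_eq_zero.mp h2).resolve_left (sub_ne_zero.mpr hζ.symm)

theorem semisimple {r : ℕ} {z : GL (Fin n) F} (hzr : z ^ r = 1) (hr0 : (r : F) ≠ 0) {p : Fin n → F}
    (hp : act z (act z p - p) = act z p - p) : act z p = p := by
  have key : ∀ k : ℕ, act (z ^ k) p = p + (k : F) • (act z p - p) := by
    intro k
    induction k with
    | zero => simp [act_one]
    | succ k ih =>
      rw [act_pow_succ, ih, map_add, map_smul, hp, Nat.cast_succ, add_smul, one_smul]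
      abel
  have h1 := key r
  rw [hzr, act_one] at h1
  have h2 : (r : F) • (act z p - p) = 0 := left_eq_add.mp h1
  exact sub_eq_zero.mp ((smul_eq_zero.mp h2).resolve_left hr0)

/-- The case of an element of `R` commuting with its translate. -/
theorem commuting_case {r : ℕ} (hr5 : 5 ≤ r) (hro : Odd r) (hr0 : (r : F) ≠ 0) {h x z : GL (Fin n) F}
    (hz : h * z = z * h) (hxz : x * z = z * x) (hx : h * x = z * x * h) (hzr : z ^ r = 1)
    (he : r * Module.finrank F (fixSp z) ≤ n) : 2 * Module.finrank F (fixSp h) ≤ n := by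
  set N : Module.End F (Fin n → F) := act z - 1 with hN
  have hNap : ∀ v, N v = act z v - v := fun v => rfl
  set W := fixSp h with hW
  set P := LinearMap.range N with hP
  have hKer : LinearMap.ker N = fixSp z := rfl
  have hdim : Module.finrank F P + Module.finrank F (fixSp z) = n := by
    rw [← hKer, hP, LinearMap.finrank_range_add_finrank_ker, Module.finrank_fin_fun]
  have hPK : ∀ u ∈ P, act z u = u → u = 0 := by
    rintro u ⟨t, rfl⟩ hu
    rw [hNap] at hu ⊢
    rw [semisimple hzr hr0 hu, sub_self]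
  have hx' : ∀ v, act h (act x v) = act z (act x (act h v)) := fun v => by
    rw [← act_mul, hx, act_mul, act_mul]
  have hxz' : ∀ v, act x (act z v) = act z (act x v) := fun v => by rw [← act_mul, hxz, act_mul]
  have hz' : ∀ v, act h (act z v) = act z (act h v) := fun v => by rw [← act_mul, hz, act_mul]
  set W' := W.map N with hW'
  have hW'W : ∀ u ∈ W', act h u = u := by
    rintro _ ⟨w, hw, rfl⟩
    rw [SetLike.mem_coe, hW, mem_fix] at hw
    rw [hNap, map_sub, hz', hw]
  have hW'P : W' ≤ P := LinearMap.map_le_range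
  have hxP : ∀ u ∈ P, act x u ∈ P := by
    rintro u ⟨t, rfl⟩
    exact ⟨act x t, by rw [hNap, hNap, map_sub, hxz']⟩
  have hwbound : Module.finrank F W ≤ Module.finrank F W' + Module.finrank F (fixSp z) := by
    have h1 := LinearMap.finrank_range_add_finrank_ker (N.domRestrict W)
    rw [LinearMap.range_domRestrict] at h1
    have h2 : Module.finrank F (LinearMap.ker (N.domRestrict W)) ≤ Module.finrank F (fixSp z) := by
      rw [← Submodule.finrank_map_subtype_eq]
      refine Submodule.finrank_mono ?_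
      rintro _ ⟨v, hv, rfl⟩
      exact hv
    rw [hW']
    omega
  set X1 := W'.map (act x) with hX1
  set X2 := X1.map (act x) with hX2
  have d1 : W' ⊓ X1 = ⊥ := by
    rw [Submodule.eq_bot_iff]
    rintro u ⟨hu, b, hb, rfl⟩
    refine hPK _ (hW'P hu) ?_
    have h1 := hW'W _ hu
    rwa [hx', hW'W b hb] at h1
  have d2 : (W' ⊔ X1) ⊓ X2 = ⊥ := by
    rw [Submodule.eq_bot_iff]
    rintro v ⟨hv, hv'⟩
    rw [SetLike.mem_coe, Submodule.mem_sup] at hv
    obtain ⟨a, ha, _, ⟨b, hb, rfl⟩, hab⟩ := hv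
    have ha' := hW'W a ha
    have hb' := hW'W b hb
    have hvP : v ∈ P := by
      rw [← hab]
      exact P.add_mem (hW'P ha) (hxP b (hW'P hb))
    obtain ⟨_, ⟨c, hc, rfl⟩, hcv⟩ := hv'
    have hhv : act h v = act z (act z v) := by
      rw [← hcv, hx', hx', hW'W c hc, hxz']
    have e1 : act z (act z v) = a + act z (act x b) := by
      rw [← hhv, ← hab, map_add, ha', hx', hb']
    have e2 : act z (act z (act z (act z v))) = a + act z (act z (act x b)) := by
      have h1 := congrArg (act h) e1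
      rwa [hz', hz', hhv, map_add, ha', hz', hx', hb'] at h1
    have e3 : act z (act z (act z v)) - act z (act z (act z (act z v))) + act z (act z v) - act z v = 0 := by
      have h1 := congrArg (act z) e1
      rw [map_add] at h1
      have h0 := congrArg (act z) hab
      rw [map_add] at h0
      rw [e2, h1, e1, ← h0]
      abel
    have e4 : act z (act z (act z v)) - act z (act z v) - act z v + v = 0 := by
      apply act_injective z
      simp only [map_add, map_sub, map_zero]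
      have := congrArg Neg.neg e3
      rw [neg_zero] at this
      rw [← this]
      abel
    -- so `(z - 1)^2 (z + 1) v = 0`
    have e5 : act z (act z v + v) = act z v + v := by
      refine semisimple hzr hr0 (sub_eq_zero.mp ?_)
      simp only [map_add, map_sub]
      rw [← e4]
      abel
    set p := act z v - v with hp
    have e6 : act z p = -p := by
      simp only [hp, map_sub, map_add] at e5 ⊢
      rw [eq_neg_iff_add_eq_zero]
      rw [← sub_eq_zero] at e5
      rw [← e5]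
      abel
    have e7 : ∀ k : ℕ, act (z ^ k) p = ((-1 : F) ^ k) • p := by
      intro k
      induction k with
      | zero => simp [act_one]
      | succ k ih => rw [act_pow_succ, ih, map_smul, e6, pow_succ, mul_smul, neg_one_smul]
    have e8 : act z p = p := by
      have h1 := e7 r
      rw [hzr, act_one, hro.neg_one_pow, neg_one_smul] at h1
      rw [e6]; exact h1.symm
    exact hPK v hvP (semisimple hzr hr0 e8)
  have h3 : Module.finrank F ↥((W' ⊔ X1) ⊔ X2) = 3 * Module.finrank F W' := by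
    have a1 := Submodule.finrank_sup_add_finrank_inf_eq W' X1
    have a2 := Submodule.finrank_sup_add_finrank_inf_eq (W' ⊔ X1) X2
    rw [d1, finrank_bot] at a1
    rw [d2, finrank_bot] at a2
    have b1 : Module.finrank F X1 = Module.finrank F W' := finrank_map_act _ _
    have b2 : Module.finrank F X2 = Module.finrank F X1 := finrank_map_act _ _
    omega
  have h4 : Module.finrank F ↥((W' ⊔ X1) ⊔ X2) ≤ Module.finrank F P := by
    refine Submodule.finrank_mono (sup_le (sup_le hW'P ?_) ?_)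
    · rintro _ ⟨b, hb, rfl⟩; exact hxP b (hW'P hb)
    · rintro _ ⟨_, ⟨b, hb, rfl⟩, rfl⟩; exact hxP _ (hxP b (hW'P hb))
  have h5 : 5 * Module.finrank F (fixSp z) ≤ n := (Nat.mul_le_mul_right _ hr5).trans he
  omega

/-- The case of an element of `R` not commuting with its translate. -/
theorem twisted_case {r : ℕ} (hr : r.Prime) (hr5 : 5 ≤ r) {ζ : F} (hζr : ζ ^ r = 1) (hζ : ζ ≠ 1)
    {h x z : GL (Fin n) F} (hz : h * z = z * h) (hzx : Tw ζ z x) (hx : h * x = z * x * h) :
    2 * Module.finrank F (fixSp h) ≤ n := by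
  have hx' : ∀ v, act h (act x v) = act z (act x (act h v)) := fun v => by
    rw [← act_mul, hx, act_mul, act_mul]
  have hz' : ∀ v, act h (act z v) = act z (act h v) := fun v => by rw [← act_mul, hz, act_mul]
  set W := fixSp h with hW
  set X1 := W.map (act x) with hX1
  set W1 := W ⊓ fixSp z with hW1
  set X2 := (W1.map (act x)).map (act x) with hX2
  have i1 : W ⊓ X1 ≤ W1 := by
    rintro u ⟨hu, b, hb, rfl⟩
    refine ⟨hu, ?_⟩
    rw [SetLike.mem_coe, hW, mem_fix] at hu hb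
    rw [SetLike.mem_coe, mem_fix]
    rwa [hx', hb] at hu
  have i2 : (W ⊔ X1) ⊓ X2 = ⊥ := by
    rw [Submodule.eq_bot_iff]
    rintro v ⟨hv, hv'⟩
    rw [SetLike.mem_coe, Submodule.mem_sup] at hv
    obtain ⟨a, ha, _, ⟨b, hb, rfl⟩, hab⟩ := hv
    rw [hW, mem_fix] at ha
    rw [SetLike.mem_coe, hW, mem_fix] at hb
    obtain ⟨_, ⟨c, ⟨hc, hc'⟩, rfl⟩, hcv⟩ := hv'
    rw [SetLike.mem_coe, hW, mem_fix] at hc
    rw [SetLike.mem_coe, mem_fix] at hc'
    have c1 : act z (act x c) = ζ • act x c := by rw [hzx, hc']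
    have c2 : act h (act x c) = ζ • act x c := by rw [hx', hc, c1]
    have c3 : act z v = ζ ^ 2 • v := by
      rw [← hcv, hzx, c1, map_smul, smul_smul, sq]
    have c4 : act h v = ζ ^ 3 • v := by
      rw [← hcv, hx', c2, map_smul, map_smul, hcv, c3, smul_smul]
      congr 1
      ring
    have e1 : ζ ^ 3 • v = a + act z (act x b) := by
      rw [← c4, ← hab, map_add, ha, hx', hb]
    have e2 : ζ ^ 6 • v = a + act z (act z (act x b)) := by
      have h1 := congrArg (act h) e1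
      rw [map_smul, c4, smul_smul, map_add, ha, hz', hx', hb] at h1
      rw [← h1]
      congr 1
      ring
    have e3 : (ζ ^ 6 - ζ ^ 3 - (ζ ^ 5 - ζ ^ 2)) • v = 0 := by
      have h1 := congrArg (act z) e1
      rw [map_smul, c3, smul_smul, map_add, show ζ ^ 3 * ζ ^ 2 = ζ ^ 5 by ring] at h1
      have h0 := congrArg (act z) hab
      rw [map_add, c3] at h0
      rw [sub_smul, sub_smul, sub_smul, e2, e1, h1, ← h0]
      abel
    have hne : ζ ^ 6 - ζ ^ 3 - (ζ ^ 5 - ζ ^ 2) ≠ 0 := by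
      rw [show ζ ^ 6 - ζ ^ 3 - (ζ ^ 5 - ζ ^ 2) = ζ ^ 2 * ((ζ ^ 3 - 1) * (ζ - 1)) by ring]
      have h0 : ζ ≠ 0 := fun h => by simp [h, hr.ne_zero] at hζr
      refine mul_ne_zero (pow_ne_zero _ h0) (mul_ne_zero (sub_ne_zero.mpr ?_) (sub_ne_zero.mpr hζ))
      exact (primitive hr hζr hζ).pow_ne_one_of_pos_of_lt (by norm_num) (by omega)
    exact (smul_eq_zero.mp e3).resolve_left hne
  have a1 := Submodule.finrank_sup_add_finrank_inf_eq W X1
  have a2 := Submodule.finrank_sup_add_finrank_inf_eq (W ⊔ X1) X2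
  rw [i2, finrank_bot] at a2
  have b1 : Module.finrank F X1 = Module.finrank F W := finrank_map_act _ _
  have b2 : Module.finrank F X2 = Module.finrank F W1 := by
    rw [hX2, finrank_map_act, finrank_map_act]
  have b3 := Submodule.finrank_mono i1
  have b4 := finrank_le_n ((W ⊔ X1) ⊔ X2)
  omega

section Ext

variable {r : ℕ} (R : Subgroup (GL (Fin n) F)) (hr : r.Prime) (hR : IsPGroup r R)
  (hZ : Nat.card (Subgroup.center R) = r) (hext : commutator R = Subgroup.center R)
  (hirr : Cfsg.Geo.ActsAbsolutelyIrreducibly (Cfsg.Geo.matrixSet R))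

/-- The product of `R` with the scalars. -/
abbrev ext : Subgroup (GL (Fin n) F) := R ⊔ Cfsg.Geo.scalars (Fin n) F

theorem scalar_comm {s : GL (Fin n) F} (hs : s ∈ Cfsg.Geo.scalars (Fin n) F) (g : GL (Fin n) F) :
    Commute s g := by
  obtain ⟨c, hc⟩ := (Cfsg.Geo.mem_scalars_iff s).mp hs
  exact Units.ext (by simp [hc])

theorem mem_ext {m : GL (Fin n) F} (hm : m ∈ ext R) :
    ∃ a ∈ R, ∃ s ∈ Cfsg.Geo.scalars (Fin n) F, m = a * s := by
  rw [← SetLike.mem_coe, Subgroup.mul_normal] at hm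
  obtain ⟨a, ha, s, hs, rfl⟩ := hm
  exact ⟨a, ha, s, hs, rfl⟩

theorem scalar_fix {s : GL (Fin n) F} (hs : s ∈ Cfsg.Geo.scalars (Fin n) F) (hs1 : s ≠ 1) :
    fixSp s = ⊥ := by
  obtain ⟨c, hc⟩ := (Cfsg.Geo.mem_scalars_iff s).mp hs
  have hc1 : (c : F) ≠ 1 := fun h => hs1 (Units.ext (by simp [hc, h]))
  rw [Submodule.eq_bot_iff]
  intro v hv
  rw [mem_fixSp, hc, Matrix.smul_mulVec, Matrix.one_mulVec] at hv
  have h2 : ((c : F) - 1) • v = 0 := by rw [sub_smul, one_smul, hv, sub_self]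
  exact (smul_eq_zero.mp h2).resolve_left (sub_ne_zero.mpr hc1)

theorem tw_of_scalar {a b : GL (Fin n) F} (hs : ⁅a, b⁆ ∈ Cfsg.Geo.scalars (Fin n) F) (k : ℕ)
    (hpow : ⁅a, b⁆ ^ k = 1) (hne : ⁅a, b⁆ ≠ 1) : ∃ ζ : F, ζ ^ k = 1 ∧ ζ ≠ 1 ∧ Tw ζ a b := by
  obtain ⟨c, hc⟩ := (Cfsg.Geo.mem_scalars_iff _).mp hs
  have hn : 0 < n := Nat.pos_of_ne_zero fun h => hne (Units.ext (by subst h; ext i; exact i.elim0))
  refine ⟨c, ?_, fun h => hne (Units.ext (by simp [hc, h])), fun v => ?_⟩
  · have h1 := congrArg (fun g : GL (Fin n) F => (g : Matrix (Fin n) (Fin n) F) ⟨0, hn⟩ ⟨0, hn⟩) hpow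
    simpa [Units.val_pow_eq_pow_val, hc, smul_pow] using h1
  · have e : a * b = ⁅a, b⁆ * (b * a) := by rw [commutatorElement_def]; group
    rw [← act_mul, ← act_mul, e, act_mul]
    simp [act, Matrix.toLin'_apply, hc, Matrix.smul_mulVec]

include hirr in
theorem scalar_of_comm {m : GL (Fin n) F} (h : ∀ a ∈ R, m * a = a * m) :
    m ∈ Cfsg.Geo.scalars (Fin n) F := by
  obtain ⟨c, hc⟩ := hirr.2 (m : Matrix (Fin n) (Fin n) F) fun s hs => by
    obtain ⟨a, ha, rfl⟩ := hs
    have := congrArg Units.val (h a ha)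
    simpa using this
  rcases Nat.eq_zero_or_pos n with hn | hn
  · subst hn
    rw [Cfsg.Geo.mem_scalars_iff]
    exact ⟨1, by ext i; exact i.elim0⟩
  · have hc0 : c ≠ 0 := by
      intro h0
      have h1 := congrArg (fun M : Matrix (Fin n) (Fin n) F => M * ((m⁻¹ : GL (Fin n) F) : Matrix (Fin n) (Fin n) F)) hc
      simp [h0] at h1
      have h2 := congrFun (congrFun h1 ⟨0, hn⟩) ⟨0, hn⟩
      simp at h2
    exact (Cfsg.Geo.mem_scalars_iff m).mpr ⟨Units.mk0 c hc0, by simpa using hc⟩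

theorem commute_scalar_right {a b s : GL (Fin n) F} (hs : s ∈ Cfsg.Geo.scalars (Fin n) F) :
    ⁅a, b * s⁆ = ⁅a, b⁆ := by
  have h1 := (scalar_comm hs a⁻¹).eq
  rw [commutatorElement_def, commutatorElement_def, _root_.mul_inv_rev]
  simp only [mul_assoc]
  rw [← mul_assoc s a⁻¹, h1]
  simp [mul_assoc]

include hext hirr in
theorem comm_mem {a b : GL (Fin n) F} (ha : a ∈ ext R) (hb : b ∈ ext R) :
    ⁅a, b⁆ ∈ Cfsg.Geo.scalars (Fin n) F ∧ ∀ k, Nat.card (Subgroup.center R) = k → ⁅a, b⁆ ^ k = 1 := by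
  obtain ⟨a', ha', s, hs, rfl⟩ := mem_ext R ha
  obtain ⟨b', hb', t, ht, rfl⟩ := mem_ext R hb
  have e : ⁅a' * s, b' * t⁆ = ⁅a', b'⁆ := by
    rw [commute_scalar_right ht, ← commutatorElement_inv, commute_scalar_right hs, commutatorElement_inv]
  rw [e]
  let x : R := ⁅(⟨a', ha'⟩ : R), ⟨b', hb'⟩⁆
  have hx : x ∈ Subgroup.center R := by
    rw [← hext]; exact Subgroup.commutator_mem_commutator (Subgroup.mem_top _) (Subgroup.mem_top _)
  have hxe : (x : GL (Fin n) F) = ⁅a', b'⁆ := map_commutatorElement R.subtype _ _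
  refine ⟨scalar_of_comm R hirr fun c hc => ?_, fun k hk => ?_⟩
  · have h1 := Subgroup.mem_center_iff.mp hx ⟨c, hc⟩
    rw [← hxe]
    exact (congrArg Subtype.val h1).symm
  · have h1 : (⟨x, hx⟩ : Subgroup.center R) ^ k = 1 := by rw [← hk]; exact pow_card_eq_one'
    rw [← hxe]
    exact congrArg Subtype.val (congrArg Subtype.val h1)

variable (h : GL (Fin n) F) (hnorm : h ∈ Subgroup.normalizer ((ext R : Subgroup (GL (Fin n) F)) : Set (GL (Fin n) F)))

include hnorm in
theorem conj_mem {x : GL (Fin n) F} (hx : x ∈ ext R) : h * x * h⁻¹ ∈ ext R :=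
  (Subgroup.mem_normalizer_iff.mp hnorm x).mp hx

include hnorm in
theorem conj_mem' {x : GL (Fin n) F} (hx : x ∈ ext R) : h⁻¹ * x * h ∈ ext R :=
  (Subgroup.mem_normalizer_iff.mp hnorm (h⁻¹ * x * h)).mpr (by simpa [mul_assoc] using hx)

include hnorm in
theorem D_mem {x : GL (Fin n) F} (hx : x ∈ ext R) : ⁅h, x⁆ ∈ ext R := by
  rw [commutatorElement_def]
  exact (ext R).mul_mem (conj_mem R h hnorm hx) ((ext R).inv_mem hx)

include hr hZ hext hirr in
theorem fix_bound_of_nonscalar {m : GL (Fin n) F} (hm : m ∈ ext R) (hms : m ∉ Cfsg.Geo.scalars (Fin n) F) :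
    r * Module.finrank F (fixSp m) ≤ n ∧ (r : F) ≠ 0 := by
  obtain ⟨a, ha, hne⟩ : ∃ a ∈ R, m * a ≠ a * m := by
    by_contra hh
    push Not at hh
    exact hms (scalar_of_comm R hirr hh)
  have h1 := comm_mem R hext hirr hm (Subgroup.mem_sup_left ha)
  obtain ⟨ζ, hζr, hζ, htw⟩ := tw_of_scalar h1.1 r (h1.2 r hZ) fun e => hne (commutatorElement_eq_one_iff_mul_comm.mp e)
  exact ⟨fix_bound hr hζr hζ htw, natCast_ne_zero hr hζr hζ⟩

include hr hZ hext hirr in
theorem r_dvd : r ∣ n := by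
  obtain ⟨a, b, hne⟩ : ∃ a b : R, ⁅a, b⁆ ≠ 1 := by
    by_contra hh
    push Not at hh
    have h0 : commutator R = ⊥ := le_bot_iff.mp (Subgroup.commutator_le.mpr fun a _ b _ => by simp [hh a b])
    rw [← hext, h0, Subgroup.card_bot] at hZ
    exact hr.ne_one hZ.symm
  have h1 := comm_mem R hext hirr (Subgroup.mem_sup_left a.2) (Subgroup.mem_sup_left b.2)
  obtain ⟨ζ, hζr, hζ, htw⟩ := tw_of_scalar h1.1 r (h1.2 r hZ) fun e =>
    hne (Subtype.ext ((map_commutatorElement R.subtype a b).trans e))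
  exact dvd_n hr hζr hζ htw

include hr hZ hext hirr hnorm in
/-- The bound valid for all elements. -/
theorem coarse (hns : h ∉ Cfsg.Geo.scalars (Fin n) F) :
    r * (2 * Module.finrank F (fixSp h)) ≤ r * n + n := by
  obtain ⟨x, hx, hne⟩ : ∃ x ∈ R, h * x ≠ x * h := by
    by_contra hh
    push Not at hh
    exact hns (scalar_of_comm R hirr hh)
  have h1 := Nat.mul_le_mul_left r (commutator_fix h x)
  by_cases hs : ⁅h, x⁆ ∈ Cfsg.Geo.scalars (Fin n) F
  · rw [scalar_fix hs fun e => hne (commutatorElement_eq_one_iff_mul_comm.mp e), finrank_bot, add_zero] at h1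
    omega
  · have h2 := (fix_bound_of_nonscalar R hr hZ hext hirr (D_mem R h hnorm (Subgroup.mem_sup_left hx)) hs).1
    rw [mul_add] at h1
    omega

include hr hR hZ hext hirr hnorm in
/-- The bound `n / 2`. -/
theorem half {ϖ : ℕ} (hϖ : ϖ.Prime) (hϖ2 : ϖ ≠ 2) (hcase : ϖ ≠ r ∨ 5 ≤ r)
    (hns : h ∉ Cfsg.Geo.scalars (Fin n) F) (hpow : h ^ ϖ ∈ Cfsg.Geo.scalars (Fin n) F) :
    2 * Module.finrank F (fixSp h) ≤ n := by
  by_contra hw
  have hA : ∀ x ∈ ext R, ⁅h, x⁆ ∈ Cfsg.Geo.scalars (Fin n) F → ⁅h, x⁆ = 1 := by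
    intro x _ hs
    by_contra h1
    have := commutator_fix h x
    rw [scalar_fix hs h1, finrank_bot, add_zero] at this
    exact hw this
  have hS : ∀ a ∈ ext R, ∀ b ∈ ext R, ⁅a, b⁆ ∈ Cfsg.Geo.scalars (Fin n) F := fun a ha b hb =>
    (comm_mem R hext hirr ha hb).1
  -- bilinearity of the commutator
  have cr : ∀ a ∈ ext R, ∀ b, ∀ c ∈ ext R, ⁅a, b * c⁆ = ⁅a, b⁆ * ⁅a, c⁆ := by
    intro a ha b c hc
    have e : ⁅a, b * c⁆ = ⁅a, b⁆ * (b * ⁅a, c⁆ * b⁻¹) := by simp only [commutatorElement_def]; group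
    rw [e, ← (scalar_comm (hS a ha c hc) b).eq, mul_inv_cancel_right]
  have cl : ∀ a, ∀ b ∈ ext R, ∀ c ∈ ext R, ⁅a * b, c⁆ = ⁅b, c⁆ * ⁅a, c⁆ := by
    intro a b hb c hc
    have e : ⁅a * b, c⁆ = a * ⁅b, c⁆ * a⁻¹ * ⁅a, c⁆ := by simp only [commutatorElement_def]; group
    rw [e, ← (scalar_comm (hS b hb c hc) a).eq, mul_inv_cancel_right]
  have cconj : ∀ a ∈ ext R, ∀ b ∈ ext R, ⁅h * a * h⁻¹, h * b * h⁻¹⁆ = ⁅a, b⁆ := by
    intro a ha b hb
    have e : ⁅h * a * h⁻¹, h * b * h⁻¹⁆ = h * ⁅a, b⁆ * h⁻¹ := by simp only [commutatorElement_def]; group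
    rw [e, ← (scalar_comm (hS a ha b hb) h).eq, mul_inv_cancel_right]
  -- `u` commutes with its conjugate by `h`
  have hB : ∀ x ∈ ext R, Commute ⁅h, x⁆ (h * ⁅h, x⁆ * h⁻¹) := by
    intro x hx
    have hm := D_mem R h hnorm hx
    rw [← commutatorElement_eq_one_iff_commute]
    by_contra hne
    have h1 := comm_mem R hext hirr hm (conj_mem R h hnorm hm)
    obtain ⟨ζ, -, hζ, htw⟩ := tw_of_scalar h1.1 r (h1.2 r hZ) hne
    have hbot : fixSp h ⊓ (fixSp h).map (act x) = ⊥ := by
      rw [Submodule.eq_bot_iff]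
      rintro u ⟨hu, b, hb, rfl⟩
      rw [SetLike.mem_coe, mem_fix] at hu hb
      have hm1 : act ⁅h, x⁆ (act x b) = act x b := by
        rw [← act_mul, show ⁅h, x⁆ * x = h * x * h⁻¹ by rw [commutatorElement_def]; group, act_mul, act_mul]
        have hb' : act h⁻¹ b = b := by
          conv_lhs => rw [← hb]
          exact act_inv h b
        rw [hb', hu]
      refine twist_zero hζ htw hm1 ?_
      rw [act_mul, act_mul]
      have hu' : act h⁻¹ (act x b) = act x b := by
        conv_lhs => rw [← hu]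
        exact act_inv h _
      rw [hu', hm1, hu]
    have h2 := Submodule.finrank_sup_add_finrank_inf_eq (fixSp h) ((fixSp h).map (act x))
    have h3 := finrank_le_n (fixSp h ⊔ (fixSp h).map (act x))
    rw [hbot, finrank_bot, finrank_map_act] at h2
    omega
  -- the third iterated commutator vanishes
  have hD3 : ∀ x ∈ ext R, ⁅h, ⁅h, ⁅h, x⁆⁆⁆ = 1 := by
    intro x hx
    set v := ⁅h, x⁆ with hv
    have hvM : v ∈ ext R := D_mem R h hnorm hx
    set v1 := h * v * h⁻¹ with hv1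
    have hv1M : v1 ∈ ext R := conj_mem R h hnorm hvM
    set v2 := h * v1 * h⁻¹ with hv2
    have hv2M : v2 ∈ ext R := conj_mem R h hnorm hv1M
    set q := v2 * v⁻¹ with hq
    have hqM : q ∈ ext R := (ext R).mul_mem hv2M ((ext R).inv_mem hvM)
    -- polarisation
    have hpol : ∀ y ∈ ext R, ⁅v, h * ⁅h, y⁆ * h⁻¹⁆ * ⁅⁅h, y⁆, v1⁆ = 1 := by
      intro y hy
      set w := ⁅h, y⁆ with hw'
      have hwM : w ∈ ext R := D_mem R h hnorm hy
      set w1 := h * w * h⁻¹ with hw1
      have hw1M : w1 ∈ ext R := conj_mem R h hnorm hwM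
      have hsS : ⁅w⁻¹, x⁆ ∈ Cfsg.Geo.scalars (Fin n) F := hS _ ((ext R).inv_mem hwM) _ hx
      have e : ⁅h, x * y⁆ = v * w * ⁅w⁻¹, x⁆ := by simp only [hv, hw', commutatorElement_def]; group
      have h0 := commutatorElement_eq_one_iff_commute.mpr (hB (x * y) ((ext R).mul_mem hx hy))
      rw [e, show h * (v * w * ⁅w⁻¹, x⁆) * h⁻¹ = v1 * w1 * ⁅w⁻¹, x⁆ by
        rw [show h * (v * w * ⁅w⁻¹, x⁆) * h⁻¹ = h * v * h⁻¹ * (h * w * h⁻¹) * (h * ⁅w⁻¹, x⁆ * h⁻¹) by group,
          ← (scalar_comm hsS h).eq, mul_inv_cancel_right],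
        commute_scalar_right hsS, ← commutatorElement_inv, commute_scalar_right hsS, commutatorElement_inv,
        cl v w hwM _ ((ext R).mul_mem hv1M hw1M), cr w hwM v1 w1 hw1M, cr v hvM v1 w1 hw1M,
        commutatorElement_eq_one_iff_commute.mpr (hB y hy),
        commutatorElement_eq_one_iff_commute.mpr (hB x hx), mul_one, one_mul] at h0
      rw [(scalar_comm (hS v hvM w1 hw1M) _).eq]
      exact h0
    -- so `q` commutes with every commutator with `h`
    have hqw : ∀ y ∈ ext R, ⁅q, ⁅h, y⁆⁆ = 1 := by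
      intro y hy
      have hy' := conj_mem' R h hnorm hy
      set w := ⁅h, h⁻¹ * y * h⁆ with hw'
      have hwM : w ∈ ext R := D_mem R h hnorm hy'
      have e : ⁅h, y⁆ = h * w * h⁻¹ := by simp only [hw', commutatorElement_def]; group
      have hw1M : h * w * h⁻¹ ∈ ext R := conj_mem R h hnorm hwM
      rw [e, hq, cl v2 v⁻¹ ((ext R).inv_mem hvM) _ hw1M]
      have h2 : ⁅v2, h * w * h⁻¹⁆ = ⁅v1, w⁆ := cconj v1 hv1M w hwM
      have h3 : ⁅v⁻¹, h * w * h⁻¹⁆ * ⁅v, h * w * h⁻¹⁆ = 1 := by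
        rw [← cl v v⁻¹ ((ext R).inv_mem hvM) _ hw1M, mul_inv_cancel, commutatorElement_one_left]
      have h4 : ⁅w, v1⁆ = ⁅v, h * w * h⁻¹⁆⁻¹ := eq_inv_of_mul_eq_one_right (hpol _ hy')
      rw [eq_inv_of_mul_eq_one_left h3, h2, ← commutatorElement_inv w v1, h4, inv_inv, inv_mul_cancel]
    -- hence `q` is centralised by `h`
    have hqh : ⁅h, q⁆ = 1 := by
      refine hA q hqM ?_
      have hsc : h⁻¹ * q * h * q⁻¹ ∈ Cfsg.Geo.scalars (Fin n) F := by
        refine scalar_of_comm R hirr fun a ha => ?_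
        have haM : a ∈ ext R := Subgroup.mem_sup_left ha
        have hq1 : h⁻¹ * q * h ∈ ext R := conj_mem' R h hnorm hqM
        have hha : h * a * h⁻¹ ∈ ext R := conj_mem R h hnorm haM
        rw [← commutatorElement_eq_one_iff_mul_comm, cl _ _ ((ext R).inv_mem hqM) a haM]
        have h1 : ⁅h⁻¹ * q * h, a⁆ = ⁅q, h * a * h⁻¹⁆ := by
          rw [← cconj _ hq1 a haM, show h * (h⁻¹ * q * h) * h⁻¹ = q by group]
        have h2 : ⁅q, h * a * h⁻¹⁆ = ⁅q, ⁅h, a⁆⁆ * ⁅q, a⁆ := by
          rw [← cr q hqM _ a haM, show ⁅h, a⁆ * a = h * a * h⁻¹ by rw [commutatorElement_def]; group]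
        rw [h1, h2, hqw a haM, one_mul, ← cl q q⁻¹ ((ext R).inv_mem hqM) a haM, mul_inv_cancel,
          commutatorElement_one_left]
      have e : ⁅h, q⁆ = h * (h⁻¹ * q * h * q⁻¹)⁻¹ * h⁻¹ := by rw [commutatorElement_def]; group
      rw [e]
      exact (Cfsg.Geo.scalars_normal (ι := Fin n) (F := F)).conj_mem _ (inv_mem hsc) h
    set p := ⁅h, v⁆ with hp
    have hpc : Commute p (h * p * h⁻¹) := hB v hvM
    have e1 : q = h * p * h⁻¹ * p := by simp only [hq, hv2, hv1, hp, commutatorElement_def]; group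
    have e2 : h * h * p * (h * h)⁻¹ * (h * p * h⁻¹) = h * p * h⁻¹ * p := by
      have h1 : h * q = q * h := commutatorElement_eq_one_iff_mul_comm.mp hqh
      calc h * h * p * (h * h)⁻¹ * (h * p * h⁻¹) = h * (h * p * h⁻¹ * p) * h⁻¹ := by group
        _ = q := by rw [← e1, h1, mul_inv_cancel_right]
        _ = _ := e1
    have e3 : Commute (h * h) p := by
      have h1 : h * h * p * (h * h)⁻¹ = p := by
        apply mul_right_cancel (b := h * p * h⁻¹)
        rw [e2, hpc.eq]
      exact mul_inv_eq_iff_eq_mul.mp h1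
    obtain ⟨k, hk⟩ := hϖ.odd_of_ne_two hϖ2
    have e4 : Commute h p := by
      have h1 : Commute (h ^ ϖ) p := scalar_comm hpow p
      have h2 : Commute ((h * h) ^ k) p := e3.pow_left k
      have e : h = ((h * h) ^ k)⁻¹ * h ^ ϖ := by
        rw [eq_inv_mul_iff_mul_eq, hk, ← pow_two, ← pow_mul, ← pow_succ]
      rw [e]
      exact h2.inv_left.mul_left h1
    exact commutatorElement_eq_one_iff_commute.mpr e4
  -- powers
  have hpowD : ∀ x, Commute h ⁅h, x⁆ → ∀ k : ℕ, h ^ k * x * (h ^ k)⁻¹ = ⁅h, x⁆ ^ k * x := by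
    intro x hx k
    induction k with
    | zero => simp
    | succ k ih =>
      have h1 : h * ⁅h, x⁆ ^ k = ⁅h, x⁆ ^ k * h := (hx.pow_right k).eq
      calc h ^ (k + 1) * x * (h ^ (k + 1))⁻¹ = h * (h ^ k * x * (h ^ k)⁻¹) * h⁻¹ := by
            rw [pow_succ']; group
        _ = (h * ⁅h, x⁆ ^ k) * x * h⁻¹ := by rw [ih, ← mul_assoc h]
        _ = ⁅h, x⁆ ^ k * (⁅h, x⁆ * x) := by rw [h1, commutatorElement_def]; group
        _ = _ := by rw [← mul_assoc, ← pow_succ]
  have hzpow : ∀ x, Commute h ⁅h, x⁆ → ⁅h, x⁆ ^ ϖ = 1 := by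
    intro x hx
    have h1 := hpowD x hx ϖ
    rw [(scalar_comm hpow x).eq, mul_inv_cancel_right] at h1
    exact right_eq_mul.mp h1
  -- a suitable element
  obtain ⟨x0, hx0, hne0⟩ : ∃ x ∈ ext R, ⁅h, x⁆ ≠ 1 := by
    by_contra hh
    push Not at hh
    exact hns (scalar_of_comm R hirr fun a ha =>
      commutatorElement_eq_one_iff_mul_comm.mp (hh a (Subgroup.mem_sup_left ha)))
  obtain ⟨x, hx, hx1, hx2⟩ : ∃ x ∈ ext R, ⁅h, x⁆ ≠ 1 ∧ ⁅h, ⁅h, x⁆⁆ = 1 := by
    by_cases h1 : ⁅h, ⁅h, x0⁆⁆ = 1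
    · exact ⟨x0, hx0, hne0, h1⟩
    · exact ⟨_, D_mem R h hnorm hx0, h1, hD3 x0 hx0⟩
  set z := ⁅h, x⁆ with hz
  have hzM : z ∈ ext R := D_mem R h hnorm hx
  have hzh : Commute h z := commutatorElement_eq_one_iff_commute.mp hx2
  have hzs : z ∉ Cfsg.Geo.scalars (Fin n) F := fun hs => hx1 (hA x hx hs)
  have hzϖ : z ^ ϖ = 1 := hzpow x hzh
  by_cases hrϖ : ϖ = r
  swap
  · obtain ⟨a, ha, s, hs, hzas⟩ := mem_ext R hzM
    obtain ⟨k, hk⟩ := hR ⟨a, ha⟩
    have hak : a ^ r ^ k = 1 := congrArg Subtype.val hk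
    have hzk : z ^ r ^ k ∈ Cfsg.Geo.scalars (Fin n) F := by
      rw [hzas, ((scalar_comm hs a).symm).mul_pow, hak, one_mul]
      exact pow_mem hs _
    have hcop : Nat.gcd (r ^ k) ϖ = 1 := Nat.Coprime.pow_left k ((Nat.coprime_primes hr hϖ).mpr (Ne.symm hrϖ))
    refine hzs ?_
    have hb : z = (z ^ r ^ k) ^ (Nat.gcdA (r ^ k) ϖ) * (z ^ ϖ) ^ (Nat.gcdB (r ^ k) ϖ) := by
      conv_lhs => rw [← zpow_one z, ← Nat.cast_one, ← hcop, Nat.gcd_eq_gcd_ab]
      rw [_root_.zpow_add, _root_.zpow_mul, _root_.zpow_mul, zpow_natCast, zpow_natCast]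
    rw [hzϖ, _root_.one_zpow, mul_one] at hb
    rw [hb]
    exact Subgroup.zpow_mem _ hzk _
  subst hrϖ
  have hr5 : 5 ≤ ϖ := hcase.resolve_left (not_not.mpr rfl)
  have hxz : h * x = z * x * h := by rw [hz, commutatorElement_def]; group
  obtain ⟨he, hr0⟩ := fix_bound_of_nonscalar R hr hZ hext hirr hzM hzs
  by_cases hc : ⁅z, x⁆ = 1
  · exact hw (commuting_case hr5 (hϖ.odd_of_ne_two hϖ2) hr0 hzh.eq
      (commutatorElement_eq_one_iff_mul_comm.mp hc).symm hxz hzϖ he)
  · have h1 := comm_mem R hext hirr hzM hx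
    obtain ⟨ζ, hζr, hζ, htw⟩ := tw_of_scalar h1.1 ϖ (h1.2 ϖ hZ) hc
    exact hw (twisted_case hr hr5 hζr hζ hzh.eq htw hxz)

end Ext

theorem main {r ϖ : ℕ} (R : Subgroup (GL (Fin n) F)) (hr : r.Prime) (hR : IsPGroup r R)
    (hZ : Nat.card (Subgroup.center R) = r) (hext : commutator R = Subgroup.center R)
    (hirr : Cfsg.Geo.ActsAbsolutelyIrreducibly (Cfsg.Geo.matrixSet R)) (g : GL (Fin n) F)
    (hg : g ∈ Cfsg.Geo.subgroupNormalizer (R ⊔ Cfsg.Geo.scalars (Fin n) F)) (hϖ : ϖ.Prime)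
    (hord : orderOf g = ϖ) (hns : g ∉ Cfsg.Geo.scalars (Fin n) F) (c : F) :
    (ϖ = 2 → 4 * Module.finrank F (Module.End.eigenspace (act g) c) ≤ 3 * n) ∧
    (ϖ = 3 → 3 * Module.finrank F (Module.End.eigenspace (act g) c) ≤ 2 * n) ∧
    (3 < ϖ → 2 * Module.finrank F (Module.End.eigenspace (act g) c) ≤ n) ∧
    (ϖ = 3 → ¬ 3 ∣ n → 2 * Module.finrank F (Module.End.eigenspace (act g) c) ≤ n) := by
  by_cases hc : c = 0
  · have : Module.End.eigenspace (act g) c = ⊥ := by
      rw [Submodule.eq_bot_iff]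
      intro v hv
      rw [Module.End.mem_eigenspace_iff, hc, zero_smul] at hv
      exact act_injective g (hv.trans (map_zero _).symm)
    rw [this, finrank_bot]
    omega
  set s : GL (Fin n) F := Units.map (Matrix.scalar (Fin n) : F →+* Matrix (Fin n) (Fin n) F).toMonoidHom
    (Units.mk0 c hc)⁻¹ with hs
  have hsS : s ∈ Cfsg.Geo.scalars (Fin n) F := ⟨_, rfl⟩
  have hsv : ∀ v, act s v = c⁻¹ • v := fun v => by
    simp [hs, act, Matrix.toLin'_apply, ← Matrix.smul_one_eq_diagonal, Matrix.smul_mulVec]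
  set h := s * g with hh
  have hW : Module.End.eigenspace (act g) c = fixSp h := by
    ext v
    rw [Module.End.mem_eigenspace_iff, mem_fix, hh, act_mul, hsv, inv_smul_eq_iff₀ hc]
  rw [hW]
  have hns' : h ∉ Cfsg.Geo.scalars (Fin n) F := fun h1 => hns (by
    have := Subgroup.mul_mem _ (inv_mem hsS) h1
    rwa [hh, inv_mul_cancel_left] at this)
  have hnorm : h ∈ Subgroup.normalizer ((ext R : Subgroup (GL (Fin n) F)) : Set (GL (Fin n) F)) :=
    mul_mem (Subgroup.le_normalizer (Subgroup.mem_sup_right hsS)) hg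
  have hpow : h ^ ϖ ∈ Cfsg.Geo.scalars (Fin n) F := by
    rw [hh, (scalar_comm hsS g).mul_pow, ← hord, pow_orderOf_eq_one, mul_one]
    exact pow_mem hsS _
  have hc0 := coarse R hr hZ hext hirr h hnorm hns'
  have hhalf := half R hr hR hZ hext hirr h hnorm hϖ
  have hco2 : 4 * Module.finrank F (fixSp h) ≤ 3 * n := by
    have := hr.two_le
    by_contra hlt
    push Not at hlt
    nlinarith
  refine ⟨fun _ => hco2, fun h3 => ?_, fun h3 => ?_, fun h3 hn3 => ?_⟩
  · rcases eq_or_ne r 3 with h' | h'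
    · subst h'; omega
    · have := hhalf (by omega) (Or.inl (by omega)) hns' hpow; omega
  · refine hhalf (by omega) ?_ hns' hpow
    rcases eq_or_ne ϖ r with h' | h'
    · right
      subst h'
      rcases hr.eq_two_or_odd with h2 | h2 <;> omega
    · exact Or.inl h'
  · refine hhalf (by omega) (Or.inl fun h' => hn3 ?_) hns' hpow
    rw [← h3, h']
    exact r_dvd R hr hZ hext hirr

end Cfsg.Lib.Classical.ExtraEig
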