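import Mathlib

/-! A transitive group of degree `m p`, `m ≤ p`, has a fixed-point-free element of order `p`. -/

set_option autoImplicit false
set_option linter.style.haveILetI false

namespace Cfsg.Lib.Classical.FixFreeElt

open MulAction

universe u v

variable {G : Type u} {Ω : Type v} [Group G] [Finite G] [MulAction G Ω] [Fintype Ω] {p : ℕ} [Fact p.Prime]

theorem pow_dvd_orbit (htr : IsPretransitive G Ω) {c : ℕ} (hc : p ^ c ∣ Fintype.card Ω) (P : Sylow p G) (ω : Ω) :
    p ^ c * Nat.card (stabilizer (P : Subgroup G) ω) ∣ Nat.card (P : Subgroup G) := by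
  have hp := (Fact.out : p.Prime)
  obtain ⟨b, hb⟩ := IsPGroup.iff_card.mp (P.2.to_subgroup (stabilizer (P : Subgroup G) ω))
  have hsub : Nat.card (stabilizer (P : Subgroup G) ω) ∣ Nat.card (stabilizer G ω) := by
    have h : (stabilizer (P : Subgroup G) ω).map (P : Subgroup G).subtype ≤ stabilizer G ω := by
      rintro _ ⟨x, hx, rfl⟩
      exact hx
    exact (dvd_of_eq (Nat.card_congr (Subgroup.equivMapOfInjective (stabilizer (P : Subgroup G) ω)
      (P : Subgroup G).subtype (Subgroup.subtype_injective _)).toEquiv)).trans (Subgroup.card_dvd_of_le h)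
  have hG : p ^ c * Nat.card (stabilizer (P : Subgroup G) ω) ∣ Nat.card G := by
    rw [← (stabilizer G ω).card_mul_index, index_stabilizer_of_transitive, mul_comm (Nat.card (stabilizer G ω)),
      Nat.card_eq_fintype_card (α := Ω)]
    exact Nat.mul_dvd_mul hc hsub
  rw [hb, ← pow_add] at hG ⊢
  rw [P.card_eq_multiplicity]
  exact pow_dvd_pow p ((hp.pow_dvd_iff_le_factorization Nat.card_pos.ne').mp hG)

theorem exists_fix_free [FaithfulSMul G Ω] (htr : IsPretransitive G Ω) (m : ℕ) (hm : 1 ≤ m) (hmp : m ≤ p)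
    (hΩ : Fintype.card Ω = m * p) : ∃ g : G, orderOf g = p ∧ ∀ ω : Ω, g • ω ≠ ω := by
  classical
  have hp := (Fact.out : p.Prime)
  obtain ⟨P⟩ : Nonempty (Sylow p G) := inferInstance
  have horb : ∀ ω : Ω, Nat.card (orbit (P : Subgroup G) ω) * Nat.card (stabilizer (P : Subgroup G) ω) =
      Nat.card (P : Subgroup G) := fun ω => by
    rw [mul_comm, Nat.card_coe_set_eq, ← index_stabilizer]
    exact (stabilizer (P : Subgroup G) ω).card_mul_index
  have hne : Nonempty Ω := Fintype.card_pos_iff.mp (by rw [hΩ]; exact Nat.mul_pos hm hp.pos)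
  obtain ⟨ω₀⟩ := hne
  rcases eq_or_lt_of_le hmp with rfl | hlt
  · have htop : ∀ ω : Ω, ω ∈ orbit (P : Subgroup G) ω₀ := by
      have h1 := pow_dvd_orbit htr (c := 2) (by rw [hΩ, pow_two]) P ω₀
      rw [← horb ω₀] at h1
      have h2 := Nat.le_of_dvd (Nat.pos_of_ne_zero (by
        have : Nonempty (orbit (P : Subgroup G) ω₀) := ⟨⟨ω₀, mem_orbit_self ω₀⟩⟩
        exact Nat.card_pos.ne')) (Nat.dvd_of_mul_dvd_mul_right Nat.card_pos h1)
      intro ω
      have huniv : orbit (P : Subgroup G) ω₀ = Set.univ := Set.eq_of_subset_of_ncard_le (Set.subset_univ _) (by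
        rw [Set.ncard_univ, Nat.card_eq_fintype_card, hΩ, ← Nat.card_coe_set_eq]
        rw [pow_two] at h2
        exact h2) Set.finite_univ
      rw [huniv]
      trivial
    haveI : Nontrivial (P : Subgroup G) := by
      rw [← Finite.one_lt_card_iff_nontrivial, ← horb ω₀]
      have h1 : Nat.card (orbit (P : Subgroup G) ω₀) = Fintype.card Ω := by
        rw [Nat.card_coe_set_eq, Set.eq_univ_of_forall htop, Set.ncard_univ, Nat.card_eq_fintype_card]
      rw [h1, hΩ]
      have h2 : 0 < Nat.card (stabilizer (P : Subgroup G) ω₀) := Nat.card_pos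
      have := hp.two_le
      nlinarith
    haveI := P.2.center_nontrivial
    obtain ⟨b, hb⟩ := IsPGroup.iff_card.mp (P.2.to_subgroup (Subgroup.center (P : Subgroup G)))
    have hdvd : m ∣ Nat.card (Subgroup.center (P : Subgroup G)) := by
      rw [hb]
      refine dvd_pow_self m fun h0 => ?_
      have := Finite.one_lt_card (α := Subgroup.center (P : Subgroup G))
      rw [hb, h0, pow_zero] at this
      omega
    obtain ⟨z, hz⟩ := exists_prime_orderOf_dvd_card' m hdvd
    refine ⟨z.1.1, by rw [Subgroup.orderOf_coe, Subgroup.orderOf_coe, hz], fun ω hω => ?_⟩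
    have hall : ∀ ω' : Ω, z.1.1 • ω' = ω' := fun ω' => by
      obtain ⟨⟨x, hx⟩, hxω⟩ := htop ω
      obtain ⟨⟨y, hy⟩, hyω⟩ := htop ω'
      have hxω' : x • ω₀ = ω := hxω
      have hyω' : y • ω₀ = ω' := hyω
      have hc : z.1.1 * (y * x⁻¹) = y * x⁻¹ * z.1.1 := (congrArg Subtype.val
        (Subgroup.mem_center_iff.mp z.2 (⟨y, hy⟩ * ⟨x, hx⟩⁻¹))).symm
      rw [show ω' = (y * x⁻¹) • ω by rw [← hxω', ← mul_smul, inv_mul_cancel_right, hyω'], ← mul_smul, hc,
        mul_smul, hω]
    have h1 : z.1.1 = 1 := eq_of_smul_eq_smul fun a : Ω => by rw [hall a, one_smul]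
    have : orderOf z = 1 := by
      rw [← Subgroup.orderOf_coe, ← Subgroup.orderOf_coe, h1, orderOf_one]
    exact hp.ne_one (hz.symm.trans this)
  have hsize : ∀ ω : Ω, Nat.card (orbit (P : Subgroup G) ω) = p := by
    intro ω
    obtain ⟨a, ha⟩ := P.2.card_orbit ω
    have h1 := pow_dvd_orbit htr (c := 1) (by rw [hΩ, pow_one]; exact dvd_mul_left p m) P ω
    rw [← horb ω] at h1
    have h2 := Nat.dvd_of_mul_dvd_mul_right Nat.card_pos h1
    have h3 : Nat.card (orbit (P : Subgroup G) ω) ≤ m * p := by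
      rw [← hΩ, ← Nat.card_eq_fintype_card]
      exact Nat.card_le_card_of_injective _ Subtype.val_injective
    rw [ha] at h2 h3 ⊢
    have hp2 := hp.two_le
    rcases a with _ | _ | a
    · simp at h2; omega
    · rw [pow_one]
    · exfalso
      have : p * p ≤ p ^ (a + 1 + 1) := by rw [← pow_two]; exact Nat.pow_le_pow_right hp.pos (by omega)
      have : m * p < p * p := Nat.mul_lt_mul_of_pos_right hlt hp.pos
      omega
  have hidx : ∀ ω : Ω, (stabilizer (P : Subgroup G) ω).index = p := fun ω => by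
    rw [index_stabilizer, ← Nat.card_coe_set_eq, hsize]
  have hnor : ∀ ω : Ω, (stabilizer (P : Subgroup G) ω).Normal := fun ω => by
    refine Subgroup.normal_of_index_eq_minFac_card ?_
    obtain ⟨b, hb⟩ := IsPGroup.iff_card.mp P.2
    have hb0 : b ≠ 0 := by
      rintro rfl
      have := horb ω
      rw [hsize, hb, pow_zero] at this
      exact hp.ne_one (Nat.eq_one_of_mul_eq_one_right this)
    rw [hidx, hb, Nat.pow_minFac hb0, hp.minFac_eq]
  have hfree : ∃ g : (P : Subgroup G), ∀ ω : Ω, g • ω ≠ ω := by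
    by_contra hc
    push Not at hc
    haveI := Fintype.ofFinite (P : Subgroup G)
    have hge : ∀ g : (P : Subgroup G), p ≤ (Finset.univ.filter fun ω : Ω => g • ω = ω).card := by
      intro g
      obtain ⟨ω, hω⟩ := hc g
      refine (hsize ω).ge.trans ?_
      rw [Nat.card_eq_fintype_card, ← Set.toFinset_card]
      refine Finset.card_le_card fun x hx => ?_
      obtain ⟨y, rfl⟩ := Set.mem_toFinset.mp hx
      have hgs : g ∈ stabilizer (P : Subgroup G) ω := hω
      have hcj : y⁻¹ * g * y⁻¹⁻¹ ∈ stabilizer (P : Subgroup G) ω := (hnor ω).conj_mem g hgs _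
      rw [inv_inv, mem_stabilizer_iff, mul_smul, mul_smul, inv_smul_eq_iff] at hcj
      exact Finset.mem_filter.mpr ⟨Finset.mem_univ _, hcj⟩
    have hsum : ∑ g : (P : Subgroup G), (Finset.univ.filter fun ω : Ω => g • ω = ω).card =
        ∑ ω : Ω, Nat.card (stabilizer (P : Subgroup G) ω) := by
      simp only [Finset.card_filter]
      rw [Finset.sum_comm]
      refine Finset.sum_congr rfl fun ω _ => ?_
      rw [← Finset.card_filter, Nat.card_eq_fintype_card, Fintype.card_of_subtype]
      simp [mem_stabilizer_iff]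
    have hmul : p * ∑ ω : Ω, Nat.card (stabilizer (P : Subgroup G) ω) = m * p * Fintype.card (P : Subgroup G) := by
      rw [Finset.mul_sum, Finset.sum_congr rfl (fun ω _ =>
        show p * Nat.card (stabilizer (P : Subgroup G) ω) = Fintype.card (P : Subgroup G) by
          exact ((congrArg (fun t => t * Nat.card (stabilizer (P : Subgroup G) ω)) (hsize ω)).symm.trans (horb ω)).trans
            Nat.card_eq_fintype_card), Finset.sum_const, Finset.card_univ, hΩ, smul_eq_mul]
    have hlow := Finset.add_sum_erase Finset.univ (fun g : (P : Subgroup G) =>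
      (Finset.univ.filter fun ω : Ω => g • ω = ω).card) (Finset.mem_univ 1)
    have hone : (Finset.univ.filter fun ω : Ω => (1 : (P : Subgroup G)) • ω = ω).card = m * p := by
      simp [hΩ]
    have hrest := Finset.card_nsmul_le_sum (Finset.univ.erase (1 : (P : Subgroup G)))
      (fun g => (Finset.univ.filter fun ω : Ω => g • ω = ω).card) p (fun g _ => hge g)
    simp only [Finset.card_erase_of_mem (Finset.mem_univ _), Finset.card_univ, smul_eq_mul] at hrest
    rw [hone, hsum] at hlow
    have hN : 1 ≤ Fintype.card (P : Subgroup G) := Fintype.card_pos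
    obtain ⟨k, hk⟩ := Nat.exists_eq_add_of_le hN
    rw [hk, Nat.add_sub_cancel_left] at hrest
    rw [hk] at hmul
    have hp1 := hp.two_le
    nlinarith [Nat.mul_le_mul_left k (Nat.mul_le_mul_right p (Nat.succ_le_of_lt hlt))]
  obtain ⟨g, hg⟩ := hfree
  refine ⟨g.1, ?_, fun ω => hg ω⟩
  rw [Subgroup.orderOf_coe]
  refine orderOf_eq_prime ?_ fun h => hg ω₀ (by rw [h, one_smul])
  refine Subtype.ext (eq_of_smul_eq_smul fun a : Ω => ?_)
  rw [show ((1 : (P : Subgroup G)) : G) = 1 from rfl, one_smul]
  haveI := hnor a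
  have := Subgroup.pow_index_mem (H := stabilizer (P : Subgroup G) a) g
  rw [hidx] at this
  exact this

end Cfsg.Lib.Classical.FixFreeElt
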