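import Mathlib

/-! Jordan types of nilpotent maps and invariant complementary pairs. -/

set_option autoImplicit false
set_option linter.unusedSimpArgs false
set_option linter.unusedSectionVars false
set_option linter.unusedVariables false
set_option linter.style.haveILetI false
set_option linter.flexible false

namespace Cfsg.Lib.Classical.Jordan

open Submodule

universe u v

variable {F : Type u} [Field F] {V : Type v} [AddCommGroup V] [Module F V] [FiniteDimensional F V]

/-- An invariant subspace. -/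
def NInv (N : Module.End F V) (W : Submodule F V) : Prop := ∀ w ∈ W, N w ∈ W

/-- The rank function of a type. -/
def rk (μ : Multiset ℕ) (j : ℕ) : ℕ := (μ.map fun a => a - j).sum

theorem rk_add (μ ν : Multiset ℕ) (j : ℕ) : rk (μ + ν) j = rk μ j + rk ν j := by simp [rk]

theorem rk_cons (a : ℕ) (μ : Multiset ℕ) (j : ℕ) : rk (a ::ₘ μ) j = (a - j) + rk μ j := by simp [rk]

theorem rk_zero (μ : Multiset ℕ) : rk μ 0 = μ.sum := by simp [rk]

/-- The rank function determines the multiplicities. -/
theorem count_of_rk (μ : Multiset ℕ) (j : ℕ) : μ.count (j + 1) + 2 * rk μ (j + 1) = rk μ j + rk μ (j + 2) := by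
  induction μ using Multiset.induction with
  | empty => simp [rk]
  | cons a μ ih =>
    rw [rk_cons, rk_cons, rk_cons, Multiset.count_cons]
    split_ifs with h <;> omega

theorem eq_of_rk {μ ν : Multiset ℕ} (hμ : ∀ a ∈ μ, 0 < a) (hν : ∀ a ∈ ν, 0 < a) (h : ∀ j, rk μ j = rk ν j) :
    μ = ν := by
  refine Multiset.ext.mpr fun a => ?_
  rcases a with _ | a
  · rw [Multiset.count_eq_zero_of_notMem fun h0 => (hμ 0 h0).ne rfl,
      Multiset.count_eq_zero_of_notMem fun h0 => (hν 0 h0).ne rfl]
  · have h1 := count_of_rk μ a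
    have h2 := count_of_rk ν a
    rw [h, h, h] at h1
    omega

theorem NInv.sup {N : Module.End F V} {U W : Submodule F V} (hU : NInv N U) (hW : NInv N W) : NInv N (U ⊔ W) := by
  intro w hw
  obtain ⟨a, ha, b, hb, rfl⟩ := mem_sup.mp hw
  rw [map_add]
  exact add_mem_sup (hU a ha) (hW b hb)

theorem NInv.map_pow {N : Module.End F V} {U : Submodule F V} (hU : NInv N U) (j : ℕ) : U.map (N ^ j) ≤ U := by
  induction j with
  | zero => intro u hu; obtain ⟨w, hw, rfl⟩ := hu; simpa using hw
  | succ j ih =>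
    rintro _ ⟨w, hw, rfl⟩
    rw [pow_succ', Module.End.mul_apply]
    exact hU _ (ih ⟨w, hw, rfl⟩)

/-- Ranks add over independent invariant subspaces. -/
theorem rank_sup {N : Module.End F V} {U W : Submodule F V} (hU : NInv N U) (hW : NInv N W) (hd : Disjoint U W)
    (j : ℕ) : Module.finrank F ((U ⊔ W).map (N ^ j)) =
      Module.finrank F (U.map (N ^ j)) + Module.finrank F (W.map (N ^ j)) := by
  have h := Submodule.finrank_sup_add_finrank_inf_eq (U.map (N ^ j)) (W.map (N ^ j))
  rw [(hd.mono (hU.map_pow j) (hW.map_pow j)).eq_bot, finrank_bot, add_zero] at h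
  rw [Submodule.map_sup, h]

/-- A decomposition type of an invariant subspace. -/
def IsType (N : Module.End F V) (p : ℕ) (S : Submodule F V) (μ : Multiset ℕ) : Prop :=
  (∀ a ∈ μ, 0 < a ∧ a ≤ p) ∧ (∀ j, Module.finrank F (S.map (N ^ j)) = rk μ j) ∧
    ∀ ν ≤ μ, ∃ U W : Submodule F V, NInv N U ∧ NInv N W ∧ Disjoint U W ∧ U ⊔ W = S ∧ Module.finrank F U = ν.sum

/-- Every invariant subspace of a nilpotent map has a type. -/
theorem exists_type {N : Module.End F V} {p : ℕ} (hN : N ^ p = 0) :
    ∀ d (S : Submodule F V), Module.finrank F S ≤ d → NInv N S → ∃ μ, IsType N p S μ := by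
  classical
  intro d
  induction d with
  | zero =>
    intro S hS hSi
    obtain rfl : S = ⊥ := finrank_eq_zero.mp (by omega)
    exact ⟨0, by simp, fun j => by simp [rk], fun ν hν => ⟨⊥, ⊥, hSi, hSi, disjoint_bot_left, by simp, by
      simp [Multiset.le_zero.mp hν]⟩⟩
  | succ d ih =>
    intro S hS hSi
    rcases eq_or_ne S ⊥ with rfl | hS0
    · exact ih ⊥ (by simp) hSi
    -- a vector of largest height
    have hex : ∃ k, ∀ s ∈ S, (N ^ k) s = 0 := ⟨p, fun s _ => by simp [hN]⟩
    set k := Nat.find hex with hk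
    have hkS := Nat.find_spec hex
    have hk0 : 0 < k := Nat.pos_of_ne_zero fun e => hS0 (by
      rw [eq_bot_iff]
      intro s hs
      have := hkS s hs
      rw [← hk, e] at this
      simpa using this)
    have hkp : k ≤ p := Nat.find_min' hex fun s _ => by simp [hN]
    obtain ⟨v, hv, hv0⟩ : ∃ v ∈ S, (N ^ (k - 1)) v ≠ 0 := by
      have := Nat.find_min hex (show k - 1 < k by omega)
      push Not at this
      exact this
    obtain ⟨φ, hφ⟩ := Module.Projective.exists_dual_ne_zero F hv0
    have hmem : ∀ j, (N ^ j) v ∈ S := fun j => hSi.map_pow j ⟨v, hv, rfl⟩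
    set c : Fin k → V := fun j => (N ^ (j : ℕ)) v with hc
    set C := span F (Set.range c) with hC
    let Φ : V →ₗ[F] (Fin k → F) := LinearMap.pi fun j => φ.comp (N ^ (j : ℕ))
    set W := S ⊓ LinearMap.ker Φ with hW
    have hkill : ∀ s ∈ S, ∀ j, k ≤ j → (N ^ j) s = 0 := fun s hs j hj => by
      rw [← Nat.sub_add_cancel hj, pow_add, Module.End.mul_apply, hk, hkS s hs, map_zero]
    have hCS : C ≤ S := span_le.mpr (by rintro _ ⟨j, rfl⟩; exact hmem _)
    have hCi : NInv N C := by
      intro x hx
      induction hx using span_induction with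
      | mem x hx =>
        obtain ⟨j, rfl⟩ := hx
        show N ((N ^ (j : ℕ)) v) ∈ C
        rw [← Module.End.mul_apply, ← pow_succ']
        rcases Nat.lt_or_ge ((j : ℕ) + 1) k with h | h
        · exact subset_span ⟨⟨_, h⟩, rfl⟩
        · rw [hkill v hv _ h]; exact zero_mem _
      | zero => simp
      | add a b _ _ ha hb => rw [map_add]; exact add_mem ha hb
      | smul a b _ hb => rw [map_smul]; exact smul_mem _ _ hb
    have hWi : NInv N W := by
      rintro w ⟨hwS, hwK⟩
      refine ⟨hSi w hwS, funext fun j => ?_⟩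
      show φ ((N ^ (j : ℕ)) (N w)) = 0
      rw [← Module.End.mul_apply, ← pow_succ]
      rcases Nat.lt_or_ge ((j : ℕ) + 1) k with h | h
      · exact congrFun hwK ⟨_, h⟩
      · rw [hkill w hwS _ h, map_zero]
    -- the chain is independent and avoids `W`
    have hkey : ∀ g : Fin k → F, (∑ j, g j • c j) ∈ LinearMap.ker Φ → g = 0 := by
      intro g hg
      by_contra hne
      obtain ⟨l₀, hl₀⟩ := Function.ne_iff.mp hne
      set s := Finset.univ.filter fun j => g j ≠ 0
      have hs : s.Nonempty := ⟨l₀, by simpa [s] using hl₀⟩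
      set l := s.min' hs
      have hl : g l ≠ 0 := (Finset.mem_filter.mp (s.min'_mem hs)).2
      have h := congrFun hg ⟨k - 1 - l, by omega⟩
      simp only [Φ, LinearMap.pi_apply, LinearMap.comp_apply, map_sum, map_smul, Pi.zero_apply, smul_eq_mul] at h
      rw [Finset.sum_eq_single l (fun j _ hj => ?_) (by simp)] at h
      · simp only [c] at h
        rw [← Module.End.mul_apply, ← pow_add, show k - 1 - (l : ℕ) + l = k - 1 by omega] at h
        exact hl ((mul_eq_zero.mp h).resolve_right hφ)
      · rcases eq_or_ne (g j) 0 with h0 | h0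
        · rw [h0, zero_mul]
        · have hlj : l < j := lt_of_le_of_ne (s.min'_le j (by simp [s, h0])) (Ne.symm hj)
          simp only [c]
          rw [← Module.End.mul_apply, ← pow_add, hkill v hv _ (by have := Fin.lt_def.mp hlj; omega), map_zero, mul_zero]
    have hli : LinearIndependent F c := by
      rw [Fintype.linearIndependent_iff]
      intro g hg j
      rw [hkey g (by rw [hg]; exact zero_mem _)]
      rfl
    have hd : Disjoint C W := by
      rw [Submodule.disjoint_def]
      intro x hx hxW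
      obtain ⟨g, rfl⟩ := (mem_span_range_iff_exists_fun F).mp hx
      simp [hkey g hxW.2]
    have hCd : Module.finrank F C = k := by rw [hC, finrank_span_eq_card hli, Fintype.card_fin]
    have hsup : C ⊔ W = S := by
      refine eq_of_le_of_finrank_le (sup_le hCS inf_le_left) ?_
      have h1 := Submodule.finrank_sup_add_finrank_inf_eq C W
      rw [hd.eq_bot, finrank_bot, hCd] at h1
      have h2 := Submodule.finrank_sup_add_finrank_inf_eq S (LinearMap.ker Φ)
      have h3 := (S ⊔ LinearMap.ker Φ).finrank_le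
      have h4 := LinearMap.finrank_range_add_finrank_ker Φ
      have h5 := (LinearMap.range Φ).finrank_le
      rw [Module.finrank_fintype_fun_eq_card, Fintype.card_fin] at h5
      rw [← hW] at h2
      omega
    have hWd : Module.finrank F W ≤ d := by
      have h1 := Submodule.finrank_sup_add_finrank_inf_eq C W
      rw [hd.eq_bot, finrank_bot, hsup, hCd] at h1
      omega
    obtain ⟨μ, hμb, hμr, hμs⟩ := ih W hWd hWi
    refine ⟨k ::ₘ μ, ?_, fun j => ?_, fun ν hν => ?_⟩
    · intro a ha
      rcases Multiset.mem_cons.mp ha with rfl | ha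
      · exact ⟨hk0, hkp⟩
      · exact hμb a ha
    · rw [← hsup, rank_sup hCi hWi hd, hμr, rk_cons]
      congr 1
      have e : C.map (N ^ j) = span F (Set.range fun l : Fin (k - j) => c ⟨j + l, by omega⟩) := by
        apply le_antisymm
        · rw [hC, map_span, span_le]
          rintro _ ⟨_, ⟨l, rfl⟩, rfl⟩
          show (N ^ j) ((N ^ (l : ℕ)) v) ∈ _
          rw [← Module.End.mul_apply, ← pow_add]
          rcases Nat.lt_or_ge (j + l) k with h | h
          · exact subset_span ⟨⟨l, by omega⟩, rfl⟩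
          · rw [hkill v hv _ h]; exact zero_mem _
        · rw [span_le]
          rintro _ ⟨l, rfl⟩
          refine ⟨c ⟨l, by omega⟩, subset_span ⟨_, rfl⟩, ?_⟩
          simp only [c, ← Module.End.mul_apply, ← pow_add]
      rw [e]
      exact (finrank_span_eq_card (hli.comp (fun l : Fin (k - j) => (⟨j + l, by omega⟩ : Fin k)) (fun a b h => Fin.ext (by simpa using h)))).trans
        (Fintype.card_fin _)
    · by_cases hkν : k ∈ ν
      · obtain ⟨U, W', hU, hW', hd', hs', hUd⟩ := hμs (ν.erase k) (by rw [Multiset.erase_le_iff_le_cons]; exact hν)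
        have hUW : U ≤ W := hs' ▸ le_sup_left
        refine ⟨C ⊔ U, W', hCi.sup hU, hW', ?_, by rw [sup_assoc, hs', hsup], ?_⟩
        · have hd0 : Disjoint C (U ⊔ W') := by rw [hs']; exact hd
          exact Disjoint.disjoint_sup_left_of_disjoint_sup_right hd' hd0
        · have h1 := Submodule.finrank_sup_add_finrank_inf_eq C U
          rw [(hd.mono_right hUW).eq_bot, finrank_bot, hCd, hUd] at h1
          rw [← Multiset.cons_erase hkν, Multiset.sum_cons]
          omega
      · obtain ⟨U, W', hU, hW', hd', hs', hUd⟩ := hμs ν ((Multiset.le_cons_of_notMem hkν).mp hν)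
        refine ⟨U, C ⊔ W', hU, hCi.sup hW', ?_, by rw [sup_left_comm, hs', hsup], hUd⟩
        have hd0 : Disjoint C (U ⊔ W') := by rw [hs']; exact hd
        rw [sup_comm]
        exact Disjoint.disjoint_sup_right_of_disjoint_sup_left hd' hd0.symm

/-- Types are unique, and an invariant pair splits the type. -/
theorem split_type {N : Module.End F V} {p : ℕ} (hN : N ^ p = 0) {μ : Multiset ℕ} (hμ : ∀ a ∈ μ, 0 < a)
    (hr : ∀ j, Module.finrank F ((⊤ : Submodule F V).map (N ^ j)) = rk μ j) {U W : Submodule F V} (hU : NInv N U)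
    (hW : NInv N W) (hc : IsCompl U W) : ∃ ν ≤ μ, ν.sum = Module.finrank F U := by
  obtain ⟨ν, hνb, hνr, -⟩ := exists_type hN _ U le_rfl hU
  obtain ⟨ω, hωb, hωr, -⟩ := exists_type hN _ W le_rfl hW
  have h : μ = ν + ω := eq_of_rk hμ (fun a ha => by
    rcases Multiset.mem_add.mp ha with ha | ha
    exacts [(hνb a ha).1, (hωb a ha).1]) fun j => by
    rw [rk_add, ← hνr, ← hωr, ← rank_sup hU hW hc.disjoint, hc.sup_eq_top, hr]
  refine ⟨ν, h ▸ Multiset.le_add_right ν ω, ?_⟩
  rw [← rk_zero, ← hνr, pow_zero, Module.End.one_eq_id, Submodule.map_id]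

/-! ### Unipotent elements -/

variable [Fintype F] {p : ℕ} [Fact p.Prime] [CharP F p] {n : ℕ}

/-- A matrix of a given type. -/
theorem exists_matrix (μ : Multiset ℕ) (hb : ∀ a ∈ μ, a ≤ p) (hs : μ.sum = n) :
    ∃ N : Matrix (Fin n) (Fin n) F, Matrix.toLin' N ^ p = 0 ∧
      ∀ j, Module.finrank F ((⊤ : Submodule F (Fin n → F)).map (Matrix.toLin' N ^ j)) = rk μ j := by
  classical
  let L := μ.toList
  let κ := Σ i : Fin L.length, Fin (L.get i)
  have hsum : ∀ j, ∑ i : Fin L.length, (L.get i - j) = rk μ j := fun j => by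
    rw [rk, ← Multiset.coe_toList μ, Multiset.map_coe, Multiset.sum_coe, ← List.sum_ofFn]
    congr 1
    refine List.ext_getElem (by simp [L]) fun i h1 h2 => by simp [L]
  let e : κ ≃ Fin n := Fintype.equivFinOfCardEq (by
    rw [Fintype.card_sigma]
    simp only [Fintype.card_fin]
    have := hsum 0
    rw [rk_zero, hs] at this
    simpa using this)
  -- the shift
  let S : (κ → F) →ₗ[F] (κ → F) :=
    { toFun := fun v x => if h : 1 ≤ (x.2 : ℕ) then v ⟨x.1, ⟨x.2 - 1, by omega⟩⟩ else 0
      map_add' := fun v w => by funext x; simp only [Pi.add_apply]; split_ifs <;> simp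
      map_smul' := fun c v => by funext x; simp only [Pi.smul_apply, RingHom.id_apply]; split_ifs <;> simp }
  have hpow : ∀ j (v : κ → F) (x : κ), (S ^ j) v x = if h : j ≤ (x.2 : ℕ) then v ⟨x.1, ⟨x.2 - j, by omega⟩⟩ else 0 := by
    intro j
    induction j with
    | zero => intro v x; simp
    | succ j ih =>
      intro v x
      rw [pow_succ', Module.End.mul_apply]
      show (if h : 1 ≤ (x.2 : ℕ) then (S ^ j) v ⟨x.1, ⟨x.2 - 1, by omega⟩⟩ else 0) = _
      split_ifs with h1 h2 h2
      · rw [ih, dif_pos (show j ≤ (x.2 : ℕ) - 1 by omega)]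
        simp only [Nat.sub_sub, add_comm 1 j]
      · rw [ih, dif_neg (show ¬ j ≤ (x.2 : ℕ) - 1 by omega)]
      · omega
      · rfl
  let Φ : (κ → F) ≃ₗ[F] (Fin n → F) := LinearEquiv.funCongrLeft F F e.symm
  refine ⟨LinearMap.toMatrix' (Φ.conj S), ?_, fun j => ?_⟩
  · rw [Matrix.toLin'_toMatrix', show Φ.conj S = LinearEquiv.conjAlgEquiv F Φ S from rfl, ← map_pow]
    have : S ^ p = 0 := LinearMap.ext fun v => funext fun x => by
      have := hb (L.get x.1) (Multiset.mem_toList.mp (List.get_mem L x.1))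
      rw [hpow, dif_neg (by omega)]
      rfl
    rw [this, map_zero]
  · rw [Matrix.toLin'_toMatrix', show Φ.conj S = LinearEquiv.conjAlgEquiv F Φ S from rfl, ← map_pow, ← hsum j]
    have e1 : (⊤ : Submodule F (Fin n → F)).map (LinearEquiv.conjAlgEquiv F Φ (S ^ j)) = (LinearMap.range (S ^ j)).map Φ.toLinearMap := by
      rw [Submodule.map_top, ← LinearMap.range_comp]
      show LinearMap.range ((Φ.toLinearMap.comp (S ^ j)).comp Φ.symm.toLinearMap) = _
      rw [LinearMap.range_comp_of_range_eq_top _ (LinearEquiv.range Φ.symm)]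
    rw [e1, LinearEquiv.finrank_map_eq]
    let τ : (Σ i : Fin L.length, Fin (L.get i - j)) → κ := fun x => ⟨x.1, ⟨x.2 + j, by omega⟩⟩
    let R : (κ → F) →ₗ[F] ((Σ i : Fin L.length, Fin (L.get i - j)) → F) := LinearMap.funLeft F F τ
    have hinj : Function.Injective (R.comp (LinearMap.range (S ^ j)).subtype) := by
      rw [← LinearMap.ker_eq_bot, eq_bot_iff]
      rintro ⟨_, ⟨v, rfl⟩⟩ h
      refine Subtype.ext (funext fun x => ?_)
      rcases x with ⟨i, l⟩
      rcases Nat.lt_or_ge (l : ℕ) j with hl | hl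
      · show (S ^ j) v ⟨i, l⟩ = 0
        rw [hpow, dif_neg (show ¬ j ≤ (l : ℕ) by omega)]
      · have := congrFun h ⟨i, ⟨l - j, by omega⟩⟩
        simpa [R, τ, LinearMap.funLeft, Nat.sub_add_cancel hl] using this
    have hsurj : Function.Surjective (R.comp (LinearMap.range (S ^ j)).subtype) := fun w => by
      refine ⟨⟨_, ⟨fun x => if h : (x.2 : ℕ) < L.get x.1 - j then w ⟨x.1, ⟨x.2, h⟩⟩ else 0, rfl⟩⟩, funext fun x => ?_⟩
      show (S ^ j) _ (τ x) = w x
      rw [hpow, dif_pos (show j ≤ ((τ x).2 : ℕ) by simp [τ])]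
      simp [τ]
    rw [(LinearEquiv.ofBijective _ ⟨hinj, hsurj⟩).finrank_eq, Module.finrank_fintype_fun_eq_card, Fintype.card_sigma]
    simp

/-- Invariance for a multiple of a translate. -/
theorem inv_iff {x : Module.End F V} {b : F} (hb : b ≠ 0) (W : Submodule F V) :
    (∀ w ∈ W, x w ∈ W) ↔ NInv (b⁻¹ • x - 1) W := by
  refine ⟨fun h w hw => ?_, fun h w hw => ?_⟩
  · rw [LinearMap.sub_apply, LinearMap.smul_apply, Module.End.one_apply]
    exact sub_mem (W.smul_mem _ (h w hw)) hw
  · have := W.smul_mem b (add_mem (h w hw) hw)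
    rwa [LinearMap.sub_apply, LinearMap.smul_apply, Module.End.one_apply, sub_add_cancel, smul_smul,
      mul_inv_cancel₀ hb, one_smul] at this

/-- Elements of order `p` fixing a complementary pair. -/
theorem pair_iff (m : ℕ) (hn : 0 < n) (hmn : m ≤ n) :
    (∀ x : Matrix.SpecialLinearGroup (Fin n) F,
      (∃ c : F, ((x ^ p : Matrix.SpecialLinearGroup (Fin n) F) : Matrix (Fin n) (Fin n) F) = c • (1 : Matrix (Fin n) (Fin n) F)) →
      (∀ c : F, (x : Matrix (Fin n) (Fin n) F) ≠ c • (1 : Matrix (Fin n) (Fin n) F)) →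
      ∃ U W : Submodule F (Fin n → F), IsCompl U W ∧ Module.finrank F ↥U = m ∧
        U.map (Matrix.toLin' (x : Matrix (Fin n) (Fin n) F)) ≤ U ∧ W.map (Matrix.toLin' (x : Matrix (Fin n) (Fin n) F)) ≤ W) ↔
    (∀ μ : Multiset ℕ, (∀ a ∈ μ, 0 < a ∧ a ≤ p) → μ.sum = n → ∃ ν : Multiset ℕ, ν ≤ μ ∧ ν.sum = m) := by
  classical
  have hp : p.Prime := Fact.out
  haveI : Nonempty (Fin n) := ⟨⟨0, hn⟩⟩
  haveI : CharP (Module.End F (Fin n → F)) p :=
    charP_of_injective_algebraMap (algebraMap F (Module.End F (Fin n → F))).injective p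
  haveI : CharP (Matrix (Fin n) (Fin n) F) p :=
    charP_of_injective_algebraMap (algebraMap F (Matrix (Fin n) (Fin n) F)).injective p
  have hle : ∀ (f : Module.End F (Fin n → F)) (W : Submodule F (Fin n → F)), W.map f ≤ W ↔ ∀ w ∈ W, f w ∈ W :=
    fun f W => ⟨fun h w hw => h ⟨w, hw, rfl⟩, fun h => by rintro _ ⟨w, hw, rfl⟩; exact h w hw⟩
  constructor
  · intro hall μ hμ hsum
    obtain ⟨N, hNp, hNr⟩ := exists_matrix (F := F) μ (fun a ha => (hμ a ha).2) hsum
    set X : Matrix (Fin n) (Fin n) F := N + 1 with hX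
    by_cases hN0 : N = 0
    · have hμ' : μ = Multiset.replicate n 1 := by
        refine eq_of_rk (fun a ha => (hμ a ha).1) (fun a ha => by rw [Multiset.eq_of_mem_replicate ha]; exact one_pos) fun j => ?_
        rw [← hNr j]
        rcases Nat.eq_zero_or_pos j with rfl | hj
        · rw [pow_zero, Module.End.one_eq_id, Submodule.map_id, finrank_top, Module.finrank_fintype_fun_eq_card,
            Fintype.card_fin]
          simp [rk]
        · rw [hN0, map_zero, zero_pow hj.ne', Submodule.map_zero, finrank_bot]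
          simp [rk, show 1 - j = 0 by omega]
      exact ⟨Multiset.replicate m 1, hμ' ▸ (Multiset.replicate_le_replicate 1).mpr hmn, by simp⟩
    have hXp : X ^ p = 1 := by
      rw [hX, add_pow_char_of_commute _ (Commute.one_right N), one_pow]
      have : N ^ p = 0 := by
        apply Matrix.toLin'.injective
        rw [map_zero, ← hNp]
        exact map_pow (Matrix.toLinAlgEquiv' (R := F) (n := Fin n)) N p
      rw [this, zero_add]
    have hd : X.det = 1 := by
      have h : X.det ^ p = 1 ^ p := by rw [← Matrix.det_pow, hXp, Matrix.det_one, one_pow]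
      exact frobenius_inj F p h
    obtain ⟨U, W, hc, hUm, hU, hW⟩ := hall ⟨X, hd⟩ ⟨1, (Matrix.SpecialLinearGroup.coe_pow _ p).trans (by rw [one_smul]; exact hXp)⟩
      (fun c hcX => hN0 (by
        change X = c • 1 at hcX
        have hc1 : c ^ p = 1 ^ p := by
          have := hXp
          rw [hcX, smul_pow, one_pow] at this
          have := congrFun (congrFun this ⟨0, hn⟩) ⟨0, hn⟩
          simpa using this
        rw [frobenius_inj F p hc1, one_smul, hX] at hcX
        exact add_eq_right.mp hcX))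
    change U.map (Matrix.toLin' X) ≤ U at hU
    change W.map (Matrix.toLin' X) ≤ W at hW
    rw [hle, inv_iff (b := (1 : F)) one_ne_zero] at hU hW
    have hN : (1 : F)⁻¹ • Matrix.toLin' X - 1 = Matrix.toLin' N := by
      rw [inv_one, one_smul, hX, map_add, Matrix.toLin'_one]
      exact add_sub_cancel_right _ _
    rw [hN] at hU hW
    obtain ⟨ν, hν, hνs⟩ := split_type hNp (fun a ha => (hμ a ha).1) hNr hU hW hc
    exact ⟨ν, hν, hνs.trans hUm⟩
  · intro hR x hx hns
    obtain ⟨c, hc⟩ := hx
    have hc0 : c ≠ 0 := fun e => by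
      have := congrArg Matrix.det hc
      rw [e, zero_smul, Matrix.det_zero, Matrix.SpecialLinearGroup.det_coe] at this
      exact one_ne_zero this
    obtain ⟨b, hb⟩ := surjective_frobenius F p c
    rw [frobenius_def] at hb
    have hb0 : b ≠ 0 := fun e => hc0 (by rw [← hb, e, zero_pow hp.ne_zero])
    set N : Module.End F (Fin n → F) := b⁻¹ • Matrix.toLin' (x : Matrix (Fin n) (Fin n) F) - 1 with hNdef
    have hxp : Matrix.toLin' (x : Matrix (Fin n) (Fin n) F) ^ p = c • (1 : Module.End F (Fin n → F)) := by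
      have h : Matrix.toLin' (x : Matrix (Fin n) (Fin n) F) ^ p = Matrix.toLin' ((x : Matrix (Fin n) (Fin n) F) ^ p) :=
        (map_pow (Matrix.toLinAlgEquiv' (R := F) (n := Fin n)) _ p).symm
      rw [h, ← Matrix.SpecialLinearGroup.coe_pow, hc, map_smul, Matrix.toLin'_one]
      rfl
    have hNp : N ^ p = 0 := by
      rw [hNdef, sub_pow_char_of_commute _ (Commute.one_right _), smul_pow, hxp, smul_smul, inv_pow, hb,
        inv_mul_cancel₀ hc0, one_smul, one_pow, sub_self]
    obtain ⟨μ, hμ, hμr, hμs⟩ := exists_type hNp _ ⊤ le_rfl (fun w _ => mem_top)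
    have hsum : μ.sum = n := by
      rw [← rk_zero, ← hμr, pow_zero, Module.End.one_eq_id, Submodule.map_id, finrank_top,
        Module.finrank_fintype_fun_eq_card, Fintype.card_fin]
    obtain ⟨ν, hν, hνs⟩ := hR μ hμ hsum
    obtain ⟨U, W, hU, hW, hd, hs, hUd⟩ := hμs ν hν
    exact ⟨U, W, ⟨hd, codisjoint_iff.mpr hs⟩, hUd.trans hνs, (hle _ U).mpr ((inv_iff hb0 U).mpr hU),
      (hle _ W).mpr ((inv_iff hb0 W).mpr hW)⟩

/-- Characteristic two. -/
theorem part_two_iff {m : ℕ} (hmn : 2 * m < n) :
    (∀ μ : Multiset ℕ, (∀ a ∈ μ, 0 < a ∧ a ≤ 2) → μ.sum = n → ∃ ν : Multiset ℕ, ν ≤ μ ∧ ν.sum = m) ↔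
      (Odd n ∨ Even m) := by
  constructor
  · intro h
    by_contra hc
    push Not at hc
    obtain ⟨a, ha⟩ := Nat.not_odd_iff_even.mp hc.1
    obtain ⟨ν, hν, hνs⟩ := h (Multiset.replicate a 2) (fun b hb => by rw [Multiset.eq_of_mem_replicate hb]; omega)
      (by simp; omega)
    have he : ν = Multiset.replicate ν.card 2 :=
      Multiset.eq_replicate.mpr ⟨rfl, fun b hb => Multiset.eq_of_mem_replicate (Multiset.mem_of_le hν hb)⟩
    rw [he, Multiset.sum_replicate, smul_eq_mul] at hνs
    exact hc.2 ⟨ν.card, by omega⟩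
  · intro hnm μ hμ hsum
    have hdec : μ = Multiset.replicate (μ.count 1) 1 + Multiset.replicate (μ.count 2) 2 := by
      refine Multiset.ext.mpr fun a => ?_
      rw [Multiset.count_add, Multiset.count_replicate, Multiset.count_replicate]
      by_cases h1 : a = 1
      · subst h1; simp
      by_cases h2 : a = 2
      · subst h2; simp
      rw [if_neg (Ne.symm h1), if_neg (Ne.symm h2), Multiset.count_eq_zero.mpr]
      intro ha
      have := hμ a ha
      omega
    set a := μ.count 1
    set b := μ.count 2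
    have hab : a + 2 * b = n := by
      rw [hdec, Multiset.sum_add, Multiset.sum_replicate, Multiset.sum_replicate] at hsum
      simpa [mul_comm] using hsum
    set j := min b (m / 2) with hj
    refine ⟨Multiset.replicate (m - 2 * j) 1 + Multiset.replicate j 2, ?_, by simp; omega⟩
    rw [hdec]
    refine add_le_add ((Multiset.replicate_le_replicate 1).mpr ?_) ((Multiset.replicate_le_replicate 2).mpr (min_le_left _ _))
    rcases hnm with ⟨t, ht⟩ | ⟨t, ht⟩ <;> omega

end Cfsg.Lib.Classical.Jordan
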