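import Mathlib
import Cfsg.Agent.Classical.Misc.UnipotentSplit

/-! Orthogonal decompositions of unipotent isometries into cyclic pieces. -/

set_option autoImplicit false
set_option linter.unusedSectionVars false
set_option linter.unusedSimpArgs false
set_option linter.flexible false

namespace Cfsg.Lib.Classical.FormJordan

open Submodule Cfsg.Lib.Classical.Jordan

universe u v

variable {F : Type u} [Field F] {σ : F →+* F} {V : Type v} [AddCommGroup V] [Module F V]

/-- Nondegeneracy on a subspace. -/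
def Nd (B : V →ₗ[F] V →ₛₗ[σ] F) (W : Submodule F V) : Prop := ∀ u ∈ W, (∀ v ∈ W, B u v = 0) → u = 0

/-- A unipotent isometry of a reflexive form. -/
structure UForm (B : V →ₗ[F] V →ₛₗ[σ] F) (T : Module.End F V) (P : ℕ) : Prop where
  iso : ∀ u v, B (T u) (T v) = B u v
  unip : (T - 1) ^ P = 0
  refl : ∀ u v, B u v = 0 → B v u = 0

variable [FiniteDimensional F V] {B : V →ₗ[F] V →ₛₗ[σ] F} {T : Module.End F V} {P : ℕ} (hU : UForm B T P)
include hU

theorem adj (u v : V) : B ((T - 1) u) v = -B (T u) ((T - 1) v) := by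
  simp only [LinearMap.sub_apply, Module.End.one_apply, map_sub, hU.iso]
  ring

omit hU in
theorem T_eq (u : V) : T u = u + (T - 1) u := by
  simp [LinearMap.sub_apply, Module.End.one_apply]

omit hU in
theorem T_mem {S : Submodule F V} (hS : NInv (T - 1) S) {u : V} (hu : u ∈ S) : T u ∈ S := by
  rw [T_eq u]; exact add_mem hu (hS u hu)

omit hU in
theorem pow_comm' (i : ℕ) (u : V) : ((T - 1) ^ i) (T u) = T (((T - 1) ^ i) u) := by
  have h : Commute ((T - 1) ^ i) T := ((Commute.refl T).sub_left (Commute.one_left T)).pow_left i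
  exact LinearMap.congr_fun h u

theorem injective : Function.Injective T := by
  rw [injective_iff_map_eq_zero]
  intro u hu
  have h1 : (T - 1) u = -u := by rw [LinearMap.sub_apply, hu, Module.End.one_apply, zero_sub]
  have h2 : ∀ k, ((T - 1) ^ k) u = (-1 : F) ^ k • u := fun k => by
    induction k with
    | zero => simp
    | succ k ih => rw [pow_succ', Module.End.mul_apply, ih, map_smul, h1, pow_succ, mul_smul, neg_one_smul]
  have h3 := h2 P
  rw [hU.unip, LinearMap.zero_apply, eq_comm, smul_eq_zero] at h3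
  exact h3.resolve_left (pow_ne_zero _ (neg_ne_zero.mpr one_ne_zero))

section

variable {S : Submodule F V} (hS : NInv (T - 1) S) {a : ℕ} (ha : ∀ s ∈ S, ((T - 1) ^ a) s = 0)
include hS ha

omit hU in
theorem kill {j : ℕ} (hj : a ≤ j) {s : V} (hs : s ∈ S) : ((T - 1) ^ j) s = 0 := by
  rw [← Nat.sub_add_cancel hj, pow_add, Module.End.mul_apply, ha s hs, map_zero]

theorem pair_zero : ∀ (i j : ℕ), a ≤ i + j → ∀ u ∈ S, ∀ v ∈ S, B (((T - 1) ^ i) u) (((T - 1) ^ j) v) = 0
  | 0, j, h, u, hu, v, hv => by rw [kill hS ha (by omega) hv, map_zero]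
  | i + 1, j, h, u, hu, v, hv => by
    rw [pow_succ' (T - 1) i, Module.End.mul_apply, adj hU, ← Module.End.mul_apply (T - 1) ((T - 1) ^ j), ← pow_succ',
      ← pow_comm', pair_zero i (j + 1) (by omega) _ (T_mem hS hu) v hv, neg_zero]

theorem pair_top : ∀ (i j : ℕ), i + j + 1 = a → ∀ u ∈ S, ∀ v ∈ S,
    B (((T - 1) ^ i) u) (((T - 1) ^ j) v) = (-1) ^ i * B u (((T - 1) ^ (a - 1)) v)
  | 0, j, h, u, hu, v, hv => by
    rw [show a - 1 = j by omega, pow_zero, Module.End.one_apply, pow_zero, one_mul]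
  | i + 1, j, h, u, hu, v, hv => by
    rw [pow_succ' (T - 1) i, Module.End.mul_apply, adj hU, T_eq, map_add, LinearMap.add_apply,
      ← Module.End.mul_apply (T - 1) ((T - 1) ^ j), ← pow_succ', ← Module.End.mul_apply (T - 1) ((T - 1) ^ i),
      ← pow_succ', pair_top i (j + 1) (by omega) u hu v hv,
      pair_zero hU hS ha (i + 1) (j + 1) (by omega) u hu v hv, add_zero, pow_succ]
    ring

/-- Nondegenerate families generate blocks. -/
theorem exists_block {b : ℕ} (e : Fin b → V) (he : ∀ k, e k ∈ S)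
    (hM : ∀ c : Fin b → F, (∀ l, ∑ k, c k * B (e k) (((T - 1) ^ (a - 1)) (e l)) = 0) → c = 0) :
    ∃ U S' : Submodule F V, U ≤ S ∧ S' ≤ S ∧ NInv (T - 1) U ∧ NInv (T - 1) S' ∧ Disjoint U S' ∧ U ⊔ S' = S ∧
      (∀ x ∈ U, ∀ y ∈ S', B x y = 0) ∧ Nd B U ∧ (Nd B S → Nd B S') ∧
      ∀ j, Module.finrank F (U.map ((T - 1) ^ j)) = rk (Multiset.replicate b a) j := by
  classical
  set N := T - 1 with hN
  let w : Fin a × Fin b → V := fun x => (N ^ (x.1 : ℕ)) (e x.2)
  have hwS : ∀ x, w x ∈ S := fun x => hS.map_pow _ ⟨_, he x.2, rfl⟩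
  set U := span F (Set.range w) with hUdef
  have hUS : U ≤ S := span_le.mpr (by rintro _ ⟨x, rfl⟩; exact hwS x)
  have key : ∀ c : Fin a × Fin b → F, (∀ y, B (∑ x, c x • w x) (w y) = 0) → c = 0 := by
    intro c hc
    by_contra hne
    have hex : ∃ i : ℕ, ∃ x : Fin a × Fin b, (x.1 : ℕ) = i ∧ c x ≠ 0 := by
      obtain ⟨x, hx⟩ := Function.ne_iff.mp hne
      exact ⟨_, x, rfl, hx⟩
    obtain ⟨x₀, hx₀, hcx⟩ := Nat.find_spec hex
    have hlow : ∀ x, (x.1 : ℕ) < x₀.1 → c x = 0 := fun x hx => by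
      by_contra h
      exact Nat.find_min hex (by omega) ⟨x, rfl, h⟩
    have hz : (fun k => c (x₀.1, k)) = 0 := by
      refine hM _ fun l => ?_
      have h := hc (⟨a - 1 - x₀.1, by omega⟩, l)
      rw [map_sum, LinearMap.sum_apply, Fintype.sum_prod_type, Finset.sum_eq_single x₀.1] at h
      · simp only [map_smul, LinearMap.smul_apply, smul_eq_mul, w] at h
        rw [Finset.sum_congr rfl fun k _ => by
          rw [pair_top hU hS ha (x₀.1 : ℕ) (a - 1 - x₀.1) (by omega) _ (he k) _ (he l), ← mul_assoc,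
            mul_comm (c _), mul_assoc]] at h
        rw [← Finset.mul_sum, mul_eq_zero] at h
        exact h.resolve_left (pow_ne_zero _ (neg_ne_zero.mpr one_ne_zero))
      · intro i _ hi
        refine Finset.sum_eq_zero fun k _ => ?_
        rw [map_smul, LinearMap.smul_apply, smul_eq_mul]
        rcases lt_or_gt_of_ne hi with hlt | hgt
        · rw [hlow (i, k) hlt, zero_mul]
        · show c (i, k) * B ((N ^ (i : ℕ)) (e k)) ((N ^ (a - 1 - (x₀.1 : ℕ))) (e l)) = 0
          have : (x₀.1 : ℕ) < i := hgt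
          rw [pair_zero hU hS ha _ _ (by omega) _ (he k) _ (he l), mul_zero]
      · simp
    exact hcx (congrFun hz x₀.2)
  have hli : LinearIndependent F w := Fintype.linearIndependent_iff.mpr fun c hc x => congrFun (key c fun y => by rw [hc]; simp) x
  have horth : ∀ s, (∀ y, B s (w y) = 0) → ∀ u ∈ U, B s u = 0 := fun s hs u hu => by
    have : U ≤ LinearMap.ker (B s) := span_le.mpr (by rintro _ ⟨y, rfl⟩; exact hs y)
    exact this hu
  let Φ : (Fin a × Fin b → F) →ₗ[F] (Fin a × Fin b → F) :=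
    { toFun := fun c y => B (∑ x, c x • w x) (w y)
      map_add' := fun c c' => funext fun y => by
        simp only [Pi.add_apply, add_smul, Finset.sum_add_distrib, map_add, LinearMap.add_apply]
      map_smul' := fun t c => funext fun y => by
        simp only [Pi.smul_apply, smul_eq_mul, mul_smul, ← Finset.smul_sum, map_smul, LinearMap.smul_apply,
          RingHom.id_apply] }
  have hΦ : Function.Surjective Φ := LinearMap.surjective_of_injective
    ((injective_iff_map_eq_zero Φ).mpr fun c hc => key c fun y => congrFun hc y)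
  have hndU : Nd B U := fun u hu h => by
    obtain ⟨c, rfl⟩ := (mem_span_range_iff_exists_fun F).mp hu
    rw [key c fun y => h _ (subset_span ⟨y, rfl⟩)]
    simp
  have hUi : NInv N U := by
    intro u hu
    have : U ≤ U.comap N := span_le.mpr (by
      rintro _ ⟨⟨i, k⟩, rfl⟩
      show N ((N ^ (i : ℕ)) (e k)) ∈ U
      rw [← Module.End.mul_apply, ← pow_succ']
      by_cases h : (i : ℕ) + 1 < a
      · exact subset_span ⟨(⟨i + 1, h⟩, k), rfl⟩
      · rw [hN, kill hS ha (by omega) (he k)]; exact zero_mem _)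
    exact this hu
  let S' : Submodule F V := S ⊓ ⨅ y, LinearMap.ker (B.flip (w y))
  have hS' : ∀ s, s ∈ S' ↔ s ∈ S ∧ ∀ y, B s (w y) = 0 := fun s => by simp [S']
  have hUS' : ∀ x ∈ U, ∀ y ∈ S', B x y = 0 := fun x hx y hy => hU.refl _ _ (horth y ((hS' y).mp hy).2 x hx)
  have hS'i : NInv N S' := by
    intro s hs
    have hTU : ∀ u ∈ U, ∃ u' ∈ U, T u' = u := by
      intro u hu
      have hrange : LinearMap.range (T.restrict (p := U) (q := U) fun x hx => T_mem hUi hx) = ⊤ :=
        LinearMap.range_eq_top.mpr (by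
          haveI : FiniteDimensional F U := FiniteDimensional.span_of_finite F (Set.finite_range w)
          exact LinearMap.surjective_of_injective fun x y hxy =>
            Subtype.ext (injective hU (congrArg Subtype.val hxy)))
      obtain ⟨u', hu'⟩ := LinearMap.range_eq_top.mp hrange ⟨u, hu⟩
      exact ⟨u', u'.2, congrArg Subtype.val hu'⟩
    refine (hS' _).mpr ⟨hS s ((hS' s).mp hs).1, fun y => ?_⟩
    obtain ⟨u', hu', hw'⟩ := hTU (w y) (subset_span ⟨y, rfl⟩)
    rw [hN, LinearMap.sub_apply, map_sub, LinearMap.sub_apply, Module.End.one_apply, ((hS' s).mp hs).2 y, sub_zero,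
      ← hw', hU.iso]
    exact horth s ((hS' s).mp hs).2 u' hu'
  have hsplit : ∀ s ∈ S, ∃ u ∈ U, s - u ∈ S' := fun s hs => by
    obtain ⟨c, hc⟩ := hΦ fun y => B s (w y)
    have hu : ∑ x, c x • w x ∈ U := sum_mem fun x _ => smul_mem _ _ (subset_span ⟨x, rfl⟩)
    refine ⟨_, hu, (hS' _).mpr ⟨sub_mem hs (hUS hu), fun y => ?_⟩⟩
    have h1 : B (∑ x, c x • w x) (w y) = B s (w y) := congrFun hc y
    rw [map_sub, LinearMap.sub_apply, h1, sub_self]
  refine ⟨U, S', hUS, inf_le_left, hUi, hS'i, ?_, le_antisymm (sup_le hUS inf_le_left) fun s hs => ?_, hUS', hndU,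
    fun hnd s hs h => hnd s ((hS' s).mp hs).1 fun v hv => ?_, fun j => ?_⟩
  · rw [Submodule.disjoint_def]
    exact fun u hu hu' => hndU u hu fun v hv => horth u ((hS' u).mp hu').2 v hv
  · obtain ⟨u, hu, hsu⟩ := hsplit s hs
    exact mem_sup.mpr ⟨u, hu, _, hsu, add_sub_cancel u s⟩
  · obtain ⟨u, hu, hsu⟩ := hsplit v hv
    rw [← add_sub_cancel u v, map_add, horth s ((hS' s).mp hs).2 u hu, h _ hsu, add_zero]
  · let τ : Fin (a - j) × Fin b → Fin a × Fin b := fun x => (⟨x.1 + j, by omega⟩, x.2)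
    have hτ : Function.Injective τ := fun x y h => by
      simp only [τ, Prod.mk.injEq, Fin.mk.injEq, Nat.add_right_cancel_iff] at h
      exact Prod.ext (Fin.ext h.1) h.2
    have hmap : U.map (N ^ j) = span F (Set.range (w ∘ τ)) := by
      rw [hUdef, Submodule.map_span]
      refine le_antisymm (span_le.mpr ?_) (span_le.mpr ?_)
      · rintro _ ⟨_, ⟨⟨i, k⟩, rfl⟩, rfl⟩
        show (N ^ j) ((N ^ (i : ℕ)) (e k)) ∈ _
        rw [← Module.End.mul_apply, ← pow_add]
        by_cases h : (i : ℕ) + j < a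
        · exact subset_span ⟨(⟨i, by omega⟩, k), by simp [τ, w, add_comm j]⟩
        · rw [hN, kill hS ha (by omega) (he k)]; exact zero_mem _
      · rintro _ ⟨⟨i, k⟩, rfl⟩
        refine subset_span ⟨_, ⟨(⟨i, by omega⟩, k), rfl⟩, ?_⟩
        simp only [Function.comp, τ, w]
        rw [← Module.End.mul_apply, ← pow_add, add_comm j]
    rw [hmap, finrank_span_eq_card (hli.comp τ hτ), rk, Multiset.map_replicate, Multiset.sum_replicate,
      Fintype.card_prod, Fintype.card_fin, Fintype.card_fin, smul_eq_mul, mul_comm]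

end

/-- The parts of a collection of pieces. -/
def parts (Q : Multiset (ℕ × ℕ)) : Multiset ℕ := Q.bind fun x => Multiset.replicate x.2 x.1

/-- The first piece of a nondegenerate invariant subspace. -/
theorem exists_piece {S : Submodule F V} (hS : NInv (T - 1) S) (hnd : Nd B S) (hne : S ≠ ⊥) :
    ∃ a : ℕ, 0 < a ∧ a ≤ P ∧ (∀ s ∈ S, ((T - 1) ^ a) s = 0) ∧ ∃ b : ℕ, ∃ e : Fin b → V, (∀ k, e k ∈ S) ∧
      (∀ c : Fin b → F, (∀ l, ∑ k, c k * B (e k) (((T - 1) ^ (a - 1)) (e l)) = 0) → c = 0) ∧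
      (b = 1 ∧ (∃ u ∈ S, B u (((T - 1) ^ (a - 1)) u) ≠ 0) ∨
        b = 2 ∧ (∀ w ∈ S, B w (((T - 1) ^ (a - 1)) w) = 0) ∧ ∃ u ∈ S, ∃ v ∈ S, B u (((T - 1) ^ (a - 1)) v) ≠ 0) := by
  classical
  have hex : ∃ a, ∀ s ∈ S, ((T - 1 : Module.End F V) ^ a) s = 0 := ⟨P, fun s _ => by rw [hU.unip]; rfl⟩
  set a := Nat.find hex with hadef
  have haS := Nat.find_spec hex
  have ha0 : 0 < a := Nat.pos_of_ne_zero fun e => hne (by
    rw [eq_bot_iff]
    intro s hs
    have := haS s hs
    rw [← hadef, e] at this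
    simpa using this)
  obtain ⟨v, hv, hv0⟩ : ∃ v ∈ S, ((T - 1) ^ (a - 1)) v ≠ 0 := by
    have := Nat.find_min hex (show a - 1 < a by omega)
    push Not at this
    exact this
  refine ⟨a, ha0, Nat.find_min' hex fun s _ => by rw [hU.unip]; rfl, haS, ?_⟩
  by_cases hone : ∃ u ∈ S, B u (((T - 1) ^ (a - 1)) u) ≠ 0
  · obtain ⟨u, hu, hu'⟩ := hone
    refine ⟨1, fun _ => u, fun _ => hu, fun c hc => ?_, Or.inl ⟨rfl, u, hu, hu'⟩⟩
    have h := hc 0
    rw [Fin.sum_univ_one] at h
    exact funext fun k => by rw [Subsingleton.elim k 0]; exact (mul_eq_zero.mp h).resolve_right hu'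
  · push Not at hone
    obtain ⟨u, hu, huv⟩ : ∃ u ∈ S, B u (((T - 1) ^ (a - 1)) v) ≠ 0 := by
      by_contra h
      push Not at h
      exact hv0 (hnd _ (hS.map_pow _ ⟨v, hv, rfl⟩) fun w hw => hU.refl _ _ (h w hw))
    have hvu : B v (((T - 1) ^ (a - 1)) u) ≠ 0 := by
      have h := hone (u + v) (add_mem hu hv)
      simp only [map_add, LinearMap.add_apply, hone u hu, hone v hv, zero_add, add_zero] at h
      intro e
      rw [e, zero_add] at h
      exact huv h
    refine ⟨2, ![u, v], fun k => by fin_cases k <;> assumption, fun c hc => ?_,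
      Or.inr ⟨rfl, hone, u, hu, v, hv, huv⟩⟩
    have h0 := hc 0
    have h1 := hc 1
    simp [Fin.sum_univ_two, hone u hu, hone v hv, huv, hvu] at h0 h1
    funext k
    fin_cases k <;> simp [h0, h1]

/-- Decomposition into pieces. -/
theorem exists_blocks (good : ℕ → ℕ → Prop)
    (hgood : ∀ S : Submodule F V, NInv (T - 1) S → ∀ a : ℕ, 0 < a → (∀ s ∈ S, ((T - 1) ^ a) s = 0) →
      ((∃ u ∈ S, B u (((T - 1) ^ (a - 1)) u) ≠ 0) → good a 1) ∧
      ((∀ w ∈ S, B w (((T - 1) ^ (a - 1)) w) = 0) → (∃ u ∈ S, ∃ v ∈ S, B u (((T - 1) ^ (a - 1)) v) ≠ 0) → good a 2)) :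
    ∀ (d : ℕ) (S : Submodule F V), Module.finrank F S ≤ d → NInv (T - 1) S → Nd B S →
      ∃ Q : Multiset (ℕ × ℕ), (∀ x ∈ Q, 0 < x.1 ∧ x.1 ≤ P ∧ (x.2 = 1 ∨ x.2 = 2) ∧ good x.1 x.2) ∧
        (∀ j, Module.finrank F (S.map ((T - 1) ^ j)) = rk (parts Q) j) ∧
        ∀ Q' ≤ Q, ∃ W ≤ S, NInv (T - 1) W ∧ Nd B W ∧ ∀ j, Module.finrank F (W.map ((T - 1) ^ j)) = rk (parts Q') j := by
  classical
  intro d
  induction d with
  | zero =>
    intro S hS hSi hnd
    obtain rfl : S = ⊥ := finrank_eq_zero.mp (by omega)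
    exact ⟨0, by simp, fun j => by simp [parts, rk], fun Q' hQ' => ⟨⊥, le_rfl, hSi, hnd, fun j => by
      simp [parts, rk, Multiset.le_zero.mp hQ']⟩⟩
  | succ d ih =>
    intro S hS hSi hnd
    rcases eq_or_ne S ⊥ with rfl | hne
    · exact ih ⊥ (by simp) hSi hnd
    obtain ⟨a, ha0, haP, haS, b, e, he, hM, hb⟩ := exists_piece hU hSi hnd hne
    obtain ⟨U, S', hUS, hS'S, hUi, hS'i, hdis, hsup, horth, hndU, hndS', hrk⟩ :=
      exists_block hU hSi haS e he hM
    have hb' : (b = 1 ∨ b = 2) ∧ good a b := by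
      rcases hb with ⟨rfl, h⟩ | ⟨rfl, h1, h2⟩
      · exact ⟨Or.inl rfl, (hgood S hSi a ha0 haS).1 h⟩
      · exact ⟨Or.inr rfl, (hgood S hSi a ha0 haS).2 h1 h2⟩
    have hlt : Module.finrank F S' < Module.finrank F S := by
      have h := Submodule.finrank_sup_add_finrank_inf_eq U S'
      rw [hdis.eq_bot, finrank_bot, hsup] at h
      have h2 := hrk 0
      rw [rk_zero, pow_zero, Module.End.one_eq_id, Submodule.map_id, Multiset.sum_replicate, smul_eq_mul] at h2
      have : 1 ≤ b * a := Nat.mul_pos (by rcases hb'.1 with rfl | rfl <;> omega) ha0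
      omega
    obtain ⟨Q, hQ, hQr, hQs⟩ := ih S' (by omega) hS'i (hndS' hnd)
    have hparts : ∀ Q₁ : Multiset (ℕ × ℕ), parts ((a, b) ::ₘ Q₁) = Multiset.replicate b a + parts Q₁ := fun Q₁ => by
      simp [parts]
    refine ⟨(a, b) ::ₘ Q, fun x hx => ?_, fun j => ?_, fun Q' hQ' => ?_⟩
    · rcases Multiset.mem_cons.mp hx with rfl | hx
      · exact ⟨ha0, haP, hb'.1, hb'.2⟩
      · exact hQ x hx
    · rw [hparts, rk_add, ← hrk, ← hQr, ← rank_sup hUi hS'i hdis, hsup]
    · by_cases hmem : (a, b) ∈ Q'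
      · obtain ⟨Q₁, rfl⟩ := Multiset.exists_cons_of_mem hmem
        obtain ⟨W, hW, hWi, hWn, hWr⟩ := hQs Q₁ ((Multiset.cons_le_cons_iff _).mp hQ')
        refine ⟨U ⊔ W, sup_le hUS (hW.trans hS'S), hUi.sup hWi, fun s hs h => ?_, fun j => ?_⟩
        · obtain ⟨u, hu, w, hw, rfl⟩ := mem_sup.mp hs
          have hu0 : u = 0 := hndU u hu fun x hx => by
            have h' := h x (mem_sup_left hx)
            rwa [map_add, LinearMap.add_apply, hU.refl _ _ (horth x hx w (hW hw)), add_zero] at h'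
          have hw0 : w = 0 := hWn w hw fun x hx => by
            have h' := h x (mem_sup_right hx)
            rwa [map_add, LinearMap.add_apply, horth u hu x (hW hx), zero_add] at h'
          rw [hu0, hw0, add_zero]
        · rw [hparts, rk_add, ← hrk, ← hWr, rank_sup hUi hWi (hdis.mono_right hW)]
      · obtain ⟨W, hW, h⟩ := hQs Q' ((Multiset.le_cons_of_notMem hmem).mp hQ')
        exact ⟨W, hW.trans hS'S, h⟩

end Cfsg.Lib.Classical.FormJordan
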