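import Mathlib
import Cfsg.Prelude.Def_GeometricClasses
import Cfsg.Agent.Known.FormNormal
import Cfsg.Agent.Classical.Misc.Reflections

/-! Unipotent orthogonal elements with prescribed Jordan blocks. -/

set_option autoImplicit false
set_option linter.unusedSimpArgs false
set_option linter.unusedSectionVars false
set_option linter.unusedVariables false
set_option linter.style.haveILetI false
set_option linter.flexible false

namespace Cfsg.Lib.Classical.OrthUni

open Submodule QuadraticMap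

universe u

variable {F : Type u} [Field F]

/-- Odd order isometries lie in the commutator subgroup. -/
theorem odd_mem_omega {ι : Type} [Fintype ι] [DecidableEq ι] (Q : QuadraticForm F (ι → F)) (h2 : (2 : F) ≠ 0)
    (hQ : (polarBilin Q).Nondegenerate) (g : Cfsg.isometryGroup F (⇑Q)) {p : ℕ} (hp : Odd p) (hg : g ^ p = 1) :
    g ∈ Cfsg.Omega F (⇑Q) := by
  classical
  have hsq : ∀ (v : ι → F) (hv : Q v ≠ 0), Refl.refl Q v hv * Refl.refl Q v hv = 1 := fun v hv => by
    refine Subtype.ext (Units.ext (Matrix.toLin'.injective (LinearMap.ext fun x => ?_)))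
    rw [Matrix.toLin'_apply, Refl.mulVec_mul, Refl.coe_refl, Refl.mulVec_eq, Refl.mulVec_eq, polar_sub_right,
      polar_smul_right, polar_self, nsmul_eq_mul, Nat.cast_ofNat, smul_eq_mul]
    simp only [OneMemClass.coe_one, Units.val_one, Matrix.toLin'_one, LinearMap.id_coe, id_eq]
    have : (Q v)⁻¹ * (polar (⇑Q) v x - (Q v)⁻¹ * polar (⇑Q) v x * (2 * Q v)) = -((Q v)⁻¹ * polar (⇑Q) v x) := by
      field_simp; ring
    rw [this]
    module
  let π := Abelianization.of (G := Cfsg.isometryGroup F (⇑Q))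
  obtain ⟨l, hl⟩ := Refl.mem_closure_odd Q h2 hQ g
  have h2' : π g ^ 2 = 1 := by
    rw [hl, map_list_prod]
    clear hl
    induction l with
    | nil => simp
    | cons v l ih =>
      rw [List.map_cons, List.map_cons, List.prod_cons, mul_pow, ih, mul_one, _root_.sq, ← map_mul, hsq v.1 v.2, map_one]
  obtain ⟨j, hj⟩ := hp
  have h1 : π g = 1 := by
    have := congrArg π hg
    rwa [map_pow, hj, pow_succ, pow_mul, h2', one_pow, one_mul, map_one] at this
  show g ∈ commutator _
  rw [← Abelianization.ker_of]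
  exact h1

/-! ### Equivalence of forms -/

variable [Fintype F] {V : Type u} [AddCommGroup V] [Module F V] [FiniteDimensional F V]

theorem normal_form (Q : QuadraticForm F V) (h2 : (2 : F) ≠ 0) (hQ : (polarBilin Q).Nondegenerate) {m : ℕ}
    (hm : Module.finrank F V = m + 1) {κ : Type} [Fintype κ] [DecidableEq κ] (e : Module.Basis κ F V) :
    ∃ (b : Module.Basis (Fin (m + 1)) F V) (l d : F), l ≠ 0 ∧ d ≠ 0 ∧
      (∀ i, Q (b i) = if i = Fin.last m then l else 1) ∧ (∀ i j, i ≠ j → polar (⇑Q) (b i) (b j) = 0) ∧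
      (LinearMap.BilinForm.toMatrix e (polarBilin Q)).det = d * d * (2 ^ (m + 1) * l) := by
  classical
  obtain ⟨f, -, hf1, hfl, hfo⟩ := FormNormal.exists_diag (Q := Q) h2 m ⊤ (by rw [finrank_top, hm]) (FormNormal.nd_top Q hQ)
  have hne : ∀ i, Q (f i) ≠ 0 := fun i => by
    by_cases hi : i = Fin.last m
    · rw [hi]; exact hfl
    · rw [hf1 i hi]; exact one_ne_zero
  have hli : LinearIndependent F f := by
    rw [Fintype.linearIndependent_iff]
    intro c hc j
    have h := congrArg (fun z => polarBilin Q z (f j)) hc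
    simp only [map_sum, map_smul, LinearMap.sum_apply, LinearMap.smul_apply, polarBilin_apply_apply, smul_eq_mul,
      map_zero, LinearMap.zero_apply] at h
    rw [Finset.sum_eq_single j] at h
    · rw [polar_self, two_smul] at h
      have : c j * (2 * Q (f j)) = 0 := by linear_combination h
      exact (mul_eq_zero.mp this).resolve_right (mul_ne_zero h2 (hne j))
    · intro i _ hij; rw [hfo i j hij, mul_zero]
    · simp
  let b := basisOfLinearIndependentOfCardEqFinrank hli (by simp [hm])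
  have hb : ⇑b = f := coe_basisOfLinearIndependentOfCardEqFinrank _ _
  let b' := b.reindex (b.indexEquiv e)
  have h3 := congrArg Matrix.det (LinearMap.BilinForm.toMatrix_mul_basis_toMatrix b' (B := polarBilin Q) e)
  have hdiag : (LinearMap.BilinForm.toMatrix b' (polarBilin Q)).det = 2 ^ (m + 1) * Q (f (Fin.last m)) := by
    rw [show LinearMap.BilinForm.toMatrix b' (polarBilin Q) =
        Matrix.diagonal (fun i : κ => 2 * Q (b' i)) from ?_, Matrix.det_diagonal]
    · rw [← (b.indexEquiv e).prod_comp, Finset.prod_mul_distrib, Finset.prod_const, Finset.card_univ, Fintype.card_fin]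
      congr 1
      simp only [b', Module.Basis.reindex_apply, Equiv.symm_apply_apply, hb]
      rw [Finset.prod_eq_single (Fin.last m) (fun i _ hi => hf1 i hi) (by simp)]
    · ext i j
      rw [LinearMap.BilinForm.toMatrix_apply, Matrix.diagonal_apply, polarBilin_apply_apply]
      split_ifs with h
      · subst h; rw [polar_self, two_smul, two_mul]
      · simp only [b', Module.Basis.reindex_apply, hb]
        exact hfo _ _ (fun h' => h ((b.indexEquiv e).symm.injective h'))
  rw [Matrix.det_mul, Matrix.det_mul, Matrix.det_transpose, hdiag] at h3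
  refine ⟨b, Q (f (Fin.last m)), (b'.toMatrix ⇑e).det, hfl, fun h0 => ?_, fun i => ?_, fun i j hij => ?_, ?_⟩
  · have := congrArg Matrix.det (b'.toMatrix_mul_toMatrix_flip e)
    rw [Matrix.det_mul, h0, zero_mul, Matrix.det_one] at this
    exact zero_ne_one this
  · rw [hb]
    split_ifs with hi
    · rw [hi]
    · exact hf1 i hi
  · rw [hb]; exact hfo i j hij
  · rw [← h3]; ring

/-- Forms with the same dimension and discriminant are equivalent. -/
theorem equiv_of_disc {W : Type u} [AddCommGroup W] [Module F W] [FiniteDimensional F W] (Q : QuadraticForm F V)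
    (P : QuadraticForm F W) (h2 : (2 : F) ≠ 0) (hQ : (polarBilin Q).Nondegenerate) (hP : (polarBilin P).Nondegenerate)
    (hd : Module.finrank F V = Module.finrank F W) (hd0 : 0 < Module.finrank F V) {κ κ' : Type} [Fintype κ]
    [DecidableEq κ] [Fintype κ'] [DecidableEq κ'] (e : Module.Basis κ F V) (e' : Module.Basis κ' F W)
    (hsq : IsSquare ((LinearMap.BilinForm.toMatrix e (polarBilin Q)).det *
      (LinearMap.BilinForm.toMatrix e' (polarBilin P)).det)) :
    ∃ φ : V ≃ₗ[F] W, ∀ v, P (φ v) = Q v := by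
  classical
  obtain ⟨m, hm⟩ : ∃ m, Module.finrank F V = m + 1 := ⟨Module.finrank F V - 1, by omega⟩
  obtain ⟨b, l, d, hl, hd', hb1, hbo, hdet⟩ := normal_form Q h2 hQ hm e
  obtain ⟨b₂, l', d₂, hl', hd₂, hb1', hbo', hdet'⟩ := normal_form P h2 hP (hd ▸ hm) e'
  obtain ⟨t, ht⟩ : ∃ t : F, t * t * l' = l := by
    obtain ⟨r, hr⟩ := hsq
    rw [hdet, hdet'] at hr
    refine ⟨r / (d * d₂ * 2 ^ (m + 1) * l'), ?_⟩
    have : d * d₂ * 2 ^ (m + 1) * l' ≠ 0 :=
      mul_ne_zero (mul_ne_zero (mul_ne_zero hd' hd₂) (pow_ne_zero _ h2)) hl'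
    field_simp
    linear_combination -hr
  have ht0 : t ≠ 0 := fun h => hl (by rw [← ht, h, mul_zero, zero_mul])
  let s : Fin (m + 1) → Fˣ := fun i => if i = Fin.last m then Units.mk0 t ht0 else 1
  let b' := b₂.unitsSMul s
  refine ⟨b.equiv b' (Equiv.refl _), fun v => ?_⟩
  refine FormNormal.eq_of_basis (P.comp (b.equiv b' (Equiv.refl _)).toLinearMap) Q b (fun i => ?_) (fun i j => ?_) v
  · rw [QuadraticMap.comp_apply, LinearEquiv.coe_coe, Module.Basis.equiv_apply, Equiv.refl_apply]
    simp only [b', Module.Basis.unitsSMul_apply, Units.smul_def, QuadraticMap.map_smul, smul_eq_mul, hb1, hb1', s]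
    split_ifs <;> simp [ht]
  · show polar (⇑(P.comp (b.equiv b' (Equiv.refl _)).toLinearMap)) (b i) (b j) = _
    rw [show polar (⇑(P.comp (b.equiv b' (Equiv.refl _)).toLinearMap)) (b i) (b j) = polar (⇑P) (b' i) (b' j) by
      simp [polar, QuadraticMap.comp_apply, Module.Basis.equiv_apply, map_add]]
    by_cases hij : i = j
    · subst hij
      rw [polar_self, polar_self]
      congr 1
      simp only [b', Module.Basis.unitsSMul_apply, Units.smul_def, QuadraticMap.map_smul, smul_eq_mul, hb1, hb1', s]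
      split_ifs <;> simp [ht]
    · simp only [b', Module.Basis.unitsSMul_apply, Units.smul_def, polar_smul_left, polar_smul_right, hbo' _ _ hij,
        hbo _ _ hij, smul_zero]

/-! ### The models -/

section Model

variable {β : Type} [Fintype β] [DecidableEq β] (A : β → ℕ) (τ : β → β)

/-- Gram matrix of the blocks. -/
def gram (c : β → F) : Matrix (Σ k, Fin (A k)) (Σ k, Fin (A k)) F := Matrix.of fun a b =>
  if b.1 = τ a.1 ∧ (b.2 : ℕ) + a.2 + 1 = A a.1 then c a.1 * (-1) ^ (a.2 : ℕ) else 0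

variable {A τ}

theorem idx_ext {a b : Σ k, Fin (A k)} (h1 : a.1 = b.1) (h2 : (a.2 : ℕ) = b.2) : a = b := by
  obtain ⟨k, i⟩ := a
  obtain ⟨l, j⟩ := b
  obtain rfl : k = l := h1
  exact congrArg (Sigma.mk k) (Fin.ext h2)

theorem gram_det (hA : ∀ k, A (τ k) = A k) (hτ : ∀ k, τ (τ k) = k) {c : β → F} (hc0 : ∀ k, c k ≠ 0) :
    (gram A τ c).det ≠ 0 := by
  intro h
  obtain ⟨u, hu0, hu⟩ := Matrix.exists_vecMul_eq_zero_iff.mpr h
  refine hu0 (funext fun a => ?_)
  obtain ⟨k, i⟩ := a
  have hb := congrFun hu ⟨τ k, ⟨A k - 1 - i, by rw [hA]; omega⟩⟩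
  simp only [Matrix.vecMul, dotProduct, gram, Matrix.of_apply, Pi.zero_apply] at hb
  rw [Finset.sum_eq_single (⟨k, i⟩ : Σ k, Fin (A k))] at hb
  · rw [if_pos ⟨rfl, by show A k - 1 - (i : ℕ) + i + 1 = A k; omega⟩] at hb
    exact (mul_eq_zero.mp hb).resolve_right (mul_ne_zero (hc0 k) (pow_ne_zero _ (neg_ne_zero.mpr one_ne_zero)))
  · rintro ⟨l, j⟩ _ hne
    rw [if_neg, mul_zero]
    rintro ⟨h1, h2⟩
    obtain rfl : k = l := by simpa [hτ] using congrArg τ h1
    have hi := i.2
    exact hne (idx_ext rfl (by show (j : ℕ) = i; simp at h2; omega))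
  · simp

theorem gram_symm (hA : ∀ k, A (τ k) = A k) (hτ : ∀ k, τ (τ k) = k) {c : β → F}
    (hc : ∀ k, c (τ k) = (-1) ^ (A k + 1) * c k) (a b : Σ k, Fin (A k)) : gram A τ c a b = gram A τ c b a := by
  have key : ∀ a b : Σ k, Fin (A k), b.1 = τ a.1 ∧ (b.2 : ℕ) + a.2 + 1 = A a.1 →
      (a.1 = τ b.1 ∧ (a.2 : ℕ) + b.2 + 1 = A b.1) := fun a b h => by
    refine ⟨by rw [h.1, hτ], ?_⟩
    have e : A b.1 = A a.1 := (congrArg A h.1).trans (hA _)
    omega
  simp only [gram, Matrix.of_apply]
  by_cases h : b.1 = τ a.1 ∧ (b.2 : ℕ) + a.2 + 1 = A a.1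
  · rw [if_pos h, if_pos (key a b h), show c b.1 = c (τ a.1) from congrArg c h.1, hc, show ((-1 : F)) ^ (A a.1 + 1) = (-1) ^ ((b.2 : ℕ) + a.2 + 1 + 1) by rw [h.2], mul_right_comm, ← pow_add,
      show (b.2 : ℕ) + a.2 + 1 + 1 + b.2 = a.2 + 2 * (b.2 + 1) by ring, pow_add, pow_mul, neg_one_sq, one_pow, mul_one,
      mul_comm]
  · rw [if_neg h, if_neg fun h' => h (key b a h')]

/-- The element with blocks of the given sizes for a form of any prescribed discriminant. -/
theorem exists_model (h2 : (2 : F) ≠ 0) {p : ℕ} [CharP F p] [Fact p.Prime] (hp : ∀ k, A k ≤ p)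
    (hA : ∀ k, A (τ k) = A k) (hτ : ∀ k, τ (τ k) = k)
    {c : β → F} (hc : ∀ k, c (τ k) = (-1) ^ (A k + 1) * c k) (hc0 : ∀ k, c k ≠ 0)
    {k₀ : β} (hk : τ k₀ = k₀) (hk' : Odd (A k₀)) {ι : Type} [Fintype ι] [DecidableEq ι] (Q : QuadraticForm F (ι → F))
    (hQ : (polarBilin Q).Nondegenerate) (hcard : Fintype.card ι = ∑ k, A k) :
    ∃ x : GL ι F, (∀ v, Q ((x : Matrix ι ι F).mulVec v) = Q v) ∧ x ^ p = 1 ∧
      ∀ j, Module.finrank F ((⊤ : Submodule F (ι → F)).map ((Matrix.toLin' (x : Matrix ι ι F) - 1) ^ j)) =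
        ∑ k, (A k - j) := by
  classical
  haveI : Invertible (2 : F) := invertibleOfNonzero h2
  set dQ := (LinearMap.BilinForm.toMatrix (Pi.basisFun F ι) (polarBilin Q)).det with hdQ
  have hdQ0 : dQ ≠ 0 := (LinearMap.BilinForm.nondegenerate_iff_det_ne_zero _).mp hQ
  set c₀ := (gram A τ c).det * dQ with hc₀
  have hc₀0 : c₀ ≠ 0 := mul_ne_zero (gram_det hA hτ hc0) hdQ0
  let c' : β → F := fun k => (if k = k₀ then c₀ else 1) * c k
  have hc' : ∀ k, c' (τ k) = (-1) ^ (A k + 1) * c' k := fun k => by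
    have e : τ k = k₀ ↔ k = k₀ := ⟨fun h => by rw [← hτ k, h, hk], fun h => by rw [h, hk]⟩
    simp only [c', hc, e]; ring
  have hc'0 : ∀ k, c' k ≠ 0 := fun k => mul_ne_zero (by split_ifs <;> [exact hc₀0; exact one_ne_zero]) (hc0 k)
  set G := gram A τ c' with hGd
  have hGdet : G.det = c₀ ^ (A k₀) * (gram A τ c).det := by
    have e : G = Matrix.diagonal (fun a : Σ k, Fin (A k) => if a.1 = k₀ then c₀ else 1) * gram A τ c := by
      ext a b
      simp only [hGd, gram, c', Matrix.diagonal_mul, Matrix.of_apply]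
      split_ifs <;> ring
    rw [e, Matrix.det_mul, Matrix.det_diagonal, Fintype.prod_sigma, Finset.prod_eq_single k₀]
    · simp
    · intro k _ hne; simp [hne]
    · simp
  have hsymm : ∀ u v, Matrix.toBilin' G u v = Matrix.toBilin' G v u := fun u v => by
    rw [Matrix.toBilin'_apply, Matrix.toBilin'_apply, Finset.sum_comm]
    refine Finset.sum_congr rfl fun a _ => Finset.sum_congr rfl fun b _ => ?_
    rw [hGd, gram_symm hA hτ hc' b a]; ring
  let P : QuadraticForm F ((Σ k, Fin (A k)) → F) :=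
    LinearMap.BilinMap.toQuadraticMap ((2 : F)⁻¹ • Matrix.toBilin' G)
  have hPval : ∀ v, P v = (2 : F)⁻¹ * Matrix.toBilin' G v v := fun v => rfl
  have hPp : ∀ u v, polar (⇑P) u v = Matrix.toBilin' G u v := fun u v => by
    simp only [polar, hPval, map_add, LinearMap.add_apply, hsymm v u]
    field_simp; ring
  have hPm : LinearMap.BilinForm.toMatrix (Pi.basisFun F _) (polarBilin P) = G := by
    ext a b
    rw [LinearMap.BilinForm.toMatrix_apply, polarBilin_apply_apply, hPp]
    simp
  have hPnd : (polarBilin P).Nondegenerate :=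
    (LinearMap.BilinForm.nondegenerate_iff_det_ne_zero (Pi.basisFun F _)).mpr (by
      rw [hPm]; exact gram_det hA hτ hc'0)
  obtain ⟨φ, hφ⟩ := equiv_of_disc Q P h2 hQ hPnd
    (by simp [Module.finrank_fintype_fun_eq_card, hcard])
    (by
      rw [Module.finrank_fintype_fun_eq_card, hcard]
      exact lt_of_lt_of_le hk'.pos (Finset.single_le_sum (f := A) (fun k _ => Nat.zero_le _) (Finset.mem_univ k₀)))
    (Pi.basisFun F ι) (Pi.basisFun F _) (by
      rw [hPm, hGdet, ← hdQ]
      obtain ⟨j, hj⟩ := hk'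
      refine ⟨c₀ ^ (j + 1), ?_⟩
      rw [hj, ← pow_add, show j + 1 + (j + 1) = 2 * j + 1 + 1 by ring, pow_succ _ (2 * j + 1), hc₀]
      ring)
  let e := Pi.basisFun F (Σ k, Fin (A k))
  let K : Module.End F ((Σ k, Fin (A k)) → F) :=
    e.constr F fun a => if h : (a.2 : ℕ) + 1 < A a.1 then e ⟨a.1, ⟨a.2 + 1, h⟩⟩ else 0
  have hKe : ∀ a, K (e a) = if h : (a.2 : ℕ) + 1 < A a.1 then e ⟨a.1, ⟨a.2 + 1, h⟩⟩ else 0 :=
    fun a => e.constr_basis F _ a
  have hKj : ∀ j a, (K ^ j) (e a) = if h : (a.2 : ℕ) + j < A a.1 then e ⟨a.1, ⟨a.2 + j, h⟩⟩ else 0 := by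
    intro j
    induction j with
    | zero => intro a; rw [pow_zero, Module.End.one_apply, dif_pos (show (a.2 : ℕ) + 0 < A a.1 from a.2.2)]; rfl
    | succ j ih =>
      intro a
      rw [pow_succ', Module.End.mul_apply, ih]
      by_cases h : (a.2 : ℕ) + (j + 1) < A a.1
      · rw [dif_pos h, dif_pos (by omega), hKe, dif_pos (by simp; omega)]
        congr 1
      · rw [dif_neg h]
        by_cases h' : (a.2 : ℕ) + j < A a.1
        · rw [dif_pos h', hKe, dif_neg (by simp; omega)]
        · rw [dif_neg h', map_zero]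
  have hGe : ∀ a b, Matrix.toBilin' G (e a) (e b) = G a b := fun a b => by simp [e]
  have hskew : ∀ u v, Matrix.toBilin' G (K u) v = -Matrix.toBilin' G u (K v) := by
    have h : (Matrix.toBilin' G).compl₁₂ K LinearMap.id = -((Matrix.toBilin' G).compl₁₂ LinearMap.id K) := by
      refine LinearMap.BilinForm.ext_basis e fun a b => ?_
      simp only [LinearMap.compl₁₂_apply, LinearMap.id_coe, id_eq, LinearMap.neg_apply, hKe]
      split_ifs with h1 h2 h2 <;> simp only [hGe, map_zero, LinearMap.zero_apply, neg_zero]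
      · simp only [hGd, gram, Matrix.of_apply]
        by_cases h3 : b.1 = τ a.1 ∧ (b.2 : ℕ) + a.2 + 1 + 1 = A a.1
        · rw [if_pos ⟨h3.1, by omega⟩, if_pos ⟨h3.1, by omega⟩, pow_succ]; ring
        · rw [if_neg (fun h4 => h3 ⟨h4.1, by omega⟩), if_neg (fun h4 => h3 ⟨h4.1, by omega⟩), neg_zero]
      · simp only [hGd, gram, Matrix.of_apply]
        rw [if_neg]
        rintro ⟨h4, h5⟩
        have e : A b.1 = A a.1 := (congrArg A h4).trans (hA _)
        omega
      · simp only [hGd, gram, Matrix.of_apply]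
        rw [if_neg, neg_zero]
        rintro ⟨h4, h5⟩
        omega
    intro u v
    exact LinearMap.congr_fun (LinearMap.congr_fun h u) v
  have hKp : K ^ p = 0 := e.ext fun a => by
    rw [hKj, dif_neg (by have := hp a.1; omega), LinearMap.zero_apply]
  obtain ⟨R, hR⟩ := (IsNilpotent.isUnit_one_sub ⟨p, hKp⟩ : IsUnit (1 - K))
  have hcom : Commute K (↑R : Module.End F _) := by
    rw [hR]; exact (Commute.one_right K).sub_right (Commute.refl K)
  have hcom' : Commute K (↑R⁻¹ : Module.End F _) := hcom.units_inv_right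
  set Y : Module.End F ((Σ k, Fin (A k)) → F) := (1 + K) * ↑R⁻¹ with hYd
  have hY1 : Y - 1 = (2 : F) • (K * ↑R⁻¹) := by
    have e1 : (1 : Module.End F ((Σ k, Fin (A k)) → F)) = (1 - K) * ↑R⁻¹ := by rw [← hR, Units.mul_inv]
    rw [hYd]
    conv_lhs => arg 2; rw [e1]
    rw [← sub_mul, show (1 : Module.End F ((Σ k, Fin (A k)) → F)) + K - (1 - K) = (2 : F) • K by module, smul_mul_assoc]
  have hYiso : ∀ v, P (Y v) = P v := fun v => by
    obtain ⟨w, rfl⟩ : ∃ w, (1 - K) w = v := ⟨(↑R⁻¹ : Module.End F _) v, by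
      rw [← Module.End.mul_apply, ← hR, Units.mul_inv]; rfl⟩
    rw [show Y ((1 - K) w) = (1 + K) w by
      rw [hYd, ← Module.End.mul_apply, mul_assoc, ← hR, Units.inv_mul, mul_one]]
    simp only [hPval, LinearMap.add_apply, LinearMap.sub_apply, Module.End.one_apply, map_add, map_sub]
    have := hskew w w
    linear_combination (2 * (2 : F)⁻¹) * this
  have hY1p : (Y - 1) ^ p = 0 := by
    rw [hY1, _root_.smul_pow, hcom'.mul_pow, hKp, zero_mul, smul_zero]
  have hchar : CharP (Module.End F ((Σ k, Fin (A k)) → F)) p := by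
    haveI : Nonempty β := ⟨k₀⟩
    haveI : Nonempty (Σ k, Fin (A k)) := ⟨⟨k₀, ⟨0, hk'.pos⟩⟩⟩
    exact charP_of_injective_algebraMap (FaithfulSMul.algebraMap_injective F _) p
  have hYp : Y ^ p = 1 := by
    have := add_pow_char_of_commute p (Commute.one_right (Y - 1))
    rwa [sub_add_cancel, hY1p, zero_add, one_pow] at this
  -- transport
  let T : Module.End F (ι → F) := φ.symm.toLinearMap ∘ₗ Y ∘ₗ φ.toLinearMap
  have hT : ∀ v, φ (T v) = Y (φ v) := fun v => φ.apply_symm_apply _
  have hTj : ∀ (j : ℕ) v, φ (((T - 1) ^ j) v) = ((Y - 1) ^ j) (φ v) := by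
    intro j
    induction j with
    | zero => intro v; simp
    | succ j ih =>
      intro v
      rw [pow_succ, pow_succ, Module.End.mul_apply, Module.End.mul_apply, ih, LinearMap.sub_apply, LinearMap.sub_apply,
        map_sub, hT]
      rfl
  have hTp : T ^ p = 1 := by
    have hj : ∀ (j : ℕ) v, φ ((T ^ j) v) = (Y ^ j) (φ v) := by
      intro j
      induction j with
      | zero => intro v; simp
      | succ j ih => intro v; rw [pow_succ, pow_succ, Module.End.mul_apply, Module.End.mul_apply, ih, hT]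
    exact LinearMap.ext fun v => φ.injective (by rw [hj, hYp]; rfl)
  set X := LinearMap.toMatrix' T with hXd
  have hXp : X ^ p = 1 := by
    have h : Matrix.toLinAlgEquiv' (X ^ p) = Matrix.toLinAlgEquiv' (1 : Matrix ι ι F) := by
      rw [map_pow, map_one]
      show (Matrix.toLin' X) ^ p = 1
      rw [hXd, Matrix.toLin'_toMatrix', hTp]
    exact Matrix.toLinAlgEquiv'.injective h
  have hp1 : 1 ≤ p := (Fact.out : p.Prime).one_le
  let x : GL ι F := ⟨X, X ^ (p - 1), by rw [← pow_succ', Nat.sub_add_cancel hp1, hXp],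
    by rw [← pow_succ, Nat.sub_add_cancel hp1, hXp]⟩
  refine ⟨x, fun v => ?_, Units.ext (by rw [Units.val_pow_eq_pow_val]; exact hXp), fun j => ?_⟩
  · show Q (X.mulVec v) = Q v
    rw [← Matrix.toLin'_apply, hXd, Matrix.toLin'_toMatrix', ← hφ, hT, hYiso, hφ]
  · show Module.finrank F ((⊤ : Submodule F (ι → F)).map ((Matrix.toLin' X - 1) ^ j)) = _
    rw [show Matrix.toLin' X = T by rw [hXd, Matrix.toLin'_toMatrix']]
    have e1 : ((⊤ : Submodule F (ι → F)).map ((T - 1) ^ j)).map φ.toLinearMap = LinearMap.range ((Y - 1) ^ j) := by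
      rw [← Submodule.map_comp, show φ.toLinearMap ∘ₗ ((T - 1) ^ j) = ((Y - 1) ^ j) ∘ₗ φ.toLinearMap from
        LinearMap.ext (hTj j), Submodule.map_comp, Submodule.map_top, LinearEquiv.range, Submodule.map_top]
    rw [← LinearEquiv.finrank_map_eq φ, e1, hY1, _root_.smul_pow, hcom'.mul_pow,
      LinearMap.range_smul _ _ (pow_ne_zero _ h2), Module.End.mul_eq_comp,
      LinearMap.range_comp_of_range_eq_top _ (LinearMap.range_eq_top.mpr (by
        rw [← Units.val_pow_eq_pow_val]
        exact ((Module.End.isUnit_iff _).mp (Units.isUnit _)).2))]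
    let S := {a : Σ k, Fin (A k) // j ≤ (a.2 : ℕ)}
    have hrange : LinearMap.range (K ^ j) = span F (Set.range fun a : S => e a.1) := by
      refine le_antisymm ?_ (span_le.mpr ?_)
      · rw [← Submodule.map_top, ← e.span_eq, Submodule.map_span, span_le]
        rintro _ ⟨_, ⟨a, rfl⟩, rfl⟩
        rw [hKj]
        split_ifs with h
        · exact subset_span ⟨⟨_, Nat.le_add_left j _⟩, rfl⟩
        · exact zero_mem _
      · rintro _ ⟨⟨⟨k, i⟩, hi⟩, rfl⟩
        refine ⟨e ⟨k, ⟨i - j, by omega⟩⟩, ?_⟩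
        have hi' : j ≤ (i : ℕ) := hi
        rw [hKj, dif_pos (by simp; omega)]
        exact congrArg e (idx_ext rfl (by simp; omega))
    rw [hrange, show Module.finrank F (span F (Set.range fun a : S => e a.1)) = Fintype.card S from
      finrank_span_eq_card (e.linearIndependent.comp _ Subtype.val_injective)]
    have hS : Fintype.card S = Fintype.card (Σ k, {i : Fin (A k) // j ≤ (i : ℕ)}) := Fintype.card_congr
      { toFun := fun a => ⟨a.1.1, a.1.2, a.2⟩
        invFun := fun b => ⟨⟨b.1, b.2.1⟩, b.2.2⟩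
        left_inv := fun a => rfl
        right_inv := fun b => rfl }
    rw [hS, Fintype.card_sigma]
    refine Finset.sum_congr rfl fun k _ => ?_
    rw [Fintype.card_congr
      ({ toFun := fun i => (⟨i.1 - j, by omega⟩ : Fin (A k - j))
         invFun := fun i => ⟨⟨i + j, by omega⟩, by simp⟩
         left_inv := fun i => Subtype.ext (Fin.ext (by have := i.2; simp; omega))
         right_inv := fun i => Fin.ext (by simp) } : {i : Fin (A k) // j ≤ (i : ℕ)} ≃ Fin (A k - j)), Fintype.card_fin]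

end Model

end Cfsg.Lib.Classical.OrthUni
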