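import Mathlib
import Cfsg.Agent.Classical.Misc.OrthUnipotentModels

/-! Unipotent isometries with prescribed Jordan blocks, odd characteristic. -/

set_option autoImplicit false
set_option linter.unusedSimpArgs false
set_option linter.unusedSectionVars false
set_option linter.flexible false

namespace Cfsg.Lib.Classical.FormJordanModels

open Matrix Cfsg.Lib.Classical.OrthUni

universe u

variable {F : Type u} [Field F] {β : Type} [Fintype β] [DecidableEq β] (A : β → ℕ)

/-- The shift along the blocks. -/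
def shift : Matrix (Σ k, Fin (A k)) (Σ k, Fin (A k)) F := Matrix.of fun a b =>
  if a.1 = b.1 ∧ (a.2 : ℕ) = b.2 + 1 then 1 else 0

variable {A}

theorem shift_map (σ : F →+* F) : (shift (F := F) A).map σ = shift A := by
  ext a b
  simp only [Matrix.map_apply, shift, Matrix.of_apply]
  split_ifs <;> simp

theorem shift_single (a : Σ k, Fin (A k)) :
    Matrix.toLin' (shift (F := F) A) (Pi.single a 1) =
      if h : (a.2 : ℕ) + 1 < A a.1 then Pi.single ⟨a.1, ⟨a.2 + 1, h⟩⟩ 1 else 0 := by
  funext x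
  rw [Matrix.toLin'_apply, Matrix.mulVec_single_one]
  simp only [Matrix.col_apply, shift, Matrix.of_apply]
  split_ifs with h1 h2 h2
  · obtain rfl : x = ⟨a.1, ⟨a.2 + 1, h2⟩⟩ := idx_ext h1.1 h1.2
    simp
  · exfalso
    have h3 := x.2.2
    have e : A x.1 = A a.1 := congrArg A h1.1
    omega
  · rw [Pi.single_eq_of_ne]
    rintro rfl
    exact h1 ⟨rfl, rfl⟩
  · rfl

theorem shift_pow_single (j : ℕ) (a : Σ k, Fin (A k)) :
    (Matrix.toLin' (shift (F := F) A) ^ j) (Pi.single a 1) =
      if h : (a.2 : ℕ) + j < A a.1 then Pi.single ⟨a.1, ⟨a.2 + j, h⟩⟩ 1 else 0 := by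
  induction j with
  | zero => rw [pow_zero, Module.End.one_apply, dif_pos (show (a.2 : ℕ) + 0 < A a.1 from a.2.2)]; rfl
  | succ j ih =>
    rw [pow_succ', Module.End.mul_apply, ih]
    by_cases h : (a.2 : ℕ) + (j + 1) < A a.1
    · rw [dif_pos h, dif_pos (by omega), shift_single, dif_pos (by simp; omega)]
      congr 1
    · rw [dif_neg h]
      by_cases h' : (a.2 : ℕ) + j < A a.1
      · rw [dif_pos h', shift_single, dif_neg (by simp; omega)]
      · rw [dif_neg h', map_zero]

theorem shift_rank (j : ℕ) :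
    Module.finrank F (LinearMap.range (Matrix.toLin' (shift (F := F) A) ^ j)) = ∑ k, (A k - j) := by
  classical
  let e := Pi.basisFun F (Σ k, Fin (A k))
  let τ : (Σ k, Fin (A k - j)) → Σ k, Fin (A k) := fun x => ⟨x.1, ⟨x.2 + j, by omega⟩⟩
  have hτ : Function.Injective τ := by
    rintro ⟨k, i⟩ ⟨k', i'⟩ h
    simp only [τ, Sigma.mk.inj_iff] at h
    obtain ⟨rfl, h⟩ := h
    rw [heq_eq_eq, Fin.mk.injEq, Nat.add_right_cancel_iff] at h
    exact congrArg (Sigma.mk k) (Fin.ext h)
  have hrange : LinearMap.range (Matrix.toLin' (shift (F := F) A) ^ j) =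
      Submodule.span F (Set.range (e ∘ τ)) := by
    refine le_antisymm ?_ (Submodule.span_le.mpr ?_)
    · rw [← Submodule.map_top, ← e.span_eq, Submodule.map_span, Submodule.span_le]
      rintro _ ⟨_, ⟨a, rfl⟩, rfl⟩
      rw [Pi.basisFun_apply, shift_pow_single]
      split_ifs with h
      · exact Submodule.subset_span ⟨⟨a.1, ⟨a.2, by omega⟩⟩, by simp [e, τ]⟩
      · exact zero_mem _
    · rintro _ ⟨⟨k, i⟩, rfl⟩
      refine ⟨e ⟨k, ⟨i, by omega⟩⟩, ?_⟩
      rw [Pi.basisFun_apply, shift_pow_single, dif_pos (by simp; omega)]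
      simp [e, τ]
  rw [hrange, finrank_span_eq_card (e.linearIndependent.comp τ hτ), Fintype.card_sigma]
  simp

theorem shift_skew {τ : β → β} (hA : ∀ k, A (τ k) = A k) (c : β → F) :
    (shift (F := F) A)ᵀ * OrthUni.gram A τ c = -(OrthUni.gram A τ c * shift A) := by
  classical
  ext b d
  rw [Matrix.neg_apply, Matrix.mul_apply, Matrix.mul_apply]
  simp only [Matrix.transpose_apply, shift, Matrix.of_apply, ite_mul, one_mul, zero_mul, mul_ite, mul_one, mul_zero]
  by_cases hb : (b.2 : ℕ) + 1 < A b.1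
  · rw [Finset.sum_eq_single (⟨b.1, ⟨b.2 + 1, hb⟩⟩ : Σ k, Fin (A k)), if_pos ⟨rfl, rfl⟩]
    rotate_left
    · intro a _ hne
      rw [if_neg fun h => hne (idx_ext h.1 h.2)]
    · simp
    by_cases hd : (d.2 : ℕ) + 1 < A d.1
    · rw [Finset.sum_eq_single (⟨d.1, ⟨d.2 + 1, hd⟩⟩ : Σ k, Fin (A k)), if_pos ⟨rfl, rfl⟩]
      rotate_left
      · intro a _ hne
        rw [if_neg fun h => hne (idx_ext h.1 h.2)]
      · simp
      simp only [OrthUni.gram, Matrix.of_apply]
      by_cases h3 : d.1 = τ b.1 ∧ (d.2 : ℕ) + b.2 + 1 + 1 = A b.1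
      · rw [if_pos ⟨h3.1, by omega⟩, if_pos ⟨h3.1, by omega⟩, pow_succ]; ring
      · rw [if_neg (fun h4 => h3 ⟨h4.1, by omega⟩), if_neg (fun h4 => h3 ⟨h4.1, by omega⟩), neg_zero]
    · rw [Finset.sum_eq_zero (s := Finset.univ), neg_zero]
      · simp only [OrthUni.gram, Matrix.of_apply]
        rw [if_neg]
        rintro ⟨h4, h5⟩
        have e : A d.1 = A b.1 := (congrArg A h4).trans (hA _)
        skip
        omega
      · intro a _
        rw [if_neg]
        rintro ⟨h4, h5⟩
        have := a.2.2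
        have e : A a.1 = A d.1 := congrArg A h4
        omega
  · rw [Finset.sum_eq_zero (s := Finset.univ)]
    · rw [Finset.sum_eq_zero (s := Finset.univ), neg_zero]
      intro a _
      split_ifs with h
      · simp only [OrthUni.gram, Matrix.of_apply]
        rw [if_neg]
        rintro ⟨h4, h5⟩
        omega
      · rfl
    · intro a _
      rw [if_neg]
      rintro ⟨h4, h5⟩
      have := a.2.2
      have e : A a.1 = A b.1 := congrArg A h4
      omega

/-- A unipotent matrix preserving the Gram matrix, fixed by all endomorphisms of the field. -/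
theorem exists_model (h2 : (2 : F) ≠ 0) {p : ℕ} [Fact p.Prime] [CharP F p] (hp : ∀ k, A k ≤ p)
    {τ : β → β} (hA : ∀ k, A (τ k) = A k) (c : β → F) :
    ∃ Y : Matrix (Σ k, Fin (A k)) (Σ k, Fin (A k)) F, Y ^ p = 1 ∧ (∀ σ : F →+* F, Y.map σ = Y) ∧
      Yᵀ * OrthUni.gram A τ c * Y = OrthUni.gram A τ c ∧
      ∀ j, Module.finrank F (LinearMap.range ((Matrix.toLin' Y - 1) ^ j)) = ∑ k, (A k - j) := by
  classical
  set K := shift (F := F) A with hK
  set G := OrthUni.gram A τ c
  have hKp : K ^ p = 0 := by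
    have h : Matrix.toLinAlgEquiv' (K ^ p) = Matrix.toLinAlgEquiv' (0 : Matrix (Σ k, Fin (A k)) (Σ k, Fin (A k)) F) := by
      rw [map_pow, map_zero]
      refine (Pi.basisFun F (Σ k, Fin (A k))).ext fun a => ?_
      show (Matrix.toLin' K ^ p) ((Pi.basisFun F _) a) = 0
      rw [Pi.basisFun_apply, shift_pow_single, dif_neg (by have := hp a.1; omega)]
    exact Matrix.toLinAlgEquiv'.injective h
  set S := ∑ i ∈ Finset.range p, K ^ i with hS
  set S' := ∑ i ∈ Finset.range p, (-K) ^ i with hS'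
  have h1 : (1 - K) * S = 1 := by rw [mul_neg_geom_sum, hKp, sub_zero]
  have h2' : S' * (1 + K) = 1 := by
    have := geom_sum_mul_neg (-K) p
    rwa [sub_neg_eq_add, neg_pow, hKp, mul_zero, sub_zero] at this
  set Y := (1 + K) * S with hY
  have hc : Commute K S := Commute.sum_right _ _ _ fun i _ => (Commute.refl K).pow_right i
  have hY1 : Y - 1 = (2 : F) • (K * S) := by
    have e : Y - 1 = (1 + K) * S - (1 - K) * S := by rw [hY, h1]
    rw [e, ← sub_mul, show (1 : Matrix (Σ k, Fin (A k)) (Σ k, Fin (A k)) F) + K - (1 - K) = (2 : F) • K by module, smul_mul_assoc]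
  have hY1p : (Y - 1) ^ p = 0 := by rw [hY1, _root_.smul_pow, hc.mul_pow, hKp, zero_mul, smul_zero]
  have hskew := shift_skew (F := F) hA c
  refine ⟨Y, ?_, fun σ => ?_, ?_, fun j => ?_⟩
  · rcases isEmpty_or_nonempty (Σ k, Fin (A k)) with he | he
    · exact Subsingleton.elim _ _
    · have := add_pow_char_of_commute p (Commute.one_right (Y - 1))
      rwa [sub_add_cancel, hY1p, zero_add, one_pow] at this
  · rw [hY, hS]
    rw [← RingHom.mapMatrix_apply, map_mul, map_add, map_one, map_sum]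
    congr 1
    · rw [RingHom.mapMatrix_apply, shift_map]
    · exact Finset.sum_congr rfl fun i _ => by rw [map_pow, RingHom.mapMatrix_apply, shift_map]
  · have hGK : ∀ i : ℕ, (K ^ i)ᵀ * G = G * (-K) ^ i := fun i => by
      induction i with
      | zero => simp
      | succ i ih =>
        rw [pow_succ, Matrix.transpose_mul, mul_assoc, ih, ← mul_assoc, hskew, ← Matrix.mul_neg, mul_assoc,
          ← pow_succ']
    have e1 : Sᵀ * G = G * S' := by
      rw [hS, Matrix.transpose_sum, Finset.sum_mul, hS', Finset.mul_sum]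
      exact Finset.sum_congr rfl fun i _ => hGK i
    have e2 : (1 + K)ᵀ * G = G * (1 - K) := by
      rw [Matrix.transpose_add, Matrix.transpose_one, add_mul, one_mul, hskew, mul_sub, mul_one, sub_eq_add_neg]
    have e3 : (1 - K) * (1 + K) = (1 + K) * (1 - K) := by noncomm_ring
    calc Yᵀ * G * Y = Sᵀ * ((1 + K)ᵀ * G) * ((1 + K) * S) := by rw [hY, Matrix.transpose_mul]; simp only [mul_assoc]
      _ = Sᵀ * G * ((1 - K) * (1 + K)) * S := by rw [e2]; simp only [mul_assoc]
      _ = G * (S' * (1 + K)) * ((1 - K) * S) := by rw [e1, e3]; simp only [mul_assoc]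
      _ = G := by rw [h2', h1, mul_one, mul_one]
  · have hu : IsUnit S := IsUnit.of_mul_eq_one _ (mul_eq_one_comm.mp h1)
    have e : (Matrix.toLin' Y - 1) ^ j = (2 : F) ^ j • (Matrix.toLin' K ^ j * Matrix.toLin' (S ^ j)) := by
      have : Matrix.toLinAlgEquiv' ((Y - 1) ^ j) = Matrix.toLinAlgEquiv' ((2 : F) ^ j • (K ^ j * S ^ j)) := by
        rw [hY1, _root_.smul_pow, hc.mul_pow]
      simp only [map_pow, map_sub, map_one, map_smul, map_mul] at this
      exact this.trans (by rw [Matrix.toLin'_pow]; rfl)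
    have hsurj : LinearMap.range (Matrix.toLin' (S ^ j)) = ⊤ := by
      rw [LinearMap.range_eq_top]
      intro w
      obtain ⟨R, hR⟩ := hu.pow j
      refine ⟨Matrix.toLin' (↑R⁻¹ : Matrix _ _ F) w, ?_⟩
      rw [← LinearMap.comp_apply, ← Matrix.toLin'_mul, ← hR, Units.mul_inv, Matrix.toLin'_one]; rfl
    rw [e, LinearMap.range_smul _ _ (pow_ne_zero _ h2), Module.End.mul_eq_comp,
      LinearMap.range_comp_of_range_eq_top _ hsurj, shift_rank]

end Cfsg.Lib.Classical.FormJordanModels
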