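import Mathlib
import Cfsg.Prelude.Def_Classical
import Cfsg.Prelude.Def_ClassicalGeometry
import Cfsg.Agent.Classical.Symp.Matrix
import Cfsg.Agent.S0270
import Cfsg.Agent.S0280

/-! `PSU_4(2) ≅ PSp_4(3)` through the action on forty points. -/

set_option autoImplicit false
set_option linter.unusedSimpArgs false
set_option linter.unusedSectionVars false
set_option linter.style.haveILetI false
set_option linter.flexible false
set_option maxRecDepth 20000

namespace Cfsg.Lib.Classical.FortyPoints

open Matrix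

universe u

-- the model
def uCode : List ℕ := [64, 16, 4, 1, 69, 133, 197, 201, 73, 137, 141, 205, 77, 21, 57, 45, 37, 25, 61, 53, 41, 29, 84, 148, 212, 100, 164, 228, 116, 180, 244, 81, 209, 145, 97, 225, 161, 113, 241, 177]

def sCode : List ℕ := [27, 9, 36, 63, 3, 30, 57, 12, 39, 66, 21, 48, 75, 1, 28, 55, 10, 37, 64, 19, 46, 73, 4, 31, 58, 13, 40, 67, 22, 49, 76, 7, 34, 61, 16, 43, 70, 25, 52, 79]

def tCode : List ℕ := [1065292335435136629879924515808707058568824845974153111186581245790003264, 925047120731147052120508201949472697658097538000639001370874897528266816, 1093317306902421740676479096533635533033880800863349688101522457704013888, 954405651797690164830394073441839745409148201274202575933596821772574784, 592507427175352710618911250414098723050781112164154576304047287173431366, 1085936993348627311232564111586299806043266035482773904198813072345571396, 789531469005963195528400449461080126205997389351017047306278550101864517, 761870458442099934840798135698196906326433155119744195532967236407943241,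 369926206222063574281280809920621734574449829028596774886703882801004615, 1082459161771232186810920317588578931518714951888900098407733747864326216, 1084157630312319647477159553856995791822748959316066549016042133712834636, 651470003271414842537225663161074844500561919491491457303400211775778890, 479922275228216935228242186225791716200748441174631692589293253264965707, 729597995144931731952161115202855157709105326850686021106189474565543104, 1093316454417191849387054699573297394492684493970347623507357628252894464, 196764280482648054276406196417646337192465418728015959838144644776805696, 308924398606720850556764889330525362598744543507054362741875154171261760, 617437337168868430017906003730675644558275668877472207147513037037818752, 1093316342420465186174431784407567464383046542031497922659343809840997312, 1093315919424582059676111230670949975770418531953561252166007536451134464, 167404898562548253723803941929779274050705985011927833810140465235297344, 840483827930026352969449402045324701238145311628152153939212484873360512,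 347787137989974799015913211676551901924633130290945616050138966049793816, 446275637812281119117871978153004346682847398572623250352405592620775254, 1083650543543102750406908125780739052937709362334411132811411903298246551, 1083191796621790657618242718345342888107507322226917485996941637927687579, 237352449848969840808449390380964114228786870437255501440941070566155737, 418236871926465576214664511039973482712051968437549849625256220110472730, 554547204671061897438013093521347074203870448103661227638835955616282206, 1085341439345244951550895317111541392910705068516644082879374235867645596, 126958201779783574048479497556097923695449017805642171784540825152480989, 1078199726571686113136570311551893762182745132257773699523717771090209120, 98171699705150894465813782583510647905097429866063706078266297718155681, 1010263508554864111421541311123236157227765055471583809475606463673805279, 899821980075104622359968758722793492422728389068653596271166077653493731, 1077329847018029383647507976133056928134951050659074967647034607637112868,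 41232290598994342419561118111524430781503460802637175663033402934175842, 17076183217289834023247000224251108680791220180742173714554882873370790, 1037850476379093258477726391659757625497930079158594973175916405167237351, 1076932082568701705992001676131466534153065272587412194062974800409667877]

/-- The permutations. -/
def t (i j : Fin 40) : Fin 40 := ⟨(tCode.getD i.val 0 / 64 ^ j.val) % 64 % 40, Nat.mod_lt _ (by norm_num)⟩

/-- The unitary representatives. -/
def uv (i : Fin 40) : Fin 4 → Fin 4 := fun k => ⟨(uCode.getD i.val 0 / 4 ^ k.val) % 4, Nat.mod_lt _ (by norm_num)⟩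

/-- Flattened index. -/
def idx : Fin 2 ⊕ Fin 2 → ℕ := Sum.elim (fun a => a.val) (fun a => a.val + 2)

/-- The symplectic representatives. -/
def sv (i : Fin 40) : Fin 2 ⊕ Fin 2 → ZMod 3 := fun k => ((sCode.getD i.val 0 / 3 ^ idx k) % 3 : ℕ)

/-- Multiplication in the field of four elements. -/
def mul4 : Fin 4 → Fin 4 → Fin 4 := ![![0, 0, 0, 0], ![0, 1, 2, 3], ![0, 2, 3, 1], ![0, 3, 1, 2]]

/-- Addition in the field of four elements. -/
def add4 : Fin 4 → Fin 4 → Fin 4 := ![![0, 1, 2, 3], ![1, 0, 3, 2], ![2, 3, 0, 1], ![3, 2, 1, 0]]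

/-- The Hermitian form of the model. -/
def herm4 (x y : Fin 4 → Fin 4) : Fin 4 :=
  add4 (add4 (add4 (mul4 (x 0) (mul4 (y 0) (y 0))) (mul4 (x 1) (mul4 (y 1) (y 1)))) (mul4 (x 2) (mul4 (y 2) (y 2))))
    (mul4 (x 3) (mul4 (y 3) (y 3)))

/-- The reflection of the model. -/
def refl4 (u x : Fin 4 → Fin 4) : Fin 4 → Fin 4 := fun k => mul4 3 (add4 (x k) (mul4 3 (mul4 (herm4 x u) (u k))))

/-- The transvection of the model. -/
def trans3 (v x : Fin 2 ⊕ Fin 2 → ZMod 3) : Fin 2 ⊕ Fin 2 → ZMod 3 := fun k =>
  x k + 2 * (x (Sum.inr 0) * v (Sum.inl 0) - x (Sum.inl 0) * v (Sum.inr 0) +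
    (x (Sum.inr 1) * v (Sum.inl 1) - x (Sum.inl 1) * v (Sum.inr 1))) * v k

theorem t_cube : ∀ i j, t i (t i (t i j)) = j := by decide +kernel

theorem separated : ∀ j k, k ≠ j → ∃ i, t i j = j ∧ t i k ≠ k := by decide +kernel

theorem t_zero : t 0 1 ≠ 1 ∨ ∃ j, t 0 j ≠ j := by decide +kernel

theorem uv_norm : ∀ i, herm4 (uv i) (uv i) = 1 := by decide +kernel

theorem uv_dep : ∀ i j, ∀ c : Fin 4, (∀ k, uv i k = mul4 c (uv j k)) → i = j := by decide +kernel

theorem uv_total : ∀ x : Fin 4 → Fin 4, herm4 x x = 1 → ∃ i, ∃ c : Fin 4, c ≠ 0 ∧ ∀ k, x k = mul4 c (uv i k) := by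
  decide +kernel

theorem refl_table : ∀ i j, ∃ c : Fin 4, c ≠ 0 ∧ ∀ k, refl4 (uv i) (uv j) k = mul4 c (uv (t i j) k) := by decide +kernel

theorem sv_dep : ∀ i j, ∀ c : ZMod 3, (∀ k, sv i k = c * sv j k) → i = j := by decide +kernel

theorem sv_total : ∀ x : Fin 2 ⊕ Fin 2 → ZMod 3, (∃ k, x k ≠ 0) → ∃ i, ∃ c : ZMod 3, c ≠ 0 ∧ ∀ k, x k = c * sv i k := by
  decide +kernel

theorem sv_ne : ∀ i, ∃ k, sv i k ≠ 0 := by decide +kernel

theorem trans_table : ∀ i j, ∃ c : ZMod 3, c ≠ 0 ∧ ∀ k, trans3 (sv i) (sv j) k = c * sv (t i j) k := by decide +kernel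

/-- A permutation of the model. -/
def tp (i : Fin 40) : Equiv.Perm (Fin 40) :=
  ⟨t i, t i ∘ t i, fun j => t_cube i j, fun j => t_cube i j⟩

/-- The group of the forty points. -/
def model : Subgroup (Equiv.Perm (Fin 40)) := Subgroup.closure (Set.range tp)

theorem eq_one_of_commute {σ : Equiv.Perm (Fin 40)} (h : ∀ i, σ * tp i = tp i * σ) : σ = 1 := by
  refine Equiv.ext fun j => ?_
  by_contra hne
  obtain ⟨i, hi, hi'⟩ := separated j (σ j) hne
  have := DFunLike.congr_fun (h i) j
  simp only [Equiv.Perm.mul_apply, tp, Equiv.coe_fn_mk, hi] at this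
  exact hi' this.symm

section lin

variable {G : Type*} [Group G] {K : Type*} [Field K] {ι : Type*} [Fintype ι] [DecidableEq ι]

/-- The action of a linear group on labelled lines. -/
theorem exists_action (ρ : G →* Matrix ι ι K) (v : Fin 40 → ι → K)
    (hdep : ∀ i j (c : K), v i = c • v j → i = j)
    (htot : ∀ g i, ∃ j, ∃ c : K, c ≠ 0 ∧ ρ g *ᵥ v i = c • v j) :
    ∃ f : G →* Equiv.Perm (Fin 40), ∀ g i j (c : K), c ≠ 0 → ρ g *ᵥ v i = c • v j → f g i = j := by
  choose π c hc hπ using htot
  have huniq : ∀ g i j (a : K), a ≠ 0 → ρ g *ᵥ v i = a • v j → π g i = j := by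
    intro g i j a ha h
    refine hdep _ _ ((c g i)⁻¹ * a) ?_
    rw [← smul_smul, ← h, hπ, smul_smul, inv_mul_cancel₀ (hc g i), one_smul]
  have hmul : ∀ g g' i, π (g * g') i = π g (π g' i) := by
    intro g g' i
    refine huniq _ _ _ (c g' i * c g (π g' i)) (mul_ne_zero (hc _ _) (hc _ _)) ?_
    rw [map_mul, ← Matrix.mulVec_mulVec, hπ g' i, Matrix.mulVec_smul, hπ, smul_smul]
  have hone : ∀ i, π 1 i = i := fun i => huniq 1 i i 1 one_ne_zero (by rw [map_one, Matrix.one_mulVec, one_smul])
  exact ⟨{ toFun := fun g => ⟨π g, π g⁻¹, fun i => by rw [← hmul, inv_mul_cancel, hone],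
            fun i => by rw [← hmul, mul_inv_cancel, hone]⟩
           map_one' := Equiv.ext hone
           map_mul' := fun g g' => Equiv.ext (hmul g g') }, huniq⟩

theorem center_le_ker (f : G →* Equiv.Perm (Fin 40)) (h : ∀ i, tp i ∈ f.range) : Subgroup.center G ≤ f.ker := by
  intro z hz
  refine MonoidHom.mem_ker.mpr (eq_one_of_commute fun i => ?_)
  obtain ⟨g, hg⟩ := h i
  rw [← hg, ← map_mul, ← map_mul, Subgroup.mem_center_iff.mp hz g]

end lin

theorem symplectic {K : Type u} [Field K] [Fintype K] (hK : Fintype.card K = 3) :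
    Nat.card model = 25920 ∧ Nonempty (Cfsg.PSp 2 K ≃* model) := by
  classical
  haveI : Fact (Nat.Prime 3) := ⟨by norm_num⟩
  haveI : CharP K 3 := charP_of_card_eq_prime (R := K) hK
  let e : ZMod 3 →+* K := ZMod.castHom dvd_rfl K
  have he : Function.Bijective e := by
    refine (Fintype.bijective_iff_injective_and_card _).mpr ⟨e.injective, ?_⟩
    rw [ZMod.card, hK]
  let v : Fin 40 → (Fin 2 ⊕ Fin 2 → K) := fun i k => e (sv i k)
  have hdep : ∀ i j (c : K), v i = c • v j → i = j := by
    intro i j c h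
    obtain ⟨c', rfl⟩ := he.2 c
    exact sv_dep i j c' fun k => he.1 (by rw [map_mul]; exact congrFun h k)
  have hany : ∀ x : Fin 2 ⊕ Fin 2 → K, x ≠ 0 → ∃ j, ∃ c : K, c ≠ 0 ∧ x = c • v j := by
    intro x hx
    choose x' hx' using fun k => he.2 (x k)
    obtain ⟨k, hk⟩ := Function.ne_iff.mp hx
    obtain ⟨i, c, hc, hci⟩ := sv_total x' ⟨k, fun h0 => hk (by rw [← hx', h0, map_zero]; rfl)⟩
    refine ⟨i, e c, fun h0 => hc (he.1 (h0.trans (map_zero e).symm)), funext fun k => ?_⟩
    rw [← hx', hci, map_mul]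
    rfl
  have hv : ∀ i, v i ≠ 0 := fun i h => by
    obtain ⟨k, hk⟩ := sv_ne i
    exact hk (he.1 ((congrFun h k).trans (map_zero e).symm))
  let ρ : Matrix.symplecticGroup (Fin 2) K →* Matrix (Fin 2 ⊕ Fin 2) (Fin 2 ⊕ Fin 2) K :=
    Submonoid.subtype _
  have hρ : ∀ (g : Matrix.symplecticGroup (Fin 2) K) (x : Fin 2 ⊕ Fin 2 → K),
      ρ g *ᵥ x = ((sympEquiv 2 K g : BilinIsom (sympBilin 2 K)) : (Fin 2 ⊕ Fin 2 → K) ≃ₗ[K] _) x := fun g x => rfl
  obtain ⟨f, hf⟩ := exists_action ρ v hdep fun g i => hany _ (by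
    rw [hρ]; exact (LinearEquiv.map_ne_zero_iff _).mpr (hv i))
  let τ : Fin 40 → K → Matrix.symplecticGroup (Fin 2) K := fun i c =>
    (sympEquiv 2 K).symm (sympT (sympBilin_isAlt 2 K) (v i) c)
  have hτ : ∀ i, f (τ i (e 2)) = tp i := by
    intro i
    refine Equiv.ext fun j => ?_
    obtain ⟨c, hc, hcj⟩ := trans_table i j
    refine hf _ _ _ (e c) (fun h0 => hc (he.1 (h0.trans (map_zero e).symm))) (funext fun k => ?_)
    rw [hρ]
    simp only [τ, MulEquiv.apply_symm_apply, sympT_apply, sympBilin_eq_sum, Fin.sum_univ_two, Pi.add_apply,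
      Pi.smul_apply, smul_eq_mul, v, ← map_mul, ← map_sub, ← map_add]
    exact congrArg e (hcj k)
  have hgen : f.range = model := by
    refine le_antisymm ?_ ((Subgroup.closure_le _).mpr ?_)
    swap
    · rintro _ ⟨i, rfl⟩
      exact ⟨_, hτ i⟩
    rw [MonoidHom.range_eq_map, ← closure_sympTransvection_eq_top 2, MonoidHom.map_closure, Subgroup.closure_le]
    rintro _ ⟨A, ⟨w, c, hA⟩, rfl⟩
    have hA' : A = (sympEquiv 2 K).symm (sympT (sympBilin_isAlt 2 K) w c) :=
      Subtype.ext (hA.trans (sympTransvection_eq w c))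
    rcases eq_or_ne w 0 with rfl | hw
    · rw [hA', sympT_zero_vec, map_one, map_one]; exact model.one_mem
    obtain ⟨i, a, ha, rfl⟩ := hany w hw
    rw [sympT_smul] at hA'
    obtain ⟨d, hd⟩ := he.2 (a ^ 2 * c)
    have hd' : A = τ i (e d) := by rw [hA', hd]
    have h2 := hτ i
    rw [hd']
    have hmem : tp i ∈ model := Subgroup.subset_closure ⟨i, rfl⟩
    fin_cases d
    · show f (τ i (e 0)) ∈ model
      simp [τ, sympT_zero]
    · show f (τ i (e 1)) ∈ model
      have e1 : τ i (e 1) = τ i (e 2) * τ i (e 2) := by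
        simp only [τ]
        rw [← map_mul, ← sympT_add, ← map_add]
        rfl
      rw [e1, map_mul, h2]
      exact model.mul_mem hmem hmem
    · show f (τ i (e 2)) ∈ model
      rw [h2]; exact hmem
  have hker := center_le_ker f fun i => ⟨_, hτ i⟩
  let φ : Cfsg.PSp 2 K →* Equiv.Perm (Fin 40) := QuotientGroup.lift _ f hker
  have hφ : φ.range = model := by
    rw [← hgen]
    exact le_antisymm (by rintro _ ⟨x, rfl⟩; obtain ⟨y, rfl⟩ := QuotientGroup.mk_surjective x; exact ⟨y, rfl⟩)
      (by rintro _ ⟨y, rfl⟩; exact ⟨QuotientGroup.mk y, rfl⟩)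
  haveI := Cfsg.Agent.S0270.result (F := K) 2 le_rfl (fun _ => by rw [hK])
  have hinj : Function.Injective φ := by
    refine (MonoidHom.ker_eq_bot_iff _).mp ((MonoidHom.normal_ker φ).eq_bot_or_eq_top.resolve_right fun h => ?_)
    obtain ⟨j, hj⟩ : ∃ j, t 0 j ≠ j := t_zero.elim (fun h => ⟨1, h⟩) id
    have h1 : φ (QuotientGroup.mk (τ 0 (e 2))) = 1 := MonoidHom.mem_ker.mp (h ▸ Subgroup.mem_top _)
    apply hj
    exact DFunLike.congr_fun ((hτ 0).symm.trans h1) j
  let ψ : Cfsg.PSp 2 K ≃* model := (MonoidHom.ofInjective hinj).trans (MulEquiv.subgroupCongr hφ)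
  refine ⟨?_, ⟨ψ⟩⟩
  rw [← Nat.card_congr ψ.toEquiv]
  have h1 := card_symplecticGroup (F := K) 2
  rw [Subgroup.card_eq_card_quotient_mul_card_subgroup (Subgroup.center (Matrix.symplecticGroup (Fin 2) K)),
    card_center_symplecticGroup (F := K) (by norm_num : 1 ≤ 2), Nat.card_eq_fintype_card (α := K), hK] at h1
  norm_num [Finset.prod_range_succ] at h1
  have h0 : Nat.card (Cfsg.PSp 2 K) * 2 = 51840 := by rw [Nat.card_eq_fintype_card]; exact h1
  omega

theorem hermForm_four {F : Type u} [Field F] (x y : Fin 4 → F) :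
    Cfsg.hermForm 4 F 2 x y = x 0 * y 0 ^ 2 + x 1 * y 1 ^ 2 + x 2 * y 2 ^ 2 + x 3 * y 3 ^ 2 := by
  simp [Cfsg.hermForm, Fin.sum_univ_four]

theorem refl_form {F : Type u} [Field F] [CharP F 2] {u : Fin 4 → F} {s : F}
    (h1 : Cfsg.hermForm 4 F 2 u u = 1) (hu4 : ∀ k, (u k ^ 2) ^ 2 = u k) (hs3 : s * s ^ 2 = 1)
    (hs : s + s ^ 2 + s * s ^ 2 = 0) (x y : Fin 4 → F) :
    Cfsg.hermForm 4 F 2 (fun k => s * (x k + s * (Cfsg.hermForm 4 F 2 x u * u k)))
      (fun k => s * (y k + s * (Cfsg.hermForm 4 F 2 y u * u k))) = Cfsg.hermForm 4 F 2 x y := by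
  set A := Cfsg.hermForm 4 F 2 x u with hA
  set B := Cfsg.hermForm 4 F 2 y u with hB
  have hB2 : B ^ 2 = ∑ k, u k * y k ^ 2 := by
    rw [hB, Cfsg.hermForm, CharTwo.sum_sq]
    exact Finset.sum_congr rfl fun k _ => by rw [mul_pow, hu4, mul_comm]
  have e : ∀ k, s * (x k + s * (A * u k)) * (s * (y k + s * (B * u k))) ^ 2 =
      (s * s ^ 2) * (x k * y k ^ 2 + (s * A) * (u k * y k ^ 2) + (s * B) ^ 2 * (x k * u k ^ 2) +
        (s * A) * (s * B) ^ 2 * (u k * u k ^ 2)) := by
    intro k
    rw [mul_pow, CharTwo.add_sq]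
    ring
  simp only [Cfsg.hermForm] at h1 hA ⊢
  simp only [e, ← Finset.mul_sum, Finset.sum_add_distrib]
  rw [← hB2, ← hA, h1, hs3, one_mul]
  linear_combination (A * B ^ 2) * hs

theorem unitary {F : Type u} [Field F] [Fintype F] (hF : Fintype.card F = 4) (hM : Nat.card model = 25920) :
    Nonempty (Cfsg.PSU 4 F 2 ≃* model) := by
  classical
  haveI : Fact (Nat.Prime 2) := ⟨by norm_num⟩
  haveI : CharP F 2 := charP_of_card_eq_prime_pow (R := F) (f := 2) (by rw [hF]; norm_num)
  have h2 : (2 : F) = 0 := CharTwo.two_eq_zero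
  have h4 : ∀ a : F, a ^ 4 = a := fun a => by have := FiniteField.pow_card a; rwa [hF] at this
  obtain ⟨w, -, hw⟩ := Finset.exists_mem_notMem_of_card_lt_card (s := ({0, 1} : Finset F)) (t := Finset.univ) (by
    rw [Finset.card_univ, hF]; exact lt_of_le_of_lt Finset.card_le_two (by norm_num))
  simp only [Finset.mem_insert, Finset.mem_singleton, not_or] at hw
  have hw2 : w * w = w + 1 := by
    have h0 : w * ((w - 1) * (w * w + w + 1)) = 0 := by linear_combination h4 w
    rcases mul_eq_zero.mp h0 with h | h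
    · exact absurd h hw.1
    rcases mul_eq_zero.mp h with h | h
    · exact absurd (sub_eq_zero.mp h) hw.2
    · linear_combination h - (w + 1) * h2
  let e : Fin 4 → F := ![0, 1, w, w + 1]
  have e0 : e 0 = 0 := rfl
  have e3 : e 3 = w + 1 := rfl
  have hadd : ∀ a b, e (add4 a b) = e a + e b := by
    intro a b
    fin_cases a <;> fin_cases b <;> simp [e, add4] <;> grind
  have hmul : ∀ a b, e (mul4 a b) = e a * e b := by
    intro a b
    fin_cases a <;> fin_cases b <;> simp [e, mul4] <;> grind
  have he : Function.Bijective e := by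
    refine (Fintype.bijective_iff_injective_and_card _).mpr ⟨?_, by rw [Fintype.card_fin, hF]⟩
    intro a b h
    fin_cases a <;> fin_cases b <;> simp [e] at h ⊢ <;> grind
  let v : Fin 40 → (Fin 4 → F) := fun i k => e (uv i k)
  have hherm : ∀ x y : Fin 4 → Fin 4, Cfsg.hermForm 4 F 2 (e ∘ x) (e ∘ y) = e (herm4 x y) := by
    intro x y
    rw [hermForm_four]
    simp only [herm4, hadd, hmul, Function.comp_apply, sq]
  have hvn : ∀ i, Cfsg.hermForm 4 F 2 (v i) (v i) = 1 := fun i => (hherm _ _).trans (by rw [uv_norm]; rfl)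
  have hdep : ∀ i j (c : F), v i = c • v j → i = j := by
    intro i j c h
    obtain ⟨c', rfl⟩ := he.2 c
    exact uv_dep i j c' fun k => he.1 (by rw [hmul]; exact congrFun h k)
  have hany : ∀ x : Fin 4 → F, Cfsg.hermForm 4 F 2 x x = 1 → ∃ j, ∃ c : F, c ≠ 0 ∧ x = c • v j := by
    intro x hx
    choose x' hx' using fun k => he.2 (x k)
    have hxe : x = e ∘ x' := funext fun k => (hx' k).symm
    rw [hxe, hherm] at hx
    obtain ⟨i, c, hc, hci⟩ := uv_total x' (he.1 (hx.trans rfl))
    refine ⟨i, e c, fun h0 => hc (he.1 h0), funext fun k => ?_⟩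
    rw [← hx', hci, hmul]
    rfl
  let ρ : Cfsg.SU 4 F 2 →* Matrix (Fin 4) (Fin 4) F := (Cfsg.slToMat 4 F).comp (Cfsg.SU 4 F 2).subtype
  have hpres : ∀ (g : Cfsg.SU 4 F 2) (x : Fin 4 → F),
      Cfsg.hermForm 4 F 2 (ρ g *ᵥ x) (ρ g *ᵥ x) = Cfsg.hermForm 4 F 2 x x := fun g x => g.2 x x
  obtain ⟨f, hf⟩ := exists_action ρ v hdep fun g i => hany _ (by rw [hpres, hvn])
  have hs : ∀ i, ∃ g : Cfsg.SU 4 F 2, f g = tp i := by
    intro i
    set u := v i with hu
    have hu4 : ∀ k, (u k ^ 2) ^ 2 = u k := fun k => by rw [← pow_mul]; exact h4 _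
    set M : Matrix (Fin 4) (Fin 4) F :=
      (w + 1) • (1 + Matrix.vecMulVec u (fun k => (w + 1) * u k ^ 2)) with hM
    have hMx : ∀ x : Fin 4 → F, M *ᵥ x = fun k => (w + 1) * (x k + (w + 1) * (Cfsg.hermForm 4 F 2 x u * u k)) := by
      intro x
      funext k
      simp [hM, Matrix.mulVec, dotProduct, Fin.sum_univ_four, Matrix.vecMulVec_apply, hermForm_four,
        Matrix.one_apply]
      fin_cases k <;> simp <;> ring
    have hdot : (fun k => (w + 1) * u k ^ 2) ⬝ᵥ u = w + 1 := by
      have h1 := hvn i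
      rw [← hu, hermForm_four] at h1
      simp only [dotProduct, Fin.sum_univ_four]
      linear_combination (w + 1) * h1
    have hdet : M.det = 1 := by
      rw [hM, Matrix.det_smul, Matrix.vecMulVec_eq Unit,
        Matrix.det_one_add_replicateCol_mul_replicateRow, hdot, Fintype.card_fin, h4]
      linear_combination hw2 + (2 * w + 1) * h2
    have hform : ∀ x y, Cfsg.hermForm 4 F 2 (M *ᵥ x) (M *ᵥ y) = Cfsg.hermForm 4 F 2 x y := by
      intro x y
      have h1 := hvn i
      rw [← hu] at h1
      have hw3 : (w + 1) * (w + 1) ^ 2 = 1 := by grind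
      have hcube : (w + 1) + (w + 1) ^ 2 + (w + 1) * (w + 1) ^ 2 = 0 := by grind
      rw [hMx, hMx]
      exact refl_form h1 hu4 hw3 hcube x y
    refine ⟨⟨⟨M, hdet⟩, hform⟩, Equiv.ext fun j => ?_⟩
    obtain ⟨c, hc, hcj⟩ := refl_table i j
    refine hf _ _ _ (e c) (fun h0 => hc (he.1 h0)) ?_
    change M *ᵥ v j = _
    rw [hMx]
    funext k
    rw [Pi.smul_apply, smul_eq_mul]
    have := congrArg e (hcj k)
    rw [refl4, hmul, hadd, hmul, hmul, hmul, ← hherm, e3] at this
    exact this
  have hker := center_le_ker f fun i => by obtain ⟨g, hg⟩ := hs i; exact ⟨g, hg⟩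
  let φ : Cfsg.PSU 4 F 2 →* Equiv.Perm (Fin 40) := QuotientGroup.lift _ f hker
  have hle : model ≤ φ.range := (Subgroup.closure_le _).mpr (by
    rintro _ ⟨i, rfl⟩
    obtain ⟨g, hg⟩ := hs i
    exact ⟨QuotientGroup.mk g, hg⟩)
  have hcard : Nat.card (Cfsg.PSU 4 F 2) = 25920 := by
    have h1 := Cfsg.Agent.S0280.result (F := F) (q := 2) (by rw [hF]; norm_num) 4 (by norm_num)
    norm_num [Finset.prod_range_succ, Nat.even_iff] at h1
    rw [Nat.card_eq_fintype_card]; omega
  have hsurj : Function.Surjective φ.rangeRestrict := MonoidHom.rangeRestrict_surjective φ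
  have h1 := Nat.card_le_card_of_surjective _ hsurj
  have h2' := Subgroup.card_le_of_le hle
  have heq : φ.range = model := (Subgroup.eq_of_le_of_card_ge hle (by omega)).symm
  have hbij : Function.Bijective φ.rangeRestrict :=
    (Nat.bijective_iff_surjective_and_card _).mpr ⟨hsurj, by omega⟩
  exact ⟨(MulEquiv.ofBijective _ hbij).trans (MulEquiv.subgroupCongr heq)⟩

theorem main {F : Type u} {K : Type*} [Field F] [Fintype F] [Field K] [Fintype K] (hF : Fintype.card F = 4)
    (hK : Fintype.card K = 3) : Nonempty (Cfsg.PSU 4 F 2 ≃* Cfsg.PSp 2 K) := by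
  obtain ⟨hM, ⟨a⟩⟩ := symplectic hK
  obtain ⟨b⟩ := unitary hF hM
  exact ⟨b.trans a.symm⟩

end Cfsg.Lib.Classical.FortyPoints
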