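import Mathlib

/-! Irredundant bases of permutation groups (Cameron and Fon-Der-Flaass). -/

set_option autoImplicit false

namespace Cfsg.Lib.Classical.Ibis

universe u v

variable {G : Type u} [Group G] {Ω : Type v} [MulAction G Ω]

/-- `f` is a base for `H`. -/
def IsBase (H : Subgroup G) {t : ℕ} (f : Fin t → Ω) : Prop :=
  ∀ g ∈ H, (∀ i, g • f i = f i) → g = 1

/-- No point of `f` is fixed by the stabiliser of its predecessors. -/
def IsIrr (H : Subgroup G) {t : ℕ} (f : Fin t → Ω) : Prop :=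
  ∀ i, ∃ g ∈ H, (∀ j, j < i → g • f j = f j) ∧ g • f i ≠ f i

theorem cons_iff (H : Subgroup G) (a : Ω) {t : ℕ} (f : Fin t → Ω) :
    (IsBase H (Fin.cons a f : Fin (t + 1) → Ω) ∧ IsIrr H (Fin.cons a f : Fin (t + 1) → Ω)) ↔
      (∃ g ∈ H, g • a ≠ a) ∧
        IsBase (H ⊓ MulAction.stabilizer G a) f ∧ IsIrr (H ⊓ MulAction.stabilizer G a) f := by
  constructor
  · rintro ⟨hb, hi⟩
    refine ⟨?_, ?_, ?_⟩
    · obtain ⟨g, hg, -, hm⟩ := hi 0
      exact ⟨g, hg, by simpa using hm⟩
    · intro g hg hfix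
      have h2 : g • a = a := hg.2
      refine hb g hg.1 fun i => ?_
      induction i using Fin.cases with
      | zero => simpa using h2
      | succ i => simpa using hfix i
    · intro i
      obtain ⟨g, hg, hlt, hm⟩ := hi i.succ
      refine ⟨g, ⟨hg, ?_⟩, fun j hj => ?_, by simpa using hm⟩
      · show g • a = a
        simpa using hlt 0 (Fin.succ_pos i)
      · simpa using hlt j.succ (Fin.succ_lt_succ_iff.mpr hj)
  · rintro ⟨⟨g, hg, hm⟩, hb, hi⟩
    refine ⟨fun k hk hfix => hb k ⟨hk, by simpa using hfix 0⟩ fun i => by simpa using hfix i.succ, ?_⟩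
    intro i
    induction i using Fin.cases with
    | zero => exact ⟨g, hg, fun j hj => absurd hj (Fin.not_lt_zero j), by simpa using hm⟩
    | succ i =>
      obtain ⟨k, hk, hlt, hkm⟩ := hi i
      refine ⟨k, hk.1, fun j hj => ?_, by simpa using hkm⟩
      induction j using Fin.cases with
      | zero => have h2 : k • a = a := hk.2; simpa using h2
      | succ j => simpa using hlt j (Fin.succ_lt_succ_iff.mp hj)

theorem prune (H : Subgroup G) : ∀ (t : ℕ) (f : Fin t → Ω), IsBase H f →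
    ∃ (r : ℕ) (f' : Fin r → Ω), r ≤ t ∧ IsBase H f' ∧ IsIrr H f' ∧ (¬ IsIrr H f → r < t) := by
  intro t
  induction t with
  | zero => exact fun f hf => ⟨0, f, le_rfl, hf, fun i => i.elim0, fun h => (h fun i => i.elim0).elim⟩
  | succ t ih =>
    intro f hf
    by_cases hi : IsIrr H f
    · exact ⟨t + 1, f, le_rfl, hf, hi, fun h => absurd hi h⟩
    rw [IsIrr] at hi
    push Not at hi
    obtain ⟨i, hi⟩ := hi
    have hb : IsBase H (f ∘ i.succAbove) := fun g hg hfix => by
      refine hf g hg fun j => ?_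
      have hne : ∀ j, j ≠ i → g • f j = f j := fun j hj => by
        obtain ⟨k, rfl⟩ := Fin.exists_succAbove_eq hj
        exact hfix k
      by_cases hj : j = i
      · subst hj; exact hi g hg fun k hk => hne k hk.ne
      · exact hne j hj
    obtain ⟨r, f', hr, hb', hi', -⟩ := ih _ hb
    exact ⟨r, f', by omega, hb', hi', fun _ => by omega⟩

/-- Irredundant bases of `H` stay irredundant under reordering. -/
def Reorder (Ω : Type v) [MulAction G Ω] (H : Subgroup G) : Prop :=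
  ∀ (t : ℕ) (f : Fin t → Ω) (σ : Equiv.Perm (Fin t)), IsBase H f → IsIrr H f → IsIrr H (f ∘ σ)

theorem base_comp (H : Subgroup G) {t : ℕ} (f : Fin t → Ω) (σ : Equiv.Perm (Fin t)) (hb : IsBase H f) :
    IsBase H (f ∘ σ) := fun g hg h => hb g hg fun i => by simpa using h (σ.symm i)

theorem reorder_stab {H : Subgroup G} (hR : Reorder Ω H) {a : Ω} (ha : ∃ g ∈ H, g • a ≠ a) :
    Reorder Ω (H ⊓ MulAction.stabilizer G a) := by
  intro t f σ hb hi
  obtain ⟨h1, h2⟩ := (cons_iff H a f).mpr ⟨ha, hb, hi⟩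
  let τ : Equiv.Perm (Fin (t + 1)) := Equiv.Perm.decomposeFin.symm (0, σ)
  have hτ : (Fin.cons a f : Fin (t + 1) → Ω) ∘ τ = Fin.cons a (f ∘ σ) := by
    funext i
    induction i using Fin.cases with
    | zero => simp [τ]
    | succ i => simp [τ]
  have h3 := hR _ _ τ h1 h2
  have h4 := base_comp H _ τ h1
  rw [hτ] at h3 h4
  exact ((cons_iff H a (f ∘ σ)).mp ⟨h4, h3⟩).2.2

theorem length_eq [Finite G] : ∀ (n : ℕ) (H : Subgroup G), Nat.card H ≤ n → Reorder Ω H →
    ∀ {t t' : ℕ} (f : Fin t → Ω) (f' : Fin t' → Ω), IsBase H f → IsIrr H f → IsBase H f' → IsIrr H f' →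
      t = t' := by
  intro n
  induction n with
  | zero =>
    intro H hH
    have := Nat.card_pos (α := H)
    omega
  | succ n ih =>
    intro H hH hR t t' f f' hb hi hb' hi'
    rcases t with _ | s
    · rcases t' with _ | s'
      · rfl
      · obtain ⟨g, hg, -, hm⟩ := hi' 0
        exact absurd (by rw [hb g hg fun i => i.elim0, one_smul]) hm
    rcases t' with _ | s'
    · obtain ⟨g, hg, -, hm⟩ := hi 0
      exact absurd (by rw [hb' g hg fun i => i.elim0, one_smul]) hm
    obtain ⟨a, f, rfl⟩ : ∃ a f₀, f = Fin.cons a f₀ := ⟨f 0, Fin.tail f, (Fin.cons_self_tail f).symm⟩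
    obtain ⟨b, f', rfl⟩ : ∃ b f₀, f' = Fin.cons b f₀ := ⟨f' 0, Fin.tail f', (Fin.cons_self_tail f').symm⟩
    obtain ⟨hma, hba, hia⟩ := (cons_iff H a f).mp ⟨hb, hi⟩
    obtain ⟨hmb, hbb, hib⟩ := (cons_iff H b f').mp ⟨hb', hi'⟩
    have hlt : ∀ {c : Ω}, (∃ g ∈ H, g • c ≠ c) → Nat.card ↥(H ⊓ MulAction.stabilizer G c) ≤ n := by
      intro c ⟨g, hg, hm⟩
      have hlt : Nat.card ↥(H ⊓ MulAction.stabilizer G c) < Nat.card H := by
        refine lt_of_le_of_ne (Subgroup.card_le_of_le inf_le_left) fun h => hm ?_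
        have := Subgroup.eq_of_le_of_card_ge (inf_le_left : H ⊓ MulAction.stabilizer G c ≤ H) h.ge
        exact (this.symm ▸ hg : g ∈ H ⊓ MulAction.stabilizer G c).2
      omega
    have both : ∀ {a b : Ω} {s s' : ℕ} (f : Fin s → Ω) (f' : Fin s' → Ω), (∃ g ∈ H, g • a ≠ a) →
        (∃ g ∈ H, g • b ≠ b) → IsBase (H ⊓ MulAction.stabilizer G a) f → IsIrr (H ⊓ MulAction.stabilizer G a) f →
        IsBase (H ⊓ MulAction.stabilizer G b) f' → IsIrr (H ⊓ MulAction.stabilizer G b) f' →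
        (∃ g ∈ H ⊓ MulAction.stabilizer G a, g • b ≠ b) → s = s' := by
      intro a b s s' f f' hma hmb hba hia hbb hib hab
      obtain ⟨r, h, -, hbh, hih, -⟩ := prune (H ⊓ MulAction.stabilizer G a ⊓ MulAction.stabilizer G b) s f
        (fun g hg => hba g hg.1)
      obtain ⟨hb1, hi1⟩ := (cons_iff _ b h).mpr ⟨hab, hbh, hih⟩
      have e1 : s = r + 1 := ih _ (hlt hma) (reorder_stab hR hma) f _ hba hia hb1 hi1
      obtain ⟨hb2, hi2⟩ := (cons_iff H a _).mpr ⟨hma, hb1, hi1⟩
      have hsw : (Fin.cons a (Fin.cons b h : Fin (r + 1) → Ω) : Fin (r + 2) → Ω) ∘ Equiv.swap 0 1 =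
          Fin.cons b (Fin.cons a h : Fin (r + 1) → Ω) := by
        funext i
        induction i using Fin.cases with
        | zero => simp
        | succ i =>
          induction i using Fin.cases with
          | zero => simp
          | succ i =>
            rw [Function.comp_apply, Equiv.swap_apply_of_ne_of_ne (Fin.succ_ne_zero _) ]
            · simp
            · exact fun h' => Fin.succ_ne_zero _ (Fin.succ_injective _ (h'.trans Fin.succ_zero_eq_one.symm))
      have hb3 := base_comp H _ (Equiv.swap 0 1) hb2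
      have hi3 := hR _ _ (Equiv.swap 0 1) hb2 hi2
      rw [hsw] at hb3 hi3
      obtain ⟨-, hb4, hi4⟩ := (cons_iff H b _).mp ⟨hb3, hi3⟩
      have e2 : s' = r + 1 := ih _ (hlt hmb) (reorder_stab hR hmb) f' _ hbb hib hb4 hi4
      omega
    by_cases h1 : ∃ g ∈ H ⊓ MulAction.stabilizer G a, g • b ≠ b
    · rw [both f f' hma hmb hba hia hbb hib h1]
    by_cases h2 : ∃ g ∈ H ⊓ MulAction.stabilizer G b, g • a ≠ a
    · rw [both f' f hmb hma hbb hib hba hia h2]
    push Not at h1 h2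
    have heq : H ⊓ MulAction.stabilizer G a = H ⊓ MulAction.stabilizer G b :=
      le_antisymm (fun g hg => ⟨hg.1, h1 g hg⟩) (fun g hg => ⟨hg.1, h2 g hg⟩)
    rw [heq] at hba hia
    rw [ih _ (hlt hmb) (reorder_stab hR hmb) f f' hba hia hbb hib]

theorem ibis_iff [Finite G] :
    (∀ (t t' : ℕ) (f : Fin t → Ω) (f' : Fin t' → Ω), IsBase (⊤ : Subgroup G) f ∧ IsIrr (⊤ : Subgroup G) f →
      IsBase (⊤ : Subgroup G) f' ∧ IsIrr (⊤ : Subgroup G) f' → t = t') ↔ Reorder Ω (⊤ : Subgroup G) := by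
  constructor
  · intro h t f σ hb hi
    by_contra hni
    obtain ⟨r, f', hr, hb', hi', hlt⟩ := prune ⊤ t (f ∘ σ) (base_comp ⊤ f σ hb)
    have := h t r f f' ⟨hb, hi⟩ ⟨hb', hi'⟩
    have := hlt hni
    omega
  · intro h t t' f f' hf hf'
    exact length_eq (Nat.card (⊤ : Subgroup G)) ⊤ le_rfl h f f' hf.1 hf.2 hf'.1 hf'.2

end Cfsg.Lib.Classical.Ibis
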