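import Mathlib

/-! Maximality of imprimitive wreath products in symmetric and alternating groups. -/

set_option autoImplicit false
set_option linter.style.haveILetI false

namespace Cfsg.Lib.Classical.Imprimitive

open Equiv MulAction
open scoped Pointwise

universe u

variable {Ω : Type u} [Fintype Ω] [DecidableEq Ω]

/-- The stabiliser of the partition into the fibres of `f`. -/
def part {b : ℕ} (f : Ω → Fin b) : Subgroup (Perm Ω) where
  carrier := {g | ∀ x y : Ω, f x = f y ↔ f (g x) = f (g y)}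
  one_mem' := fun _ _ => Iff.rfl
  mul_mem' := fun {g h} hg hh x y => (hh x y).trans (hg (h x) (h y))
  inv_mem' := fun {g} hg x y => by simpa using (hg (g⁻¹ x) (g⁻¹ y)).symm

theorem closure_eq {b : ℕ} (f : Ω → Fin b) :
    Subgroup.closure {g : Perm Ω | ∀ x y : Ω, f x = f y ↔ f (g x) = f (g y)} = part f :=
  Subgroup.closure_eq (part f)

theorem exists_two {α : Type*} [DecidableEq α] {x y x' y' : α} (h : x ≠ y) (h' : x' ≠ y') :
    ∃ p : Perm α, p x = x' ∧ p y = y' := by
  have hne : x' ≠ swap x x' y := by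
    intro e
    exact h ((swap x x').injective (by rw [swap_apply_left]; exact e))
  refine ⟨swap (swap x x' y) y' * swap x x', ?_, ?_⟩
  · rw [Perm.mul_apply, swap_apply_left, swap_apply_of_ne_of_ne hne h']
  · rw [Perm.mul_apply, swap_apply_left]

section Coord

variable {a b : ℕ} (e : Ω ≃ Fin b × Fin a)

/-- The element with block part `π` and parts `σ`. -/
def build (π : Perm (Fin b)) (σ : Fin b → Perm (Fin a)) : Perm Ω :=
  e.symm.permCongr ((Equiv.prodCongrLeft fun _ => π : Perm (Fin b × Fin a)) * Equiv.prodCongrRight σ)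

theorem build_apply (π : Perm (Fin b)) (σ : Fin b → Perm (Fin a)) (i : Fin b) (j : Fin a) :
    build e π σ (e.symm (i, j)) = e.symm (π i, σ i j) := by
  simp [build]

theorem build_mem {f : Ω → Fin b} (he : ∀ x, (e x).1 = f x) (π : Perm (Fin b)) (σ : Fin b → Perm (Fin a)) :
    build e π σ ∈ part f := by
  intro x y
  obtain ⟨⟨i, j⟩, rfl⟩ := e.symm.surjective x
  obtain ⟨⟨k, l⟩, rfl⟩ := e.symm.surjective y
  simp [← he, build_apply]

theorem exists_move {f : Ω → Fin b} (he : ∀ x, (e x).1 = f x) {u v u' v' : Ω} (huv : u ≠ v) (huv' : u' ≠ v')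
    (h : f u = f v ↔ f u' = f v') : ∃ g ∈ part f, g u = u' ∧ g v = v' := by
  classical
  obtain ⟨⟨i, j⟩, rfl⟩ := e.symm.surjective u
  obtain ⟨⟨k, l⟩, rfl⟩ := e.symm.surjective v
  obtain ⟨⟨i', j'⟩, rfl⟩ := e.symm.surjective u'
  obtain ⟨⟨k', l'⟩, rfl⟩ := e.symm.surjective v'
  simp only [← he, Equiv.apply_symm_apply] at h
  by_cases hik : i = k
  · subst hik
    obtain rfl : i' = k' := h.mp rfl
    obtain ⟨τ, h1, h2⟩ := exists_two (fun hh : j = l => huv (by rw [hh])) (fun hh : j' = l' => huv' (by rw [hh]))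
    refine ⟨build e (swap i i') (fun _ => τ), build_mem e he _ _, ?_, ?_⟩ <;> simp [build_apply, h1, h2]
  · obtain ⟨π, h1, h2⟩ := exists_two hik (fun hh => hik (h.mpr hh))
    refine ⟨build e π (fun m => if m = i then swap j j' else swap l l'), build_mem e he _ _, ?_, ?_⟩
    · simp [build_apply, h1]
    · simp [build_apply, h2, Ne.symm hik]

theorem swap_mem {f : Ω → Fin b} {x y : Ω} (h : f x = f y) : swap x y ∈ part f := by
  have key : ∀ z, f (swap x y z) = f z := by
    intro z
    by_cases h1 : z = x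
    · subst h1; rw [swap_apply_left, h]
    by_cases h2 : z = y
    · subst h2; rw [swap_apply_right, h]
    rw [swap_apply_of_ne_of_ne h1 h2]
  intro u v
  rw [key, key]

theorem exists_odd_fix {f : Ω → Fin b} (he : ∀ x, (e x).1 = f x) (ha : 2 ≤ a) (hb : 2 ≤ b)
    (hab : ¬ (a = 2 ∧ b = 2)) (u v : Ω) :
    ∃ g ∈ part f, Perm.sign g = -1 ∧ g u = u ∧ g v = v := by
  classical
  suffices h : ∃ p q : Ω, p ≠ q ∧ f p = f q ∧ (p ≠ u ∧ q ≠ u) ∧ p ≠ v ∧ q ≠ v by
    obtain ⟨p, q, hpq, hf, ⟨h1, h2⟩, h3, h4⟩ := h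
    exact ⟨swap p q, swap_mem hf, Perm.sign_swap hpq, swap_apply_of_ne_of_ne h1.symm h2.symm,
      swap_apply_of_ne_of_ne h3.symm h4.symm⟩
  by_cases hfree : ∃ m : Fin b, m ≠ f u ∧ m ≠ f v
  · obtain ⟨m, hmu, hmv⟩ := hfree
    have hm : ∀ j, f (e.symm (m, j)) = m := fun j => by rw [← he, Equiv.apply_symm_apply]
    refine ⟨e.symm (m, ⟨0, by omega⟩), e.symm (m, ⟨1, by omega⟩), ?_, by rw [hm, hm], ⟨?_, ?_⟩, ?_, ?_⟩
    · intro h
      simpa using e.symm.injective h
    all_goals first
      | exact fun h => hmu (by rw [← h, hm])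
      | exact fun h => hmv (by rw [← h, hm])
  push Not at hfree
  have hb2 : b = 2 := by
    by_contra hb2
    obtain ⟨m, -, hm⟩ := Finset.exists_mem_notMem_of_card_lt_card
      (s := ({f u, f v} : Finset (Fin b))) (t := Finset.univ) (by
        have := Finset.card_le_two (a := f u) (b := f v)
        rw [Finset.card_univ, Fintype.card_fin]; omega)
    simp only [Finset.mem_insert, Finset.mem_singleton, not_or] at hm
    exact hm.2 (hfree m hm.1)
  have ha3 : 3 ≤ a := by omega
  have hne : f u ≠ f v := by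
    intro h
    obtain ⟨m, hm⟩ := Fintype.exists_ne_of_one_lt_card (α := Fin b) (by simp; omega) (f u)
    exact hm ((hfree m hm).trans h.symm)
  have : 1 < ((Finset.univ : Finset (Fin a)).erase (e u).2).card := by simp; omega
  obtain ⟨j, hj, k, hk, hjk⟩ := Finset.one_lt_card.mp this
  simp only [Finset.mem_erase, Finset.mem_univ, and_true] at hj hk
  have hm : ∀ j, f (e.symm (f u, j)) = f u := fun j => by rw [← he, Equiv.apply_symm_apply]
  refine ⟨e.symm (f u, j), e.symm (f u, k), ?_, by rw [hm, hm], ⟨?_, ?_⟩, ?_, ?_⟩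
  · intro h
    exact hjk (congrArg Prod.snd (e.symm.injective h))
  · intro h; exact hj (by rw [← h, Equiv.apply_symm_apply])
  · intro h; exact hk (by rw [← h, Equiv.apply_symm_apply])
  · intro h; exact hne (by rw [← h, hm])
  · intro h; exact hne (by rw [← h, hm])

theorem exists_even_move {f : Ω → Fin b} (he : ∀ x, (e x).1 = f x) (ha : 2 ≤ a) (hb : 2 ≤ b)
    (hab : ¬ (a = 2 ∧ b = 2)) {u v u' v' : Ω} (huv : u ≠ v) (huv' : u' ≠ v')
    (h : f u = f v ↔ f u' = f v') : ∃ g ∈ part f, Perm.sign g = 1 ∧ g u = u' ∧ g v = v' := by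
  obtain ⟨g, hg, h1, h2⟩ := exists_move e he huv huv' h
  rcases Int.units_eq_one_or (Perm.sign g) with hs | hs
  · exact ⟨g, hg, hs, h1, h2⟩
  · obtain ⟨w, hw, hws, hw1, hw2⟩ := exists_odd_fix e he ha hb hab u v
    exact ⟨g * w, mul_mem hg hw, by rw [map_mul, hs, hws]; rfl, by rw [Perm.mul_apply, hw1, h1],
      by rw [Perm.mul_apply, hw2, h2]⟩

theorem card_part {f : Ω → Fin b} (he : ∀ x, (e x).1 = f x) (ha : 1 ≤ a) :
    Nat.card (part f) = b.factorial * a.factorial ^ b := by
  have hbij : Function.Bijective (fun p : Perm (Fin b) × (Fin b → Perm (Fin a)) =>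
      (⟨build e p.1 p.2, build_mem e he p.1 p.2⟩ : part f)) := by
    constructor
    · rintro ⟨π, σ⟩ ⟨π', σ'⟩ h
      have hv : ∀ i j, (π i, σ i j) = (π' i, σ' i j) := fun i j => by
        have := congrArg (fun g : part f => (g : Perm Ω) (e.symm (i, j))) h
        simpa [build_apply] using this
      refine Prod.ext (Equiv.ext fun i => (Prod.ext_iff.mp (hv i ⟨0, ha⟩)).1) (funext fun i => Equiv.ext fun j => ?_)
      exact (Prod.ext_iff.mp (hv i j)).2
    · rintro ⟨g, hg⟩
      have hrel : ∀ i k j l, i = k ↔ (e (g (e.symm (i, j)))).1 = (e (g (e.symm (k, l)))).1 := by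
        intro i k j l
        have := hg (e.symm (i, j)) (e.symm (k, l))
        simpa [← he] using this
      have h1 : Function.Bijective (fun i => (e (g (e.symm (i, ⟨0, ha⟩)))).1) :=
        Finite.injective_iff_bijective.mp fun i k h => (hrel i k ⟨0, ha⟩ ⟨0, ha⟩).mpr h
      have h2 : ∀ i, Function.Bijective (fun j => (e (g (e.symm (i, j)))).2) := fun i =>
        Finite.injective_iff_bijective.mp fun j l h => by
          have e1 := (hrel i i j l).mp rfl
          have := e.symm.injective (g.injective (e.injective (Prod.ext e1 h)))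
          exact (Prod.ext_iff.mp this).2
      refine ⟨⟨Equiv.ofBijective _ h1, fun i => Equiv.ofBijective _ (h2 i)⟩, Subtype.ext (Equiv.ext fun x => ?_)⟩
      obtain ⟨⟨i, j⟩, rfl⟩ := e.symm.surjective x
      simp only [build_apply, Equiv.ofBijective_apply]
      apply e.injective
      rw [Equiv.apply_symm_apply]
      exact Prod.ext ((hrel i i ⟨0, ha⟩ j).mp rfl) rfl
  rw [← Nat.card_congr (Equiv.ofBijective _ hbij), Nat.card_prod, Nat.card_pi, Finset.prod_const,
    Nat.card_perm, Nat.card_perm, Nat.card_fin, Nat.card_fin, Finset.card_univ, Fintype.card_fin]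

end Coord

theorem exists_coord {a b : ℕ} (f : Ω → Fin b) (hf : ∀ i : Fin b, Nat.card {x : Ω // f x = i} = a) :
    ∃ e : Ω ≃ Fin b × Fin a, ∀ x, (e x).1 = f x :=
  ⟨((Equiv.sigmaFiberEquiv f).symm.trans
    (Equiv.sigmaCongrRight fun i => Finite.equivFinOfCardEq (hf i))).trans (Equiv.sigmaEquivProd _ _), fun _ => rfl⟩

/-- An overgroup of enough of the wreath product is primitive or preserves the partition. -/
theorem isPreprimitive_of {a b : ℕ} {f : Ω → Fin b} (e : Ω ≃ Fin b × Fin a) (he : ∀ x, (e x).1 = f x)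
    (ha : 2 ≤ a) (hb : 2 ≤ b) (M : Subgroup (Perm Ω))
    (hmove : ∀ u v u' v' : Ω, u ≠ v → u' ≠ v' → (f u = f v ↔ f u' = f v') →
      ∃ g ∈ M, g ∈ part f ∧ g u = u' ∧ g v = v')
    (hM : ∃ g ∈ M, ∃ x y, f x = f y ∧ f (g x) ≠ f (g y)) : IsPreprimitive M Ω := by
  classical
  have other : ∀ x : Ω, ∃ y, f y ≠ f x := fun x => by
    obtain ⟨m, hm⟩ := Fintype.exists_ne_of_one_lt_card (α := Fin b) (by simp; omega) (f x)
    exact ⟨e.symm (m, ⟨0, by omega⟩), by rwa [← he, Equiv.apply_symm_apply]⟩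
  have same : ∀ x : Ω, ∃ y, y ≠ x ∧ f y = f x := fun x => by
    obtain ⟨j, hj⟩ := Fintype.exists_ne_of_one_lt_card (α := Fin a) (by simp; omega) (e x).2
    refine ⟨e.symm (f x, j), fun h => hj ?_, by rw [← he, Equiv.apply_symm_apply]⟩
    rw [← h, Equiv.apply_symm_apply]
  have htrans : IsPretransitive M Ω := ⟨fun u u' => by
    obtain ⟨v, hv⟩ := other u
    obtain ⟨v', hv'⟩ := other u'
    obtain ⟨g, hg, -, h1, -⟩ := hmove u v u' v' (fun h => hv (h ▸ rfl)) (fun h => hv' (h ▸ rfl))
      ⟨fun h => absurd h.symm hv, fun h => absurd h.symm hv'⟩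
    exact ⟨⟨g, hg⟩, h1⟩⟩
  obtain ⟨g₀, hg₀, x₀, y₀, hxy, hgxy⟩ := hM
  refine IsPreprimitive.of_isTrivialBlock_base (G := M) x₀ fun {B} hxB hB => ?_
  by_cases hsub : B.Subsingleton
  · exact Or.inl hsub
  obtain ⟨y, hyB, hyx⟩ : ∃ y ∈ B, y ≠ x₀ := by
    by_contra hh
    push Not at hh
    exact hsub fun p hp q hq => (hh p hp).trans (hh q hq).symm
  have hclose : ∀ {y : Ω}, y ∈ B → y ≠ x₀ → ∀ z, z ≠ x₀ → (f x₀ = f y ↔ f x₀ = f z) → z ∈ B := by
    intro y hyB hyx z hz hrel
    obtain ⟨g, hg, -, h1, h2⟩ := hmove x₀ y x₀ z hyx.symm hz.symm hrel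
    have hfix : (⟨g, hg⟩ : M) • B = B := hB.smul_eq_of_mem hxB (show g x₀ ∈ B by rw [h1]; exact hxB)
    rw [← hfix]
    exact ⟨y, hyB, h2⟩
  by_cases hother : ∃ z ∈ B, f z ≠ f x₀
  · right
    obtain ⟨z, hzB, hzf⟩ := hother
    have hall : ∀ w, f w ≠ f x₀ → w ∈ B := fun w hw =>
      hclose hzB (fun h => hzf (by rw [h])) w (fun h => hw (by rw [h]))
        ⟨fun h => absurd h.symm hzf, fun h => absurd h.symm hw⟩
    refine Set.eq_univ_of_forall fun w => ?_
    by_cases hw : f w = f x₀
    · obtain ⟨g, hg, hgp, h1, h2⟩ := hmove x₀ z z x₀ (fun h => hzf (by rw [← h])) (fun h => hzf (by rw [h]))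
        ⟨fun h => absurd h.symm hzf, fun h => absurd h hzf⟩
      have hfix : (⟨g, hg⟩ : M) • B = B := hB.smul_eq_of_mem hxB (show g x₀ ∈ B by rw [h1]; exact hzB)
      obtain ⟨w', rfl⟩ := g.surjective w
      rw [← hfix]
      refine ⟨w', hall w' fun h => hzf ?_, rfl⟩
      rw [← hw, (hgp w' x₀).mp h, h1]
    · exact hall w hw
  · exfalso
    push Not at hother
    have hBP : ∀ w, f w = f x₀ → w ∈ B := fun w hw => by
      by_cases h : w = x₀
      · exact h ▸ hxB
      · exact hclose hyB hyx w h ⟨fun _ => hw.symm, fun _ => (hother y hyB).symm⟩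
    obtain ⟨v, hv⟩ := other x₀
    obtain ⟨v', hv'⟩ := other (g₀ x₀)
    obtain ⟨k, hk, hkp, hk1, -⟩ := hmove x₀ v (g₀ x₀) v' (fun h => hv (h ▸ rfl)) (fun h => hv' (h ▸ rfl))
      ⟨fun h => absurd h.symm hv, fun h => absurd h.symm hv'⟩
    have hmem : g₀ x₀ ∈ (⟨g₀, hg₀⟩ : M) • B := ⟨x₀, hxB, rfl⟩
    have heq : (⟨g₀, hg₀⟩ : M) • B = (⟨k, hk⟩ : M) • B := by
      rcases hB.smul_eq_smul_or_disjoint (⟨g₀, hg₀⟩ : M) (⟨k, hk⟩ : M) with h | h
      · exact h
      · exact absurd ⟨x₀, hxB, hk1⟩ (Set.disjoint_left.mp h hmem)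
    have hy0 : g₀ y₀ ∈ (⟨g₀, hg₀⟩ : M) • B := ⟨y₀, hBP y₀ hxy.symm, rfl⟩
    rw [heq] at hy0
    obtain ⟨w, hwB, hw⟩ := hy0
    change k w = g₀ y₀ at hw
    apply hgxy
    rw [← hw, ← hk1]
    exact (hkp x₀ w).mp (hother w hwB).symm

theorem exists_bad {b : ℕ} {f : Ω → Fin b} (hsurj : Function.Surjective f) {g : Perm Ω} (hg : g ∉ part f) :
    ∃ x y, f x = f y ∧ f (g x) ≠ f (g y) := by
  classical
  by_contra h
  push Not at h
  choose s hs using hsurj
  let φ : Fin b → Fin b := fun i => f (g (s i))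
  have hφ : ∀ x, f (g x) = φ (f x) := fun x => h x (s (f x)) (hs (f x)).symm
  have hbij : Function.Bijective φ := Finite.surjective_iff_bijective.mp fun i =>
    ⟨f (g⁻¹ (s i)), by rw [← hφ]; simp [hs]⟩
  exact hg fun x y => ⟨h x y, fun hh => hbij.1 (by rw [← hφ, ← hφ, hh])⟩

theorem isCoatom_part {a b : ℕ} (ha : 2 ≤ a) (hb : 2 ≤ b) (f : Ω → Fin b)
    (hf : ∀ i : Fin b, Nat.card {x : Ω // f x = i} = a) : IsCoatom (part f) := by
  obtain ⟨e, he⟩ := exists_coord f hf
  have hsurj : Function.Surjective f := fun i =>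
    ⟨e.symm (i, ⟨0, by omega⟩), by rw [← he, Equiv.apply_symm_apply]⟩
  constructor
  · intro h
    have hf0 : ∀ i j, f (e.symm (i, j)) = i := fun i j => by rw [← he, Equiv.apply_symm_apply]
    let x := e.symm (⟨0, by omega⟩, ⟨0, by omega⟩)
    let y := e.symm (⟨0, by omega⟩, ⟨1, by omega⟩)
    let z := e.symm (⟨1, by omega⟩, ⟨0, by omega⟩)
    have hm := ((h ▸ Subgroup.mem_top (swap y z) : swap y z ∈ part f) x y).mp (by simp [x, y, hf0])
    have hxy : x ≠ y := fun h => by simpa [x, y] using e.symm.injective h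
    have hxz : x ≠ z := fun h => by simpa [x, z] using e.symm.injective h
    rw [swap_apply_of_ne_of_ne hxy hxz, swap_apply_left] at hm
    simp [x, z, hf0] at hm
  intro M hM
  obtain ⟨g, hgM, hg⟩ := SetLike.exists_of_lt hM
  obtain ⟨x, y, hxy, hgxy⟩ := exists_bad hsurj hg
  have hprim := isPreprimitive_of e he ha hb M (fun u v u' v' h1 h2 h3 => by
    obtain ⟨k, hk, hk1, hk2⟩ := exists_move e he h1 h2 h3
    exact ⟨k, hM.le hk, hk, hk1, hk2⟩) ⟨g, hgM, x, y, hxy, hgxy⟩
  exact Equiv.Perm.subgroup_eq_top_of_isPreprimitive_of_isSwap_mem hprim (swap x y)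
    ⟨x, y, fun h => hgxy (by rw [h]), rfl⟩ (hM.le (swap_mem hxy))

theorem exists_threeCycle_two {b : ℕ} (hb : 5 ≤ b) {f : Ω → Fin b} (e : Ω ≃ Fin b × Fin 2)
    (he : ∀ x, (e x).1 = f x) (M : Subgroup (Perm Ω))
    (hM : part f ⊓ alternatingGroup Ω ≤ M) {g : Perm Ω} (hgM : g ∈ M) {x y : Ω} (hxy : f x = f y)
    (hg : f (g x) ≠ f (g y)) : ∃ c ∈ M, c.IsThreeCycle := by
  classical
  let σ : Ω → Ω := fun z => e.symm (f z, if (e z).2 = 0 then 1 else 0)
  have hσf : ∀ z, f (σ z) = f z := fun z => by simp only [σ, ← he, Equiv.apply_symm_apply]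
  have hσne : ∀ z, σ z ≠ z := fun z h => by
    have := congrArg (fun w => (e w).2) h
    simp only [σ, Equiv.apply_symm_apply] at this
    revert this
    generalize (e z).2 = j
    revert j
    decide
  have htwo : ∀ z w, f w = f z → w = z ∨ w = σ z := by
    intro z w hw
    by_cases h : (e w).2 = (e z).2
    · exact Or.inl (e.injective (Prod.ext (by rw [he, he, hw]) h))
    · refine Or.inr (e.injective (Prod.ext (by rw [he, he, hw, hσf]) ?_))
      simp only [σ, Equiv.apply_symm_apply]
      revert h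
      generalize (e w).2 = j
      generalize (e z).2 = k
      revert j k
      decide
  have hne : x ≠ y := fun h => hg (by rw [h])
  have hyx : y = σ x := (htwo x y hxy.symm).resolve_left hne.symm
  have pair_mem : ∀ u v, f u ≠ f v → swap u (σ u) * swap v (σ v) ∈ M := fun u v h => by
    refine hM ⟨mul_mem (swap_mem (hσf u).symm) (swap_mem (hσf v).symm), ?_⟩
    show _ ∈ alternatingGroup Ω
    rw [Equiv.Perm.mem_alternatingGroup, map_mul, Perm.sign_swap (hσne u).symm, Perm.sign_swap (hσne v).symm]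
    rfl
  set p := g x with hp
  set q := g y with hq
  obtain ⟨z, hz, hzbad⟩ : ∃ z, f z ≠ f x ∧ ¬ ((g z = σ p ∧ g (σ z) = σ q) ∨ (g z = σ q ∧ g (σ z) = σ p)) := by
    obtain ⟨i, -, hi⟩ := Finset.exists_mem_notMem_of_card_lt_card (s := ({f x} : Finset (Fin b))) (t := Finset.univ)
      (by simp; omega)
    obtain ⟨k, -, hk⟩ := Finset.exists_mem_notMem_of_card_lt_card (s := ({f x, i} : Finset (Fin b))) (t := Finset.univ)
      (by
        have := Finset.card_le_two (a := f x) (b := i)
        rw [Finset.card_univ, Fintype.card_fin]; omega)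
    simp only [Finset.mem_singleton, Finset.mem_insert, not_or] at hi hk
    have hfi : f (e.symm (i, 0)) = i := by rw [← he, Equiv.apply_symm_apply]
    have hfk : f (e.symm (k, 0)) = k := by rw [← he, Equiv.apply_symm_apply]
    by_cases hbad : (g (e.symm (i, 0)) = σ p ∧ g (σ (e.symm (i, 0))) = σ q) ∨
        (g (e.symm (i, 0)) = σ q ∧ g (σ (e.symm (i, 0))) = σ p)
    · refine ⟨e.symm (k, 0), by rw [hfk]; exact hk.1, fun hbad' => ?_⟩
      have hne' : ∀ w, f w = i → f (e.symm (k, 0)) ≠ f w := fun w hw => by rw [hfk, hw]; exact hk.2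
      rcases hbad with ⟨h1, h2⟩ | ⟨h1, h2⟩ <;> rcases hbad' with ⟨h3, -⟩ | ⟨h3, -⟩
      · exact hne' _ hfi (congrArg f (g.injective (h3.trans h1.symm)))
      · exact hne' _ (by rw [hσf, hfi]) (congrArg f (g.injective (h3.trans h2.symm)))
      · exact hne' _ (by rw [hσf, hfi]) (congrArg f (g.injective (h3.trans h2.symm)))
      · exact hne' _ hfi (congrArg f (g.injective (h3.trans h1.symm)))
    · exact ⟨_, by rw [hfi]; exact hi, hbad⟩
  set r := g z with hr
  set s := g (σ z) with hs
  have hD : swap p q * swap r s ∈ M := by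
    have h := pair_mem x z hz.symm
    rw [← hyx] at h
    have := mul_mem (mul_mem hgM h) (inv_mem hgM)
    have e' : g * (swap x y * swap z (σ z)) * g⁻¹ = (g * swap x y * g⁻¹) * (g * swap z (σ z) * g⁻¹) := by group
    rw [e', ← Equiv.swap_apply_apply, ← Equiv.swap_apply_apply] at this
    exact this
  set D := swap p q * swap r s with hDdef
  obtain ⟨t, -, ht⟩ := Finset.exists_mem_notMem_of_card_lt_card (s := ({f p, f q, f r, f s} : Finset (Fin b)))
    (t := Finset.univ) (by
      have := Finset.card_le_four (a := f p) (b := f q) (c := f r) (d := f s)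
      rw [Finset.card_univ, Fintype.card_fin]; omega)
  simp only [Finset.mem_insert, Finset.mem_singleton, not_or] at ht
  set T := e.symm (t, (0 : Fin 2)) with hT
  have hfT : f T = t := by rw [hT, ← he, Equiv.apply_symm_apply]
  have fixT : ∀ w, f w = t → D w = w := by
    intro w hw
    have n1 : w ≠ p := fun h => ht.1 (by rw [← hw, h])
    have n2 : w ≠ q := fun h => ht.2.1 (by rw [← hw, h])
    have n3 : w ≠ r := fun h => ht.2.2.1 (by rw [← hw, h])
    have n4 : w ≠ s := fun h => ht.2.2.2 (by rw [← hw, h])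
    rw [hDdef, Perm.mul_apply, swap_apply_of_ne_of_ne n3 n4, swap_apply_of_ne_of_ne n1 n2]
  have hpr : p ≠ r := fun h => hz (congrArg f (g.injective h)).symm
  have hps : p ≠ s := fun h => hz (by rw [← hσf z, ← g.injective h])
  have hqr : q ≠ r := fun h => hz (by rw [hxy, g.injective h])
  have hqs : q ≠ s := fun h => hz (by rw [hxy, g.injective h, hσf])
  have hDp : D p = q := by
    rw [hDdef, Perm.mul_apply, swap_apply_of_ne_of_ne hpr hps, swap_apply_left]
  set X := D (σ p) with hX
  have hE1 := pair_mem p T (by rw [hfT]; exact Ne.symm ht.1)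
  have hE2 := pair_mem q T (by rw [hfT]; exact Ne.symm ht.2.1)
  have hconj : D * (swap p (σ p) * swap T (σ T)) * D⁻¹ = swap q X * swap T (σ T) := by
    have e' : D * (swap p (σ p) * swap T (σ T)) * D⁻¹ = (D * swap p (σ p) * D⁻¹) * (D * swap T (σ T) * D⁻¹) := by
      group
    rw [e', ← Equiv.swap_apply_apply, ← Equiv.swap_apply_apply, hDp, fixT T hfT, fixT (σ T) (by rw [hσf, hfT])]
  have hqX : q ≠ X := fun h => hσne p (D.injective (hDp.trans h)).symm
  have hXq' : X ≠ σ q := by
    intro h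
    have hσpp : σ p ≠ p := hσne p
    have hσpq : σ p ≠ q := fun h' => hg (by rw [← h', hσf])
    by_cases h1 : σ p = r
    · have hXs : X = s := by
        rw [hX, hDdef, Perm.mul_apply, h1, swap_apply_left, swap_apply_of_ne_of_ne hps.symm hqs.symm]
      exact hzbad (Or.inl ⟨h1.symm, hXs.symm.trans h⟩)
    by_cases h2 : σ p = s
    · have hXs : X = r := by
        rw [hX, hDdef, Perm.mul_apply, h2, swap_apply_right, swap_apply_of_ne_of_ne hpr.symm hqr.symm]
      exact hzbad (Or.inr ⟨hXs.symm.trans h, h2.symm⟩)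
    have hXs : X = σ p := by
      rw [hX, hDdef, Perm.mul_apply, swap_apply_of_ne_of_ne h1 h2, swap_apply_of_ne_of_ne hσpp hσpq]
    exact hg (by rw [← hσf p, ← hXs, h, hσf])
  refine ⟨swap q X * swap q (σ q), ?_, Equiv.Perm.isThreeCycle_swap_mul_swap_same hqX (hσne q).symm hXq'⟩
  have hmem := mul_mem (mul_mem (mul_mem hD hE1) (inv_mem hD)) hE2
  rw [hconj] at hmem
  have hq' : σ q ≠ T ∧ σ q ≠ σ T := by
    constructor <;> intro h
    · exact ht.2.1 (by rw [← hfT, ← h, hσf])
    · exact ht.2.1 (by rw [← hfT, ← hσf T, ← h, hσf])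
  have hcomm : swap T (σ T) * swap q (σ q) = swap q (σ q) * swap T (σ T) := by
    apply (Equiv.Perm.Disjoint.commute ?_).eq
    intro w
    by_cases hw : f w = t
    · exact Or.inr (swap_apply_of_ne_of_ne (fun h => ht.2.1 (by rw [← hw, h])) (fun h => ht.2.1 (by rw [← hw, h, hσf])))
    · exact Or.inl (swap_apply_of_ne_of_ne (fun h => hw (by rw [h, hfT])) (fun h => hw (by rw [h, hσf, hfT])))
  have efin : swap q X * swap q (σ q) = swap q X * swap T (σ T) * (swap q (σ q) * swap T (σ T)) := by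
    rw [← hcomm, mul_assoc, ← mul_assoc (swap T (σ T)) (swap T (σ T)), swap_mul_self, one_mul]
  rw [efin]
  exact hmem

theorem index_even {a b : ℕ} (ha : 2 ≤ a) (hb : 2 ≤ b) (f : Ω → Fin b)
    (hf : ∀ i : Fin b, Nat.card {x : Ω // f x = i} = a) :
    ((part f).subgroupOf (alternatingGroup Ω)).index * (b.factorial * a.factorial ^ b) = (b * a).factorial := by
  classical
  obtain ⟨e, he⟩ := exists_coord f hf
  haveI : Nontrivial Ω := by
    rw [← Fintype.one_lt_card_iff_nontrivial, Fintype.card_congr e, Fintype.card_prod, Fintype.card_fin, Fintype.card_fin]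
    nlinarith
  have h0 : f (e.symm (⟨0, by omega⟩, ⟨0, by omega⟩)) = f (e.symm (⟨0, by omega⟩, ⟨1, by omega⟩)) := by
    simp [← he]
  have hodd : ¬ part f ≤ alternatingGroup Ω := by
    intro hle
    have := hle (swap_mem h0)
    rw [Equiv.Perm.mem_alternatingGroup, Perm.sign_swap (fun h => by simpa using e.symm.injective h)] at this
    exact absurd this (by decide)
  haveI : (alternatingGroup Ω).Normal := Subgroup.normal_of_index_eq_two alternatingGroup.index_eq_two
  have h2 : (alternatingGroup Ω).relIndex (part f) = 2 := by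
    have hd := Subgroup.relIndex_dvd_index_of_normal (alternatingGroup Ω) (part f)
    rw [alternatingGroup.index_eq_two] at hd
    rcases (Nat.dvd_prime Nat.prime_two).mp hd with h | h
    · exact absurd (Subgroup.relIndex_eq_one.mp h) hodd
    · exact h
  have hP : (part f).index * (b.factorial * a.factorial ^ b) = (b * a).factorial := by
    rw [← card_part e he (by omega), Subgroup.index_mul_card, Nat.card_perm, Nat.card_congr e, Nat.card_prod,
      Nat.card_fin, Nat.card_fin]
  have h3 : (part f ⊓ alternatingGroup Ω).relIndex (part f) * (part f).index =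
      (part f ⊓ alternatingGroup Ω).relIndex (alternatingGroup Ω) * (alternatingGroup Ω).index := by
    rw [Subgroup.relIndex_mul_index inf_le_left, Subgroup.relIndex_mul_index inf_le_right]
  rw [Subgroup.inf_relIndex_left, Subgroup.inf_relIndex_right, h2, alternatingGroup.index_eq_two] at h3
  rw [← hP]
  congr 1
  change (part f).relIndex (alternatingGroup Ω) = _
  omega

theorem isCoatom_even {a b : ℕ} (h8 : Fintype.card Ω ≠ 8) (ha : 2 ≤ a) (hb : 2 ≤ b) (f : Ω → Fin b)
    (hf : ∀ i : Fin b, Nat.card {x : Ω // f x = i} = a) :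
    IsCoatom ((part f ⊓ alternatingGroup Ω).subgroupOf (alternatingGroup Ω)) := by
  classical
  obtain ⟨e, he⟩ := exists_coord f hf
  have hcard : Fintype.card Ω = b * a := by
    rw [Fintype.card_congr e, Fintype.card_prod, Fintype.card_fin, Fintype.card_fin]
  rw [Subgroup.inf_subgroupOf_right]
  have hidx := index_even ha hb f hf
  have hsmall : a = 2 → ¬ b ≥ 5 → IsCoatom ((part f).subgroupOf (alternatingGroup Ω)) := by
    intro ha2 hb5
    subst ha2
    set H := (part f).subgroupOf (alternatingGroup Ω) with hH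
    obtain rfl | rfl : b = 2 ∨ b = 3 := by omega
    · have h3 : H.index = 3 := by
        simp [Nat.factorial] at hidx; omega
      refine ⟨fun h => by rw [h, Subgroup.index_top] at h3; omega, fun M hM => ?_⟩
      have h1 := Subgroup.index_strictAnti hM
      have h2 := Subgroup.index_dvd_of_le hM.le
      rw [h3] at h1 h2
      rcases (Nat.dvd_prime Nat.prime_three).mp h2 with h | h
      · exact Subgroup.index_eq_one.mp h
      · omega
    · have h15 : H.index = 15 := by
        simp [Nat.factorial] at hidx; omega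
      refine ⟨fun h => by rw [h, Subgroup.index_top] at h15; omega, fun M hM => ?_⟩
      by_contra hne
      have h1 := Subgroup.index_strictAnti hM
      have h2 := Subgroup.index_dvd_of_le hM.le
      rw [h15] at h1 h2
      have h5 : M.index ≤ 5 := by
        have h0 : M.index ≠ 0 := Subgroup.index_ne_zero_of_finite
        interval_cases M.index <;> omega
      haveI := alternatingGroup.isSimpleGroup (α := Ω) (by rw [Nat.card_eq_fintype_card, hcard]; norm_num)
      have hcore : M.normalCore = ⊥ := (Subgroup.Normal.eq_bot_or_eq_top (inferInstance : M.normalCore.Normal)).resolve_right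
        fun h => hne (top_le_iff.mp (h ▸ Subgroup.normalCore_le M))
      have hinj : Function.Injective (MulAction.toPermHom (alternatingGroup Ω) ((alternatingGroup Ω) ⧸ M)) := by
        rw [← MonoidHom.ker_eq_bot_iff, ← Subgroup.normalCore_eq_ker]; exact hcore
      have hle := Nat.card_le_card_of_injective _ hinj
      haveI : Nontrivial Ω := Fintype.one_lt_card_iff_nontrivial.mp (by omega)
      rw [Nat.card_perm, Nat.card_eq_fintype_card (α := alternatingGroup Ω)] at hle
      change Fintype.card (alternatingGroup Ω) ≤ M.index.factorial at hle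
      have h360 := two_mul_card_alternatingGroup (α := Ω)
      rw [Fintype.card_perm, hcard] at h360
      rw [show 3 * 2 = 6 from rfl, show Nat.factorial 6 = 720 from rfl] at h360
      have := Nat.factorial_le h5
      simp [Nat.factorial] at this
      omega
  by_cases hsc : a = 2 ∧ ¬ b ≥ 5
  · exact hsmall hsc.1 hsc.2
  have hab : ¬ (a = 2 ∧ b = 2) := fun h => hsc ⟨h.1, by omega⟩
  have hn4 : 4 < Fintype.card Ω := by
    rw [hcard]
    rcases Nat.lt_or_ge a 3 with h | h
    · have : 5 ≤ b := by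
        by_contra hh
        exact hsc ⟨by omega, by omega⟩
      nlinarith
    · nlinarith
  constructor
  · intro h
    rw [h, Subgroup.index_top, one_mul] at hidx
    have hsurj : Function.Surjective f := fun i =>
      ⟨e.symm (i, ⟨0, by omega⟩), by rw [← he, Equiv.apply_symm_apply]⟩
    obtain ⟨m, hm⟩ := Fintype.exists_ne_of_one_lt_card (α := Fin b) (by simp; omega) ⟨0, by omega⟩
    let x := e.symm (⟨0, by omega⟩, ⟨0, by omega⟩)
    let y := e.symm (⟨0, by omega⟩, ⟨1, by omega⟩)
    let z := e.symm (m, ⟨0, by omega⟩)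
    let w := e.symm (m, ⟨1, by omega⟩)
    have hf0 : ∀ i j, f (e.symm (i, j)) = i := fun i j => by rw [← he, Equiv.apply_symm_apply]
    have hxy : x ≠ y := fun h => by simpa [x, y] using e.symm.injective h
    have hxz : x ≠ z := fun h => hm (by simpa [x, z] using (Prod.ext_iff.mp (e.symm.injective h)).1.symm)
    have hyz : y ≠ z := fun h => hm (by simpa [y, z] using (Prod.ext_iff.mp (e.symm.injective h)).1.symm)
    have hc := Equiv.Perm.isThreeCycle_swap_mul_swap_same hyz.symm hxz.symm hxy.symm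
    have hcA : swap z y * swap z x ∈ alternatingGroup Ω := hc.mem_alternatingGroup
    have hp : swap z y * swap z x ∈ part f :=
      (h ▸ Subgroup.mem_top _ : (⟨_, hcA⟩ : alternatingGroup Ω) ∈ (part f).subgroupOf (alternatingGroup Ω))
    have := (hp x y).mp (by simp [x, y, hf0])
    simp only [Perm.mul_apply, swap_apply_right, swap_apply_left, swap_apply_of_ne_of_ne hyz hxy.symm] at this
    rw [show f z = m from hf0 _ _, show f y = ⟨0, by omega⟩ from hf0 _ _] at this
    first
      | exact hm this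
      | exact hm this.symm
  intro M hM
  obtain ⟨⟨g, hgA⟩, hgM, hg⟩ := SetLike.exists_of_lt hM
  have hsurj : Function.Surjective f := fun i =>
    ⟨e.symm (i, ⟨0, by omega⟩), by rw [← he, Equiv.apply_symm_apply]⟩
  obtain ⟨x, y, hxy, hgxy⟩ := exists_bad hsurj (fun h => hg h)
  set M' := M.map (alternatingGroup Ω).subtype with hM'
  have hle : part f ⊓ alternatingGroup Ω ≤ M' := fun k hk => ⟨⟨k, hk.2⟩, hM.le hk.1, rfl⟩
  have hgM' : g ∈ M' := ⟨⟨g, hgA⟩, hgM, rfl⟩
  have hprim := isPreprimitive_of e he ha hb M' (fun u v u' v' h1 h2 h3 => by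
    obtain ⟨k, hk, hks, hk1, hk2⟩ := exists_even_move e he ha hb hab h1 h2 h3
    exact ⟨k, hle ⟨hk, hks⟩, hk, hk1, hk2⟩) ⟨g, hgM', x, y, hxy, hgxy⟩
  obtain ⟨c, hcM, hc⟩ : ∃ c ∈ M', c.IsThreeCycle := by
    rcases Nat.lt_or_ge a 3 with h | h
    · obtain rfl : a = 2 := by omega
      exact exists_threeCycle_two (by
        by_contra hh
        exact hsc ⟨rfl, by omega⟩) e he M' hle hgM' hxy hgxy
    · let p := e.symm (⟨0, by omega⟩, ⟨0, by omega⟩)
      let q := e.symm (⟨0, by omega⟩, ⟨1, by omega⟩)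
      let r := e.symm (⟨0, by omega⟩, ⟨2, by omega⟩)
      have hpq : p ≠ q := fun h => by simpa [p, q] using e.symm.injective h
      have hpr : p ≠ r := fun h => by simpa [p, r] using e.symm.injective h
      have hqr : q ≠ r := fun h => by simpa [q, r] using e.symm.injective h
      have hc := Equiv.Perm.isThreeCycle_swap_mul_swap_same hpq hpr hqr
      exact ⟨_, hle ⟨mul_mem (swap_mem (by simp [p, q, ← he])) (swap_mem (by simp [p, r, ← he])),
        hc.mem_alternatingGroup⟩, hc⟩
  have := Equiv.Perm.alternatingGroup_le_of_isPreprimitive_of_isThreeCycle_mem hprim hc hcM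
  rw [eq_top_iff, ← Subgroup.map_subtype_le_map_subtype, ← MonoidHom.range_eq_map, Subgroup.range_subtype]
  exact this

end Cfsg.Lib.Classical.Imprimitive
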