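import Mathlib

/-! Dimensions of invariant subspaces for a decomposition into a fixed space and irreducibles. -/

set_option autoImplicit false

namespace Cfsg.Lib.Classical.InvariantDims

universe u v

variable {F : Type u} {V : Type v} [Field F] [AddCommGroup V] [Module F V] [FiniteDimensional F V]
  (f : V →ₗ[F] V) {s a : ℕ} (U : Fin s → Submodule F V)

/-- The partial sums. -/
def part (X : Submodule F V) : ℕ → Submodule F V
  | 0 => X
  | i + 1 => part X i ⊔ if h : i < s then U ⟨i, h⟩ else ⊥

omit [FiniteDimensional F V] in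
theorem part_le (X : Submodule F V) (i : ℕ) (hi : i ≤ s) :
    part U X i ≤ X ⊔ ⨆ j : Fin s, ⨆ (_ : (j : ℕ) < i), U j := by
  induction i with
  | zero => exact le_sup_left
  | succ i ih =>
    have hmono : (⨆ j : Fin s, ⨆ (_ : (j : ℕ) < i), U j) ≤ ⨆ j : Fin s, ⨆ (_ : (j : ℕ) < i + 1), U j :=
      iSup₂_le fun j hj => le_iSup₂ (f := fun (j : Fin s) (_ : (j : ℕ) < i + 1) => U j) j (Nat.lt_succ_of_lt hj)
    refine sup_le ((ih (by omega)).trans (sup_le le_sup_left (hmono.trans le_sup_right))) ?_
    rw [dif_pos (by omega : i < s)]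
    exact le_sup_of_le_right (le_iSup₂_of_le (⟨i, by omega⟩ : Fin s) (Nat.lt_succ_self i) le_rfl)

omit [FiniteDimensional F V] in
theorem part_map (hU : ∀ j, (U j).map f ≤ U j) (X : Submodule F V) (hX : X.map f ≤ X) :
    ∀ i, (part U X i).map f ≤ part U X i
  | 0 => hX
  | i + 1 => by
    rw [part, Submodule.map_sup]
    refine sup_le_sup (part_map hU X hX i) ?_
    split_ifs
    · exact hU _
    · simp

theorem exists_iff (ha : 1 ≤ a) (hUinv : ∀ j, (U j).map f ≤ U j) (hUdim : ∀ j, Module.finrank F ↥(U j) = a)
    (hUirr : ∀ j, ∀ W : Submodule F V, W ≤ U j → W.map f ≤ W → W = ⊥ ∨ W = U j)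
    (hdec : DirectSum.IsInternal (fun o : Option (Fin s) => o.elim (Module.End.eigenspace f 1) U))
    (m : ℕ) (hmV : m < Module.finrank F V) :
    (∃ W : Submodule F V, Module.finrank F ↥W = m ∧ W.map f ≤ W) ↔
    (m ≤ Module.finrank F ↥(Module.End.eigenspace f 1) ∨
      (a ≤ m ∧ m % a ≤ Module.finrank F ↥(Module.End.eigenspace f 1))) := by
  classical
  set E := Module.End.eigenspace f 1 with hE
  have hind := hdec.submodule_iSupIndep
  have hdisj : ∀ X : Submodule F V, X ≤ E → ∀ (i : ℕ) (hi : i < s), Disjoint (part U X i) (U ⟨i, hi⟩) := by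
    intro X hX i hi
    refine (hind (some ⟨i, hi⟩)).symm.mono_left ((part_le U X i hi.le).trans (sup_le ?_ ?_))
    · exact le_iSup₂_of_le none (by simp) hX
    · exact iSup₂_le fun j hj => le_iSup₂_of_le (some j)
        (fun h => hj.ne (congrArg Fin.val (Option.some_injective _ h))) le_rfl
  have hstep : ∀ X : Submodule F V, ∀ (i : ℕ) (hi : i < s), part U X (i + 1) = part U X i ⊔ U ⟨i, hi⟩ :=
    fun X i hi => by rw [part, dif_pos hi]
  have hdim : ∀ X : Submodule F V, X ≤ E → ∀ i, i ≤ s →
      Module.finrank F ↥(part U X i) = Module.finrank F ↥X + i * a := by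
    intro X hX i hi
    induction i with
    | zero => rw [Nat.zero_mul, add_zero]; rfl
    | succ i ih =>
      have h := Submodule.finrank_sup_add_finrank_inf_eq (part U X i) (U ⟨i, by omega⟩)
      rw [(hdisj X hX i (by omega)).eq_bot, finrank_bot, add_zero, ← hstep, hUdim, ih (by omega)] at h
      rw [h, Nat.succ_mul, add_assoc]
  have hEinv : ∀ X : Submodule F V, X ≤ E → X.map f ≤ X := by
    rintro X hX _ ⟨x, hx, rfl⟩
    rw [Module.End.mem_eigenspace_iff.mp (hX hx), one_smul]
    exact hx
  have htop : part U E s = ⊤ := by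
    rw [eq_top_iff, ← hdec.submodule_iSup_eq_top]
    have key : ∀ i, ∀ j : Fin s, (j : ℕ) < i → U j ≤ part U E i := by
      intro i
      induction i with
      | zero => intro j hj; omega
      | succ i ih =>
        intro j hj
        rcases Nat.lt_succ_iff_lt_or_eq.mp hj with h | h
        · exact (ih j h).trans le_sup_left
        · subst h
          rw [hstep E j j.2]
          exact le_sup_right
    have hbase : ∀ i, E ≤ part U E i := by
      intro i
      induction i with
      | zero => exact le_rfl
      | succ i ih => exact ih.trans le_sup_left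
    refine iSup_le fun o => ?_
    cases o with
    | none => exact hbase s
    | some j => exact key s j j.2
  have hV : Module.finrank F V = Module.finrank F ↥E + s * a := by
    rw [← hdim E le_rfl s le_rfl, htop, finrank_top]
  constructor
  · rintro ⟨W, hWm, hW⟩
    have hflag : ∀ i, i ≤ s → ∃ e k : ℕ, e ≤ Module.finrank F ↥E ∧
        Module.finrank F ↥(W ⊓ part U E i) = e + k * a := by
      intro i hi
      induction i with
      | zero => exact ⟨_, 0, Submodule.finrank_mono (inf_le_right : W ⊓ E ≤ E), by rw [Nat.zero_mul, add_zero]; rfl⟩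
      | succ i ih =>
        obtain ⟨e, k, he, hk⟩ := ih (by omega)
        set W' := W ⊓ part U E (i + 1) with hW'
        set L := (part U E i ⊔ W') ⊓ U ⟨i, by omega⟩ with hL
        have hinv1 : W'.map f ≤ W' := (Submodule.map_inf_le f).trans
          (inf_le_inf hW (part_map f U hUinv E (hEinv E le_rfl) _))
        have hLinv : L.map f ≤ L := by
          refine (Submodule.map_inf_le f).trans (inf_le_inf ?_ (hUinv _))
          rw [Submodule.map_sup]
          exact sup_le_sup (part_map f U hUinv E (hEinv E le_rfl) _) hinv1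
        have hmod : part U E i ⊔ W' = part U E i ⊔ L := by
          rw [hL, inf_comm, ← sup_inf_assoc_of_le _ le_sup_left, inf_eq_right.mpr]
          rw [← hstep E i (by omega)]
          exact sup_le (by rw [hstep E i (by omega)]; exact le_sup_left) inf_le_right
        have h1 := Submodule.finrank_sup_add_finrank_inf_eq (part U E i) W'
        have h2 := Submodule.finrank_sup_add_finrank_inf_eq (part U E i) L
        rw [show part U E i ⊓ W' = W ⊓ part U E i by
          rw [hW', inf_left_comm, inf_eq_left.mpr (show part U E i ≤ part U E (i + 1) from le_sup_left)]] at h1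
        rw [((hdisj E le_rfl i (by omega)).mono_right inf_le_right).eq_bot, finrank_bot, add_zero] at h2
        rw [hmod, h2, hk] at h1
        rcases hUirr _ L inf_le_right hLinv with hb | ht
        · rw [hb, finrank_bot] at h1
          exact ⟨e, k, he, by omega⟩
        · rw [ht, hUdim] at h1
          exact ⟨e, k + 1, he, by rw [Nat.succ_mul]; omega⟩
    obtain ⟨e, k, he, hk⟩ := hflag s le_rfl
    rw [htop, inf_top_eq, hWm] at hk
    rcases Nat.eq_zero_or_pos k with rfl | hk0
    · exact Or.inl (by omega)
    · refine Or.inr ⟨?_, ?_⟩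
      · have : a ≤ k * a := Nat.le_mul_of_pos_left a hk0
        omega
      · rw [hk, Nat.add_mul_mod_self_right]
        exact (Nat.mod_le e a).trans he
  · intro h
    obtain ⟨k, e, hks, he, hke⟩ : ∃ k e, k ≤ s ∧ e ≤ Module.finrank F ↥E ∧ e + k * a = m := by
      rcases h with h | ⟨_, h⟩
      · exact ⟨0, m, Nat.zero_le _, h, by simp⟩
      · rcases le_or_gt (m / a) s with hq | hq
        · exact ⟨m / a, m % a, hq, h, by rw [mul_comm]; exact Nat.mod_add_div m a⟩
        · have h1 : (s + 1) * a ≤ m / a * a := Nat.mul_le_mul_right a hq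
          have h2 := Nat.div_mul_le_self m a
          rw [Nat.succ_mul] at h1
          exact ⟨s, m - s * a, le_rfl, by omega, by omega⟩
    obtain ⟨b⟩ : Nonempty (Module.Basis (Fin (Module.finrank F ↥E)) F ↥E) := ⟨Module.finBasis F ↥E⟩
    let v : Fin e → V := fun i => (b (Fin.castLE he i) : V)
    have hv : LinearIndependent F v :=
      (b.linearIndependent.comp _ (Fin.castLE_injective he)).map' E.subtype (Submodule.ker_subtype E)
    have hX : Submodule.span F (Set.range v) ≤ E :=
      Submodule.span_le.mpr (by rintro _ ⟨i, rfl⟩; exact (b (Fin.castLE he i)).2)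
    refine ⟨part U (Submodule.span F (Set.range v)) k, ?_, part_map f U hUinv _ (hEinv _ hX) k⟩
    rw [hdim _ hX k hks, finrank_span_eq_card hv, Fintype.card_fin, hke]

end Cfsg.Lib.Classical.InvariantDims
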