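import Mathlib
import Cfsg.Prelude.Def_GeometricClasses
import Cfsg.Prelude.Def_ClassicalGeometry
import Cfsg.Agent.Classical.Symp.Matrix

/-! Projective involutions preserve decompositions. -/

set_option autoImplicit false
set_option linter.unusedSimpArgs false
set_option linter.unusedSectionVars false
set_option linter.style.haveILetI false
set_option linter.flexible false

namespace Cfsg.Lib.Classical.InvolDecomp

open Submodule

universe u v

section blocks

variable {ι : Type} [DecidableEq ι] (τ : ι → ι) (hτ : ∀ i, τ (τ i) = i)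
include hτ

theorem exists_pick (S : Finset ι) (hS : ∀ i ∈ S, τ i ∈ S) (b : ℕ) :
    ∀ n, n ≤ b → 2 * n ≤ (S.filter fun i => τ i ≠ i).card →
      ∃ A : Finset ι, A ⊆ S ∧ A.card = n ∧ ∀ i ∈ A, τ i ∉ A := by
  intro n
  induction n with
  | zero => exact fun _ _ => ⟨∅, by simp, rfl, by simp⟩
  | succ n ih =>
    intro hn hc
    obtain ⟨A, hA, hcard, hAτ⟩ := ih (by omega) (by omega)
    obtain ⟨x, hx, hxA⟩ : ∃ x ∈ S.filter (fun i => τ i ≠ i), x ∉ A ∪ A.image τ := by
      by_contra hall
      push Not at hall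
      have := Finset.card_le_card (fun x hx => hall x hx : S.filter (fun i => τ i ≠ i) ⊆ A ∪ A.image τ)
      have := Finset.card_union_le A (A.image τ)
      have := Finset.card_image_le (s := A) (f := τ)
      omega
    simp only [Finset.mem_union, Finset.mem_image, not_or, not_exists, not_and] at hxA
    rw [Finset.mem_filter] at hx
    refine ⟨insert x A, Finset.insert_subset hx.1 hA, by rw [Finset.card_insert_of_notMem hxA.1, hcard], ?_⟩
    intro i hi
    rw [Finset.mem_insert] at hi ⊢
    rintro (h | h)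
    · rcases hi with rfl | hi
      · exact hx.2 h
      · exact hxA.2 i hi h
    · rcases hi with rfl | hi
      · exact hxA.2 (τ i) h (hτ i)
      · exact hAτ i hi h

/-- An invariant set can be cut into equal pieces permuted by an involution. -/
theorem exists_blocks_aux (b : ℕ) : ∀ (t : ℕ) (S : Finset ι), (∀ i ∈ S, τ i ∈ S) → S.card = t * b →
    ∃ L : List (Finset ι), L.length = t ∧ (∀ A ∈ L, A.card = b ∧ A ⊆ S ∧ A.image τ ∈ L) ∧
      (∀ i ∈ S, ∃ A ∈ L, i ∈ A) ∧ L.Pairwise Disjoint := by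
  intro t
  induction t using Nat.strong_induction_on with
  | _ t ih =>
  intro S hS hc
  rcases Nat.eq_zero_or_pos t with rfl | ht
  · refine ⟨[], rfl, by simp, fun i hi => ?_, List.Pairwise.nil⟩
    rw [zero_mul, Finset.card_eq_zero] at hc
    simp [hc] at hi
  set M := S.filter fun i => τ i ≠ i with hM
  set X := S.filter fun i => ¬ τ i ≠ i with hX
  have hMX : M.card + X.card = S.card := Finset.card_filter_add_card_filter_not _
  have hbt : b ≤ t * b := Nat.le_mul_of_pos_left b ht
  have hsdiff : ∀ (B : Finset ι) (i : ι), B.image τ = B → i ∈ S \ B → τ i ∈ S \ B := by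
    intro B i hB hi
    rw [Finset.mem_sdiff] at hi ⊢
    refine ⟨hS i hi.1, fun h => hi.2 ?_⟩
    rw [← hB, Finset.mem_image]
    exact ⟨τ i, h, hτ i⟩
  by_cases hbig : 2 * b ≤ M.card
  · by_cases hb0 : b = 0
    · subst hb0
      obtain ⟨L, h1, h2, h3, h4⟩ := ih (t - 1) (by omega) S hS (by simpa using hc)
      exact ⟨∅ :: L, by simp [h1]; omega, fun A hA => by
        rcases List.mem_cons.mp hA with rfl | hA
        · simp
        · exact ⟨(h2 A hA).1, (h2 A hA).2.1, List.mem_cons_of_mem _ (h2 A hA).2.2⟩,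
        fun i hi => by obtain ⟨A, hA, hiA⟩ := h3 i hi; exact ⟨A, List.mem_cons_of_mem _ hA, hiA⟩,
        List.pairwise_cons.mpr ⟨fun A _ => Finset.disjoint_empty_left A, h4⟩⟩
    obtain ⟨A, hA, hcard, hAτ⟩ := exists_pick τ hτ S hS b b le_rfl hbig
    have hinj : Function.Injective τ := fun x y e => by rw [← hτ x, e, hτ]
    have hA' : A.image τ ⊆ S := Finset.image_subset_iff.mpr fun i hi => hS i (hA hi)
    have hdisj : Disjoint A (A.image τ) := Finset.disjoint_left.mpr fun i hi h => by
      obtain ⟨j, hj, rfl⟩ := Finset.mem_image.mp h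
      exact hAτ j hj hi
    have himg : (A.image τ).image τ = A := by rw [Finset.image_image]; simp [Function.comp_def, hτ]
    have hB : (A ∪ A.image τ).image τ = A ∪ A.image τ := by rw [Finset.image_union, himg, Finset.union_comm]
    have hBc : (A ∪ A.image τ).card = 2 * b := by
      rw [Finset.card_union_of_disjoint hdisj, Finset.card_image_of_injective _ hinj, hcard, two_mul]
    have h2t : 2 ≤ t := by
      have := Finset.card_filter_le S fun i => τ i ≠ i
      by_contra hlt
      have : t = 1 := by omega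
      subst this
      have : M.card ≤ b := by rw [← one_mul b, ← hc]; exact Finset.card_filter_le S fun i => τ i ≠ i
      omega
    obtain ⟨L, h1, h2, h3, h4⟩ := ih (t - 2) (by omega) (S \ (A ∪ A.image τ)) (fun i hi => hsdiff _ i hB hi) (by
      rw [Finset.card_sdiff_of_subset (Finset.union_subset hA hA'), hc, hBc, Nat.sub_mul])
    refine ⟨A :: A.image τ :: L, by simp [h1]; omega, fun C hC => ?_, fun i hi => ?_, ?_⟩
    · simp only [List.mem_cons] at hC ⊢
      rcases hC with rfl | rfl | hC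
      · exact ⟨hcard, hA, Or.inr (Or.inl rfl)⟩
      · exact ⟨by rw [Finset.card_image_of_injective _ hinj, hcard], hA', Or.inl himg⟩
      · exact ⟨(h2 C hC).1, (h2 C hC).2.1.trans Finset.sdiff_subset, Or.inr (Or.inr (h2 C hC).2.2)⟩
    · by_cases hiB : i ∈ A ∪ A.image τ
      · rcases Finset.mem_union.mp hiB with h | h
        · exact ⟨A, by simp, h⟩
        · exact ⟨A.image τ, by simp, h⟩
      · obtain ⟨C, hC, hiC⟩ := h3 i (Finset.mem_sdiff.mpr ⟨hi, hiB⟩)
        exact ⟨C, by simp [hC], hiC⟩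
    · have hout : ∀ C ∈ L, Disjoint (A ∪ A.image τ) C := fun C hC =>
        Finset.disjoint_left.mpr fun i hi hiC => (Finset.mem_sdiff.mp ((h2 C hC).2.1 hiC)).2 hi
      refine List.pairwise_cons.mpr ⟨fun C hC => ?_, List.pairwise_cons.mpr ⟨fun C hC => ?_, h4⟩⟩
      · rcases List.mem_cons.mp hC with rfl | hC
        · exact hdisj
        · exact Finset.disjoint_of_subset_left Finset.subset_union_left (hout C hC)
      · exact Finset.disjoint_of_subset_left Finset.subset_union_right (hout C hC)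
  · -- an invariant piece
    have hinj : Function.Injective τ := fun x y e => by rw [← hτ x, e, hτ]
    obtain ⟨A, hA, hcard, hAτ⟩ := exists_pick τ hτ S hS b (min (b / 2) (M.card / 2)) (by omega)
      (by show _ ≤ M.card; omega)
    set j := min (b / 2) (M.card / 2) with hj
    have hMeven : Even M.card := by
      by_contra hne
      obtain ⟨h, hh⟩ := Nat.not_even_iff_odd.mp hne
      obtain ⟨A', hA', hc', hA'τ⟩ := exists_pick τ hτ S hS M.card h (by omega) (by show _ ≤ M.card; omega)
      have hsub : A' ∪ A'.image τ ⊆ M := fun i hi => by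
        rcases Finset.mem_union.mp hi with hi | hi
        · exact Finset.mem_filter.mpr ⟨hA' hi, fun e => hA'τ i hi (by rw [e]; exact hi)⟩
        · obtain ⟨l, hl, rfl⟩ := Finset.mem_image.mp hi
          exact Finset.mem_filter.mpr ⟨hS l (hA' hl), fun e => hA'τ l hl (by rw [hτ] at e; rw [← e]; exact hl)⟩
      have hd : Disjoint A' (A'.image τ) := Finset.disjoint_left.mpr fun i hi h => by
        obtain ⟨l, hl, rfl⟩ := Finset.mem_image.mp h
        exact hA'τ l hl hi
      have hone : (M \ (A' ∪ A'.image τ)).card = 1 := by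
        rw [Finset.card_sdiff_of_subset hsub, Finset.card_union_of_disjoint hd, Finset.card_image_of_injective _ hinj]
        omega
      obtain ⟨x, hx⟩ := Finset.card_eq_one.mp hone
      have hxM : x ∈ M \ (A' ∪ A'.image τ) := hx ▸ Finset.mem_singleton_self x
      rw [Finset.mem_sdiff, Finset.mem_filter] at hxM
      have : τ x ∈ M \ (A' ∪ A'.image τ) := by
        rw [Finset.mem_sdiff, Finset.mem_filter]
        refine ⟨⟨hS x hxM.1.1, fun e => hxM.1.2 (by rw [hτ] at e; exact e.symm)⟩, fun h => hxM.2 ?_⟩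
        rw [Finset.mem_union, Finset.mem_image] at h ⊢
        rcases h with h | ⟨l, hl, e⟩
        · exact Or.inr ⟨τ x, h, hτ x⟩
        · exact Or.inl (hinj e ▸ hl)
      rw [hx, Finset.mem_singleton] at this
      exact hxM.1.2 this
    obtain ⟨hm, hme⟩ : M.card % 2 = 0 ∧ True := ⟨Nat.even_iff.mp hMeven, trivial⟩
    have hneed : b - 2 * j ≤ X.card := by
      rcases Nat.le_total (b / 2) (M.card / 2) with h | h
      · by_cases hb : b % 2 = 0
        · omega
        · by_contra hX0
          rcases (show t = 1 ∨ 2 ≤ t by omega) with rfl | h2t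
          · omega
          · have : 2 * b ≤ t * b := Nat.mul_le_mul_right b h2t
            omega
      · omega
    obtain ⟨Y, hY, hYc⟩ := Finset.exists_subset_card_eq hneed
    have hYS : Y ⊆ S := hY.trans (Finset.filter_subset _ _)
    have hYfix : ∀ i ∈ Y, τ i = i := fun i hi => not_not.mp (Finset.mem_filter.mp (hY hi)).2
    set B := A ∪ A.image τ ∪ Y with hBdef
    have hdisj : Disjoint A (A.image τ) := Finset.disjoint_left.mpr fun i hi h => by
      obtain ⟨l, hl, rfl⟩ := Finset.mem_image.mp h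
      exact hAτ l hl hi
    have hdY : Disjoint (A ∪ A.image τ) Y := Finset.disjoint_left.mpr fun i hi hiY => by
      rcases Finset.mem_union.mp hi with hi | hi
      · exact hAτ i hi (by rw [hYfix i hiY]; exact hi)
      · obtain ⟨l, hl, rfl⟩ := Finset.mem_image.mp hi
        have := hYfix _ hiY
        rw [hτ] at this
        exact hAτ l hl (by rw [← this]; exact hl)
    have hBc : B.card = b := by
      rw [hBdef, Finset.card_union_of_disjoint hdY, Finset.card_union_of_disjoint hdisj,
        Finset.card_image_of_injective _ hinj, hcard, hYc]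
      omega
    have hBS : B ⊆ S :=
      Finset.union_subset (Finset.union_subset hA (Finset.image_subset_iff.mpr fun i hi => hS i (hA hi))) hYS
    have hBimg : B.image τ = B := by
      rw [hBdef, Finset.image_union, Finset.image_union, Finset.image_image,
        show τ ∘ τ = id from funext hτ, Finset.image_id, Finset.union_comm (A.image τ) A]
      congr 1
      conv_rhs => rw [← Finset.image_id (s := Y)]
      exact Finset.image_congr fun i hi => hYfix i hi
    obtain ⟨L, h1, h2, h3, h4⟩ := ih (t - 1) (by omega) (S \ B) (fun i hi => hsdiff _ i hBimg hi) (by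
      rw [Finset.card_sdiff_of_subset hBS, hc, hBc, Nat.sub_mul, one_mul])
    refine ⟨B :: L, by simp [h1]; omega, fun C hC => ?_, fun i hi => ?_, List.pairwise_cons.mpr ⟨fun C hC => ?_, h4⟩⟩
    · rcases List.mem_cons.mp hC with rfl | hC
      · exact ⟨hBc, hBS, hBimg.symm ▸ List.mem_cons_self ..⟩
      · exact ⟨(h2 C hC).1, (h2 C hC).2.1.trans Finset.sdiff_subset, List.mem_cons_of_mem _ (h2 C hC).2.2⟩
    · by_cases hiB : i ∈ B
      · exact ⟨B, List.mem_cons_self .., hiB⟩
      · obtain ⟨C, hC, hiC⟩ := h3 i (Finset.mem_sdiff.mpr ⟨hi, hiB⟩)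
        exact ⟨C, List.mem_cons_of_mem _ hC, hiC⟩
    · exact Finset.disjoint_left.mpr fun i hi hiC => (Finset.mem_sdiff.mp ((h2 C hC).2.1 hiC)).2 hi

/-- Equal blocks permuted by an involution. -/
theorem exists_blocks [Fintype ι] {t b : ℕ} (hb : 0 < b) (hc : Fintype.card ι = t * b) :
    ∃ (blk : ι → Fin t) (σ : Equiv.Perm (Fin t)), (∀ j, (Finset.univ.filter fun i => blk i = j).card = b) ∧
      ∀ i, blk (τ i) = σ (blk i) := by
  classical
  obtain ⟨L, h1, h2, h3, h4⟩ := exists_blocks_aux τ hτ b t Finset.univ (fun i _ => Finset.mem_univ _) hc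
  subst h1
  choose idx hidx hmem using fun i : ι => (show ∃ j : Fin L.length, ∃ _ : True, i ∈ L.get j by
    obtain ⟨A, hA, hiA⟩ := h3 i (Finset.mem_univ i)
    obtain ⟨j, rfl⟩ := List.mem_iff_get.mp hA
    exact ⟨j, trivial, hiA⟩)
  have huniq : ∀ i j, i ∈ L.get j → idx i = j := by
    intro i j hij
    by_contra hne
    rcases lt_or_gt_of_ne hne with h | h
    · exact Finset.disjoint_left.mp (List.pairwise_iff_get.mp h4 _ _ h) (hmem i) hij
    · exact Finset.disjoint_left.mp (List.pairwise_iff_get.mp h4 _ _ h) hij (hmem i)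
  have hfib : ∀ j, (Finset.univ.filter fun i => idx i = j) = L.get j := fun j => by
    ext i
    simp only [Finset.mem_filter, Finset.mem_univ, true_and]
    exact ⟨fun h => h ▸ hmem i, huniq i j⟩
  choose s hs using fun j : Fin L.length => List.mem_iff_get.mp (h2 (L.get j) (L.get_mem j)).2.2
  have hstep : ∀ i, idx (τ i) = s (idx i) := fun i =>
    huniq _ _ (by rw [hs]; exact Finset.mem_image_of_mem τ (hmem i))
  have hne : ∀ j, ∃ i, idx i = j := fun j => by
    have : (L.get j).Nonempty := Finset.card_pos.mp (by rw [(h2 _ (L.get_mem j)).1]; exact hb)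
    obtain ⟨i, hi⟩ := this
    exact ⟨i, huniq i j hi⟩
  have hss : ∀ j, s (s j) = j := fun j => by
    obtain ⟨i, rfl⟩ := hne j
    rw [← hstep, ← hstep, hτ]
  exact ⟨idx, ⟨s, s, hss, hss⟩, fun j => by rw [hfib, (h2 _ (L.get_mem j)).1], hstep⟩

end blocks

section spans

variable {F : Type u} [Field F] {n : Type} [Fintype n] [DecidableEq n]

/-- A basis cut into equal blocks gives a decomposition. -/
theorem decomp_of_blocks {ι : Type} [Fintype ι] (w : ι → (n → F)) (hli : LinearIndependent F w)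
    (hspan : ⊤ ≤ span F (Set.range w)) {t a : ℕ} (ht : 2 ≤ t) (ha : 0 < a) (blk : ι → Fin t)
    (hblk : ∀ j, (Finset.univ.filter fun i => blk i = j).card = a) (T : (n → F) →ₗ[F] (n → F))
    (hT : Function.Injective T) (σ : Equiv.Perm (Fin t))
    (hTw : ∀ i, T (w i) ∈ span F (w '' {k | blk k = σ (blk i)})) :
    Cfsg.Geo.IsMDecomposition a (fun j => span F (w '' {k | blk k = j})) ∧
      ∀ j, (span F (w '' {k | blk k = j})).map T = span F (w '' {k | blk k = σ j}) := by
  classical
  have hfin : ∀ j, Module.finrank F (span F (w '' {k | blk k = j})) = a := fun j => by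
    have h := finrank_span_eq_card (hli.comp (Subtype.val : {k // blk k = j} → ι) Subtype.val_injective)
    rw [Set.range_comp, Subtype.range_coe_subtype] at h
    rw [h, Fintype.card_subtype, hblk]
  refine ⟨⟨ht, ha, hfin, fun j => ?_, ?_⟩, fun j => ?_⟩
  · have hle : (⨆ (k) (_ : k ≠ j), span F (w '' {l | blk l = k})) ≤ span F (w '' {l | blk l ≠ j}) :=
      iSup₂_le fun k hk => span_mono (Set.image_mono fun l (hl : blk l = k) => show blk l ≠ j by rw [hl]; exact hk)
    exact Disjoint.mono_right hle (hli.disjoint_span_image (Set.disjoint_left.mpr fun l h h' => h' h))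
  · rw [eq_top_iff]
    refine hspan.trans (span_le.mpr ?_)
    rintro _ ⟨i, rfl⟩
    exact le_iSup (fun j => span F (w '' {k | blk k = j})) (blk i) (subset_span ⟨i, rfl, rfl⟩)
  · refine eq_of_le_of_finrank_le ?_ ?_
    · rw [map_span, span_le]
      rintro _ ⟨_, ⟨i, hi, rfl⟩, rfl⟩
      have := hTw i
      rwa [show blk i = j from hi] at this
    · rw [← (equivMapOfInjective T hT _).finrank_eq, hfin, hfin]

end spans

section linear

variable {F : Type u} [Field F] {V : Type v} [AddCommGroup V] [Module F V] [FiniteDimensional F V]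

/-- A basis permuted up to scalars by a map with scalar square. -/
theorem exists_perm_basis (T : V →ₗ[F] V) (z : F) (hz : z ≠ 0) (hT : ∀ v, T (T v) = z • v) :
    ∃ (ι : Type) (_ : Fintype ι) (_ : DecidableEq ι) (w : ι → V) (τ : ι → ι), LinearIndependent F w ∧
      ⊤ ≤ span F (Set.range w) ∧ (∀ i, τ (τ i) = i) ∧ ∀ i, T (w i) ∈ span F {w (τ i)} := by
  classical
  have hinj : Function.Injective T := fun a b e => by
    have := congrArg T e
    rw [hT, hT] at this
    exact smul_right_injective V hz this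
  have pairs : ∀ U : Submodule F V, (Disjoint U (U.map T)) → (U ⊔ U.map T = ⊤) →
      ∃ (ι : Type) (_ : Fintype ι) (_ : DecidableEq ι) (w : ι → V) (τ : ι → ι), LinearIndependent F w ∧
        ⊤ ≤ span F (Set.range w) ∧ (∀ i, τ (τ i) = i) ∧ ∀ i, T (w i) ∈ span F {w (τ i)} := by
    intro U hd hs
    let c := Module.finBasis F U
    refine ⟨Fin (Module.finrank F U) ⊕ Fin (Module.finrank F U), inferInstance, inferInstance,
      Sum.elim (fun i => (c i : V)) (fun i => T (c i)), Sum.swap, ?_, ?_, fun i => Sum.swap_swap i, ?_⟩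
    · refine LinearIndependent.sum_type (c.linearIndependent.map' U.subtype U.ker_subtype)
        ((c.linearIndependent.map' U.subtype U.ker_subtype).map' T (LinearMap.ker_eq_bot.mpr hinj)) ?_
      refine hd.mono (span_le.mpr ?_) (span_le.mpr ?_)
      · rintro _ ⟨i, rfl⟩; exact (c i).2
      · rintro _ ⟨i, rfl⟩; exact ⟨_, (c i).2, rfl⟩
    · have hU : U ≤ span F (Set.range fun i => (c i : V)) := fun v hv => by
        have : (⟨v, hv⟩ : U) ∈ span F (Set.range c) := by rw [c.span_eq]; trivial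
        have := apply_mem_span_image_of_mem_span U.subtype this
        rwa [← Set.range_comp] at this
      rw [← hs, Set.Sum.elim_range, span_union]
      refine sup_le_sup hU ?_
      rintro _ ⟨v, hv, rfl⟩
      have := apply_mem_span_image_of_mem_span T (hU hv)
      rwa [← Set.range_comp] at this
    · rintro (i | i)
      · exact subset_span rfl
      · show T (T (c i)) ∈ span F {(c i : V)}
        rw [hT]; exact smul_mem _ _ (subset_span rfl)
  by_cases hr : ∃ r : F, r * r = z
  · obtain ⟨r, rfl⟩ := hr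
    have hr0 : r ≠ 0 := left_ne_zero_of_mul hz
    by_cases h2 : (2 : F) ≠ 0
    · set E : Set V := {v | ∃ ε : F, T v = ε • v}
      have hE : span F E = ⊤ := by
        rw [eq_top_iff]
        intro v _
        have h1 : T v + r • v ∈ span F E := subset_span ⟨r, by rw [map_add, hT, map_smul]; module⟩
        have h2' : T v - r • v ∈ span F E := subset_span ⟨-r, by rw [map_sub, hT, map_smul]; module⟩
        have h3 := sub_mem h1 h2'
        rw [show T v + r • v - (T v - r • v) = (2 * r) • v by module] at h3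
        have := smul_mem _ (2 * r)⁻¹ h3
        rwa [inv_smul_smul₀ (mul_ne_zero h2 hr0)] at this
      obtain ⟨b, hb, hbs, hbli⟩ := exists_linearIndependent F E
      haveI : Fintype b := hbli.setFinite.fintype
      let e := Fintype.equivFin b
      refine ⟨Fin (Fintype.card b), inferInstance, inferInstance, fun i => (e.symm i : V), id,
        hbli.comp _ e.symm.injective, ?_, fun _ => rfl, fun i => ?_⟩
      · rw [← hE, ← hbs]
        exact span_mono fun v hv => ⟨e ⟨v, hv⟩, by simp⟩
      · obtain ⟨ε, hε⟩ := hb (e.symm i).2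
        rw [hε]
        exact smul_mem _ _ (subset_span rfl)
    · rw [not_not] at h2
      let N : V →ₗ[F] V := T - r • LinearMap.id
      have hN : ∀ v, N v = T v - r • v := fun v => rfl
      have hN2 : ∀ v, N (N v) = 0 := fun v => by
        rw [hN, hN, map_sub, map_smul, hT]
        have : (2 * r) • T v = 0 := by rw [h2, zero_mul, zero_smul]
        calc _ = (2 : F) • ((r * r) • v) - (2 * r) • T v := by module
          _ = 0 := by rw [this, h2, zero_smul, sub_zero]
      obtain ⟨C, hC⟩ := Submodule.exists_isCompl (LinearMap.ker N)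
      obtain ⟨D₀, hD₀⟩ := Submodule.exists_isCompl (C.map N)
      have hNC : C.map N ≤ LinearMap.ker N := by rintro _ ⟨v, -, rfl⟩; exact hN2 v
      set D := D₀ ⊓ LinearMap.ker N
      have hker : C.map N ⊔ D = LinearMap.ker N := by
        rw [show D = D₀ ⊓ LinearMap.ker N from rfl, ← sup_inf_assoc_of_le D₀ hNC, hD₀.sup_eq_top, top_inf_eq]
      let c := Module.finBasis F C
      let d := Module.finBasis F D
      let w : (Fin (Module.finrank F C) ⊕ Fin (Module.finrank F C)) ⊕ Fin (Module.finrank F D) → V :=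
        Sum.elim (Sum.elim (fun i => (c i : V)) (fun i => T (c i))) (fun i => (d i : V))
      have hCle : ∀ v ∈ C, v ∈ span F (Set.range w) := fun v hv => by
        have : (⟨v, hv⟩ : C) ∈ span F (Set.range c) := by rw [c.span_eq]; trivial
        have := apply_mem_span_image_of_mem_span C.subtype this
        exact span_mono (by rintro _ ⟨_, ⟨i, rfl⟩, rfl⟩; exact ⟨Sum.inl (Sum.inl i), rfl⟩) this
      have hTC : ∀ v ∈ C, T v ∈ span F (Set.range w) := fun v hv => by
        have : (⟨v, hv⟩ : C) ∈ span F (Set.range c) := by rw [c.span_eq]; trivial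
        have := apply_mem_span_image_of_mem_span (T.comp C.subtype) this
        exact span_mono (by rintro _ ⟨_, ⟨i, rfl⟩, rfl⟩; exact ⟨Sum.inl (Sum.inr i), rfl⟩) this
      have hDle : ∀ v ∈ D, v ∈ span F (Set.range w) := fun v hv => by
        have : (⟨v, hv⟩ : D) ∈ span F (Set.range d) := by rw [d.span_eq]; trivial
        have := apply_mem_span_image_of_mem_span D.subtype this
        exact span_mono (by rintro _ ⟨_, ⟨i, rfl⟩, rfl⟩; exact ⟨Sum.inr i, rfl⟩) this
      have hspan : ⊤ ≤ span F (Set.range w) := by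
        rw [← hC.sup_eq_top, ← hker]
        refine sup_le (sup_le ?_ hDle) hCle
        rintro _ ⟨v, hv, rfl⟩
        rw [hN]
        exact sub_mem (hTC v hv) (smul_mem _ _ (hCle v hv))
      have hcard : Fintype.card ((Fin (Module.finrank F C) ⊕ Fin (Module.finrank F C)) ⊕ Fin (Module.finrank F D)) =
          Module.finrank F V := by
        have h1 := finrank_add_eq_of_isCompl hC
        have hdisj : Disjoint (C.map N) D := Disjoint.mono_right inf_le_left hD₀.disjoint
        have h2' := finrank_sup_add_finrank_inf_eq (C.map N) D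
        rw [hdisj.eq_bot, finrank_bot, hker] at h2'
        have h3 : Module.finrank F (C.map N) = Module.finrank F C := by
          have hi : Function.Injective (N.comp C.subtype) := by
            intro a b e
            refine Subtype.ext (sub_eq_zero.mp (disjoint_def.mp hC.disjoint _ ?_ (sub_mem a.2 b.2)))
            rw [LinearMap.mem_ker, map_sub, sub_eq_zero]
            exact e
          rw [show C.map N = LinearMap.range (N.comp C.subtype) by rw [LinearMap.range_comp, range_subtype]]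
          exact LinearMap.finrank_range_of_inj hi
        simp only [Fintype.card_sum, Fintype.card_fin]
        omega
      refine ⟨_, inferInstance, inferInstance, w, Sum.map Sum.swap id,
        linearIndependent_of_top_le_span_of_card_eq_finrank hspan hcard, hspan,
        fun i => by rcases i with (i | i) | i <;> rfl, ?_⟩
      rintro ((i | i) | i)
      · exact subset_span rfl
      · show T (T (c i)) ∈ span F {(c i : V)}
        rw [hT]; exact smul_mem _ _ (subset_span rfl)
      · show T (d i) ∈ span F {(d i : V)}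
        have : N (d i) = 0 := (d i).2.2
        rw [hN, sub_eq_zero] at this
        rw [this]
        exact smul_mem _ _ (subset_span rfl)
  · -- no eigenvector
    obtain ⟨U, hU, hmax⟩ := exists_maximalFor_of_wellFoundedGT (fun U : Submodule F V => Disjoint U (U.map T)) id
      ⟨⊥, disjoint_bot_left⟩
    refine pairs U hU ?_
    by_contra hne
    obtain ⟨u, -, hu⟩ := SetLike.exists_of_lt (lt_top_iff_ne_top.mpr hne)
    have hWinv : ∀ x ∈ U ⊔ U.map T, T x ∈ U ⊔ U.map T := by
      intro x hx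
      obtain ⟨a, ha, b, ⟨c, hc, rfl⟩, rfl⟩ := mem_sup.mp hx
      rw [map_add, hT]
      exact add_mem (mem_sup_right ⟨a, ha, rfl⟩) (mem_sup_left (smul_mem _ _ hc))
    have hind : ∀ α β : F, α • u + β • T u ∈ U ⊔ U.map T → α = 0 ∧ β = 0 := by
      intro α β h
      have h' := hWinv _ h
      rw [map_add, map_smul, map_smul, hT] at h'
      have h3 := sub_mem (smul_mem _ α h) (smul_mem _ β h')
      rw [show α • (α • u + β • T u) - β • (α • T u + β • z • u) = (α * α - z * (β * β)) • u by module] at h3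
      have h0 : α * α - z * (β * β) = 0 := by
        by_contra hd
        have := smul_mem _ (α * α - z * (β * β))⁻¹ h3
        rw [inv_smul_smul₀ hd] at this
        exact hu this
      have hb : β = 0 := by
        by_contra hb
        exact hr ⟨α / β, by field_simp; linear_combination h0⟩
      subst hb
      exact ⟨mul_self_eq_zero.mp (by linear_combination h0), rfl⟩
    have hd' : Disjoint (U ⊔ span F {u}) ((U ⊔ span F {u}).map T) := by
      rw [disjoint_def]
      intro x hx hx'
      obtain ⟨a, ha, y, hy, rfl⟩ := mem_sup.mp hx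
      obtain ⟨α, rfl⟩ := mem_span_singleton.mp hy
      obtain ⟨x', hx'', e⟩ := hx'
      obtain ⟨b, hb, y', hy', rfl⟩ := mem_sup.mp hx''
      obtain ⟨β, rfl⟩ := mem_span_singleton.mp hy'
      rw [map_add, map_smul] at e
      obtain ⟨h1, h2⟩ := hind α (-β) (by
        rw [show α • u + (-β) • T u = T b - a by linear_combination (norm := module) -e]
        exact sub_mem (mem_sup_right ⟨b, hb, rfl⟩) (mem_sup_left ha))
      rw [h1, zero_smul, add_zero] at e ⊢
      rw [neg_eq_zero.mp h2, zero_smul, add_zero] at e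
      exact disjoint_def.mp hU a ha ⟨b, hb, e⟩
    have := hmax hd' (le_sup_left : U ≤ U ⊔ span F {u})
    exact hu (mem_sup_left (this (mem_sup_right (subset_span rfl))))

end linear

/-- Linear involutions stabilise decompositions. -/
theorem linear_stab {F : Type u} [Field F] {n a t : ℕ} (hat : n = a * t) (ha : 1 ≤ a) (ht : 2 ≤ t)
    (x : Matrix.SpecialLinearGroup (Fin n) F)
    (hx1 : ∃ z : F, ((x ^ 2 : Matrix.SpecialLinearGroup (Fin n) F) : Matrix (Fin n) (Fin n) F) =
      z • (1 : Matrix (Fin n) (Fin n) F)) :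
    ∃ D : Fin t → Submodule F (Fin n → F), Cfsg.Geo.IsMDecomposition a D ∧
        ∃ σ : Equiv.Perm (Fin t), ∀ j, (D j).map (Matrix.toLin' (x : Matrix (Fin n) (Fin n) F)) = D (σ j) := by
  obtain ⟨z, hz⟩ := hx1
  rw [Matrix.SpecialLinearGroup.coe_pow, pow_two] at hz
  haveI : Nonempty (Fin n) := ⟨⟨0, hat ▸ Nat.mul_pos ha (by omega)⟩⟩
  have hdet : ((x : Matrix (Fin n) (Fin n) F)).det = 1 := x.2
  have hz0 : z ≠ 0 := fun e => by
    have := congrArg Matrix.det hz
    rw [Matrix.det_mul, hdet, e, zero_smul, Matrix.det_zero, one_mul] at this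
    exact one_ne_zero this
  set T := Matrix.toLin' (x : Matrix (Fin n) (Fin n) F)
  have hT : ∀ v, T (T v) = z • v := fun v => by
    rw [← LinearMap.comp_apply, ← Matrix.toLin'_mul, hz, Matrix.toLin'_apply, Matrix.smul_mulVec, Matrix.one_mulVec]
  have hinj : Function.Injective T := fun a b e => by
    have := congrArg T e
    rw [hT, hT] at this
    exact smul_right_injective _ hz0 this
  obtain ⟨ι, _, _, w, τ, hli, hsp, hτ, hTw⟩ := exists_perm_basis T z hz0 hT
  have hcard : Fintype.card ι = t * a := by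
    have hB := Module.finrank_eq_card_basis (Module.Basis.mk hli hsp)
    rw [Module.finrank_fin_fun] at hB
    rw [← hB, hat, mul_comm]
  obtain ⟨blk, σ, hblk, hstep⟩ := exists_blocks τ hτ ha hcard
  obtain ⟨hD, hmap⟩ := decomp_of_blocks w hli hsp ht ha blk hblk T hinj σ fun i => by
    refine span_mono ?_ (hTw i)
    rintro _ rfl
    exact ⟨τ i, hstep i, rfl⟩
  exact ⟨_, hD, σ, hmap⟩

section symplectic

variable {F : Type u} [Field F] {V : Type v} [AddCommGroup V] [Module F V]

/-- Hyperbolic pairs. -/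
structure Hyp (B : LinearMap.BilinForm F V) {ι : Type} (e f : ι → V) : Prop where
  ef : ∀ i, B (e i) (f i) = 1
  ef' : ∀ i j, i ≠ j → B (e i) (f j) = 0
  ee : ∀ i j, B (e i) (e j) = 0
  ff : ∀ i j, B (f i) (f j) = 0

/-- Pairs moved by the map. -/
structure Good (B : LinearMap.BilinForm F V) (T : V →ₗ[F] V) (z : F) {ι : Type} (e f : ι → V) (τ : ι → ι) : Prop where
  hyp : Hyp B e f
  inv : ∀ i, τ (τ i) = i
  mem : ∀ i, T (e i) ∈ span F {e (τ i), f (τ i)} ∧ T (f i) ∈ span F {e (τ i), f (τ i)}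
  odd : (2 : F) ≠ 0 → ∀ i, τ i = i ∧ (z = 1 → T (e i) ∈ span F {e i} ∧ T (f i) ∈ span F {f i}) ∧
    (z = -1 → T (e i) ∈ span F {f i} ∧ T (f i) ∈ span F {e i})

variable {B : LinearMap.BilinForm F V} (hA : B.IsAlt) {T : V →ₗ[F] V} {z : F} (hz : z * z = 1)
  (hT : ∀ v, T (T v) = z • v) (hB : ∀ u v, B (T u) (T v) = B u v)
include hA hz hT hB

theorem swap_form (u v : V) : B u (T v) = z * B (T u) v := by
  rw [← hB u (T v), hT, map_smul, smul_eq_mul]

theorem exists_piece (S : Submodule F V) (hST : ∀ v ∈ S, T v ∈ S)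
    (hnd : ∀ u ∈ S, (∀ v ∈ S, B u v = 0) → u = 0) (hne : S ≠ ⊥) :
    ∃ (ι : Type) (_ : Fintype ι) (_ : Nonempty ι) (e f : ι → V) (τ : ι → ι),
      Good B T z e f τ ∧ (∀ i, e i ∈ S ∧ f i ∈ S) := by
  classical
  by_cases hA1 : ∃ u ∈ S, B u (T u) ≠ 0
  · obtain ⟨u, hu, hc⟩ := hA1
    refine ⟨Unit, inferInstance, inferInstance, fun _ => u, fun _ => (B u (T u))⁻¹ • T u, id,
      ⟨⟨fun _ => by simp [hc], fun i j h => absurd (Subsingleton.elim i j) h, fun _ _ => hA u,
        fun _ _ => by simp [hA (T u)]⟩, fun _ => rfl, fun _ => ⟨?_, ?_⟩, fun h2 _ => ⟨rfl, fun e => ?_, fun _ => ⟨?_, ?_⟩⟩⟩,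
      fun _ => ⟨hu, smul_mem _ _ (hST u hu)⟩⟩
    · show T u ∈ _
      exact mem_span_pair.mpr ⟨0, B u (T u), by simp [hc]⟩
    · show T ((B u (T u))⁻¹ • T u) ∈ _
      exact mem_span_pair.mpr ⟨(B u (T u))⁻¹ * z, 0, by simp [hT, smul_smul]⟩
    · exfalso
      have h := swap_form hA hz hT hB u u
      rw [e, one_mul, ← hA.neg_eq u (T u)] at h
      refine hc ((mul_eq_zero.mp (show (2 : F) * B u (T u) = 0 by linear_combination h)).resolve_left h2)
    · show T u ∈ _
      exact mem_span_singleton.mpr ⟨B u (T u), by simp [hc]⟩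
    · show T ((B u (T u))⁻¹ • T u) ∈ _
      exact mem_span_singleton.mpr ⟨(B u (T u))⁻¹ * z, by simp [hT, smul_smul]⟩
  push Not at hA1
  have hsym : ∀ u ∈ S, ∀ v ∈ S, B u (T v) + B v (T u) = 0 := fun u hu v hv => by
    have := hA1 (u + v) (add_mem hu hv)
    simp only [map_add, LinearMap.add_apply] at this
    rw [hA1 u hu, hA1 v hv] at this
    linear_combination this
  obtain ⟨u₀, hu₀, hu₀0⟩ := S.ne_bot_iff.mp hne
  obtain ⟨v₀, hv₀, hv₀0⟩ : ∃ v ∈ S, B u₀ v ≠ 0 := by
    by_contra h; push Not at h; exact hu₀0 (hnd u₀ hu₀ h)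
  have hz1 : z = 1 := by
    rcases mul_self_eq_one_iff.mp hz with e | e
    · exact e
    · by_cases h2 : (2 : F) = 0
      · rw [e]; linear_combination -h2
      exfalso
      refine hu₀0 ?_
      have hall : ∀ v ∈ S, B (T u₀) v = 0 := fun v hv => by
        have h := hsym u₀ hu₀ v hv
        have h1 := swap_form hA hz hT hB u₀ v
        rw [e] at h1
        rw [h1, ← hA.neg_eq (T u₀) v] at h
        exact (mul_eq_zero.mp (show (2 : F) * B (T u₀) v = 0 by linear_combination -h)).resolve_left h2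
      have := congrArg T (hnd _ (hST _ hu₀) hall)
      rw [hT, map_zero] at this
      exact (smul_eq_zero.mp this).resolve_left (left_ne_zero_of_mul_eq_one hz)
  subst hz1
  simp only [one_smul] at hT
  have hsw : ∀ u v, B u (T v) = B (T u) v := fun u v => by
    have := swap_form hA hz (by simpa using hT) hB u v
    rwa [one_mul] at this
  have eig : ∀ u ∈ S, ∀ ε : F, T u = ε • u → ∀ v ∈ S, T v = ε • v → B u v ≠ 0 →
      ∃ (ι : Type) (_ : Fintype ι) (_ : Nonempty ι) (e f : ι → V) (τ : ι → ι),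
        Good B T 1 e f τ ∧ (∀ i, e i ∈ S ∧ f i ∈ S) := by
    intro u hu ε hTu v hv hTv hc
    refine ⟨Unit, inferInstance, inferInstance, fun _ => u, fun _ => (B u v)⁻¹ • v, id,
      ⟨⟨fun _ => by simp [hc], fun i j h => absurd (Subsingleton.elim i j) h, fun _ _ => hA u,
        fun _ _ => by simp [hA v]⟩, fun _ => rfl, fun _ => ⟨?_, ?_⟩, fun h2 _ => ⟨rfl, fun _ => ⟨?_, ?_⟩, fun e => ?_⟩⟩,
      fun _ => ⟨hu, smul_mem _ _ hv⟩⟩
    · exact mem_span_pair.mpr ⟨ε, 0, by simp [hTu]⟩
    · exact mem_span_pair.mpr ⟨0, ε, by simp [hTv, smul_comm ε]⟩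
    · exact mem_span_singleton.mpr ⟨ε, by simp [hTu]⟩
    · exact mem_span_singleton.mpr ⟨ε, by simp [hTv, smul_comm ε]⟩
    · exact absurd (show (2 : F) = 0 by linear_combination e) h2
  by_cases h2 : (2 : F) = 0
  · by_cases hid : ∀ v ∈ S, T v = v
    · exact eig u₀ hu₀ 1 (by rw [hid u₀ hu₀, one_smul]) v₀ hv₀ (by rw [hid v₀ hv₀, one_smul]) hv₀0
    push Not at hid
    obtain ⟨u, hu, huT⟩ := hid
    obtain ⟨v, hv, hv1⟩ : ∃ v ∈ S, B (T u + u) v ≠ 0 := by
      by_contra h
      push Not at h
      refine huT ?_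
      have := hnd _ (add_mem (hST u hu) hu) h
      rw [add_eq_zero_iff_eq_neg] at this
      rw [this]
      calc -u = ((-1 : F)) • u := by rw [neg_smul, one_smul]
        _ = u := by rw [show (-1 : F) = 1 by linear_combination -h2, one_smul]
    obtain ⟨v', hv', hc, hd⟩ : ∃ v' ∈ S, B u v' ≠ 0 ∧ B u (T v') = 0 := by
      by_cases hα : B u v = 0
      · refine ⟨T v, hST v hv, ?_, by rw [hT]; exact hα⟩
        rw [map_add, LinearMap.add_apply, hα, add_zero, ← hsw] at hv1
        exact hv1
      · refine ⟨v + (B u (T v) / B u v) • T v, add_mem hv (smul_mem _ _ (hST v hv)), ?_, ?_⟩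
        · rw [map_add, map_smul, smul_eq_mul]
          rw [map_add, LinearMap.add_apply, ← hsw] at hv1
          intro e
          field_simp at e
          have : (B u (T v) + B u v) * (B u (T v) + B u v) = 0 := by linear_combination e + B u (T v) * B u v * h2
          exact hv1 (mul_self_eq_zero.mp this)
        · rw [map_add, map_smul, hT, map_add, map_smul, smul_eq_mul]
          field_simp
          linear_combination B u (T v) * h2
    set f₀ := (B u v')⁻¹ • v' with hf₀
    have hf₀S : f₀ ∈ S := smul_mem _ _ hv'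
    have h1 : B u f₀ = 1 := by simp [hf₀, hc]
    have h0 : B u (T f₀) = 0 := by simp [hf₀, hd]
    have h0' : B (T u) f₀ = 0 := by rw [← hsw]; exact h0
    refine ⟨Bool, inferInstance, inferInstance, fun c => bif c then T u else u, fun c => bif c then T f₀ else f₀,
      not, ⟨⟨?_, ?_, ?_, ?_⟩, Bool.not_not, ?_, fun h => absurd h2 h⟩, ?_⟩
    · rintro (_ | _)
      exacts [h1, (hB u f₀).trans h1]
    · rintro (_ | _) (_ | _) h
      exacts [absurd rfl h, h0, h0', absurd rfl h]
    · rintro (_ | _) (_ | _)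
      exacts [hA u, hA1 u hu, show B (T u) u = 0 by rw [← hA.neg_eq u (T u), hA1 u hu, neg_zero], hA (T u)]
    · rintro (_ | _) (_ | _)
      exacts [hA f₀, hA1 f₀ hf₀S, show B (T f₀) f₀ = 0 by rw [← hA.neg_eq f₀ (T f₀), hA1 f₀ hf₀S, neg_zero], hA (T f₀)]
    · rintro (_ | _)
      · exact ⟨subset_span (Set.mem_insert _ _), subset_span (Set.mem_insert_of_mem _ rfl)⟩
      · show T (T u) ∈ span F {u, f₀} ∧ T (T f₀) ∈ span F {u, f₀}
        rw [hT, hT]
        exact ⟨subset_span (Set.mem_insert _ _), subset_span (Set.mem_insert_of_mem _ rfl)⟩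
    · rintro (_ | _) <;> simp [hu, hf₀S, hST u hu, hST f₀ hf₀S]
  · obtain ⟨ε, u, hu, hu0, hε, hTu⟩ : ∃ (ε : F) (u : V), u ∈ S ∧ u ≠ 0 ∧ ε * ε = 1 ∧ T u = ε • u := by
      by_cases hp : T u₀ + u₀ = 0
      · exact ⟨-1, u₀, hu₀, hu₀0, by ring, by rw [neg_one_smul]; exact eq_neg_of_add_eq_zero_left hp⟩
      · exact ⟨1, T u₀ + u₀, add_mem (hST _ hu₀) hu₀, hp, one_mul 1, by rw [map_add, hT, one_smul, add_comm]⟩
    obtain ⟨v, hv, hv0⟩ : ∃ v ∈ S, B u v ≠ 0 := by
      by_contra h; push Not at h; exact hu0 (hnd u hu h)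
    refine eig u hu ε hTu (v + ε • T v) (add_mem hv (smul_mem _ _ (hST v hv))) ?_ ?_
    · rw [map_add, map_smul, hT, smul_add, smul_smul, hε, one_smul, add_comm]
    · rw [map_add, map_smul, hsw, hTu, map_smul, LinearMap.smul_apply, smul_eq_mul, smul_eq_mul, ← mul_assoc, hε,
        one_mul]
      intro e
      exact hv0 ((mul_eq_zero.mp (show (2 : F) * B u v = 0 by linear_combination e)).resolve_left h2)

theorem exists_planes [FiniteDimensional F V] : ∀ (n : ℕ) (S : Submodule F V), Module.finrank F S ≤ n →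
    (∀ v ∈ S, T v ∈ S) → (∀ u ∈ S, (∀ v ∈ S, B u v = 0) → u = 0) →
    ∃ (ι : Type) (_ : Fintype ι) (e f : ι → V) (τ : ι → ι), Good B T z e f τ ∧ (∀ i, e i ∈ S ∧ f i ∈ S) ∧
      S ≤ span F (Set.range (Sum.elim e f)) := by
  intro n
  induction n with
  | zero =>
    intro S hS _ _
    refine ⟨Empty, inferInstance, Empty.elim, Empty.elim, id, ⟨⟨fun i => i.elim, fun i => i.elim, fun i => i.elim,
      fun i => i.elim⟩, fun i => i.elim, fun i => i.elim, fun _ i => i.elim⟩, fun i => i.elim, ?_⟩
    rw [finrank_eq_zero.mp (Nat.le_zero.mp hS)]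
    exact bot_le
  | succ n ih =>
    intro S hS hST hnd
    by_cases hne : S = ⊥
    · exact ih S (by rw [hne, finrank_bot]; omega) hST hnd
    obtain ⟨κ, _, ⟨i₀⟩, e₀, f₀, τ₀, hG₀, hm₀⟩ := exists_piece hA hz hT hB S hST hnd hne
    classical
    let P : V →ₗ[F] V := ∑ i, ((B.flip (f₀ i)).smulRight (e₀ i) - (B.flip (e₀ i)).smulRight (f₀ i))
    have hP : ∀ s, P s = ∑ i, (B s (f₀ i) • e₀ i - B s (e₀ i) • f₀ i) := fun s => by
      simp [P, LinearMap.sum_apply]
    have hPe : ∀ s j, B (P s) (e₀ j) = B s (e₀ j) ∧ B (P s) (f₀ j) = B s (f₀ j) := fun s j => by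
      constructor
      · rw [hP, map_sum, LinearMap.sum_apply, Finset.sum_eq_single j]
        · simp only [map_sub, map_smul, LinearMap.sub_apply, LinearMap.smul_apply, smul_eq_mul, hG₀.hyp.ee]
          rw [← hA.neg_eq (e₀ j) (f₀ j), hG₀.hyp.ef]; ring
        · intro i _ hij
          simp only [map_sub, map_smul, LinearMap.sub_apply, LinearMap.smul_apply, smul_eq_mul, hG₀.hyp.ee]
          rw [← hA.neg_eq (e₀ j) (f₀ i), hG₀.hyp.ef' j i (Ne.symm hij)]; ring
        · simp
      · rw [hP, map_sum, LinearMap.sum_apply, Finset.sum_eq_single j]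
        · simp only [map_sub, map_smul, LinearMap.sub_apply, LinearMap.smul_apply, smul_eq_mul, hG₀.hyp.ff,
            hG₀.hyp.ef]
          ring
        · intro i _ hij
          simp only [map_sub, map_smul, LinearMap.sub_apply, LinearMap.smul_apply, smul_eq_mul, hG₀.hyp.ff,
            hG₀.hyp.ef' i j hij]
          ring
        · simp
    let S' : Submodule F V := S ⊓ ⨅ i, (LinearMap.ker (B.flip (e₀ i)) ⊓ LinearMap.ker (B.flip (f₀ i)))
    have hS' : ∀ s, s ∈ S' ↔ s ∈ S ∧ ∀ i, B s (e₀ i) = 0 ∧ B s (f₀ i) = 0 := fun s => by simp [S']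
    have hspanS : span F (Set.range (Sum.elim e₀ f₀)) ≤ S := span_le.mpr (by
      rintro _ ⟨i | i, rfl⟩
      · exact (hm₀ i).1
      · exact (hm₀ i).2)
    have hPmem : ∀ s, P s ∈ span F (Set.range (Sum.elim e₀ f₀)) := fun s => by
      rw [hP]
      exact sum_mem fun i _ => sub_mem (smul_mem _ _ (subset_span ⟨Sum.inl i, rfl⟩))
        (smul_mem _ _ (subset_span ⟨Sum.inr i, rfl⟩))
    have hsub : ∀ s ∈ S, s - P s ∈ S' := fun s hs => (hS' _).mpr ⟨sub_mem hs (hspanS (hPmem s)), fun i => by
      rw [map_sub, LinearMap.sub_apply, LinearMap.sub_apply, (hPe s i).1, (hPe s i).2, sub_self, sub_self]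
      exact ⟨rfl, rfl⟩⟩
    have hlt : Module.finrank F S' ≤ n := by
      have : S' < S := lt_of_le_of_ne inf_le_left fun e => by
        have h := ((hS' (e₀ i₀)).mp (e ▸ (hm₀ i₀).1)).2 i₀
        rw [hG₀.hyp.ef] at h
        exact one_ne_zero h.2
      have := finrank_lt_finrank_of_lt this
      omega
    have horth : ∀ s ∈ S', ∀ x ∈ span F (Set.range (Sum.elim e₀ f₀)), B s x = 0 := fun s hs x hx => by
      have : span F (Set.range (Sum.elim e₀ f₀)) ≤ LinearMap.ker (B s) := span_le.mpr (by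
        rintro _ ⟨i | i, rfl⟩
        · exact (((hS' s).mp hs).2 i).1
        · exact (((hS' s).mp hs).2 i).2)
      exact this hx
    have hTspan : ∀ x ∈ span F (Set.range (Sum.elim e₀ f₀)), T x ∈ span F (Set.range (Sum.elim e₀ f₀)) := fun x hx => by
      have hle : span F (Set.range (Sum.elim e₀ f₀)) ≤ (span F (Set.range (Sum.elim e₀ f₀))).comap T := span_le.mpr (by
        have hp : ∀ i, span F {e₀ i, f₀ i} ≤ span F (Set.range (Sum.elim e₀ f₀)) := fun i => span_mono (by
          rintro _ (rfl | rfl)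
          · exact ⟨Sum.inl i, rfl⟩
          · exact ⟨Sum.inr i, rfl⟩)
        rintro _ ⟨i | i, rfl⟩
        · exact hp _ (hG₀.mem i).1
        · exact hp _ (hG₀.mem i).2)
      exact hle hx
    have hS'T : ∀ s ∈ S', T s ∈ S' := fun s hs => (hS' _).mpr ⟨hST s ((hS' s).mp hs).1, fun i => by
      have key : ∀ x ∈ span F (Set.range (Sum.elim e₀ f₀)), B (T s) x = 0 := fun x hx => by
        have e : x = T (z • T x) := by rw [map_smul, hT, smul_smul, hz, one_smul]
        rw [e, hB]
        exact horth s hs _ (smul_mem _ _ (hTspan x hx))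
      exact ⟨key _ (subset_span ⟨Sum.inl i, rfl⟩), key _ (subset_span ⟨Sum.inr i, rfl⟩)⟩⟩
    have hnd' : ∀ u ∈ S', (∀ v ∈ S', B u v = 0) → u = 0 := fun u hu h => hnd u ((hS' u).mp hu).1 fun v hv => by
      rw [← sub_add_cancel v (P v), map_add, h _ (hsub v hv), horth u hu _ (hPmem v), add_zero]
    obtain ⟨ι, _, e₁, f₁, τ₁, hG₁, hm₁, hsp₁⟩ := ih S' hlt hS'T hnd'
    refine ⟨κ ⊕ ι, inferInstance, Sum.elim e₀ e₁, Sum.elim f₀ f₁, Sum.map τ₀ τ₁, ⟨⟨?_, ?_, ?_, ?_⟩, ?_, ?_, ?_⟩, ?_, ?_⟩
    · rintro (i | i)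
      · exact hG₀.hyp.ef i
      · exact hG₁.hyp.ef i
    · have x1 : ∀ i j, B (e₁ i) (f₀ j) = 0 := fun i j => (((hS' _).mp (hm₁ i).1).2 j).2
      have x2 : ∀ i j, B (e₀ i) (f₁ j) = 0 := fun i j => by
        rw [← hA.neg_eq (f₁ j) (e₀ i), (((hS' _).mp (hm₁ j).2).2 i).1, neg_zero]
      rintro (i | i) (j | j) h
      · exact hG₀.hyp.ef' i j fun e => h (by rw [e])
      · exact x2 i j
      · exact x1 i j
      · exact hG₁.hyp.ef' i j fun e => h (by rw [e])
    · have x1 : ∀ i j, B (e₁ i) (e₀ j) = 0 := fun i j => (((hS' _).mp (hm₁ i).1).2 j).1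
      rintro (i | i) (j | j)
      · exact hG₀.hyp.ee i j
      · show B (e₀ i) (e₁ j) = 0
        rw [← hA.neg_eq (e₁ j) (e₀ i), x1, neg_zero]
      · exact x1 i j
      · exact hG₁.hyp.ee i j
    · have x1 : ∀ i j, B (f₁ i) (f₀ j) = 0 := fun i j => (((hS' _).mp (hm₁ i).2).2 j).2
      rintro (i | i) (j | j)
      · exact hG₀.hyp.ff i j
      · show B (f₀ i) (f₁ j) = 0
        rw [← hA.neg_eq (f₁ j) (f₀ i), x1, neg_zero]
      · exact x1 i j
      · exact hG₁.hyp.ff i j
    · rintro (i | i)
      · exact congrArg Sum.inl (hG₀.inv i)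
      · exact congrArg Sum.inr (hG₁.inv i)
    · rintro (i | i)
      · exact hG₀.mem i
      · exact hG₁.mem i
    · intro h2
      rintro (i | i)
      · exact ⟨congrArg Sum.inl (hG₀.odd h2 i).1, (hG₀.odd h2 i).2⟩
      · exact ⟨congrArg Sum.inr (hG₁.odd h2 i).1, (hG₁.odd h2 i).2⟩
    · rintro (i | i)
      · exact hm₀ i
      · exact ⟨((hS' _).mp (hm₁ i).1).1, ((hS' _).mp (hm₁ i).2).1⟩
    · intro s hs
      rw [← sub_add_cancel s (P s)]
      refine add_mem (span_mono ?_ (hsp₁ (hsub s hs))) (span_mono ?_ (hPmem s))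
      · rintro _ ⟨i | i, rfl⟩
        · exact ⟨Sum.inl (Sum.inr i), rfl⟩
        · exact ⟨Sum.inr (Sum.inr i), rfl⟩
      · rintro _ ⟨i | i, rfl⟩
        · exact ⟨Sum.inl (Sum.inl i), rfl⟩
        · exact ⟨Sum.inr (Sum.inl i), rfl⟩

end symplectic

theorem Hyp.linearIndependent {F : Type u} [Field F] {V : Type v} [AddCommGroup V] [Module F V]
    {B : LinearMap.BilinForm F V} (hA : B.IsAlt) {ι : Type} [Fintype ι] {e f : ι → V} (h : Hyp B e f) :
    LinearIndependent F (Sum.elim e f) := by
  classical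
  rw [Fintype.linearIndependent_iff]
  intro g hg
  rw [Fintype.sum_sum_type] at hg
  rintro (i | i)
  · have := congrArg (fun x => B x (f i)) hg
    simp only [Sum.elim_inl, Sum.elim_inr, map_add, map_sum, map_smul, LinearMap.add_apply, LinearMap.sum_apply,
      LinearMap.smul_apply, smul_eq_mul, h.ff, mul_zero, Finset.sum_const_zero, add_zero, map_zero,
      LinearMap.zero_apply] at this
    rwa [Finset.sum_eq_single i (fun j _ hj => by rw [h.ef' j i hj, mul_zero]) (by simp), h.ef, mul_one] at this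
  · have := congrArg (fun x => B (e i) x) hg
    simp only [Sum.elim_inl, Sum.elim_inr, map_add, map_sum, map_smul, smul_eq_mul, h.ee, mul_zero,
      Finset.sum_const_zero, zero_add, map_zero] at this
    rwa [Finset.sum_eq_single i (fun j _ hj => by rw [h.ef' i j (Ne.symm hj), mul_zero]) (by simp), h.ef,
      mul_one] at this

section matrix

open Cfsg.Lib.Classical in
theorem sp_data {F : Type u} [Field F] {d : ℕ} (hd : 0 < d) (x : ↥(Matrix.symplecticGroup (Fin d) F))
    (hx1 : ∃ z : F, ((x ^ 2 : ↥(Matrix.symplecticGroup (Fin d) F)) : Matrix (Fin d ⊕ Fin d) (Fin d ⊕ Fin d) F) =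
      z • (1 : Matrix (Fin d ⊕ Fin d) (Fin d ⊕ Fin d) F)) :
    ∃ z : F, z * z = 1 ∧ (∀ v, Matrix.toLin' (x : Matrix (Fin d ⊕ Fin d) (Fin d ⊕ Fin d) F)
        (Matrix.toLin' (x : Matrix (Fin d ⊕ Fin d) (Fin d ⊕ Fin d) F) v) = z • v) ∧
      (∀ u v, sympBilin d F (Matrix.toLin' (x : Matrix (Fin d ⊕ Fin d) (Fin d ⊕ Fin d) F) u)
        (Matrix.toLin' (x : Matrix (Fin d ⊕ Fin d) (Fin d ⊕ Fin d) F) v) = sympBilin d F u v) ∧
      ∃ (ι : Type) (_ : Fintype ι) (e f : ι → (Fin d ⊕ Fin d → F)) (τ : ι → ι),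
        Good (sympBilin d F) (Matrix.toLin' (x : Matrix (Fin d ⊕ Fin d) (Fin d ⊕ Fin d) F)) z e f τ ∧
        ⊤ ≤ span F (Set.range (Sum.elim e f)) ∧ Fintype.card ι = d ∧ LinearIndependent F (Sum.elim e f) := by
  obtain ⟨z, hz⟩ := hx1
  rw [SubmonoidClass.coe_pow, pow_two] at hz
  set T := Matrix.toLin' (x : Matrix (Fin d ⊕ Fin d) (Fin d ⊕ Fin d) F)
  have hT : ∀ v, T (T v) = z • v := fun v => by
    rw [← LinearMap.comp_apply, ← Matrix.toLin'_mul, hz, Matrix.toLin'_apply, Matrix.smul_mulVec, Matrix.one_mulVec]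
  have hB : ∀ u v, sympBilin d F (T u) (T v) = sympBilin d F u v := fun u v => by
    simp only [T, Matrix.toLin'_apply]
    exact (mem_symplectic_iff_form x.1).mp x.2 u v
  haveI : Nonempty (Fin d) := ⟨⟨0, hd⟩⟩
  obtain ⟨u, hu⟩ := exists_ne (0 : Fin d ⊕ Fin d → F)
  obtain ⟨v, hv⟩ : ∃ v, sympBilin d F u v ≠ 0 := by
    by_contra h; push Not at h; exact hu ((sympBilin_nondegenerate d F).1 u h)
  have hz2 : z * z = 1 := by
    have h1 : sympBilin d F (T (T u)) (T (T v)) = sympBilin d F u v := by rw [hB, hB]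
    rw [hT, hT, map_smul, map_smul, LinearMap.smul_apply, smul_eq_mul, smul_eq_mul, ← mul_assoc] at h1
    exact mul_right_cancel₀ hv (h1.trans (one_mul _).symm)
  obtain ⟨ι, _, e, f, τ, hG, -, hsp⟩ := exists_planes (sympBilin_isAlt d F) hz2 hT hB
    (Module.finrank F (Fin d ⊕ Fin d → F)) ⊤ (Submodule.finrank_le _) (fun _ _ => Submodule.mem_top)
    (fun u _ h => (sympBilin_nondegenerate d F).1 u fun v => h v Submodule.mem_top)
  refine ⟨z, hz2, hT, hB, ι, inferInstance, e, f, τ, hG, hsp, ?_, hG.hyp.linearIndependent (sympBilin_isAlt d F)⟩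
  have hbb := Module.finrank_eq_card_basis (Module.Basis.mk (hG.hyp.linearIndependent (sympBilin_isAlt d F)) hsp)
  rw [finrank_sympSpace, Fintype.card_sum] at hbb
  omega

open Cfsg.Lib.Classical in
/-- Symplectic involutions and polar pairs. -/
theorem polar_pair {F : Type u} [Field F] {d : ℕ} (hd : 0 < d) (h2 : (2 : F) ≠ 0)
    (x : ↥(Matrix.symplecticGroup (Fin d) F))
    (hx1 : ∃ z : F, ((x ^ 2 : ↥(Matrix.symplecticGroup (Fin d) F)) : Matrix (Fin d ⊕ Fin d) (Fin d ⊕ Fin d) F) =
      z • (1 : Matrix (Fin d ⊕ Fin d) (Fin d ⊕ Fin d) F)) :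
    ∃ U W : Submodule F (Fin d ⊕ Fin d → F), IsCompl U W ∧ (∀ u ∈ U, ∀ v ∈ U, Cfsg.sympForm d F u v = 0) ∧
      (∀ u ∈ W, ∀ v ∈ W, Cfsg.sympForm d F u v = 0) ∧
        ((U.map (Matrix.toLin' (x : Matrix (Fin d ⊕ Fin d) (Fin d ⊕ Fin d) F)) = U ∧
            W.map (Matrix.toLin' (x : Matrix (Fin d ⊕ Fin d) (Fin d ⊕ Fin d) F)) = W) ∨
         (U.map (Matrix.toLin' (x : Matrix (Fin d ⊕ Fin d) (Fin d ⊕ Fin d) F)) = W ∧
            W.map (Matrix.toLin' (x : Matrix (Fin d ⊕ Fin d) (Fin d ⊕ Fin d) F)) = U)) := by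
  obtain ⟨z, hz2, hT, hB, ι, _, e, f, τ, hG, hsp, -, hli⟩ := sp_data hd x hx1
  set T := Matrix.toLin' (x : Matrix (Fin d ⊕ Fin d) (Fin d ⊕ Fin d) F)
  have iso : ∀ g : ι → (Fin d ⊕ Fin d → F), (∀ i j, sympBilin d F (g i) (g j) = 0) →
      ∀ u ∈ span F (Set.range g), ∀ v ∈ span F (Set.range g), Cfsg.sympForm d F u v = 0 := by
    intro g hg u hu v hv
    rw [← sympBilin_eq_sympForm]
    have h1 : ∀ i, span F (Set.range g) ≤ LinearMap.ker (sympBilin d F (g i)) := fun i =>
      span_le.mpr (by rintro _ ⟨j, rfl⟩; exact hg i j)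
    have h2 : span F (Set.range g) ≤ LinearMap.ker ((sympBilin d F).flip v) :=
      span_le.mpr (by rintro _ ⟨i, rfl⟩; exact h1 i hv)
    exact h2 hu
  refine ⟨span F (Set.range e), span F (Set.range f), ⟨?_, ?_⟩, iso e hG.hyp.ee, iso f hG.hyp.ff, ?_⟩
  · have hdj := hli.disjoint_span_image (s := Set.range Sum.inl) (t := Set.range Sum.inr)
      (Set.isCompl_range_inl_range_inr.disjoint)
    rwa [← Set.range_comp, ← Set.range_comp, Sum.elim_comp_inl, Sum.elim_comp_inr] at hdj
  · rw [codisjoint_iff, eq_top_iff]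
    refine hsp.trans (le_of_eq ?_)
    rw [Set.Sum.elim_range, span_union]
  · have hinj : Function.Injective T := fun a b e => by
      have := congrArg T e
      rw [hT, hT] at this
      exact smul_right_injective _ (left_ne_zero_of_mul_eq_one hz2) this
    have hle : ∀ g g' : ι → (Fin d ⊕ Fin d → F), (∀ i, T (g i) ∈ span F {g' i}) →
        (span F (Set.range g)).map T ≤ span F (Set.range g') := fun g g' h => by
      rw [map_span, span_le]
      rintro _ ⟨_, ⟨i, rfl⟩, rfl⟩
      refine span_mono ?_ (h i)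
      rintro _ rfl
      exact ⟨i, rfl⟩
    have hfr : ∀ g : ι → (Fin d ⊕ Fin d → F), LinearIndependent F g → ∀ (g' : ι → (Fin d ⊕ Fin d → F)),
        LinearIndependent F g' → (span F (Set.range g)).map T ≤ span F (Set.range g') →
        (span F (Set.range g)).map T = span F (Set.range g') := fun g hg g' hg' h =>
      eq_of_le_of_finrank_le h (by
        rw [← (equivMapOfInjective T hinj _).finrank_eq, finrank_span_eq_card hg, finrank_span_eq_card hg'])
    have he : LinearIndependent F e := hli.comp Sum.inl Sum.inl_injective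
    have hf : LinearIndependent F f := hli.comp Sum.inr Sum.inr_injective
    rcases mul_self_eq_one_iff.mp hz2 with hz | hz
    · exact Or.inl ⟨hfr e he e he (hle e e fun i => ((hG.odd h2 i).2.1 hz).1),
        hfr f hf f hf (hle f f fun i => ((hG.odd h2 i).2.1 hz).2)⟩
    · exact Or.inr ⟨hfr e he f hf (hle e f fun i => ((hG.odd h2 i).2.2 hz).1),
        hfr f hf e he (hle f e fun i => ((hG.odd h2 i).2.2 hz).2)⟩

open Cfsg.Lib.Classical in
/-- Symplectic involutions and orthogonal decompositions. -/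
theorem orth_decomp {F : Type u} [Field F] {d a t : ℕ} (hat : 2 * d = a * t) (ha : 2 ≤ a) (hae : Even a) (ht : 2 ≤ t)
    (x : ↥(Matrix.symplecticGroup (Fin d) F))
    (hx1 : ∃ z : F, ((x ^ 2 : ↥(Matrix.symplecticGroup (Fin d) F)) : Matrix (Fin d ⊕ Fin d) (Fin d ⊕ Fin d) F) =
      z • (1 : Matrix (Fin d ⊕ Fin d) (Fin d ⊕ Fin d) F)) :
    ∃ D : Fin t → Submodule F (Fin d ⊕ Fin d → F), (Cfsg.Geo.IsMDecomposition a D ∧
        (∀ j, ∀ u ∈ D j, u ≠ 0 → ∃ v ∈ D j, Cfsg.sympForm d F u v ≠ 0) ∧
        (∀ j j', j ≠ j' → ∀ u ∈ D j, ∀ v ∈ D j', Cfsg.sympForm d F u v = 0)) ∧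
        ∃ σ : Equiv.Perm (Fin t), ∀ j,
          (D j).map (Matrix.toLin' (x : Matrix (Fin d ⊕ Fin d) (Fin d ⊕ Fin d) F)) = D (σ j) := by
  classical
  obtain ⟨b, hb⟩ := hae
  have hd : 0 < d := by
    have : 2 * 2 ≤ a * t := Nat.mul_le_mul ha ht
    omega
  obtain ⟨z, hz2, hT, hB, ι, _, e, f, τ, hG, hsp, hcard, hli⟩ := sp_data hd x hx1
  set T := Matrix.toLin' (x : Matrix (Fin d ⊕ Fin d) (Fin d ⊕ Fin d) F)
  have hinj : Function.Injective T := fun a b e => by
    have := congrArg T e
    rw [hT, hT] at this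
    exact smul_right_injective _ (left_ne_zero_of_mul_eq_one hz2) this
  have hcard' : Fintype.card ι = t * b := by
    rw [hcard]
    rw [hb, add_mul, mul_comm b t] at hat
    omega
  obtain ⟨blk, σ, hblk, hstep⟩ := exists_blocks τ hG.inv (show 0 < b by omega) hcard'
  let w : ι ⊕ ι → (Fin d ⊕ Fin d → F) := Sum.elim e f
  let bl : ι ⊕ ι → Fin t := Sum.elim blk blk
  have hbl : ∀ j, (Finset.univ.filter fun k => bl k = j).card = a := fun j => by
    rw [show (Finset.univ.filter fun k => bl k = j) =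
      (Finset.univ.filter fun i => blk i = j).disjSum (Finset.univ.filter fun i => blk i = j) by
        ext (i | i) <;> simp [bl], Finset.card_disjSum, hblk, hb]
  have hTw : ∀ k, T (w k) ∈ span F (w '' {l | bl l = σ (bl k)}) := by
    have hp : ∀ i, span F {e (τ i), f (τ i)} ≤ span F (w '' {l | bl l = σ (blk i)}) := fun i => span_mono (by
      rintro _ (rfl | rfl)
      · exact ⟨Sum.inl (τ i), hstep i, rfl⟩
      · exact ⟨Sum.inr (τ i), hstep i, rfl⟩)
    rintro (i | i)
    · exact hp i (hG.mem i).1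
    · exact hp i (hG.mem i).2
  obtain ⟨hD, hmap⟩ := decomp_of_blocks w hli hsp ht (by omega) bl hbl T hinj σ hTw
  have hort : ∀ j j', j ≠ j' → ∀ u ∈ span F (w '' {l | bl l = j}), ∀ v ∈ span F (w '' {l | bl l = j'}),
      sympBilin d F u v = 0 := by
    intro j j' hjj u hu v hv
    have h1 : ∀ k, bl k = j → span F (w '' {l | bl l = j'}) ≤ LinearMap.ker (sympBilin d F (w k)) := fun k hk =>
      span_le.mpr (by
        rintro _ ⟨l, hl, rfl⟩
        show sympBilin d F (w k) (w l) = 0
        rcases k with i | i <;> rcases l with i' | i'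
        · exact hG.hyp.ee i i'
        · exact hG.hyp.ef' i i' fun h => hjj (hk.symm.trans (h ▸ hl))
        · show sympBilin d F (f i) (e i') = 0
          rw [← (sympBilin_isAlt d F).neg_eq (e i') (f i),
            hG.hyp.ef' i' i fun h => hjj (hk.symm.trans (h ▸ hl)), neg_zero]
        · exact hG.hyp.ff i i')
    have h2 : span F (w '' {l | bl l = j}) ≤ LinearMap.ker ((sympBilin d F).flip v) :=
      span_le.mpr (by rintro _ ⟨k, hk, rfl⟩; exact h1 k hk hv)
    exact h2 hu
  refine ⟨_, ⟨hD, fun j u hu hu0 => ?_, fun j j' hjj u hu v hv => ?_⟩, σ, hmap⟩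
  · by_contra hall
    push Not at hall
    refine hu0 ((sympBilin_nondegenerate d F).1 u fun v => ?_)
    have hle : span F (Set.range w) ≤ LinearMap.ker (sympBilin d F u) := span_le.mpr (by
      rintro _ ⟨l, rfl⟩
      show sympBilin d F u (w l) = 0
      by_cases hl : bl l = j
      · rw [sympBilin_eq_sympForm]
        exact hall (w l) (subset_span ⟨l, hl, rfl⟩)
      · exact hort j (bl l) (Ne.symm hl) u hu (w l) (subset_span ⟨l, rfl, rfl⟩))
    exact hle (hsp Submodule.mem_top)
  · rw [← sympBilin_eq_sympForm]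
    exact hort j j' hjj u hu v hv

end matrix

end Cfsg.Lib.Classical.InvolDecomp
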