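import Mathlib
import Cfsg.Agent.Classical.Misc.PrimeOrderCriteria

/-! Normal forms of projective involutions. -/

set_option autoImplicit false
set_option linter.unusedSimpArgs false
set_option linter.unusedSectionVars false
set_option linter.unusedVariables false
set_option linter.style.haveILetI false
set_option linter.flexible false

namespace Cfsg.Lib.Classical.InvolForm

open Submodule PrimeOrd

universe u

variable {F : Type u} [Field F] {n : ℕ}

/-- Conjugating into a normal form by a matrix of determinant one. -/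
theorem sl_conj (x : Matrix.SpecialLinearGroup (Fin n) F) (M : Matrix (Fin n) (Fin n) F)
    (w : Module.Basis (Fin n) F (Fin n → F))
    (hw : ∀ j, (x : Matrix (Fin n) (Fin n) F).mulVec (w j) = ∑ i, M i j • w i)
    (hD : ∀ δ : F, δ ≠ 0 → ∃ D : Matrix (Fin n) (Fin n) F, D.det = δ ∧ D * M = M * D) :
    ∃ P : Matrix.SpecialLinearGroup (Fin n) F,
      ((P⁻¹ * x * P : Matrix.SpecialLinearGroup (Fin n) F) : Matrix (Fin n) (Fin n) F) = M := by
  set B : Matrix (Fin n) (Fin n) F := Matrix.of fun i j => w j i with hB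
  have hBw : B = (Pi.basisFun F (Fin n)).toMatrix w := by
    ext i j
    simp [B, Module.Basis.toMatrix_apply]
  have hdet : B.det ≠ 0 := by
    rw [hBw]
    exact ((Matrix.isUnit_iff_isUnit_det _).mp
      (IsUnit.of_mul_eq_one _ ((Pi.basisFun F (Fin n)).toMatrix_mul_toMatrix_flip w))).ne_zero
  have hxB : (x : Matrix (Fin n) (Fin n) F) * B = B * M := by
    ext i j
    have := congrFun (hw j) i
    simp only [Finset.sum_apply, Pi.smul_apply, smul_eq_mul] at this
    rw [Matrix.mul_apply, Matrix.mul_apply]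
    exact this.trans (Finset.sum_congr rfl fun l _ => mul_comm _ _)
  obtain ⟨D, hDd, hDM⟩ := hD B.det⁻¹ (inv_ne_zero hdet)
  have hP : (B * D).det = 1 := by rw [Matrix.det_mul, hDd, mul_inv_cancel₀ hdet]
  let P : Matrix.SpecialLinearGroup (Fin n) F := ⟨B * D, hP⟩
  refine ⟨P, ?_⟩
  have h : (x : Matrix (Fin n) (Fin n) F) * (B * D) = (B * D) * M := by
    rw [← Matrix.mul_assoc, hxB, Matrix.mul_assoc, ← hDM, ← Matrix.mul_assoc]
  rw [Matrix.SpecialLinearGroup.coe_mul, Matrix.SpecialLinearGroup.coe_mul, Matrix.mul_assoc,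
    show (P : Matrix (Fin n) (Fin n) F) = B * D from rfl, h, ← Matrix.mul_assoc,
    show B * D = (P : Matrix (Fin n) (Fin n) F) from rfl, ← Matrix.SpecialLinearGroup.coe_mul, inv_mul_cancel,
    Matrix.SpecialLinearGroup.coe_one, Matrix.one_mul]

/-- An eigenbasis of a map squaring to one. -/
theorem eigen_basis [Fintype F] (h2 : (2 : F) ≠ 0) (y : Module.End F (Fin n → F)) (hy : y ^ 2 = 1) :
    ∃ (w : Module.Basis (Fin n) F (Fin n → F)) (ε : Fin n → F), (∀ i, ε i = 1 ∨ ε i = -1) ∧ ∀ i, y (w i) = ε i • w i := by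
  classical
  have hc := isCompl_fix_mov (x := y) (r := 2) (by exact_mod_cast h2) hy
  have hneg : ∀ v ∈ mov y, y v = -v := by
    rintro _ ⟨u, rfl⟩
    have h : y (y u) = u := by rw [← Module.End.mul_apply, ← sq, hy]; rfl
    simp [h]
  let b₀ := ((Module.finBasis F (fix y)).prod (Module.finBasis F (mov y))).map (prodEquivOfIsCompl _ _ hc)
  let e : Fin (Module.finrank F (fix y)) ⊕ Fin (Module.finrank F (mov y)) ≃ Fin n :=
    Fintype.equivFinOfCardEq (by
      rw [Fintype.card_sum, Fintype.card_fin, Fintype.card_fin, finrank_add_eq_of_isCompl hc,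
        Module.finrank_fintype_fun_eq_card, Fintype.card_fin])
  refine ⟨b₀.reindex e, fun i => Sum.elim (fun _ => 1) (fun _ => -1) (e.symm i), fun i => ?_, fun i => ?_⟩
  · obtain ⟨k, rfl⟩ := e.surjective i
    rcases k with a | a <;> simp
  · obtain ⟨k, rfl⟩ := e.surjective i
    rw [Module.Basis.reindex_apply]
    rcases k with a | a
    · simp [b₀, mem_fix.mp (Module.finBasis F (fix y) a).2]
    · simp [b₀, hneg _ (Module.finBasis F (mov y) a).2]

/-- Jordan decomposition of a map of square zero. -/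
theorem nilpotent_data [Fintype F] (N : Module.End F (Fin n → F)) (hN : N ^ 2 = 0) (hN0 : N ≠ 0) :
    ∃ (l r : ℕ) (b₀ : Module.Basis ((Fin l ⊕ Fin l) ⊕ Fin r) F (Fin n → F)), 0 < l ∧ n = 2 * l + r ∧
      (∀ i, N (b₀ (Sum.inl (Sum.inl i))) = b₀ (Sum.inl (Sum.inr i))) ∧
      (∀ i, N (b₀ (Sum.inl (Sum.inr i))) = 0) ∧ ∀ i, N (b₀ (Sum.inr i)) = 0 := by
  classical
  have hN2 : ∀ v, N (N v) = 0 := fun v => by rw [← Module.End.mul_apply, ← sq, hN]; rfl
  obtain ⟨C, hC⟩ := Submodule.exists_isCompl (LinearMap.ker N)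
  obtain ⟨D₀, hD₀⟩ := Submodule.exists_isCompl (C.map N)
  have hNC : C.map N ≤ LinearMap.ker N := by rintro _ ⟨v, -, rfl⟩; exact hN2 v
  set D := D₀ ⊓ LinearMap.ker N with hD
  have hker : C.map N ⊔ D = LinearMap.ker N := by
    rw [hD, ← sup_inf_assoc_of_le D₀ hNC, hD₀.sup_eq_top, top_inf_eq]
  let c := Module.finBasis F C
  let d := Module.finBasis F D
  let w : (Fin (Module.finrank F C) ⊕ Fin (Module.finrank F C)) ⊕ Fin (Module.finrank F D) → (Fin n → F) :=
    Sum.elim (Sum.elim (fun i => (c i : Fin n → F)) (fun i => N (c i))) (fun i => (d i : Fin n → F))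
  have hCle : ∀ v ∈ C, v ∈ span F (Set.range w) := fun v hv => by
    have : (⟨v, hv⟩ : C) ∈ span F (Set.range c) := by rw [c.span_eq]; trivial
    have := apply_mem_span_image_of_mem_span C.subtype this
    exact span_mono (by rintro _ ⟨_, ⟨i, rfl⟩, rfl⟩; exact ⟨Sum.inl (Sum.inl i), rfl⟩) this
  have hNCle : ∀ v ∈ C, N v ∈ span F (Set.range w) := fun v hv => by
    have : (⟨v, hv⟩ : C) ∈ span F (Set.range c) := by rw [c.span_eq]; trivial
    have := apply_mem_span_image_of_mem_span (N.comp C.subtype) this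
    exact span_mono (by rintro _ ⟨_, ⟨i, rfl⟩, rfl⟩; exact ⟨Sum.inl (Sum.inr i), rfl⟩) this
  have hDle : ∀ v ∈ D, v ∈ span F (Set.range w) := fun v hv => by
    have : (⟨v, hv⟩ : D) ∈ span F (Set.range d) := by rw [d.span_eq]; trivial
    have := apply_mem_span_image_of_mem_span D.subtype this
    exact span_mono (by rintro _ ⟨_, ⟨i, rfl⟩, rfl⟩; exact ⟨Sum.inr i, rfl⟩) this
  have hspan : ⊤ ≤ span F (Set.range w) := by
    rw [← hC.sup_eq_top, ← hker]
    refine sup_le (sup_le ?_ hDle) hCle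
    rintro _ ⟨v, hv, rfl⟩
    exact hNCle v hv
  have h3 : Module.finrank F (C.map N) = Module.finrank F C := by
    have hi : Function.Injective (N.comp C.subtype) := by
      intro a b e
      refine Subtype.ext (sub_eq_zero.mp (disjoint_def.mp hC.disjoint _ ?_ (sub_mem a.2 b.2)))
      rw [LinearMap.mem_ker, map_sub, sub_eq_zero]
      exact e
    rw [show C.map N = LinearMap.range (N.comp C.subtype) by rw [LinearMap.range_comp, range_subtype]]
    exact LinearMap.finrank_range_of_inj hi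
  have hcard : Fintype.card ((Fin (Module.finrank F C) ⊕ Fin (Module.finrank F C)) ⊕ Fin (Module.finrank F D)) =
      Module.finrank F (Fin n → F) := by
    have h1 := finrank_add_eq_of_isCompl hC
    have hdisj : Disjoint (C.map N) D := Disjoint.mono_right inf_le_left hD₀.disjoint
    have h2' := finrank_sup_add_finrank_inf_eq (C.map N) D
    rw [hdisj.eq_bot, finrank_bot, hker] at h2'
    simp only [Fintype.card_sum, Fintype.card_fin]
    omega
  let b₀ := Module.Basis.mk (linearIndependent_of_top_le_span_of_card_eq_finrank hspan hcard) hspan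
  have hl : 0 < Module.finrank F C := by
    refine Nat.pos_of_ne_zero fun h => hN0 ?_
    rw [finrank_eq_zero.mp h] at hC
    exact LinearMap.ker_eq_top.mp (eq_top_of_bot_isCompl hC.symm)
  refine ⟨_, _, b₀, hl, ?_, fun i => by simp [b₀, w], fun i => by simp [b₀, w, hN2], fun i => ?_⟩
  · rw [Module.finrank_fintype_fun_eq_card, Fintype.card_fin] at hcard
    simp only [Fintype.card_sum, Fintype.card_fin] at hcard
    omega
  · have : N (d i) = 0 := (d i).2.2
    simp [b₀, w, this]

/-- A map of square zero as a matrix with entries zero and one. -/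
theorem nilpotent_basis [Fintype F] (N : Module.End F (Fin n → F)) (hN : N ^ 2 = 0) (hN0 : N ≠ 0) :
    ∃ (w : Module.Basis (Fin n) F (Fin n → F)) (M : Matrix (Fin n) (Fin n) F) (i₀ j₀ : Fin n),
      (∀ i j, M i j = 0 ∨ M i j = 1) ∧ (∀ j, N (w j) = ∑ i, M i j • w i) ∧ i₀ ≠ j₀ ∧
      ∀ s : F, Matrix.diagonal (fun i => if i = i₀ ∨ i = j₀ then s else 1) * M =
        M * Matrix.diagonal (fun i => if i = i₀ ∨ i = j₀ then s else 1) := by
  classical
  obtain ⟨l, r, b₀, hl, hlr, hb₁, hb₂, hb₃⟩ := nilpotent_data N hN hN0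
  let e : ((Fin l ⊕ Fin l) ⊕ Fin r) ≃ Fin n :=
    Fintype.equivFinOfCardEq (by simp only [Fintype.card_sum, Fintype.card_fin]; omega)
  let M : Matrix (Fin n) (Fin n) F := Matrix.of fun i j =>
    if ∃ a, i = e (Sum.inl (Sum.inr a)) ∧ j = e (Sum.inl (Sum.inl a)) then 1 else 0
  refine ⟨b₀.reindex e, M, e (Sum.inl (Sum.inl ⟨0, hl⟩)), e (Sum.inl (Sum.inr ⟨0, hl⟩)), fun i j => ?_, fun j => ?_,
    fun h => by simp at h, fun s => ?_⟩
  · by_cases h : ∃ a, i = e (Sum.inl (Sum.inr a)) ∧ j = e (Sum.inl (Sum.inl a))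
    · right; simp [M, h]
    · left; simp only [M, Matrix.of_apply, if_neg h]
  · obtain ⟨k, rfl⟩ := e.surjective j
    rw [← e.sum_comp]
    simp only [Module.Basis.reindex_apply, Equiv.symm_apply_apply, M, Matrix.of_apply,
      e.injective.eq_iff]
    rcases k with (k | k) | k
    · rw [Finset.sum_eq_single (Sum.inl (Sum.inr k))]
      · simp [hb₁]
      · intro i _ hi
        rw [if_neg, zero_smul]
        rintro ⟨a, h1, h2⟩
        simp only [Sum.inl.injEq] at h2
        exact hi (h2 ▸ h1)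
      · simp
    · simp [hb₂]
    · simp [hb₃]
  · ext i j
    rw [Matrix.diagonal_mul, Matrix.mul_diagonal]
    by_cases h : ∃ a, i = e (Sum.inl (Sum.inr a)) ∧ j = e (Sum.inl (Sum.inl a))
    · obtain ⟨a, rfl, rfl⟩ := h
      rw [show M (e (Sum.inl (Sum.inr a))) (e (Sum.inl (Sum.inl a))) = 1 by simp [M]]
      simp [e.injective.eq_iff]
    · simp only [M, Matrix.of_apply, if_neg h, mul_zero, zero_mul]

/-- The square of a projective involution. -/
theorem square_data [Fintype F] (hn : 0 < n) (x : Matrix.SpecialLinearGroup (Fin n) F)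
    (hx : ∃ z : F, ((x ^ 2 : Matrix.SpecialLinearGroup (Fin n) F) : Matrix (Fin n) (Fin n) F) = z • (1 : Matrix (Fin n) (Fin n) F)) :
    ∃ z : F, z ≠ 0 ∧ Matrix.toLin' (x : Matrix (Fin n) (Fin n) F) ^ 2 = z • (1 : Module.End F (Fin n → F)) := by
  obtain ⟨c, hc, h, -⟩ := data Nat.prime_two hn x hx
  exact ⟨c, hc, h⟩

/-- The normal form when the square is a square. -/
theorem split_form [Fintype F] {p : ℕ} [Fact p.Prime] [CharP F p] (hn : 0 < n) (x : Matrix.SpecialLinearGroup (Fin n) F)
    {b : F} (hb : b ≠ 0) (hx : Matrix.toLin' (x : Matrix (Fin n) (Fin n) F) ^ 2 = (b ^ 2) • (1 : Module.End F (Fin n → F)))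
    (hns : ∀ z : F, (x : Matrix (Fin n) (Fin n) F) ≠ z • (1 : Matrix (Fin n) (Fin n) F)) :
    ∃ (P : Matrix.SpecialLinearGroup (Fin n) F) (R : Matrix (Fin n) (Fin n) F),
      (∀ i j, R i j = 0 ∨ R i j = 1 ∨ R i j = -1) ∧
      ((P⁻¹ * x * P : Matrix.SpecialLinearGroup (Fin n) F) : Matrix (Fin n) (Fin n) F) = b • R := by
  classical
  set y : Module.End F (Fin n → F) := b⁻¹ • Matrix.toLin' (x : Matrix (Fin n) (Fin n) F) with hyd
  obtain ⟨hy, -⟩ := normalise (pow_ne_zero 2 hb) rfl two_ne_zero hx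
  have hxy : ∀ v, (x : Matrix (Fin n) (Fin n) F).mulVec v = b • y v := fun v => by
    rw [hyd, LinearMap.smul_apply, smul_smul, mul_inv_cancel₀ hb, one_smul, Matrix.toLin'_apply]
  by_cases h2 : (2 : F) = 0
  · set N := y - 1 with hNd
    have hN : N ^ 2 = 0 := by
      have e : (2 : F) • y = 0 := by rw [h2, zero_smul]
      have e1 : (2 : F) • (1 : Module.End F (Fin n → F)) = 0 := by rw [h2, zero_smul]
      rw [hNd, sq, sub_mul, mul_sub, mul_one, one_mul, ← sq, hy]
      linear_combination (norm := module) e1 - e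
    have hN0 : N ≠ 0 := fun h => hns b (Matrix.toLin'.injective (LinearMap.ext fun v => by
      rw [Matrix.toLin'_apply, hxy, sub_eq_zero.mp h]; simp))
    obtain ⟨w, M, i₀, j₀, hM, hNw, hij, hcomm⟩ := nilpotent_basis N hN hN0
    obtain ⟨P, hP⟩ := sl_conj x (b • (M + 1)) w (fun j => by
      rw [hxy, show y (w j) = N (w j) + w j by simp [hNd], hNw, smul_add, Finset.smul_sum]
      simp [Matrix.one_apply, add_smul, smul_smul, Finset.sum_add_distrib, mul_add])
      (fun δ hδ => by
        obtain ⟨s, hs⟩ : ∃ s : F, s ^ 2 = δ := by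
          haveI : CharP F 2 := (CharP.charP_iff_prime_eq_zero Nat.prime_two).mpr (by exact_mod_cast h2)
          obtain ⟨s, hs⟩ := surjective_frobenius F 2 δ
          exact ⟨s, by rw [← hs, frobenius_def]⟩
        refine ⟨Matrix.diagonal (fun i => if i = i₀ ∨ i = j₀ then s else 1), ?_,
          by rw [mul_smul_comm, smul_mul_assoc, mul_add, add_mul, hcomm s, mul_one, one_mul]⟩
        rw [Matrix.det_diagonal, Finset.prod_ite, Finset.prod_const, Finset.prod_const, one_pow, mul_one]
        rw [show (Finset.univ.filter fun i => i = i₀ ∨ i = j₀) = {i₀, j₀} by ext; simp, Finset.card_pair hij, hs])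
    refine ⟨P, M + 1, fun i j => ?_, hP⟩
    rw [Matrix.add_apply, Matrix.one_apply]
    rcases hM i j with h | h <;> rw [h] <;> split_ifs <;> simp [one_add_one_eq_two, h2]
  · obtain ⟨w, ε, hε, hw⟩ := eigen_basis h2 y hy
    obtain ⟨P, hP⟩ := sl_conj x (b • Matrix.diagonal ε) w (fun j => by
      rw [hxy, hw]
      simp [Matrix.diagonal_apply, smul_smul]) (fun δ hδ => by
        refine ⟨Matrix.diagonal (Function.update (fun _ => 1) (⟨0, hn⟩ : Fin n) δ), ?_, ?_⟩
        · rw [Matrix.det_diagonal, Finset.prod_update_of_mem (Finset.mem_univ _)]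
          simp
        · rw [mul_smul_comm, smul_mul_assoc, Matrix.diagonal_mul_diagonal, Matrix.diagonal_mul_diagonal]
          simp [mul_comm])
    refine ⟨P, Matrix.diagonal ε, fun i j => ?_, hP⟩
    rw [Matrix.diagonal_apply]
    split_ifs with h
    · exact Or.inr (hε i)
    · exact Or.inl rfl

end Cfsg.Lib.Classical.InvolForm
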