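import Mathlib
import Cfsg.Prelude.Def_GeometricClasses
import Cfsg.Agent.Classical.Symp.Decomp
import Cfsg.Agent.Classical.Misc.InvolutionForms

/-! Projective involutions of `SL_n` and similitudes of an alternating form. -/

set_option autoImplicit false
set_option linter.unusedSimpArgs false
set_option linter.unusedSectionVars false
set_option linter.unusedVariables false
set_option linter.style.haveILetI false
set_option linter.flexible false

namespace Cfsg.Lib.Classical.InvolSim

open Submodule PrimeOrd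

universe u

variable {F : Type u} [Field F] {n : ℕ}

local notation "V" => (Fin n → F)

/-- The bilinear form. -/
def bil (f : V → V → F) (hf : Cfsg.Geo.IsSymplecticForm f) : LinearMap.BilinForm F V :=
  LinearMap.mk₂ F f hf.bilinear.add_left hf.bilinear.smul_left hf.bilinear.add_right hf.bilinear.smul_right

theorem bil_apply (f : V → V → F) (hf : Cfsg.Geo.IsSymplecticForm f) (u v : V) : bil f hf u v = f u v := rfl

/-- The alternating matrix of rank two. -/
abbrev J : Matrix (Fin 2) (Fin 2) F := !![0, 1; -1, 0]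

theorem transpose_mul_J (A : Matrix (Fin 2) (Fin 2) F) : A.transpose * J * A = A.det • J := by
  ext i j
  fin_cases i <;> fin_cases j <;>
    simp [Matrix.mul_apply, Fin.sum_univ_two, Matrix.det_fin_two] <;> ring

theorem exists_pairs (f : V → V → F) (hf : Cfsg.Geo.IsSymplecticForm f) {κ : Type*} [Fintype κ] [DecidableEq κ]
    (hκ : 2 * Fintype.card κ = n) :
    ∃ s : Module.Basis (Fin 2 × κ) F V, ∀ a c i j,
      f (s (a, i)) (s (c, j)) = if i = j then J a c else 0 := by
  have hA : (bil f hf).IsAlt := hf.alternating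
  have hB : (bil f hf).Nondegenerate := by
    refine ⟨fun v hv => ?_, fun v hv => ?_⟩ <;> by_contra h
    · obtain ⟨-, x, hx⟩ := hf.nondegenerate v h
      exact hx (hv x)
    · obtain ⟨⟨x, hx⟩, -⟩ := hf.nondegenerate v h
      exact hx (hv x)
  obtain ⟨m, b, hd, h1, h2, h3⟩ := exists_symplectic_basis_nondegenerate hA hB
  rw [Module.finrank_fintype_fun_eq_card, Fintype.card_fin] at hd
  let e : Fin m ≃ κ := (Fintype.equivFinOfCardEq (by omega)).symm
  let r : Fin m ⊕ Fin m ≃ Fin 2 × κ :=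
    (Equiv.boolProdEquivSum _).symm.trans (Equiv.prodCongr finTwoEquiv.symm e)
  refine ⟨b.reindex r, fun a c i j => ?_⟩
  obtain ⟨i, rfl⟩ := e.surjective i
  obtain ⟨j, rfl⟩ := e.surjective j
  have hr0 : ∀ k, r (Sum.inl k) = (0, e k) := fun k => by simp [r, finTwoEquiv]
  have hr1 : ∀ k, r (Sum.inr k) = (1, e k) := fun k => by simp [r, finTwoEquiv]
  have s0 : ∀ k, b.reindex r (0, e k) = b (Sum.inl k) := fun k => by
    rw [← hr0, Module.Basis.reindex_apply, Equiv.symm_apply_apply]
  have s1 : ∀ k, b.reindex r (1, e k) = b (Sum.inr k) := fun k => by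
    rw [← hr1, Module.Basis.reindex_apply, Equiv.symm_apply_apply]
  simp only [bil_apply] at h1 h2 h3
  fin_cases a <;> fin_cases c
  · simp [s0, h2]
  · simp [s0, s1, h1]
  · simp only [Fin.mk_one, Fin.zero_eta, Fin.isValue, s0, s1]
    rw [hf.skew, h1]
    by_cases h : i = j
    · subst h; simp
    · simp [h, Ne.symm h]
  · simp [s1, h3]

/-- A blockwise similitude is conjugate into the similarity group. -/
theorem block_conj (f : V → V → F) (hf : Cfsg.Geo.IsSymplecticForm f)
    (x : Matrix.SpecialLinearGroup (Fin n) F) {κ : Type*} [Fintype κ] [DecidableEq κ]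
    (w : Module.Basis (Fin 2 × κ) F V) (A : κ → Matrix (Fin 2) (Fin 2) F) {μ : F} (hμ : μ ≠ 0)
    (hA : ∀ i, (A i).det = μ)
    (hw : ∀ a i, (x : Matrix (Fin n) (Fin n) F).mulVec (w (a, i)) = ∑ c, A i c a • w (c, i))
    (i₀ : κ) (hC : ∀ δ : F, δ ≠ 0 → ∃ C : Matrix (Fin 2) (Fin 2) F, C.det = δ ∧ C * A i₀ = A i₀ * C) :
    ∃ P : Matrix.SpecialLinearGroup (Fin n) F, P⁻¹ * x * P ∈ ((Cfsg.Geo.similarityGroup f).comap
      (Matrix.SpecialLinearGroup.toGL : Matrix.SpecialLinearGroup (Fin n) F →* GL (Fin n) F)) := by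
  have hκ : 2 * Fintype.card κ = n := by
    have := Module.finrank_eq_card_basis w
    simp only [Module.finrank_fintype_fun_eq_card, Fintype.card_fin, Fintype.card_prod] at this
    omega
  obtain ⟨s, hs⟩ := exists_pairs f hf hκ
  set g : V ≃ₗ[F] V := s.equiv w (Equiv.refl _)
  have hg : LinearMap.det (g : V →ₗ[F] V) ≠ 0 := g.isUnit_det'.ne_zero
  obtain ⟨C, hCd, hCA⟩ := hC _ (inv_ne_zero hg)
  let Mc : Matrix (Fin 2 × κ) (Fin 2 × κ) F := Matrix.blockDiagonal fun i => if i = i₀ then C else 1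
  let Ab : Matrix (Fin 2 × κ) (Fin 2 × κ) F := Matrix.blockDiagonal A
  let φ : V →ₗ[F] V := (g : V →ₗ[F] V) ∘ₗ Matrix.toLin s s Mc
  have hφ : (LinearMap.toMatrix' φ).det = 1 := by
    rw [LinearMap.det_toMatrix', LinearMap.det_comp, LinearMap.det_toLin, Matrix.det_blockDiagonal,
      Finset.prod_eq_single i₀ (fun i _ hi => by rw [if_neg hi, Matrix.det_one]) (by simp), if_pos rfl, hCd,
      mul_inv_cancel₀ hg]
  let P : Matrix.SpecialLinearGroup (Fin n) F := ⟨LinearMap.toMatrix' φ, hφ⟩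
  set L : V →ₗ[F] V := Matrix.toLin s s Ab
  have hLs : ∀ a i, L (s (a, i)) = ∑ c, A i c a • s (c, i) := fun a i => by
    rw [show L = Matrix.toLin s s Ab from rfl, Matrix.toLin_self, Fintype.sum_prod_type]
    refine Finset.sum_congr rfl fun c _ => ?_
    rw [Finset.sum_eq_single i (fun k _ hk => by simp [Ab, Matrix.blockDiagonal_apply, hk]) (by simp)]
    simp [Ab, Matrix.blockDiagonal_apply]
  have hxg : Matrix.toLin' (x : Matrix (Fin n) (Fin n) F) ∘ₗ (g : V →ₗ[F] V) = (g : V →ₗ[F] V) ∘ₗ L := by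
    refine s.ext fun p => ?_
    obtain ⟨a, i⟩ := p
    simp [g, hLs, hw, Matrix.toLin'_apply]
  have hxφ : Matrix.toLin' (x : Matrix (Fin n) (Fin n) F) ∘ₗ φ = φ ∘ₗ L := by
    have hc : Ab * Mc = Mc * Ab := by
      simp only [Ab, Mc, ← Matrix.blockDiagonal_mul]
      congr 1
      funext i
      by_cases h : i = i₀
      · subst h; simp [hCA]
      · simp [h]
    rw [show φ = (g : V →ₗ[F] V) ∘ₗ Matrix.toLin s s Mc from rfl, ← LinearMap.comp_assoc, hxg,
      LinearMap.comp_assoc, LinearMap.comp_assoc]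
    congr 1
    rw [show L = Matrix.toLin s s Ab from rfl, ← Matrix.toLin_mul, ← Matrix.toLin_mul, hc]
  have hY : ((P⁻¹ * x * P : Matrix.SpecialLinearGroup (Fin n) F) : Matrix (Fin n) (Fin n) F) = LinearMap.toMatrix' L := by
    have h : (x : Matrix (Fin n) (Fin n) F) * (P : Matrix (Fin n) (Fin n) F) =
        (P : Matrix (Fin n) (Fin n) F) * LinearMap.toMatrix' L := by
      have := congrArg LinearMap.toMatrix' hxφ
      rwa [LinearMap.toMatrix'_comp (Matrix.toLin' (x : Matrix (Fin n) (Fin n) F)) φ,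
        LinearMap.toMatrix'_comp φ L, LinearMap.toMatrix'_toLin'] at this
    rw [Matrix.SpecialLinearGroup.coe_mul, Matrix.SpecialLinearGroup.coe_mul, Matrix.mul_assoc, h,
      ← Matrix.mul_assoc, ← Matrix.SpecialLinearGroup.coe_mul, inv_mul_cancel,
      Matrix.SpecialLinearGroup.coe_one, Matrix.one_mul]
  refine ⟨P, ?_⟩
  rw [Subgroup.mem_comap]
  refine ⟨Units.mk0 μ hμ, fun u v => ?_⟩
  show f (Matrix.mulVec ((P⁻¹ * x * P : Matrix.SpecialLinearGroup (Fin n) F) : Matrix (Fin n) (Fin n) F) u)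
    (Matrix.mulVec ((P⁻¹ * x * P : Matrix.SpecialLinearGroup (Fin n) F) : Matrix (Fin n) (Fin n) F) v) = μ * f u v
  rw [hY, LinearMap.toMatrix'_mulVec, LinearMap.toMatrix'_mulVec]
  have hB : (bil f hf).compl₁₂ L L = μ • bil f hf := by
    refine s.ext fun p => s.ext fun p' => ?_
    obtain ⟨a, i⟩ := p
    obtain ⟨a', j⟩ := p'
    simp only [LinearMap.compl₁₂_apply, LinearMap.smul_apply, smul_eq_mul, hLs, map_sum, map_smul,
      LinearMap.sum_apply, bil_apply, hs]
    by_cases h : i = j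
    · subst h
      have := congrFun (congrFun (transpose_mul_J (A i)) a) a'
      rw [hA, Matrix.smul_apply, smul_eq_mul] at this
      rw [if_pos rfl, ← this]
      simp only [Matrix.mul_apply, Matrix.transpose_apply, Fin.sum_univ_two, if_pos]
      ring
    · simp [h]
  have := LinearMap.congr_fun (LinearMap.congr_fun hB u) v
  simpa [bil_apply] using this

theorem exists_dvd_pow {q m : ℕ} (hq : 1 < q) (hm : m ≠ 0) (h : padicValNat 2 (q - 1) ≤ padicValNat 2 m) :
    ∃ s, Odd s ∧ q - 1 ∣ m * s := by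
  obtain ⟨w, s, hs, he⟩ := Nat.exists_eq_two_pow_mul_odd (show q - 1 ≠ 0 by omega)
  obtain ⟨v, u, hu, he'⟩ := Nat.exists_eq_two_pow_mul_odd hm
  have hv : ∀ a b, Odd b → padicValNat 2 (2 ^ a * b) = a := fun a b hb => by
    rw [padicValNat.mul (by simp) hb.pos.ne', padicValNat.prime_pow,
      padicValNat.eq_zero_of_not_dvd hb.not_two_dvd_nat, add_zero]
  rw [he, he', hv _ _ hs, hv _ _ hu] at h
  refine ⟨s, hs, ?_⟩
  rw [he, he']
  exact mul_dvd_mul_right (dvd_mul_of_dvd_left (pow_dvd_pow 2 h) u) s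

theorem pow_ne_neg_one [Fintype F] (h2 : (2 : F) ≠ 0) {b : F} (hb : b ≠ 0) {m : ℕ} (hm : m ≠ 0)
    (h : padicValNat 2 (Fintype.card F - 1) ≤ padicValNat 2 m) : b ^ m ≠ -1 := by
  intro e
  obtain ⟨s, hs, t, ht⟩ := exists_dvd_pow Fintype.one_lt_card hm h
  have h1 : b ^ (m * s) = 1 := by rw [ht, pow_mul, FiniteField.pow_card_sub_one_eq_one b hb, one_pow]
  rw [pow_mul, e, hs.neg_one_pow] at h1
  exact h2 (by linear_combination -h1)

/-- Involutions with a square square. -/
theorem good_split [Fintype F] (f : V → V → F) (hf : Cfsg.Geo.IsSymplecticForm f) (hn : 0 < n) (he : Even n)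
    (h2 : (2 : F) ≠ 0) (hv : padicValNat 2 (Fintype.card F - 1) ≤ padicValNat 2 n)
    (x : Matrix.SpecialLinearGroup (Fin n) F) {b : F} (hb : b ≠ 0)
    (hx : Matrix.toLin' (x : Matrix (Fin n) (Fin n) F) ^ 2 = (b ^ 2) • (1 : Module.End F V)) :
    ∃ P : Matrix.SpecialLinearGroup (Fin n) F, P⁻¹ * x * P ∈ ((Cfsg.Geo.similarityGroup f).comap
      (Matrix.SpecialLinearGroup.toGL : Matrix.SpecialLinearGroup (Fin n) F →* GL (Fin n) F)) := by
  classical
  obtain ⟨hy, -⟩ := normalise (pow_ne_zero 2 hb) rfl two_ne_zero hx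
  set y : Module.End F V := b⁻¹ • Matrix.toLin' (x : Matrix (Fin n) (Fin n) F) with hyd
  have hxy : Matrix.toLin' (x : Matrix (Fin n) (Fin n) F) = b • y := by
    rw [hyd, smul_smul, mul_inv_cancel₀ hb, one_smul]
  have hc := isCompl_fix_mov (x := y) (r := 2) (by exact_mod_cast h2) hy
  have hneg : ∀ v ∈ mov y, y v = -v := by
    rintro _ ⟨u, rfl⟩
    have h : y (y u) = u := by rw [← Module.End.mul_apply, ← sq, hy]; rfl
    simp [h]
  let bS := ((Module.finBasis F (fix y)).prod (Module.finBasis F (mov y))).map (prodEquivOfIsCompl _ _ hc)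
  have hb1 : ∀ i, y (bS (Sum.inl i)) = bS (Sum.inl i) := fun i => by
    simp [bS, mem_fix.mp (Module.finBasis F (fix y) i).2]
  have hb2 : ∀ i, y (bS (Sum.inr i)) = -bS (Sum.inr i) := fun i => by
    simp [bS, hneg _ (Module.finBasis F (mov y) i).2]
  have hsum : Module.finrank F (fix y) + Module.finrank F (mov y) = n := by
    rw [finrank_add_eq_of_isCompl hc, Module.finrank_fintype_fun_eq_card, Fintype.card_fin]
  have hev : Even (Module.finrank F (mov y)) := by
    by_contra hodd
    rw [Nat.not_even_iff_odd] at hodd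
    have hD : LinearMap.toMatrix bS bS y =
        Matrix.diagonal (Sum.elim (fun _ => (1 : F)) fun _ => (-1 : F)) := by
      ext i j
      rw [LinearMap.toMatrix_apply]
      rcases j with k | k
      · rw [hb1, Module.Basis.repr_self, Matrix.diagonal_apply, Finsupp.single_apply]
        by_cases h : i = Sum.inl k
        · subst h; simp
        · simp [h, Ne.symm h]
      · rw [hb2, map_neg, Module.Basis.repr_self, Finsupp.neg_apply, Matrix.diagonal_apply, Finsupp.single_apply]
        by_cases h : i = Sum.inr k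
        · subst h; simp
        · simp [h, Ne.symm h]
    have hdet : LinearMap.det y = -1 := by
      rw [← LinearMap.det_toMatrix bS, hD, Matrix.det_diagonal, Fintype.prod_sum_type]
      simp [hodd.neg_one_pow]
    have h1 : LinearMap.det (Matrix.toLin' (x : Matrix (Fin n) (Fin n) F)) = 1 := by
      rw [LinearMap.det_toLin', x.2]
    rw [hxy, LinearMap.det_smul, hdet, Module.finrank_fintype_fun_eq_card, Fintype.card_fin] at h1
    exact pow_ne_neg_one h2 hb hn.ne' hv (by linear_combination -h1)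
  obtain ⟨m, hm⟩ := he
  obtain ⟨c, hc'⟩ := hev
  let e : (Fin 2 × Fin (m - c)) ⊕ (Fin 2 × Fin c) ≃ Fin (Module.finrank F (fix y)) ⊕ Fin (Module.finrank F (mov y)) :=
    Equiv.sumCongr (finProdFinEquiv.trans (finCongr (by omega))) (finProdFinEquiv.trans (finCongr (by omega)))
  let w := bS.reindex (((Equiv.prodSumDistrib (Fin 2) (Fin (m - c)) (Fin c)).trans e).symm)
  have hκ : Nonempty (Fin (m - c) ⊕ Fin c) := by
    rw [← Fintype.card_pos_iff]; simp; omega
  let A : Fin (m - c) ⊕ Fin c → Matrix (Fin 2) (Fin 2) F :=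
    Sum.elim (fun _ => Matrix.diagonal fun _ => b) fun _ => Matrix.diagonal fun _ => -b
  refine block_conj f hf x w A (μ := b ^ 2) (pow_ne_zero 2 hb) ?_ ?_ hκ.some fun δ hδ => ⟨Matrix.diagonal ![δ, 1], by simp, ?_⟩
  · rintro (i | i) <;> simp [A, sq]
  · intro a i
    rw [← Matrix.toLin'_apply, hxy, LinearMap.smul_apply]
    rcases i with i | i
    · rw [show w (a, Sum.inl i) = bS (Sum.inl (finCongr (by omega) (finProdFinEquiv (a, i)))) by
        simp [w, e, Module.Basis.reindex_apply], hb1]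
      simp [A, Matrix.diagonal_apply, w, e, Module.Basis.reindex_apply]
    · rw [show w (a, Sum.inr i) = bS (Sum.inr (finCongr (by omega) (finProdFinEquiv (a, i)))) by
        simp [w, e, Module.Basis.reindex_apply], hb2]
      simp [A, Matrix.diagonal_apply, w, e, Module.Basis.reindex_apply]
  · rcases hκ.some with i | i <;> simp [A, Matrix.diagonal_mul_diagonal, mul_comm]

/-- Involutions with a nonsquare square. -/
theorem good_nonsquare [Fintype F] (f : V → V → F) (hf : Cfsg.Geo.IsSymplecticForm f) (hn : 0 < n)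
    (h2 : ringChar F ≠ 2) (x : Matrix.SpecialLinearGroup (Fin n) F) {z : F} (hz : z ≠ 0) (hzs : ¬ IsSquare z)
    (hx : Matrix.toLin' (x : Matrix (Fin n) (Fin n) F) ^ 2 = z • (1 : Module.End F V)) :
    ∃ P : Matrix.SpecialLinearGroup (Fin n) F, P⁻¹ * x * P ∈ ((Cfsg.Geo.similarityGroup f).comap
      (Matrix.SpecialLinearGroup.toGL : Matrix.SpecialLinearGroup (Fin n) F →* GL (Fin n) F)) := by
  classical
  set T : Module.End F V := Matrix.toLin' (x : Matrix (Fin n) (Fin n) F)
  have hT : ∀ v, T (T v) = z • v := fun v => by rw [← Module.End.mul_apply, ← sq, hx]; rfl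
  have hinj : Function.Injective T := fun a b e => by
    have := congrArg T e
    rw [hT, hT] at this
    exact smul_right_injective V hz this
  obtain ⟨U, hU, hmax⟩ := exists_maximalFor_of_wellFoundedGT (fun U : Submodule F V => Disjoint U (U.map T)) id
    ⟨⊥, disjoint_bot_left⟩
  have htop : U ⊔ U.map T = ⊤ := by
    by_contra hne
    obtain ⟨u, -, hu⟩ := SetLike.exists_of_lt (lt_top_iff_ne_top.mpr hne)
    have hWinv : ∀ x ∈ U ⊔ U.map T, T x ∈ U ⊔ U.map T := by
      intro x hx
      obtain ⟨a, ha, b, ⟨c, hc, rfl⟩, rfl⟩ := mem_sup.mp hx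
      rw [map_add, hT]
      exact add_mem (mem_sup_right ⟨a, ha, rfl⟩) (mem_sup_left (smul_mem _ _ hc))
    have hind : ∀ α β : F, α • u + β • T u ∈ U ⊔ U.map T → α = 0 ∧ β = 0 := by
      intro α β h
      have h' := hWinv _ h
      rw [map_add, map_smul, map_smul, hT] at h'
      have h3 := sub_mem (smul_mem _ α h) (smul_mem _ β h')
      rw [show α • (α • u + β • T u) - β • (α • T u + β • z • u) = (α * α - z * (β * β)) • u by module] at h3
      have h0 : α * α - z * (β * β) = 0 := by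
        by_contra hd
        have := smul_mem _ (α * α - z * (β * β))⁻¹ h3
        rw [inv_smul_smul₀ hd] at this
        exact hu this
      have hb : β = 0 := by
        by_contra hb
        exact hzs ⟨α / β, by field_simp; linear_combination -h0⟩
      subst hb
      exact ⟨mul_self_eq_zero.mp (by linear_combination h0), rfl⟩
    have hd' : Disjoint (U ⊔ span F {u}) ((U ⊔ span F {u}).map T) := by
      rw [disjoint_def]
      intro x hx hx'
      obtain ⟨a, ha, y, hy, rfl⟩ := mem_sup.mp hx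
      obtain ⟨α, rfl⟩ := mem_span_singleton.mp hy
      obtain ⟨x', hx'', e⟩ := hx'
      obtain ⟨b, hb, y', hy', rfl⟩ := mem_sup.mp hx''
      obtain ⟨β, rfl⟩ := mem_span_singleton.mp hy'
      rw [map_add, map_smul] at e
      obtain ⟨h1, h2⟩ := hind α (-β) (by
        rw [show α • u + (-β) • T u = T b - a by linear_combination (norm := module) -e]
        exact sub_mem (mem_sup_right ⟨b, hb, rfl⟩) (mem_sup_left ha))
      rw [h1, zero_smul, add_zero] at e ⊢
      rw [neg_eq_zero.mp h2, zero_smul, add_zero] at e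
      exact disjoint_def.mp hU a ha ⟨b, hb, e⟩
    have := hmax hd' (le_sup_left : U ≤ U ⊔ span F {u})
    exact hu (mem_sup_left (this (mem_sup_right (subset_span rfl))))
  have hcm : IsCompl U (U.map T) := IsCompl.of_eq hU.eq_bot htop
  let c := Module.finBasis F U
  let eT : U ≃ₗ[F] U.map T := Submodule.equivMapOfInjective T hinj U
  let bS := (c.prod (c.map eT)).map (prodEquivOfIsCompl _ _ hcm)
  let w := bS.reindex ((Equiv.boolProdEquivSum _).symm.trans (Equiv.prodCongr finTwoEquiv.symm (Equiv.refl _)))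
  have hw0 : ∀ i, w (0, i) = (c i : V) := fun i => by
    simp [w, bS, Module.Basis.reindex_apply, finTwoEquiv]
  have hw1 : ∀ i, w (1, i) = T (c i : V) := fun i => by
    simp [w, bS, eT, Module.Basis.reindex_apply, finTwoEquiv]
  have hU0 : 0 < Module.finrank F U := by
    refine Nat.pos_of_ne_zero fun h => ?_
    rw [finrank_eq_zero.mp h, Submodule.map_bot, bot_sup_eq] at htop
    have hV : Module.finrank F V = 0 := by
      rw [← finrank_top, ← htop, finrank_bot]
    rw [Module.finrank_fintype_fun_eq_card, Fintype.card_fin] at hV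
    omega
  refine block_conj f hf x w (fun _ => !![0, z; 1, 0]) (μ := -z) (neg_ne_zero.mpr hz)
    (fun _ => by simp [Matrix.det_fin_two]) ?_ ⟨0, hU0⟩ fun δ hδ => ?_
  · intro a i
    rw [Fin.sum_univ_two, hw0, hw1, ← Matrix.toLin'_apply]
    fin_cases a
    · simp [hw0, T]
    · simp [hw1, T]
      simpa [T, Matrix.toLin'_apply, Matrix.mulVec_mulVec] using hT (c i : V)
  · obtain ⟨u, v, huv⟩ := FiniteField.exists_root_sum_quadratic (R := F) (f := Polynomial.X ^ 2)
      (g := Polynomial.C (-z) * Polynomial.X ^ 2 - Polynomial.C δ) (Polynomial.degree_X_pow 2)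
      (by rw [Polynomial.degree_sub_C (by rw [Polynomial.degree_C_mul_X_pow 2 (neg_ne_zero.mpr hz)]; norm_num),
        Polynomial.degree_C_mul_X_pow 2 (neg_ne_zero.mpr hz)]; rfl)
      (FiniteField.odd_card_of_char_ne_two h2)
    simp only [Polynomial.eval_pow, Polynomial.eval_X, Polynomial.eval_sub, Polynomial.eval_mul, Polynomial.eval_C] at huv
    refine ⟨!![u, z * v; v, u], by simp [Matrix.det_fin_two]; linear_combination huv, ?_⟩
    ext a c
    fin_cases a <;> fin_cases c <;> simp [Matrix.mul_apply, Fin.sum_univ_two] <;> ring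

/-- Involutions in characteristic two. -/
theorem good_even [Fintype F] (f : V → V → F) (hf : Cfsg.Geo.IsSymplecticForm f) (he : Even n)
    (h2 : (2 : F) = 0) (x : Matrix.SpecialLinearGroup (Fin n) F) {b : F} (hb : b ≠ 0)
    (hx : Matrix.toLin' (x : Matrix (Fin n) (Fin n) F) ^ 2 = (b ^ 2) • (1 : Module.End F V))
    (hns : ∀ z : F, (x : Matrix (Fin n) (Fin n) F) ≠ z • (1 : Matrix (Fin n) (Fin n) F)) :
    ∃ P : Matrix.SpecialLinearGroup (Fin n) F, P⁻¹ * x * P ∈ ((Cfsg.Geo.similarityGroup f).comap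
      (Matrix.SpecialLinearGroup.toGL : Matrix.SpecialLinearGroup (Fin n) F →* GL (Fin n) F)) := by
  classical
  haveI : CharP F 2 := (CharP.charP_iff_prime_eq_zero Nat.prime_two).mpr (by exact_mod_cast h2)
  obtain ⟨hy, -⟩ := normalise (pow_ne_zero 2 hb) rfl two_ne_zero hx
  set y : Module.End F V := b⁻¹ • Matrix.toLin' (x : Matrix (Fin n) (Fin n) F) with hyd
  have hxy : ∀ v, (x : Matrix (Fin n) (Fin n) F).mulVec v = b • y v := fun v => by
    rw [hyd, LinearMap.smul_apply, smul_smul, mul_inv_cancel₀ hb, one_smul, Matrix.toLin'_apply]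
  set N := y - 1 with hNd
  have hN : N ^ 2 = 0 := by
    have e : (2 : F) • y = 0 := by rw [h2, zero_smul]
    have e1 : (2 : F) • (1 : Module.End F V) = 0 := by rw [h2, zero_smul]
    rw [hNd, sq, sub_mul, mul_sub, mul_one, one_mul, ← sq, hy]
    linear_combination (norm := module) e1 - e
  have hN0 : N ≠ 0 := fun h => hns b (Matrix.toLin'.injective (LinearMap.ext fun v => by
    rw [Matrix.toLin'_apply, hxy, sub_eq_zero.mp h]; simp))
  have hyN : ∀ v, y v = N v + v := fun v => by simp [hNd]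
  obtain ⟨l, r, b₀, hl, hlr, hb₁, hb₂, hb₃⟩ := InvolForm.nilpotent_data N hN hN0
  obtain ⟨m, hm⟩ := he
  let e : (Fin 2 × Fin l) ⊕ (Fin 2 × Fin (m - l)) ≃ (Fin l ⊕ Fin l) ⊕ Fin r :=
    Equiv.sumCongr ((Equiv.prodCongr finTwoEquiv (Equiv.refl _)).trans (Equiv.boolProdEquivSum _))
      (finProdFinEquiv.trans (finCongr (by omega)))
  let w := b₀.reindex (((Equiv.prodSumDistrib (Fin 2) (Fin l) (Fin (m - l))).trans e).symm)
  let A : Fin l ⊕ Fin (m - l) → Matrix (Fin 2) (Fin 2) F :=
    Sum.elim (fun _ => !![b, 0; b, b]) fun _ => Matrix.diagonal fun _ => b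
  have hw0 : ∀ i, w (0, Sum.inl i) = b₀ (Sum.inl (Sum.inl i)) := fun i => by
    simp [w, e, Module.Basis.reindex_apply, finTwoEquiv]
  have hw1 : ∀ i, w (1, Sum.inl i) = b₀ (Sum.inl (Sum.inr i)) := fun i => by
    simp [w, e, Module.Basis.reindex_apply, finTwoEquiv]
  have hwr : ∀ a i, N (w (a, Sum.inr i)) = 0 := fun a i => by
    simp [w, e, Module.Basis.reindex_apply, hb₃]
  refine block_conj f hf x w A (μ := b ^ 2) (pow_ne_zero 2 hb) ?_ ?_ (Sum.inl ⟨0, hl⟩) fun δ hδ => ?_
  · rintro (i | i) <;> simp [A, sq, Matrix.det_fin_two]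
  · intro a i
    rw [hxy, hyN]
    rcases i with i | i
    · fin_cases a <;> simp [A, Fin.sum_univ_two, hw0, hw1, hb₁, hb₂, add_comm]
    · simp [A, Matrix.diagonal_apply, hwr]
  · obtain ⟨s, hs⟩ := surjective_frobenius F 2 δ
    exact ⟨s • 1, by simp [← hs, frobenius_def], by simp⟩

/-- When the two-parts are in the right order every involution has a conjugate among the similitudes. -/
theorem good [Fintype F] (f : V → V → F) (hf : Cfsg.Geo.IsSymplecticForm f) (hn : 0 < n) (he : Even n)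
    (hv : padicValNat 2 (Fintype.card F - 1) ≤ padicValNat 2 n)
    (x : Matrix.SpecialLinearGroup (Fin n) F)
    (hx : ∃ z : F, ((x ^ 2 : Matrix.SpecialLinearGroup (Fin n) F) : Matrix (Fin n) (Fin n) F) = z • (1 : Matrix (Fin n) (Fin n) F))
    (hns : ∀ z : F, (x : Matrix (Fin n) (Fin n) F) ≠ z • (1 : Matrix (Fin n) (Fin n) F)) :
    ∃ P : Matrix.SpecialLinearGroup (Fin n) F, P⁻¹ * x * P ∈ ((Cfsg.Geo.similarityGroup f).comap
      (Matrix.SpecialLinearGroup.toGL : Matrix.SpecialLinearGroup (Fin n) F →* GL (Fin n) F)) := by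
  obtain ⟨z, hz, hT⟩ := InvolForm.square_data hn x hx
  by_cases h2 : (2 : F) = 0
  · haveI : CharP F 2 := (CharP.charP_iff_prime_eq_zero Nat.prime_two).mpr (by exact_mod_cast h2)
    obtain ⟨b, rfl⟩ := surjective_frobenius F 2 z
    rw [frobenius_def] at hz hT
    exact good_even f hf he h2 x (pow_ne_zero_iff two_ne_zero |>.mp hz) hT hns
  by_cases hs : IsSquare z
  · obtain ⟨b, rfl⟩ := hs
    exact good_split f hf hn he h2 hv x (left_ne_zero_of_mul hz) (by rw [hT, sq])
  · refine good_nonsquare f hf hn (fun h => h2 ?_) x hz hs hT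
    haveI : CharP F 2 := ringChar.of_eq h
    exact_mod_cast CharP.cast_eq_zero F 2

/-- A vector orthogonal to a spanning family is zero. -/
theorem no_radical {B : LinearMap.BilinForm F V} (hB : ∀ v : V, v ≠ 0 → ∃ u, B v u ≠ 0) {v : V} (hv : v ≠ 0)
    (h : ∀ j, B v (Pi.single j 1) = 0) : False := by
  obtain ⟨u, hu⟩ := hB v hv
  refine hu ?_
  have : B v = 0 := (Pi.basisFun F (Fin n)).ext fun j => by simpa using h j
  simp [this]

/-- An element whose `n`th power is minus one. -/
theorem exists_neg_one_root [Fintype F] (hn : n ≠ 0)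
    (hv : padicValNat 2 n < padicValNat 2 (Fintype.card F - 1)) :
    ∃ b : F, b ≠ 0 ∧ (2 : F) ≠ 0 ∧ b ^ n = -1 := by
  classical
  obtain ⟨v, u, hu, hnu⟩ := Nat.exists_eq_two_pow_mul_odd hn
  have hvn : padicValNat 2 n = v := by
    rw [hnu, padicValNat.mul (by simp) hu.pos.ne', padicValNat.prime_pow,
      padicValNat.eq_zero_of_not_dvd hu.not_two_dvd_nat, add_zero]
  obtain ⟨k, hk⟩ : 2 ^ (v + 1) ∣ Fintype.card F - 1 :=
    (pow_dvd_pow 2 (by omega)).trans pow_padicValNat_dvd
  have h2 : (2 : F) ≠ 0 := fun h => by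
    haveI : CharP F 2 := (CharP.charP_iff_prime_eq_zero Nat.prime_two).mpr (by exact_mod_cast h)
    have he : 2 ∣ Fintype.card F := Nat.dvd_of_mod_eq_zero
      (FiniteField.even_card_of_char_two (ringChar.eq F 2))
    have : 2 ∣ Fintype.card F - 1 := hk ▸ dvd_mul_of_dvd_left (dvd_pow_self 2 (Nat.succ_ne_zero v)) k
    have := Fintype.one_lt_card (α := F)
    omega
  obtain ⟨g, hg⟩ := IsCyclic.exists_ofOrder_eq_natCard (α := Fˣ)
  rw [Nat.card_eq_fintype_card, Fintype.card_units] at hg
  set b : F := ((g ^ k : Fˣ) : F) with hbd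
  have hb : b ≠ 0 := Units.ne_zero _
  have hbn : b ^ n = -1 := by
    have h1 : (b ^ 2 ^ v) * (b ^ 2 ^ v) = 1 := by
      rw [hbd, ← Units.val_pow_eq_pow_val, ← Units.val_mul, ← pow_mul, ← pow_add,
        show k * 2 ^ v + k * 2 ^ v = Fintype.card F - 1 by rw [hk, pow_succ]; ring, ← hg, pow_orderOf_eq_one,
        Units.val_one]
    rcases mul_self_eq_one_iff.mp h1 with h | h
    · exfalso
      rw [hbd, ← Units.val_pow_eq_pow_val, Units.val_eq_one, ← pow_mul, ← orderOf_dvd_iff_pow_eq_one, hg, hk,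
        pow_succ] at h
      have hk0 : 0 < k := Nat.pos_of_ne_zero fun h0 => by
        have := Fintype.one_lt_card (α := F)
        rw [h0, mul_zero] at hk
        omega
      have := Nat.le_of_dvd (by positivity) h
      nlinarith [Nat.one_le_two_pow (n := v)]
    · rw [hnu, pow_mul, h, hu.neg_one_pow]
  exact ⟨b, hb, h2, hbn⟩

/-- The involution that has no conjugate among the similitudes. -/
theorem bad [Fintype F] (f : V → V → F) (hf : Cfsg.Geo.IsSymplecticForm f) (hn : 3 ≤ n)
    (hv : padicValNat 2 n < padicValNat 2 (Fintype.card F - 1)) :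
    ∃ x : Matrix.SpecialLinearGroup (Fin n) F,
      (∃ z : F, ((x ^ 2 : Matrix.SpecialLinearGroup (Fin n) F) : Matrix (Fin n) (Fin n) F) = z • (1 : Matrix (Fin n) (Fin n) F)) ∧
      (∀ z : F, (x : Matrix (Fin n) (Fin n) F) ≠ z • (1 : Matrix (Fin n) (Fin n) F)) ∧
      ¬ ∃ P : Matrix.SpecialLinearGroup (Fin n) F, P⁻¹ * x * P ∈ ((Cfsg.Geo.similarityGroup f).comap
        (Matrix.SpecialLinearGroup.toGL : Matrix.SpecialLinearGroup (Fin n) F →* GL (Fin n) F)) := by
  classical
  obtain ⟨b, hb, h2, hbn⟩ := exists_neg_one_root (F := F) (show n ≠ 0 by omega) hv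
  let i₀ : Fin n := ⟨0, by omega⟩
  let i₁ : Fin n := ⟨1, by omega⟩
  let i₂ : Fin n := ⟨2, by omega⟩
  let ε : Fin n → F := Function.update (fun _ => 1) i₀ (-1)
  have hε0 : ε i₀ = -1 := by simp [ε]
  have hε : ∀ i, i ≠ i₀ → ε i = 1 := fun i hi => by simp [ε, hi]
  let M : Matrix (Fin n) (Fin n) F := Matrix.diagonal fun i => b * ε i
  have hM : M.det = 1 := by
    rw [Matrix.det_diagonal, Finset.prod_mul_distrib, Finset.prod_const, Finset.card_univ, Fintype.card_fin, hbn,
      Finset.prod_update_of_mem (Finset.mem_univ _)]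
    simp
  let x : Matrix.SpecialLinearGroup (Fin n) F := ⟨M, hM⟩
  refine ⟨x, ⟨b ^ 2, ?_⟩, fun z h => ?_, ?_⟩
  · rw [Matrix.SpecialLinearGroup.coe_pow, show (x : Matrix (Fin n) (Fin n) F) = M from rfl, Matrix.diagonal_pow,
      Matrix.smul_one_eq_diagonal]
    congr 1
    funext i
    by_cases hi : i = i₀
    · subst hi; simp [hε0, mul_pow]
    · simp [hε i hi]
  · have e0 := congrFun (congrFun h i₀) i₀
    have e1 := congrFun (congrFun h i₁) i₁
    simp [x, M, hε0, hε i₁ (by simp [i₀, i₁])] at e0 e1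
    exact h2 (mul_left_cancel₀ hb (by rw [mul_zero]; linear_combination e1 - e0))
  rintro ⟨P, hP⟩
  rw [Subgroup.mem_comap] at hP
  obtain ⟨μ, hμ⟩ := hP
  obtain ⟨Q, hQ⟩ : ∃ Q : Matrix (Fin n) (Fin n) F,
      Q = ((P⁻¹ : Matrix.SpecialLinearGroup (Fin n) F) : Matrix (Fin n) (Fin n) F) := ⟨_, rfl⟩
  have hPQ : (P : Matrix (Fin n) (Fin n) F) * Q = 1 := by
    rw [hQ, ← Matrix.SpecialLinearGroup.coe_mul, mul_inv_cancel, Matrix.SpecialLinearGroup.coe_one]
  have hQP : Q * (P : Matrix (Fin n) (Fin n) F) = 1 := by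
    rw [hQ, ← Matrix.SpecialLinearGroup.coe_mul, inv_mul_cancel, Matrix.SpecialLinearGroup.coe_one]
  have hμ' : ∀ u v : V, f ((Q * M * (P : Matrix (Fin n) (Fin n) F)).mulVec u)
      ((Q * M * (P : Matrix (Fin n) (Fin n) F)).mulVec v) = (μ : F) * f u v := by
    rw [hQ]
    exact hμ
  let L : V →ₗ[F] V := Matrix.toLin' Q
  let B : LinearMap.BilinForm F V := (bil f hf).compl₁₂ L L
  have hnd : ∀ v : V, v ≠ 0 → ∃ u, B v u ≠ 0 := fun v hv => by
    have hv' : L v ≠ 0 := fun h => hv (by
      have := congrArg (Matrix.mulVec (P : Matrix (Fin n) (Fin n) F)) h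
      simpa [L, Matrix.mulVec_mulVec, hPQ] using this)
    obtain ⟨-, u, hu⟩ := hf.nondegenerate _ hv'
    refine ⟨(P : Matrix (Fin n) (Fin n) F).mulVec u, ?_⟩
    simpa [B, L, bil_apply, Matrix.mulVec_mulVec, hQP] using hu
  have halt : ∀ v : V, B v v = 0 := fun v => by simp [B, bil_apply, hf.alternating]
  have hsim : ∀ u v : V, B (M.mulVec u) (M.mulVec v) = (μ : F) * B u v := fun u v => by
    have := hμ' (Q.mulVec u) (Q.mulVec v)
    simpa [B, L, bil_apply, Matrix.mulVec_mulVec, Matrix.mul_assoc, hPQ] using this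
  have hMe : ∀ i, M.mulVec (Pi.single i 1) = (b * ε i) • Pi.single i 1 := fun i => by
    ext j
    simp [M, Matrix.mulVec_diagonal, Pi.single_apply]
    split_ifs with h <;> simp_all
  have key : ∀ i j, (b * b * (ε i * ε j) - μ) * B (Pi.single i 1) (Pi.single j 1) = 0 := fun i j => by
    have := hsim (Pi.single i 1) (Pi.single j 1)
    rw [hMe, hMe] at this
    simp only [map_smul, LinearMap.smul_apply, smul_eq_mul] at this
    linear_combination this
  by_cases hμb : (μ : F) = b * b
  · refine no_radical hnd (v := Pi.single i₀ 1) (by simp) fun j => ?_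
    by_cases hj : j = i₀
    · subst hj; exact halt _
    · have := key i₀ j
      rw [hε0, hε j hj, hμb] at this
      refine (mul_eq_zero.mp this).resolve_left fun h => ?_
      exact h2 (mul_left_cancel₀ (mul_ne_zero hb hb) (by rw [mul_zero]; linear_combination -h))
  · have h00 : ∀ i j, i ≠ i₀ → j ≠ i₀ → B (Pi.single i 1) (Pi.single j 1) = 0 := fun i j hi hj => by
      have := key i j
      rw [hε i hi, hε j hj, mul_one, mul_one] at this
      exact (mul_eq_zero.mp this).resolve_left (sub_ne_zero.mpr (Ne.symm hμb))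
    have h1 : i₁ ≠ i₀ := by simp [i₀, i₁]
    have h2' : i₂ ≠ i₀ := by simp [i₀, i₂]
    set a := B (Pi.single i₁ 1) (Pi.single i₀ 1)
    set c := B (Pi.single i₂ 1) (Pi.single i₀ 1)
    by_cases hac : a = 0
    · refine no_radical hnd (v := Pi.single i₁ 1) (by simp) fun j => ?_
      by_cases hj : j = i₀
      · subst hj; exact hac
      · exact h00 _ _ h1 hj
    · refine no_radical hnd (v := c • Pi.single i₁ 1 - a • Pi.single i₂ 1) (fun h => ?_) fun j => ?_
      · have := congrFun h i₂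
        simp [i₁, i₂] at this
        exact hac this
      · by_cases hj : j = i₀
        · subst hj; simp [a, c, mul_comm]
        · simp [h00 _ _ h1 hj, h00 _ _ h2' hj]

/-- The criterion. -/
theorem main [Fintype F] (f : V → V → F) (hf : Cfsg.Geo.IsSymplecticForm f) (hn : 4 ≤ n) (he : Even n) :
    (∀ x : Matrix.SpecialLinearGroup (Fin n) F,
      (∃ z : F, ((x ^ 2 : Matrix.SpecialLinearGroup (Fin n) F) : Matrix (Fin n) (Fin n) F) = z • (1 : Matrix (Fin n) (Fin n) F)) →
      (∀ z : F, (x : Matrix (Fin n) (Fin n) F) ≠ z • (1 : Matrix (Fin n) (Fin n) F)) →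
      ∃ P : Matrix.SpecialLinearGroup (Fin n) F, P⁻¹ * x * P ∈ ((Cfsg.Geo.similarityGroup f).comap
        (Matrix.SpecialLinearGroup.toGL : Matrix.SpecialLinearGroup (Fin n) F →* GL (Fin n) F))) ↔
    padicValNat 2 (Fintype.card F - 1) ≤ padicValNat 2 n := by
  refine ⟨fun h => ?_, fun h x hx hns => good f hf (by omega) he h x hx hns⟩
  by_contra hv
  obtain ⟨x, hx, hns, hbad⟩ := bad f hf (by omega) (not_le.mp hv)
  exact hbad (h x hx hns)

end Cfsg.Lib.Classical.InvolSim
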