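import Mathlib
import Cfsg.Prelude.Def_GeometricClasses
import Cfsg.Agent.Classical.Misc.InvolutionForms
import Cfsg.Agent.Classical.Misc.InvolutionSimilitude
import Cfsg.Agent.Classical.Misc.CompositeField

/-! Projective involutions of `SL_n` and normalisers of quadratic extension fields. -/

set_option autoImplicit false
set_option linter.unusedSimpArgs false
set_option linter.unusedSectionVars false
set_option linter.unusedVariables false
set_option linter.style.haveILetI false
set_option linter.flexible false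

namespace Cfsg.Lib.Classical.InvolField

open Submodule PrimeOrd

universe u

variable {F : Type u} [Field F] {n : ℕ}

local notation "V" => (Fin n → F)
local notation "M" => Matrix (Fin n) (Fin n) F

/-- The normaliser inside `SL`. -/
abbrev H (K : Subalgebra F M) : Subgroup (Matrix.SpecialLinearGroup (Fin n) F) :=
  (Cfsg.Geo.subalgebraNormalizer K).comap
    (Matrix.SpecialLinearGroup.toGL : Matrix.SpecialLinearGroup (Fin n) F →* GL (Fin n) F)

/-- A quadratic field and a good generator. -/
structure Gen (K : Subalgebra F M) (J : M) (t c : F) : Prop where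
  mem : J ∈ K
  span : ∀ k ∈ K, ∃ α β : F, k = α • 1 + β • J
  sq : J * J = t • J + c • 1
  noroot : ∀ r : F, r * r ≠ t * r + c
  norm : ∀ δ : F, δ ≠ 0 → ∃ u v : F, u * u + t * u * v - c * (v * v) = δ

theorem exists_primitive (hn : 0 < n) {K : Subalgebra F M} (hK : Cfsg.Geo.IsFieldSubalgebra 2 K) :
    ∃ (J : M) (t c : F), J ∈ K ∧ (∀ k ∈ K, ∃ α β : F, k = α • 1 + β • J) ∧ J * J = t • J + c • 1 ∧
      ∀ r : F, r * r ≠ t * r + c := by
  classical
  haveI : Nonempty (Fin n) := ⟨⟨0, hn⟩⟩
  have hfr : Module.finrank F K = 2 := hK.finrank_eq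
  obtain ⟨J, hJ, hJ1⟩ : ∃ J ∈ K, ∀ a : F, J ≠ a • (1 : M) := by
    by_contra h
    push Not at h
    have hb : Subalgebra.toSubmodule K ≤ span F {(1 : M)} := fun k hk => by
      obtain ⟨a, ha⟩ := h k hk
      rw [ha]
      exact smul_mem _ _ (subset_span rfl)
    have := finrank_mono hb
    rw [show Module.finrank F (Subalgebra.toSubmodule K) = 2 from hfr, finrank_span_singleton one_ne_zero] at this
    omega
  have hli : LinearIndependent F ![(1 : M), J] := by
    rw [LinearIndependent.pair_iff' one_ne_zero]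
    exact fun a e => hJ1 a e.symm
  have hspan : Subalgebra.toSubmodule K = span F (Set.range ![(1 : M), J]) := by
    symm
    refine eq_of_le_of_finrank_eq (span_le.mpr ?_) ?_
    · rintro _ ⟨i, rfl⟩
      fin_cases i
      · exact K.one_mem
      · exact hJ
    · rw [finrank_span_eq_card hli, show Module.finrank F (Subalgebra.toSubmodule K) = 2 from hfr]
      rfl
  have hall : ∀ k ∈ K, ∃ α β : F, k = α • 1 + β • J := fun k hk => by
    have hk' : k ∈ span F (Set.range ![(1 : M), J]) := hspan ▸ hk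
    rw [Matrix.range_cons_cons_empty, mem_span_pair] at hk'
    obtain ⟨α, β, e⟩ := hk'
    exact ⟨α, β, e.symm⟩
  obtain ⟨c, t, hsq⟩ := hall _ (K.mul_mem hJ hJ)
  refine ⟨J, t, c, hJ, hall, by rw [hsq, add_comm], fun r hr => ?_⟩
  have hne : J - r • (1 : M) ≠ 0 := sub_ne_zero.mpr (hJ1 r)
  obtain ⟨y, -, hy⟩ := hK.inv _ (K.sub_mem hJ (K.smul_mem K.one_mem r)) hne
  have h0 : (J - (t - r) • (1 : M)) * (J - r • (1 : M)) = 0 := by
    calc (J - (t - r) • (1 : M)) * (J - r • (1 : M)) = (t * r + c - r * r) • (1 : M) := by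
          simp only [sub_mul, mul_sub, smul_mul_assoc, mul_smul_comm, one_mul, mul_one, smul_smul, hsq, smul_sub]
          module
      _ = 0 := by rw [show t * r + c - r * r = 0 by linear_combination -hr, zero_smul]
  have := congrArg (· * y) h0
  rw [mul_assoc, hy, mul_one, zero_mul, sub_eq_zero] at this
  exact hJ1 _ this

theorem norm_odd [Fintype F] (h2 : ringChar F ≠ 2) {c : F} (hc : c ≠ 0) (δ : F) :
    ∃ u v : F, u * u - c * (v * v) = δ := by
  obtain ⟨u, v, huv⟩ := FiniteField.exists_root_sum_quadratic (R := F) (f := Polynomial.X ^ 2)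
    (g := Polynomial.C (-c) * Polynomial.X ^ 2 - Polynomial.C δ) (Polynomial.degree_X_pow 2)
    (by rw [Polynomial.degree_sub_C (by rw [Polynomial.degree_C_mul_X_pow 2 (neg_ne_zero.mpr hc)]; norm_num),
      Polynomial.degree_C_mul_X_pow 2 (neg_ne_zero.mpr hc)]; rfl)
    (FiniteField.odd_card_of_char_ne_two h2)
  simp only [Polynomial.eval_pow, Polynomial.eval_X, Polynomial.eval_sub, Polynomial.eval_mul, Polynomial.eval_C] at huv
  exact ⟨u, v, by linear_combination huv⟩

theorem gen_odd [Fintype F] (hn : 0 < n) (h2 : ringChar F ≠ 2) {K : Subalgebra F M}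
    (hK : Cfsg.Geo.IsFieldSubalgebra 2 K) : ∃ (J : M) (c : F), Gen K J 0 c := by
  have h20 : (2 : F) ≠ 0 := Ring.two_ne_zero h2
  obtain ⟨J, t, c, hJ, hall, hsq, hno⟩ := exists_primitive hn hK
  have hne : ∀ r : F, r * r ≠ t * t + 4 * c := fun r hr => hno ((t + r) / 2) (by
    field_simp
    linear_combination hr)
  refine ⟨(2 : F) • J - t • 1, t * t + 4 * c, K.sub_mem (K.smul_mem hJ 2) (K.smul_mem K.one_mem t), fun k hk => ?_,
    ?_, fun r hr => hne r (by linear_combination hr), fun δ _ => ?_⟩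
  · obtain ⟨α, β, rfl⟩ := hall k hk
    refine ⟨α + β / 2 * t, β / 2, ?_⟩
    rw [smul_sub, smul_smul, div_mul_cancel₀ β h20, smul_smul]
    module
  · simp only [sub_mul, mul_sub, smul_mul_assoc, mul_smul_comm, one_mul, mul_one, smul_smul, smul_sub, hsq]
    module
  · obtain ⟨u, v, h⟩ := norm_odd h2 (c := t * t + 4 * c) (fun h => hne 0 (by linear_combination -h)) δ
    exact ⟨u, v, by linear_combination h⟩

theorem gen_even [Fintype F] (hn : 0 < n) (h2 : (2 : F) = 0) {K : Subalgebra F M}
    (hK : Cfsg.Geo.IsFieldSubalgebra 2 K) : ∃ (J : M) (c : F), Gen K J 1 c := by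
  haveI : CharP F 2 := (CharP.charP_iff_prime_eq_zero Nat.prime_two).mpr (by exact_mod_cast h2)
  obtain ⟨J, t, c, hJ, hall, hsq, hno⟩ := exists_primitive hn hK
  have ht : t ≠ 0 := fun ht => by
    obtain ⟨r, hr⟩ := surjective_frobenius F 2 c
    rw [frobenius_def, sq] at hr
    exact hno r (by rw [hr, ht, zero_mul, zero_add])
  refine ⟨t⁻¹ • J, c / (t * t), K.smul_mem hJ _, fun k hk => ?_, ?_, fun r hr => hno (t * r) ?_, fun δ _ => ?_⟩
  · obtain ⟨α, β, rfl⟩ := hall k hk
    refine ⟨α, β * t, ?_⟩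
    rw [smul_smul, mul_assoc, mul_inv_cancel₀ ht, mul_one]
  · simp only [smul_mul_assoc, mul_smul_comm, smul_smul, hsq, one_smul, smul_add]
    congr 1 <;> congr 1 <;> field_simp
  · rw [one_mul] at hr
    field_simp at hr
    linear_combination hr
  · obtain ⟨u, hu⟩ := surjective_frobenius F 2 δ
    rw [frobenius_def, sq] at hu
    exact ⟨u, 0, by linear_combination hu⟩

/-- A space with a quadratic field acting splits as two halves. -/
theorem exists_halves (T : Module.End F V) {t c : F} (hno : ∀ r : F, r * r ≠ t * r + c)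
    (hT : ∀ v, T (T v) = t • T v + c • v) :
    ∃ (m : ℕ) (w : Module.Basis (Fin 2 × Fin m) F V), ∀ a i,
      T (w (a, i)) = ∑ b, !![0, c; 1, t] b a • w (b, i) := by
  classical
  have hc : c ≠ 0 := fun h => hno 0 (by rw [h]; ring)
  have hinj : Function.Injective T := (injective_iff_map_eq_zero T).mpr fun v hv => by
    have := hT v
    rw [hv, map_zero, smul_zero, zero_add] at this
    exact (smul_eq_zero.mp this.symm).resolve_left hc
  obtain ⟨U, hU, hmax⟩ := exists_maximalFor_of_wellFoundedGT (fun U : Submodule F V => Disjoint U (U.map T)) id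
    ⟨⊥, disjoint_bot_left⟩
  have htop : U ⊔ U.map T = ⊤ := by
    by_contra hne
    obtain ⟨u, -, hu⟩ := SetLike.exists_of_lt (lt_top_iff_ne_top.mpr hne)
    have hWinv : ∀ x ∈ U ⊔ U.map T, T x ∈ U ⊔ U.map T := by
      intro x hx
      obtain ⟨a, ha, b, ⟨d, hd, rfl⟩, rfl⟩ := mem_sup.mp hx
      rw [map_add, hT]
      exact add_mem (mem_sup_right ⟨a, ha, rfl⟩)
        (add_mem (smul_mem _ _ (mem_sup_right ⟨d, hd, rfl⟩)) (mem_sup_left (smul_mem _ _ hd)))
    have hind : ∀ α β : F, α • u + β • T u ∈ U ⊔ U.map T → α = 0 ∧ β = 0 := by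
      intro α β h
      have h' := hWinv _ h
      rw [map_add, map_smul, map_smul, hT] at h'
      have h3 := sub_mem (smul_mem _ (α + β * t) h) (smul_mem _ β h')
      rw [show (α + β * t) • (α • u + β • T u) - β • (α • T u + β • (t • T u + c • u)) =
        (α * α + α * β * t - c * (β * β)) • u by module] at h3
      have h0 : α * α + α * β * t - c * (β * β) = 0 := by
        by_contra hd
        have := smul_mem _ (α * α + α * β * t - c * (β * β))⁻¹ h3
        rw [inv_smul_smul₀ hd] at this
        exact hu this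
      have hb : β = 0 := by
        by_contra hb
        exact hno (-α / β) (by field_simp; linear_combination h0)
      subst hb
      exact ⟨mul_self_eq_zero.mp (by linear_combination h0), rfl⟩
    have hd' : Disjoint (U ⊔ span F {u}) ((U ⊔ span F {u}).map T) := by
      rw [disjoint_def]
      intro x hx hx'
      obtain ⟨a, ha, y, hy, rfl⟩ := mem_sup.mp hx
      obtain ⟨α, rfl⟩ := mem_span_singleton.mp hy
      obtain ⟨x', hx'', e⟩ := hx'
      obtain ⟨b, hb, y', hy', rfl⟩ := mem_sup.mp hx''
      obtain ⟨β, rfl⟩ := mem_span_singleton.mp hy'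
      rw [map_add, map_smul] at e
      obtain ⟨h1, h2⟩ := hind α (-β) (by
        rw [show α • u + (-β) • T u = T b - a by linear_combination (norm := module) -e]
        exact sub_mem (mem_sup_right ⟨b, hb, rfl⟩) (mem_sup_left ha))
      rw [h1, zero_smul, add_zero] at e ⊢
      rw [neg_eq_zero.mp h2, zero_smul, add_zero] at e
      exact disjoint_def.mp hU a ha ⟨b, hb, e⟩
    have := hmax hd' (le_sup_left : U ≤ U ⊔ span F {u})
    exact hu (mem_sup_left (this (mem_sup_right (subset_span rfl))))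
  have hcm : IsCompl U (U.map T) := IsCompl.of_eq hU.eq_bot htop
  let cU := Module.finBasis F U
  let eT : U ≃ₗ[F] U.map T := Submodule.equivMapOfInjective T hinj U
  let bS := (cU.prod (cU.map eT)).map (prodEquivOfIsCompl _ _ hcm)
  let w := bS.reindex ((Equiv.boolProdEquivSum _).symm.trans (Equiv.prodCongr finTwoEquiv.symm (Equiv.refl _)))
  have hw0 : ∀ i, w (0, i) = (cU i : V) := fun i => by
    simp [w, bS, Module.Basis.reindex_apply, finTwoEquiv]
  have hw1 : ∀ i, w (1, i) = T (cU i : V) := fun i => by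
    simp [w, bS, eT, Module.Basis.reindex_apply, finTwoEquiv]
  refine ⟨_, w, fun a i => ?_⟩
  rw [Fin.sum_univ_two, hw0, hw1]
  fin_cases a
  · simp [hw0]
  · simp [hw1, hT, add_comm]

/-- Membership in the normaliser from the image of a generator. -/
theorem mem_normalizer {K : Subalgebra F M} {J : M} {t c : F} (g : Gen K J t c) {X : GL (Fin n) F} {a b : F}
    (h : (X : M) * J = (a • 1 + b • J) * (X : M)) : X ∈ Cfsg.Geo.subalgebraNormalizer K := by
  let φ : M →ₗ[F] M := LinearMap.mulLeftRight F ((X : M), ((X⁻¹ : GL (Fin n) F) : M))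
  have hφa : ∀ k, φ k = (X : M) * k * ((X⁻¹ : GL (Fin n) F) : M) := fun k => by simp [φ]
  have hcan : ∀ Y : M, Y * (X : M) * ((X⁻¹ : GL (Fin n) F) : M) = Y := fun Y => by
    rw [mul_assoc, ← Units.val_mul, mul_inv_cancel, Units.val_one, mul_one]
  have hle : ∀ k ∈ K, φ k ∈ K := fun k hk => by
    obtain ⟨α, β, rfl⟩ := g.span k hk
    rw [map_add, map_smul, map_smul, hφa, hφa, h, hcan, mul_one, ← Units.val_mul, mul_inv_cancel, Units.val_one]
    exact K.add_mem (K.smul_mem K.one_mem _)
      (K.smul_mem (K.add_mem (K.smul_mem K.one_mem _) (K.smul_mem g.mem _)) _)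
  have hinj : ∀ k k', φ k = φ k' → k = k' := fun k k' e => by
    rw [hφa, hφa, Units.mul_left_inj, Units.mul_right_inj] at e
    exact e
  let ψ : K →ₗ[F] K := φ.restrict (p := Subalgebra.toSubmodule K) (q := Subalgebra.toSubmodule K) hle
  have hψ : Function.Surjective ψ := LinearMap.injective_iff_surjective.mp fun k k' e =>
    Subtype.ext (hinj _ _ (congrArg Subtype.val e))
  intro k
  refine ⟨fun hk => hφa k ▸ hle k hk, fun hk => ?_⟩
  obtain ⟨⟨k', hk'⟩, e⟩ := hψ ⟨φ k, hφa k ▸ hk⟩
  exact hinj _ _ (congrArg Subtype.val e) ▸ hk'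

/-- Two generators with the same equation are conjugate under `SL`. -/
theorem conj_into {K : Subalgebra F M} {J : M} {t c : F} (g : Gen K J t c) (hn : 0 < n)
    (x : Matrix.SpecialLinearGroup (Fin n) F) (J' : M) (hJ' : J' * J' = t • J' + c • 1) {a b : F}
    (h : (x : M) * J' = (a • 1 + b • J') * (x : M)) :
    ∃ P : Matrix.SpecialLinearGroup (Fin n) F, P⁻¹ * x * P ∈ H K := by
  classical
  have hsq : ∀ N : M, N * N = t • N + c • 1 → ∀ v, Matrix.toLin' N (Matrix.toLin' N v) = t • Matrix.toLin' N v + c • v :=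
    fun N hN v => by
      simp only [Matrix.toLin'_apply]
      rw [Matrix.mulVec_mulVec, hN]
      simp [Matrix.add_mulVec, Matrix.smul_mulVec]
  obtain ⟨m, s, hs⟩ := exists_halves (Matrix.toLin' J) g.noroot (hsq J g.sq)
  obtain ⟨m', w, hw⟩ := exists_halves (Matrix.toLin' J') g.noroot (hsq J' hJ')
  obtain rfl : m' = m := by
    have h1 := Module.finrank_eq_card_basis s
    have h2 := Module.finrank_eq_card_basis w
    simp only [Module.finrank_fintype_fun_eq_card, Fintype.card_fin, Fintype.card_prod] at h1 h2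
    omega
  have hm : 0 < m' := by
    have h1 := Module.finrank_eq_card_basis s
    simp only [Module.finrank_fintype_fun_eq_card, Fintype.card_fin, Fintype.card_prod] at h1
    omega
  let i₀ : Fin m' := ⟨0, hm⟩
  set e : V ≃ₗ[F] V := s.equiv w (Equiv.refl _)
  have he : LinearMap.det (e : V →ₗ[F] V) ≠ 0 := e.isUnit_det'.ne_zero
  obtain ⟨u, v, huv⟩ := g.norm _ (inv_ne_zero he)
  let A : Matrix (Fin 2) (Fin 2) F := !![0, c; 1, t]
  let C : Matrix (Fin 2) (Fin 2) F := !![u, c * v; v, u + t * v]
  have hCA : C * A = A * C := by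
    ext i j
    fin_cases i <;> fin_cases j <;> simp [C, A, Matrix.mul_apply, Fin.sum_univ_two] <;> ring
  let Mc : Matrix (Fin 2 × Fin m') (Fin 2 × Fin m') F := Matrix.blockDiagonal fun i => if i = i₀ then C else 1
  let Ab : Matrix (Fin 2 × Fin m') (Fin 2 × Fin m') F := Matrix.blockDiagonal fun _ => A
  let φ : V →ₗ[F] V := (e : V →ₗ[F] V) ∘ₗ Matrix.toLin s s Mc
  have hφ : (LinearMap.toMatrix' φ).det = 1 := by
    rw [LinearMap.det_toMatrix', LinearMap.det_comp, LinearMap.det_toLin, Matrix.det_blockDiagonal,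
      Finset.prod_eq_single i₀ (fun i _ hi => by rw [if_neg hi, Matrix.det_one]) (by simp), if_pos rfl,
      show C.det = (LinearMap.det (e : V →ₗ[F] V))⁻¹ by simp [C, Matrix.det_fin_two]; linear_combination huv,
      mul_inv_cancel₀ he]
  let P : Matrix.SpecialLinearGroup (Fin n) F := ⟨LinearMap.toMatrix' φ, hφ⟩
  have hbl : ∀ (z : Module.Basis (Fin 2 × Fin m') F V) (a : Fin 2) (i : Fin m'),
      Matrix.toLin z z Ab (z (a, i)) = ∑ b, A b a • z (b, i) := fun z a i => by
    rw [Matrix.toLin_self, Fintype.sum_prod_type]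
    refine Finset.sum_congr rfl fun d _ => ?_
    rw [Finset.sum_eq_single i (fun k _ hk => by simp [Ab, Matrix.blockDiagonal_apply, hk]) (by simp)]
    simp [Ab, Matrix.blockDiagonal_apply]
  have hJs : Matrix.toLin' J = Matrix.toLin s s Ab := s.ext fun p => by
    obtain ⟨a, i⟩ := p
    rw [hbl, hs]
  have hJe : Matrix.toLin' J' ∘ₗ (e : V →ₗ[F] V) = (e : V →ₗ[F] V) ∘ₗ Matrix.toLin' J := s.ext fun p => by
    obtain ⟨a, i⟩ := p
    simp only [LinearMap.comp_apply, hs, map_sum, map_smul]
    simp [e, hw]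
  have hJφ : Matrix.toLin' J' ∘ₗ φ = φ ∘ₗ Matrix.toLin' J := by
    have hc : Ab * Mc = Mc * Ab := by
      simp only [Ab, Mc, ← Matrix.blockDiagonal_mul]
      congr 1
      funext i
      by_cases h : i = i₀
      · subst h; simp [hCA]
      · simp [h]
    rw [show φ = (e : V →ₗ[F] V) ∘ₗ Matrix.toLin s s Mc from rfl, ← LinearMap.comp_assoc, hJe,
      LinearMap.comp_assoc, LinearMap.comp_assoc]
    congr 1
    rw [hJs, ← Matrix.toLin_mul, ← Matrix.toLin_mul, hc]
  have hJP : J' * (P : M) = (P : M) * J := by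
    have := congrArg LinearMap.toMatrix' hJφ
    rwa [LinearMap.toMatrix'_comp (Matrix.toLin' J') φ, LinearMap.toMatrix'_comp φ (Matrix.toLin' J),
      LinearMap.toMatrix'_toLin', LinearMap.toMatrix'_toLin'] at this
  refine ⟨P, Subgroup.mem_comap.mpr (mem_normalizer g (a := a) (b := b) ?_)⟩
  obtain ⟨Q, hQ⟩ : ∃ Q : M, Q = ((P⁻¹ : Matrix.SpecialLinearGroup (Fin n) F) : M) := ⟨_, rfl⟩
  have hPQ : (P : M) * Q = 1 := by
    rw [hQ, ← Matrix.SpecialLinearGroup.coe_mul, mul_inv_cancel, Matrix.SpecialLinearGroup.coe_one]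
  have hQP : Q * (P : M) = 1 := by
    rw [hQ, ← Matrix.SpecialLinearGroup.coe_mul, inv_mul_cancel, Matrix.SpecialLinearGroup.coe_one]
  show ((P⁻¹ * x * P : Matrix.SpecialLinearGroup (Fin n) F) : M) * J =
    (a • 1 + b • J) * ((P⁻¹ * x * P : Matrix.SpecialLinearGroup (Fin n) F) : M)
  rw [Matrix.SpecialLinearGroup.coe_mul, Matrix.SpecialLinearGroup.coe_mul, ← hQ]
  calc Q * (x : M) * (P : M) * J = Q * ((x : M) * J') * (P : M) := by simp only [mul_assoc, hJP]
    _ = Q * ((a • 1 + b • J') * (x : M)) * (P : M) := by rw [h]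
    _ = (a • 1 + b • J) * (Q * (x : M) * (P : M)) := by
      have hQJ : Q * J' = J * Q := by
        calc Q * J' = Q * J' * ((P : M) * Q) := by rw [hPQ, mul_one]
          _ = Q * (J' * (P : M)) * Q := by simp only [mul_assoc]
          _ = Q * (P : M) * J * Q := by rw [hJP, ← mul_assoc]
          _ = J * Q := by rw [hQP, one_mul]
      simp only [add_mul, mul_add, smul_mul_assoc, mul_smul_comm, one_mul, ← mul_assoc, hQJ]

/-- A basis in which both the element and a generator act blockwise. -/
theorem of_blocks {K : Subalgebra F M} {J : M} {t c : F} (g : Gen K J t c) (hn : 0 < n)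
    (x : Matrix.SpecialLinearGroup (Fin n) F) {κ : Type*} [Fintype κ] [DecidableEq κ]
    (w : Module.Basis (Fin 2 × κ) F V) (B : κ → Matrix (Fin 2) (Fin 2) F) {a b : F}
    (hB : ∀ i, B i * !![0, c; 1, t] = (a • 1 + b • !![0, c; 1, t]) * B i)
    (hw : ∀ d i, (x : M).mulVec (w (d, i)) = ∑ e, B i e d • w (e, i)) :
    ∃ P : Matrix.SpecialLinearGroup (Fin n) F, P⁻¹ * x * P ∈ H K := by
  classical
  let A : Matrix (Fin 2) (Fin 2) F := !![0, c; 1, t]
  let Φ : Matrix (Fin 2 × κ) (Fin 2 × κ) F ≃ₐ[F] Module.End F V := Matrix.toLinAlgEquiv w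
  let T : Module.End F V := Φ (Matrix.blockDiagonal fun _ => A)
  have hXw : Matrix.toLin' (x : M) = Φ (Matrix.blockDiagonal B) := w.ext fun p => by
    obtain ⟨d, i⟩ := p
    rw [Matrix.toLin'_apply, hw, Matrix.toLinAlgEquiv_self, Fintype.sum_prod_type]
    refine Finset.sum_congr rfl fun e _ => ?_
    rw [Finset.sum_eq_single i (fun k _ hk => by simp [Matrix.blockDiagonal_apply, hk]) (by simp)]
    simp [Matrix.blockDiagonal_apply]
  have hone : (1 : Matrix (Fin 2 × κ) (Fin 2 × κ) F) = Matrix.blockDiagonal fun _ => 1 :=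
    Matrix.blockDiagonal_one.symm
  have hA2 : A * A = t • A + c • 1 := by
    ext p q
    fin_cases p <;> fin_cases q <;> simp [A, Matrix.mul_apply, Fin.sum_univ_two, Matrix.one_apply] <;> ring
  have hTT : T * T = t • T + c • 1 := by
    rw [show T = Φ (Matrix.blockDiagonal fun _ => A) from rfl, ← map_mul, ← map_one Φ, ← map_smul, ← map_smul,
      ← map_add, hone, ← Matrix.blockDiagonal_mul, ← Matrix.blockDiagonal_smul, ← Matrix.blockDiagonal_smul,
      ← Matrix.blockDiagonal_add]
    congr 2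
    funext i
    exact hA2
  have hxT : Matrix.toLin' (x : M) * T = (a • 1 + b • T) * Matrix.toLin' (x : M) := by
    rw [hXw, show T = Φ (Matrix.blockDiagonal fun _ => A) from rfl, ← map_mul, ← map_one Φ, ← map_smul, ← map_smul,
      ← map_add, ← map_mul, hone, ← Matrix.blockDiagonal_smul, ← Matrix.blockDiagonal_smul,
      ← Matrix.blockDiagonal_add, ← Matrix.blockDiagonal_mul, ← Matrix.blockDiagonal_mul]
    congr 2
    funext i
    exact hB i
  refine conj_into g hn x (LinearMap.toMatrix' T) ?_ (a := a) (b := b) ?_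
  · rw [← LinearMap.toMatrix'_mul, hTT, map_add, map_smul, map_smul, LinearMap.toMatrix'_one]
  · have := congrArg LinearMap.toMatrix' hxT
    rwa [LinearMap.toMatrix'_mul, LinearMap.toMatrix'_mul, LinearMap.toMatrix'_toLin', map_add, map_smul, map_smul,
      LinearMap.toMatrix'_one] at this

theorem good_nonsquare [Fintype F] (hn : 0 < n) (h2 : ringChar F ≠ 2) {K : Subalgebra F M}
    (hK : Cfsg.Geo.IsFieldSubalgebra 2 K) (x : Matrix.SpecialLinearGroup (Fin n) F) {z : F} (hz : z ≠ 0)
    (hzs : ¬ IsSquare z) (hx : Matrix.toLin' (x : M) ^ 2 = z • (1 : Module.End F V)) :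
    ∃ P : Matrix.SpecialLinearGroup (Fin n) F, P⁻¹ * x * P ∈ H K := by
  obtain ⟨J, c, g⟩ := gen_odd hn h2 hK
  have hc : c ≠ 0 := fun h => g.noroot 0 (by rw [h]; ring)
  have hcs : ¬ IsSquare c := fun ⟨r, hr⟩ => g.noroot r (by rw [hr]; ring)
  obtain ⟨d, hd⟩ : IsSquare (z / c) := by
    rw [FiniteField.isSquare_iff h2 (div_ne_zero hz hc), div_pow]
    rw [FiniteField.isSquare_iff h2 hz] at hzs
    rw [FiniteField.isSquare_iff h2 hc] at hcs
    rw [(FiniteField.pow_dichotomy h2 hz).resolve_left hzs, (FiniteField.pow_dichotomy h2 hc).resolve_left hcs]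
    simp
  have hd0 : d ≠ 0 := fun h => div_ne_zero hz hc (by rw [hd, h, mul_zero])
  have hxx : (x : M) * (x : M) = z • 1 := by
    apply Matrix.toLin'.injective
    rw [Matrix.toLin'_mul, map_smul, Matrix.toLin'_one, ← Module.End.mul_eq_comp, ← sq, hx]
    rfl
  refine conj_into g hn x (d⁻¹ • (x : M)) ?_ (a := 0) (b := 1) (by simp)
  rw [smul_mul_smul_comm, hxx, zero_smul, zero_add, smul_smul]
  congr 1
  field_simp at hd ⊢
  linear_combination hd

theorem good_split [Fintype F] (hn : 0 < n) (he : Even n) (h2 : ringChar F ≠ 2) {K : Subalgebra F M}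
    (hK : Cfsg.Geo.IsFieldSubalgebra 2 K)
    (hv : n = 2 ∨ padicValNat 2 (Fintype.card F - 1) ≤ padicValNat 2 n)
    (x : Matrix.SpecialLinearGroup (Fin n) F) {β : F} (hb : β ≠ 0)
    (hx : Matrix.toLin' (x : M) ^ 2 = (β ^ 2) • (1 : Module.End F V)) :
    ∃ P : Matrix.SpecialLinearGroup (Fin n) F, P⁻¹ * x * P ∈ H K := by
  classical
  have h20 : (2 : F) ≠ 0 := Ring.two_ne_zero h2
  obtain ⟨J, c, g⟩ := gen_odd hn h2 hK
  obtain ⟨hy, -⟩ := normalise (pow_ne_zero 2 hb) rfl two_ne_zero hx
  set y : Module.End F V := β⁻¹ • Matrix.toLin' (x : M) with hyd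
  have hxy : Matrix.toLin' (x : M) = β • y := by rw [hyd, smul_smul, mul_inv_cancel₀ hb, one_smul]
  have hc := isCompl_fix_mov (x := y) (r := 2) (by exact_mod_cast h20) hy
  have hneg : ∀ v ∈ mov y, y v = -v := by
    rintro _ ⟨u, rfl⟩
    have h : y (y u) = u := by rw [← Module.End.mul_apply, ← sq, hy]; rfl
    simp [h]
  let bS := ((Module.finBasis F (fix y)).prod (Module.finBasis F (mov y))).map (prodEquivOfIsCompl _ _ hc)
  have hb1 : ∀ i, (x : M).mulVec (bS (Sum.inl i)) = β • bS (Sum.inl i) := fun i => by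
    rw [← Matrix.toLin'_apply, hxy]
    simp [bS, mem_fix.mp (Module.finBasis F (fix y) i).2]
  have hb2 : ∀ i, (x : M).mulVec (bS (Sum.inr i)) = (-β) • bS (Sum.inr i) := fun i => by
    rw [← Matrix.toLin'_apply, hxy]
    simp [bS, hneg _ (Module.finBasis F (mov y) i).2]
  have hsum : Module.finrank F (fix y) + Module.finrank F (mov y) = n := by
    rw [finrank_add_eq_of_isCompl hc, Module.finrank_fintype_fun_eq_card, Fintype.card_fin]
  obtain ⟨m, hm⟩ := he
  by_cases hev : Even (Module.finrank F (mov y))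
  · obtain ⟨k, hk⟩ := hev
    let e : (Fin 2 × Fin (m - k)) ⊕ (Fin 2 × Fin k) ≃ Fin (Module.finrank F (fix y)) ⊕ Fin (Module.finrank F (mov y)) :=
      Equiv.sumCongr (finProdFinEquiv.trans (finCongr (by omega))) (finProdFinEquiv.trans (finCongr (by omega)))
    let w := bS.reindex (((Equiv.prodSumDistrib (Fin 2) (Fin (m - k)) (Fin k)).trans e).symm)
    let B : Fin (m - k) ⊕ Fin k → Matrix (Fin 2) (Fin 2) F :=
      Sum.elim (fun _ => β • 1) fun _ => (-β) • 1
    refine of_blocks g hn x w B (a := 0) (b := 1) (fun i => by rcases i with i | i <;> simp [B]) fun d i => ?_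
    rcases i with i | i
    · rw [show w (d, Sum.inl i) = bS (Sum.inl (finCongr (by omega) (finProdFinEquiv (d, i)))) by
        simp [w, e, Module.Basis.reindex_apply], hb1]
      simp [B, Matrix.one_apply, w, e, Module.Basis.reindex_apply]
    · rw [show w (d, Sum.inr i) = bS (Sum.inr (finCongr (by omega) (finProdFinEquiv (d, i)))) by
        simp [w, e, Module.Basis.reindex_apply], hb2]
      simp [B, Matrix.one_apply, w, e, Module.Basis.reindex_apply]
  · rw [Nat.not_even_iff_odd] at hev
    have hn2 : n = 2 := hv.resolve_right fun hv' => by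
      have hdet : LinearMap.det y = -1 := by
        have hD : LinearMap.toMatrix bS bS y = Matrix.diagonal (Sum.elim (fun _ => (1 : F)) fun _ => (-1 : F)) := by
          ext i j
          rw [LinearMap.toMatrix_apply]
          rcases j with k | k
          · rw [show y (bS (Sum.inl k)) = bS (Sum.inl k) by simp [bS, mem_fix.mp (Module.finBasis F (fix y) k).2],
              Module.Basis.repr_self, Matrix.diagonal_apply, Finsupp.single_apply]
            by_cases h : i = Sum.inl k
            · subst h; simp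
            · simp [h, Ne.symm h]
          · rw [show y (bS (Sum.inr k)) = -bS (Sum.inr k) by simp [bS, hneg _ (Module.finBasis F (mov y) k).2],
              map_neg, Module.Basis.repr_self, Finsupp.neg_apply, Matrix.diagonal_apply, Finsupp.single_apply]
            by_cases h : i = Sum.inr k
            · subst h; simp
            · simp [h, Ne.symm h]
        rw [← LinearMap.det_toMatrix bS, hD, Matrix.det_diagonal, Fintype.prod_sum_type]
        simp [hev.neg_one_pow]
      have h1 : LinearMap.det (Matrix.toLin' (x : M)) = 1 := by rw [LinearMap.det_toLin', x.2]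
      rw [hxy, LinearMap.det_smul, hdet, Module.finrank_fintype_fun_eq_card, Fintype.card_fin] at h1
      exact InvolSim.pow_ne_neg_one h20 hb hn.ne' hv' (by linear_combination -h1)
    obtain ⟨j, hj⟩ := hev
    have h1 : Module.finrank F (fix y) = 1 := by omega
    have h2' : Module.finrank F (mov y) = 1 := by omega
    let e : Fin 2 × Fin 1 ≃ Fin (Module.finrank F (fix y)) ⊕ Fin (Module.finrank F (mov y)) :=
      ((Equiv.prodCongr finTwoEquiv (Equiv.refl _)).trans (Equiv.boolProdEquivSum _)).trans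
        (Equiv.sumCongr (finCongr h1.symm) (finCongr h2'.symm))
    let w := bS.reindex e.symm
    refine of_blocks g hn x w (fun _ => Matrix.diagonal ![β, -β]) (a := 0) (b := -1) (fun i => ?_) fun d i => ?_
    · ext p q
      fin_cases p <;> fin_cases q <;> simp [Matrix.mul_apply, Fin.sum_univ_two] <;> ring
    · fin_cases d <;> simp [w, e, Module.Basis.reindex_apply, finTwoEquiv, hb1, hb2]

theorem good_even (hn2 : n = 2) [Fintype F] (h2 : (2 : F) = 0) {K : Subalgebra F M}
    (hK : Cfsg.Geo.IsFieldSubalgebra 2 K) (x : Matrix.SpecialLinearGroup (Fin n) F) {β : F} (hb : β ≠ 0)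
    (hx : Matrix.toLin' (x : M) ^ 2 = (β ^ 2) • (1 : Module.End F V))
    (hns : ∀ z : F, (x : M) ≠ z • (1 : M)) :
    ∃ P : Matrix.SpecialLinearGroup (Fin n) F, P⁻¹ * x * P ∈ H K := by
  classical
  haveI : CharP F 2 := (CharP.charP_iff_prime_eq_zero Nat.prime_two).mpr (by exact_mod_cast h2)
  obtain ⟨J, c, g⟩ := gen_even (by omega) h2 hK
  obtain ⟨hy, -⟩ := normalise (pow_ne_zero 2 hb) rfl two_ne_zero hx
  set y : Module.End F V := β⁻¹ • Matrix.toLin' (x : M) with hyd
  have hxy : ∀ v, (x : M).mulVec v = β • y v := fun v => by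
    rw [hyd, LinearMap.smul_apply, smul_smul, mul_inv_cancel₀ hb, one_smul, Matrix.toLin'_apply]
  set N := y - 1 with hNd
  have hN : N ^ 2 = 0 := by
    have e : (2 : F) • y = 0 := by rw [h2, zero_smul]
    have e1 : (2 : F) • (1 : Module.End F V) = 0 := by rw [h2, zero_smul]
    rw [hNd, sq, sub_mul, mul_sub, mul_one, one_mul, ← sq, hy]
    linear_combination (norm := module) e1 - e
  have hN0 : N ≠ 0 := fun h => hns β (Matrix.toLin'.injective (LinearMap.ext fun v => by
    rw [Matrix.toLin'_apply, hxy, sub_eq_zero.mp h]; simp))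
  have hyN : ∀ v, y v = N v + v := fun v => by simp [hNd]
  obtain ⟨l, r, b₀, hl, hlr, hb₁, hb₂, hb₃⟩ := InvolForm.nilpotent_data N hN hN0
  obtain rfl : l = 1 := by omega
  obtain rfl : r = 0 := by omega
  let e : Fin 2 × Fin 1 ≃ (Fin 1 ⊕ Fin 1) ⊕ Fin 0 :=
    (((Equiv.prodCongr finTwoEquiv (Equiv.refl _)).trans (Equiv.boolProdEquivSum _)).trans (Equiv.sumComm _ _)).trans
      (Equiv.sumEmpty _ _).symm
  let w := b₀.reindex e.symm
  refine of_blocks g (by omega) x w (fun _ => !![β, β; 0, β]) (a := 1) (b := 1) (fun i => ?_) fun d i => ?_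
  · ext p q
    fin_cases p <;> fin_cases q <;> simp [Matrix.mul_apply, Fin.sum_univ_two] <;>
      first
        | ring1
        | linear_combination β * h2
        | linear_combination -β * h2
        | (left; linear_combination h2)
  · fin_cases d <;> simp [w, e, Module.Basis.reindex_apply, finTwoEquiv, hxy, hyN, hb₁, hb₂]

/-- A scalar times one plus a map of rank one normalises no quadratic field. -/
theorem not_conj (hn : 3 ≤ n) {K : Subalgebra F M} (hK : Cfsg.Geo.IsFieldSubalgebra 2 K)
    (x : Matrix.SpecialLinearGroup (Fin n) F) {β : F} (hb : β ≠ 0) (N : M) (hN : N ≠ 0) (hr : N.rank ≤ 1)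
    (hx : (x : M) = β • (1 + N)) : ¬ ∃ P : Matrix.SpecialLinearGroup (Fin n) F, P⁻¹ * x * P ∈ H K := by
  rintro ⟨P, hP⟩
  obtain ⟨Q, hQ⟩ : ∃ Q : M, Q = ((P⁻¹ : Matrix.SpecialLinearGroup (Fin n) F) : M) := ⟨_, rfl⟩
  have hPQ : (P : M) * Q = 1 := by
    rw [hQ, ← Matrix.SpecialLinearGroup.coe_mul, mul_inv_cancel, Matrix.SpecialLinearGroup.coe_one]
  have hQP : Q * (P : M) = 1 := by
    rw [hQ, ← Matrix.SpecialLinearGroup.coe_mul, inv_mul_cancel, Matrix.SpecialLinearGroup.coe_one]
  set X : GL (Fin n) F := Matrix.SpecialLinearGroup.toGL (P⁻¹ * x * P)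
  have hX : (X : M) = β • (1 + Q * N * (P : M)) := by
    show ((P⁻¹ * x * P : Matrix.SpecialLinearGroup (Fin n) F) : M) = _
    rw [Matrix.SpecialLinearGroup.coe_mul, Matrix.SpecialLinearGroup.coe_mul, ← hQ, hx]
    simp only [mul_smul_comm, smul_mul_assoc, mul_add, add_mul, mul_one, hQP]
  let G : GL (Fin n) F := ⟨β⁻¹ • (X : M), β • ((X⁻¹ : GL (Fin n) F) : M),
    by rw [smul_mul_smul_comm, inv_mul_cancel₀ hb, one_smul, ← Units.val_mul, mul_inv_cancel, Units.val_one],
    by rw [smul_mul_smul_comm, mul_inv_cancel₀ hb, one_smul, ← Units.val_mul, inv_mul_cancel, Units.val_one]⟩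
  have hG : G ∈ Cfsg.Geo.subalgebraNormalizer K := fun k => by
    show k ∈ K ↔ β⁻¹ • (X : M) * k * (β • ((X⁻¹ : GL (Fin n) F) : M)) ∈ K
    rw [smul_mul_assoc, smul_mul_smul_comm, inv_mul_cancel₀ hb, one_smul]
    exact Subgroup.mem_comap.mp hP k
  have hrk : (Q * N * (P : M)).rank ≤ 1 :=
    ((Matrix.rank_mul_le_left _ _).trans (Matrix.rank_mul_le_right _ _)).trans hr
  refine notMem_subalgebraNormalizer hK (g := G) (N := Q * N * (P : M)) ?_ (fun h => hN ?_) (by omega) (by omega) hG
  · show β⁻¹ • (X : M) = _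
    rw [hX, smul_smul, inv_mul_cancel₀ hb, one_smul]
  · calc N = ((P : M) * Q) * N * ((P : M) * Q) := by rw [hPQ, one_mul, mul_one]
      _ = (P : M) * (Q * N * (P : M)) * Q := by simp only [mul_assoc]
      _ = 0 := by rw [h, mul_zero, zero_mul]

/-- The criterion. -/
theorem main [Fintype F] (hn : 2 ≤ n) (he : Even n) {K : Subalgebra F M} (hK : Cfsg.Geo.IsFieldSubalgebra 2 K) :
    (∀ x : Matrix.SpecialLinearGroup (Fin n) F,
      (∃ z : F, ((x ^ 2 : Matrix.SpecialLinearGroup (Fin n) F) : M) = z • (1 : M)) →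
      (∀ z : F, (x : M) ≠ z • (1 : M)) →
      ∃ P : Matrix.SpecialLinearGroup (Fin n) F, P⁻¹ * x * P ∈ H K) ↔
    (n = 2 ∨ (Odd (Fintype.card F) ∧ padicValNat 2 (Fintype.card F - 1) ≤ padicValNat 2 n)) := by
  classical
  constructor
  · intro h
    by_contra hcond
    push Not at hcond
    obtain ⟨hn2, hcond⟩ := hcond
    have h3 : 3 ≤ n := by omega
    let i₀ : Fin n := ⟨0, by omega⟩
    let i₁ : Fin n := ⟨1, by omega⟩
    have hij : i₀ ≠ i₁ := by simp [i₀, i₁]
    by_cases h2 : ringChar F = 2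
    · haveI : CharP F 2 := ringChar.of_eq h2
      let x : Matrix.SpecialLinearGroup (Fin n) F :=
        ⟨Matrix.transvection i₀ i₁ 1, Matrix.det_transvection_of_ne _ _ hij 1⟩
      have hNr : (Matrix.single i₀ i₁ (1 : F)).rank ≤ 1 := by
        rw [show Matrix.single i₀ i₁ (1 : F) = Matrix.vecMulVec (Pi.single i₀ 1) (Pi.single i₁ 1) by
          ext a b; simp [Matrix.vecMulVec, Matrix.single, Pi.single_apply]; aesop]
        exact Matrix.rank_vecMulVec_le _ _
      refine not_conj h3 hK x one_ne_zero _ (fun h0 => ?_) hNr (one_smul _ _).symm (h x ⟨1, ?_⟩ fun z hz => ?_)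
      · have := congrFun (congrFun h0 i₀) i₁
        simp at this
      · rw [one_smul, Matrix.SpecialLinearGroup.coe_pow, sq,
          show (x : M) = Matrix.transvection i₀ i₁ 1 from rfl, Matrix.transvection_mul_transvection_same _ _ hij,
          CharTwo.add_self_eq_zero, Matrix.transvection_zero]
      · have := congrFun (congrFun hz i₀) i₁
        simp [x, Matrix.transvection, Matrix.one_apply, hij] at this
    · have hodd : Odd (Fintype.card F) := Nat.odd_iff.mpr (FiniteField.odd_card_of_char_ne_two h2)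
      obtain ⟨β, hb, h20, hbn⟩ := InvolSim.exists_neg_one_root (F := F) (show n ≠ 0 by omega) (hcond hodd)
      let d : Fin n → F := fun i => if i = i₀ then -β else β
      have hd : (Matrix.diagonal d).det = 1 := by
        rw [Matrix.det_diagonal]
        calc ∏ i, d i = ∏ i, β * (if i = i₀ then (-1 : F) else 1) :=
              Finset.prod_congr rfl fun i _ => by simp only [d]; split_ifs <;> ring
          _ = 1 := by rw [Finset.prod_mul_distrib, Finset.prod_const, Finset.card_univ, Fintype.card_fin, hbn,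
              Finset.prod_ite_eq']; simp
      let x : Matrix.SpecialLinearGroup (Fin n) F := ⟨Matrix.diagonal d, hd⟩
      have hNr : (Matrix.diagonal fun i => if i = i₀ then (-2 : F) else 0).rank ≤ 1 := by
        rw [show (Matrix.diagonal fun i => if i = i₀ then (-2 : F) else 0) =
          Matrix.vecMulVec (Pi.single i₀ (-2)) (Pi.single i₀ 1) by
            ext a b; simp [Matrix.vecMulVec, Matrix.diagonal_apply, Pi.single_apply]; aesop]
        exact Matrix.rank_vecMulVec_le _ _
      refine not_conj h3 hK x hb _ (fun h0 => ?_) hNr ?_ (h x ⟨β ^ 2, ?_⟩ fun z hz => ?_)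
      · have := congrFun (congrFun h0 i₀) i₀
        simp at this
        exact h20 this
      · show Matrix.diagonal d = _
        ext a b
        simp [Matrix.diagonal_apply, Matrix.one_apply, d]
        split_ifs <;> ring
      · rw [Matrix.SpecialLinearGroup.coe_pow, show (x : M) = Matrix.diagonal d from rfl, Matrix.diagonal_pow,
          Matrix.smul_one_eq_diagonal]
        congr 1
        funext i
        simp only [d, Pi.pow_apply]
        split_ifs <;> ring
      · have e0 := congrFun (congrFun hz i₀) i₀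
        have e1 := congrFun (congrFun hz i₁) i₁
        simp [x, d, hij.symm] at e0 e1
        exact h20 (mul_left_cancel₀ hb (by rw [mul_zero]; linear_combination e1 - e0))
  · intro hcond x hx hns
    obtain ⟨z, hz, hT⟩ := InvolForm.square_data (by omega) x hx
    by_cases h2 : ringChar F = 2
    · haveI : CharP F 2 := ringChar.of_eq h2
      have hn2 : n = 2 := hcond.resolve_right fun h => by
        have := FiniteField.even_card_of_char_two h2
        obtain ⟨j, hj⟩ := h.1
        omega
      have h20 : (2 : F) = 0 := by exact_mod_cast CharP.cast_eq_zero F 2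
      obtain ⟨β, rfl⟩ := surjective_frobenius F 2 z
      rw [frobenius_def] at hz hT
      exact good_even hn2 h20 hK x (pow_ne_zero_iff two_ne_zero |>.mp hz) hT hns
    by_cases hs : IsSquare z
    · obtain ⟨β, rfl⟩ := hs
      exact good_split (by omega) he h2 hK (hcond.imp_right And.right) x (left_ne_zero_of_mul hz) (by rw [hT, sq])
    · exact good_nonsquare (by omega) h2 hK x hz hs hT

end Cfsg.Lib.Classical.InvolField
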