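import Mathlib
import Cfsg.Prelude.Def_GeometricClasses
import Cfsg.Agent.Classical.SL
import Cfsg.Agent.Classical.Unitary.SympSubMatrix
import Cfsg.Agent.Classical.Misc.InvolutionForms

/-! Involutions and subfield subgroups of `SL_n`. -/

set_option autoImplicit false
set_option linter.unusedSimpArgs false
set_option linter.unusedSectionVars false
set_option linter.unusedVariables false
set_option linter.style.haveILetI false
set_option linter.flexible false

namespace Cfsg.Lib.Classical.InvolSubfield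

open PrimeOrd

universe u

variable {F : Type u} [Field F] [Fintype F] {n : ℕ}

/-- The subfield subgroup inside `SL`. -/
abbrev H (F₀ : Subfield F) (n : ℕ) : Subgroup (Matrix.SpecialLinearGroup (Fin n) F) :=
  (Cfsg.Geo.subfieldSubgroup F₀ 1).comap (Matrix.SpecialLinearGroup.toGL : Matrix.SpecialLinearGroup (Fin n) F →* GL (Fin n) F)

theorem mem_H {F₀ : Subfield F} (g : Matrix.SpecialLinearGroup (Fin n) F) :
    g ∈ H F₀ n ↔ ∃ a : F, a ≠ 0 ∧ ∀ u : Fin n → F, (∀ i, u i ∈ F₀) →
      ∃ r : Fin n → F, (∀ i, r i ∈ F₀) ∧ (g : Matrix (Fin n) (Fin n) F).mulVec u = a • r := by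
  rw [Subgroup.mem_comap, Cfsg.Lib.Classical.mem_subfieldSubgroup_iff]
  simp

/-- Scaled matrices over the subfield lie in the subgroup. -/
theorem mem_of_entries {F₀ : Subfield F} {g : Matrix.SpecialLinearGroup (Fin n) F} {b : F} (hb : b ≠ 0)
    {R : Matrix (Fin n) (Fin n) F} (hR : ∀ i j, R i j ∈ F₀) (h : (g : Matrix (Fin n) (Fin n) F) = b • R) :
    g ∈ H F₀ n := by
  rw [mem_H]
  refine ⟨b, hb, fun u hu => ⟨R.mulVec u, fun i => ?_, by rw [h, Matrix.smul_mulVec]⟩⟩
  simp only [Matrix.mulVec, dotProduct]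
  exact F₀.sum_mem fun j _ => F₀.mul_mem (hR i j) (hu j)

theorem geom_odd {X : ℕ} (hX : Odd X) : ∀ k, (∑ j ∈ Finset.range k, X ^ j) % 2 = k % 2 := by
  intro k
  induction k with
  | zero => simp
  | succ k ih =>
    rw [Finset.sum_range_succ, Nat.add_mod, ih, (Nat.odd_iff).mp hX.pow]
    omega

/-- For odd degree the index is odd. -/
theorem index_odd {F₀ : Subfield F} {k q₀ : ℕ} (hn : 1 ≤ n) (hk : Odd k) (hF₀ : Nat.card F₀ = q₀)
    (hqk : Fintype.card F = q₀ ^ k) (hodd : Odd q₀) : ¬ 2 ∣ (H F₀ n).index := by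
  classical
  intro h2
  haveI : Finite F₀ := Finite.of_injective _ Subtype.val_injective
  haveI := Fintype.ofFinite F₀
  let φ : Matrix.SpecialLinearGroup (Fin n) F₀ →* Matrix.SpecialLinearGroup (Fin n) F :=
    Matrix.SpecialLinearGroup.map (F₀.subtype : F₀ →+* F)
  have hφ : Function.Injective φ := fun A B e => Subtype.ext (Matrix.ext fun i j =>
    Subtype.ext (congrArg (fun g : Matrix.SpecialLinearGroup (Fin n) F => (g : Matrix (Fin n) (Fin n) F) i j) e))
  have hle : φ.range ≤ H F₀ n := by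
    rintro _ ⟨A, rfl⟩
    refine mem_of_entries one_ne_zero (R := (φ A : Matrix (Fin n) (Fin n) F)) (fun i j => ?_) (one_smul _ _).symm
    exact (A.1 i j).2
  have hdvd : 2 * Nat.card (Matrix.SpecialLinearGroup (Fin n) F₀) ∣ Nat.card (Matrix.SpecialLinearGroup (Fin n) F) := by
    rw [← Subgroup.card_mul_index (H F₀ n), mul_comm 2]
    refine mul_dvd_mul ?_ h2
    rw [Nat.card_congr (MonoidHom.ofInjective hφ).toEquiv]
    exact Subgroup.card_dvd_of_le hle
  have key : ∀ m, ∃ o, Odd o ∧ Fintype.card F ^ m - 1 = (q₀ ^ m - 1) * o := fun m => by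
    refine ⟨∑ j ∈ Finset.range k, (q₀ ^ m) ^ j, ?_, ?_⟩
    · rw [Nat.odd_iff, geom_odd hodd.pow]
      exact Nat.odd_iff.mp hk
    · have h1 : 1 ≤ q₀ ^ m := Nat.one_le_pow _ _ hodd.pos
      have h2 : 1 ≤ Fintype.card F ^ m := Nat.one_le_pow _ _ Fintype.card_pos
      zify [h1, h2]
      rw [mul_comm, geom_sum_mul, ← pow_mul, mul_comm m k, pow_mul, hqk]
      push_cast
      ring
  have hprod : ∀ s : Finset (Fin n), ∃ o, Odd o ∧ ∏ i ∈ s, (Fintype.card F ^ n - Fintype.card F ^ (i : ℕ)) =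
      (∏ i ∈ s, (q₀ ^ n - q₀ ^ (i : ℕ))) * o := by
    intro s
    induction s using Finset.induction_on with
    | empty => exact ⟨1, odd_one, by simp⟩
    | insert i s his ih =>
      obtain ⟨o, ho, hs⟩ := ih
      obtain ⟨o', ho', he⟩ := key (n - i)
      have hi : (i : ℕ) ≤ n := i.isLt.le
      have hqF : Odd (Fintype.card F) := hqk ▸ hodd.pow
      have e1 : ∀ Q : ℕ, Q ^ n - Q ^ (i : ℕ) = Q ^ (i : ℕ) * (Q ^ (n - i) - 1) := fun Q => by
        rw [Nat.mul_sub_one, ← pow_add, Nat.add_sub_cancel' hi]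
      obtain ⟨t, ht, hq⟩ : ∃ t, Odd t ∧ Fintype.card F ^ (i : ℕ) = q₀ ^ (i : ℕ) * t := by
        obtain ⟨j, hj⟩ := Nat.exists_eq_add_of_le (show (i : ℕ) ≤ k * i from Nat.le_mul_of_pos_left _ hk.pos)
        exact ⟨q₀ ^ j, hodd.pow, by rw [hqk, ← pow_mul, hj, pow_add]⟩
      refine ⟨t * o' * o, (ht.mul ho').mul ho, ?_⟩
      rw [Finset.prod_insert his, Finset.prod_insert his, hs, e1, e1, he, hq]
      ring
  obtain ⟨o, ho, hP⟩ := hprod Finset.univ
  obtain ⟨o₁, ho₁, h1⟩ := key 1
  rw [pow_one, pow_one] at h1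
  have hA := Cfsg.Lib.Classical.card_SL_mul_eq_prod (F := F) hn
  have hB := Cfsg.Lib.Classical.card_SL_mul_eq_prod (F := F₀) hn
  rw [show Fintype.card F₀ = q₀ by rw [← Nat.card_eq_fintype_card]; exact hF₀] at hB
  rw [hP, ← hB, h1, mul_assoc, mul_assoc] at hA
  have hq1 : 0 < q₀ - 1 := by
    have := Finite.one_lt_card (α := F₀)
    omega
  have hC := Nat.eq_of_mul_eq_mul_left hq1 hA
  have hD : 2 * Nat.card (Matrix.SpecialLinearGroup (Fin n) F₀) ∣ Nat.card (Matrix.SpecialLinearGroup (Fin n) F₀) * o :=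
    hC ▸ hdvd.mul_left o₁
  rw [mul_comm 2] at hD
  have := Nat.dvd_of_mul_dvd_mul_left (Nat.card_pos) hD
  obtain ⟨j, hj⟩ := ho
  omega

/-- In a quadratic extension every element of the subfield is a square. -/
theorem isSquare_of_mem {F₀ : Subfield F} {q₀ : ℕ} (hF₀ : Nat.card F₀ = q₀) (hqk : Fintype.card F = q₀ ^ 2)
    (h2 : ringChar F ≠ 2) {t : F} (ht : t ∈ F₀) (ht0 : t ≠ 0) : IsSquare t := by
  haveI : Finite F₀ := Finite.of_injective _ Subtype.val_injective
  haveI := Fintype.ofFinite F₀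
  rw [FiniteField.isSquare_iff h2 ht0]
  have hodd : q₀ % 2 = 1 := by
    have := FiniteField.odd_card_of_char_ne_two h2
    rw [hqk, Nat.pow_mod] at this
    rcases Nat.mod_two_eq_zero_or_one q₀ with h | h
    · rw [h] at this; simp at this
    · exact h
  have h1 : t ^ (q₀ - 1) = 1 := by
    have h := FiniteField.pow_card_sub_one_eq_one (⟨t, ht⟩ : F₀) (fun e => ht0 (congrArg Subtype.val e))
    rw [← Nat.card_eq_fintype_card, hF₀] at h
    exact congrArg Subtype.val h
  obtain ⟨j, hj⟩ : ∃ j, q₀ = 2 * j + 1 := ⟨q₀ / 2, by omega⟩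
  have e : Fintype.card F / 2 = (q₀ - 1) * (j + 1) := by
    rw [hqk, hj, Nat.add_sub_cancel, show (2 * j + 1) ^ 2 = 2 * (2 * j * (j + 1)) + 1 by ring]
    omega
  rw [e, pow_mul, h1, one_pow]

/-- The criterion. -/
theorem criterion {p : ℕ} [Fact p.Prime] [CharP F p] {q : ℕ} (hq : Fintype.card F = q) (hn : 2 ≤ n) (F₀ : Subfield F)
    (k q₀ : ℕ) (hk : k.Prime) (hF₀ : Nat.card ↥F₀ = q₀) (hqk : q = q₀ ^ k) (hΩ : 2 ∣ (H F₀ n).index) :
    (∀ x : Matrix.SpecialLinearGroup (Fin n) F,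
      (∃ z : F, ((x ^ 2 : Matrix.SpecialLinearGroup (Fin n) F) : Matrix (Fin n) (Fin n) F) = z • (1 : Matrix (Fin n) (Fin n) F)) →
      (∀ z : F, (x : Matrix (Fin n) (Fin n) F) ≠ z • (1 : Matrix (Fin n) (Fin n) F)) →
      ∃ P : Matrix.SpecialLinearGroup (Fin n) F, P⁻¹ * x * P ∈ H F₀ n) ↔
    (Odd q → (k = 2 ∧ padicValNat 2 n ≤ padicValNat 2 (q - 1))) := by
  classical
  subst hq
  haveI : Fact (Nat.Prime 2) := ⟨Nat.prime_two⟩
  have hrat : ∀ {R : Matrix (Fin n) (Fin n) F}, (∀ i j, R i j = 0 ∨ R i j = 1 ∨ R i j = -1) → ∀ i j, R i j ∈ F₀ :=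
    fun {R} hR i j => by
      rcases hR i j with h | h | h <;> rw [h]
      exacts [F₀.zero_mem, F₀.one_mem, F₀.neg_mem F₀.one_mem]
  have hgood : ∀ x : Matrix.SpecialLinearGroup (Fin n) F, ∀ z b : F, z ≠ 0 → b ^ 2 = z →
      Matrix.toLin' (x : Matrix (Fin n) (Fin n) F) ^ 2 = z • (1 : Module.End F (Fin n → F)) →
      (∀ z : F, (x : Matrix (Fin n) (Fin n) F) ≠ z • (1 : Matrix (Fin n) (Fin n) F)) →
      ∃ P : Matrix.SpecialLinearGroup (Fin n) F, P⁻¹ * x * P ∈ H F₀ n := by
    intro x z b hz hb hx hns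
    have hb0 : b ≠ 0 := fun e => hz (by rw [← hb, e]; simp)
    obtain ⟨P, R, hR, hP⟩ := InvolForm.split_form (p := p) (by omega) x hb0 (by rw [hb]; exact hx) hns
    exact ⟨P, mem_of_entries hb0 (hrat hR) hP⟩
  constructor
  · intro hall hodd
    have hk2 : k = 2 := by
      rcases hk.eq_two_or_odd' with h | h
      · exact h
      · have hq0 : Odd q₀ := by
          rw [hqk] at hodd
          exact (Nat.odd_pow_iff hk.ne_zero).mp hodd
        exact absurd hΩ (index_odd (by omega) h hF₀ hqk hq0)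
    refine ⟨hk2, ?_⟩
    by_contra hv
    have hodd' : Fintype.card F % 2 = 1 := Nat.odd_iff.mp hodd
    obtain ⟨x, hx, hns, hW⟩ := bad_one (F := F) (r := 2) (n := n) (by omega) (by omega) (fun h => hv h.1)
    obtain ⟨P, hP⟩ := hall x hx hns
    obtain ⟨z, hz, hxz⟩ := InvolForm.square_data (by omega) x hx
    set g := P⁻¹ * x * P with hg
    obtain ⟨a, ha, hga⟩ := (mem_H g).mp hP
    have hgz : (g : Matrix (Fin n) (Fin n) F) * (g : Matrix (Fin n) (Fin n) F) = z • 1 := by
      rw [← Matrix.SpecialLinearGroup.coe_mul, show g * g = P⁻¹ * (x ^ 2) * P by rw [hg, sq]; group]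
      have hx2 : ((x ^ 2 : Matrix.SpecialLinearGroup (Fin n) F) : Matrix (Fin n) (Fin n) F) = z • 1 := by
        rw [Matrix.SpecialLinearGroup.coe_pow]
        refine Matrix.toLin'.injective ?_
        rw [← toLin'_pow_eq, hxz, map_smul, Matrix.toLin'_one]
        rfl
      rw [Matrix.SpecialLinearGroup.coe_mul, Matrix.SpecialLinearGroup.coe_mul, hx2, Matrix.mul_smul, Matrix.mul_one,
        Matrix.smul_mul, ← Matrix.SpecialLinearGroup.coe_mul, inv_mul_cancel, Matrix.SpecialLinearGroup.coe_one]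
    let i : Fin n := ⟨0, by omega⟩
    obtain ⟨r, hr, he⟩ := hga (Pi.single i 1) fun j => by
      rw [Pi.single_apply]; split_ifs
      exacts [F₀.one_mem, F₀.zero_mem]
    obtain ⟨r', hr', he'⟩ := hga r hr
    have hzr : z = a * a * r' i := by
      have := congrArg (fun M : Matrix (Fin n) (Fin n) F => M.mulVec (Pi.single i 1)) hgz
      simp only [← Matrix.mulVec_mulVec, he, Matrix.mulVec_smul, he', Matrix.smul_mulVec, Matrix.one_mulVec] at this
      have := congrFun this i
      simp [mul_assoc] at this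
      rw [mul_assoc]
      exact this.symm
    have hchar : ringChar F ≠ 2 := fun h => by
      have := FiniteField.even_card_of_char_two h
      omega
    have hri : r' i ≠ 0 := fun e => hz (by rw [hzr, e, mul_zero])
    obtain ⟨c, hc⟩ := isSquare_of_mem hF₀ (by rw [hqk, hk2]) hchar (hr' i) hri
    set b := a * c
    have hb : b ^ 2 = z := by rw [hzr, hc]; ring
    -- then `x` has an invariant line
    obtain ⟨hy, hb'⟩ := normalise hz hb two_ne_zero hxz
    obtain ⟨U, hU, hUm⟩ := exists_one (r := 2) (m := 1) (by exact_mod_cast (Ring.two_ne_zero hchar : (2 : F) ≠ 0))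
      (by omega) hy (by rw [Module.finrank_fintype_fun_eq_card, Fintype.card_fin]; omega) (by
        have : orderOf (Fintype.card F : ZMod 2) = 1 := by
          rw [orderOf_eq_one_iff, ← Nat.cast_one, ZMod.natCast_eq_natCast_iff']
          omega
        rw [this]
        simp [Nat.mod_one])
    have := hW U ((inv_smul hb').mp hU)
    rw [hUm, Nat.dvd_one] at this
    omega
  · intro hR x hx hns
    obtain ⟨z, hz, hxz⟩ := InvolForm.square_data (by omega) x hx
    rcases Nat.even_or_odd (Fintype.card F) with he | ho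
    · have hchar : ringChar F = 2 := by
        by_contra h
        have := FiniteField.odd_card_of_char_ne_two h
        rw [Nat.even_iff] at he
        omega
      obtain ⟨b, hb⟩ := (FiniteField.isSquare_of_char_two hchar z)
      exact hgood x z b hz (by rw [hb, sq]) hxz hns
    · obtain ⟨hk2, hv⟩ := hR ho
      have hq4 : Fintype.card F % 4 = 1 := by
        rw [hqk, hk2] at ho
        obtain ⟨j, hj⟩ := (Nat.odd_pow_iff two_ne_zero).mp ho
        rw [hqk, hk2, hj, show (2 * j + 1) ^ 2 = 4 * (j * j + j) + 1 by ring]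
        omega
      obtain ⟨b, hb⟩ := root_of_small (r := 2) (by omega) hv (fun _ _ => hq4) (by omega)
        (x := Matrix.toLin' (x : Matrix (Fin n) (Fin n) F)) (by rw [LinearMap.det_toLin']; exact x.2) hz hxz
      exact hgood x z b hz hb hxz hns

end Cfsg.Lib.Classical.InvolSubfield
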