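import Mathlib
import Cfsg.Agent.Classical.Misc.UnipotentSplit

/-! Chain bases of nilpotent maps. -/

set_option autoImplicit false
set_option linter.unusedSimpArgs false
set_option linter.unusedSectionVars false
set_option linter.unusedVariables false
set_option linter.style.haveILetI false
set_option linter.flexible false

namespace Cfsg.Lib.Classical.Jordan

open Submodule

universe u v

variable {F : Type u} [Field F] {V : Type v} [AddCommGroup V] [Module F V] [FiniteDimensional F V]

/-- An invariant subspace contains a chain with an invariant complement. -/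
theorem chain_split {N : Module.End F V} {p : ℕ} (hN : N ^ p = 0) {S : Submodule F V} (hSi : NInv N S) (hS0 : S ≠ ⊥) :
    ∃ (k : ℕ) (v : V) (W : Submodule F V), 0 < k ∧ k ≤ p ∧ v ∈ S ∧ (N ^ k) v = 0 ∧ NInv N W ∧ W ≤ S ∧
      span F (Set.range fun j : Fin k => (N ^ (j : ℕ)) v) ⊔ W = S ∧
      k + Module.finrank F W = Module.finrank F S := by
  classical
  -- a vector of largest height
  have hex : ∃ k, ∀ s ∈ S, (N ^ k) s = 0 := ⟨p, fun s _ => by simp [hN]⟩
  set k := Nat.find hex with hk
  have hkS := Nat.find_spec hex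
  have hk0 : 0 < k := Nat.pos_of_ne_zero fun e => hS0 (by
    rw [eq_bot_iff]
    intro s hs
    have := hkS s hs
    rw [← hk, e] at this
    simpa using this)
  have hkp : k ≤ p := Nat.find_min' hex fun s _ => by simp [hN]
  obtain ⟨v, hv, hv0⟩ : ∃ v ∈ S, (N ^ (k - 1)) v ≠ 0 := by
    have := Nat.find_min hex (show k - 1 < k by omega)
    push Not at this
    exact this
  obtain ⟨φ, hφ⟩ := Module.Projective.exists_dual_ne_zero F hv0
  have hmem : ∀ j, (N ^ j) v ∈ S := fun j => hSi.map_pow j ⟨v, hv, rfl⟩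
  set c : Fin k → V := fun j => (N ^ (j : ℕ)) v with hc
  set C := span F (Set.range c) with hC
  let Φ : V →ₗ[F] (Fin k → F) := LinearMap.pi fun j => φ.comp (N ^ (j : ℕ))
  set W := S ⊓ LinearMap.ker Φ with hW
  have hkill : ∀ s ∈ S, ∀ j, k ≤ j → (N ^ j) s = 0 := fun s hs j hj => by
    rw [← Nat.sub_add_cancel hj, pow_add, Module.End.mul_apply, hk, hkS s hs, map_zero]
  have hCS : C ≤ S := span_le.mpr (by rintro _ ⟨j, rfl⟩; exact hmem _)
  have hCi : NInv N C := by
    intro x hx
    induction hx using span_induction with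
    | mem x hx =>
      obtain ⟨j, rfl⟩ := hx
      show N ((N ^ (j : ℕ)) v) ∈ C
      rw [← Module.End.mul_apply, ← pow_succ']
      rcases Nat.lt_or_ge ((j : ℕ) + 1) k with h | h
      · exact subset_span ⟨⟨_, h⟩, rfl⟩
      · rw [hkill v hv _ h]; exact zero_mem _
    | zero => simp
    | add a b _ _ ha hb => rw [map_add]; exact add_mem ha hb
    | smul a b _ hb => rw [map_smul]; exact smul_mem _ _ hb
  have hWi : NInv N W := by
    rintro w ⟨hwS, hwK⟩
    refine ⟨hSi w hwS, funext fun j => ?_⟩
    show φ ((N ^ (j : ℕ)) (N w)) = 0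
    rw [← Module.End.mul_apply, ← pow_succ]
    rcases Nat.lt_or_ge ((j : ℕ) + 1) k with h | h
    · exact congrFun hwK ⟨_, h⟩
    · rw [hkill w hwS _ h, map_zero]
  -- the chain is independent and avoids `W`
  have hkey : ∀ g : Fin k → F, (∑ j, g j • c j) ∈ LinearMap.ker Φ → g = 0 := by
    intro g hg
    by_contra hne
    obtain ⟨l₀, hl₀⟩ := Function.ne_iff.mp hne
    set s := Finset.univ.filter fun j => g j ≠ 0
    have hs : s.Nonempty := ⟨l₀, by simpa [s] using hl₀⟩
    set l := s.min' hs
    have hl : g l ≠ 0 := (Finset.mem_filter.mp (s.min'_mem hs)).2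
    have h := congrFun hg ⟨k - 1 - l, by omega⟩
    simp only [Φ, LinearMap.pi_apply, LinearMap.comp_apply, map_sum, map_smul, Pi.zero_apply, smul_eq_mul] at h
    rw [Finset.sum_eq_single l (fun j _ hj => ?_) (by simp)] at h
    · simp only [c] at h
      rw [← Module.End.mul_apply, ← pow_add, show k - 1 - (l : ℕ) + l = k - 1 by omega] at h
      exact hl ((mul_eq_zero.mp h).resolve_right hφ)
    · rcases eq_or_ne (g j) 0 with h0 | h0
      · rw [h0, zero_mul]
      · have hlj : l < j := lt_of_le_of_ne (s.min'_le j (by simp [s, h0])) (Ne.symm hj)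
        simp only [c]
        rw [← Module.End.mul_apply, ← pow_add, hkill v hv _ (by have := Fin.lt_def.mp hlj; omega), map_zero, mul_zero]
  have hli : LinearIndependent F c := by
    rw [Fintype.linearIndependent_iff]
    intro g hg j
    rw [hkey g (by rw [hg]; exact zero_mem _)]
    rfl
  have hd : Disjoint C W := by
    rw [Submodule.disjoint_def]
    intro x hx hxW
    obtain ⟨g, rfl⟩ := (mem_span_range_iff_exists_fun F).mp hx
    simp [hkey g hxW.2]
  have hCd : Module.finrank F C = k := by rw [hC, finrank_span_eq_card hli, Fintype.card_fin]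
  have hsup : C ⊔ W = S := by
    refine eq_of_le_of_finrank_le (sup_le hCS inf_le_left) ?_
    have h1 := Submodule.finrank_sup_add_finrank_inf_eq C W
    rw [hd.eq_bot, finrank_bot, hCd] at h1
    have h2 := Submodule.finrank_sup_add_finrank_inf_eq S (LinearMap.ker Φ)
    have h3 := (S ⊔ LinearMap.ker Φ).finrank_le
    have h4 := LinearMap.finrank_range_add_finrank_ker Φ
    have h5 := (LinearMap.range Φ).finrank_le
    rw [Module.finrank_fintype_fun_eq_card, Fintype.card_fin] at h5
    rw [← hW] at h2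
    omega
  refine ⟨k, v, W, hk0, hkp, hv, hkill v hv k le_rfl, hWi, inf_le_left, hsup, ?_⟩
  have h1 := Submodule.finrank_sup_add_finrank_inf_eq C W
  rw [hd.eq_bot, finrank_bot, hsup, hCd] at h1
  omega

/-- Chains spanning an invariant subspace. -/
theorem exists_chains {N : Module.End F V} {p : ℕ} (hN : N ^ p = 0) :
    ∀ d (S : Submodule F V), Module.finrank F S ≤ d → NInv N S → ∃ (l : ℕ) (k : Fin l → ℕ) (v : Fin l → V),
      (∀ i, 0 < k i ∧ k i ≤ p ∧ (N ^ k i) (v i) = 0) ∧
      span F (Set.range fun x : Σ i, Fin (k i) => (N ^ (x.2 : ℕ)) (v x.1)) = S ∧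
      ∑ i, k i = Module.finrank F S := by
  intro d
  induction d with
  | zero =>
    intro S hS _
    obtain rfl : S = ⊥ := finrank_eq_zero.mp (by omega)
    exact ⟨0, Fin.elim0, Fin.elim0, fun i => i.elim0, by simp, by simp⟩
  | succ d ih =>
    intro S hS hSi
    rcases eq_or_ne S ⊥ with rfl | hS0
    · exact ⟨0, Fin.elim0, Fin.elim0, fun i => i.elim0, by simp, by simp⟩
    obtain ⟨k, v, W, hk0, hkp, hv, hkv, hWi, hWS, hsup, hfin⟩ := chain_split hN hSi hS0
    obtain ⟨l, k', v', h', hspan, hsum⟩ := ih W (by omega) hWi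
    refine ⟨l + 1, Fin.cons k k', Fin.cons v v', ?_, ?_, ?_⟩
    · intro i
      refine Fin.cases ⟨hk0, hkp, hkv⟩ (fun i => ?_) i
      simp only [Fin.cons_succ]
      exact h' i
    · apply le_antisymm
      · rw [span_le]
        rintro _ ⟨⟨i, j⟩, rfl⟩
        revert j
        refine Fin.cases ?_ (fun i => ?_) i <;> intro j
        · simp only [Fin.cons_zero]
          exact hsup ▸ mem_sup_left (subset_span ⟨⟨j, by simpa using j.2⟩, rfl⟩)
        · simp only [Fin.cons_succ]
          refine hWS ?_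
          rw [← hspan]
          exact subset_span ⟨⟨i, ⟨j, by simpa using j.2⟩⟩, rfl⟩
      · rw [← hsup, ← hspan]
        refine sup_le (span_le.mpr ?_) (span_le.mpr ?_)
        · rintro _ ⟨j, rfl⟩
          exact subset_span ⟨⟨0, ⟨j, by simp⟩⟩, by simp⟩
        · rintro _ ⟨⟨i, j⟩, rfl⟩
          exact subset_span ⟨⟨i.succ, ⟨j, by simp⟩⟩, by simp⟩
    · rw [Fin.sum_univ_succ]
      simp [hsum, hfin]

/-- A chain basis. -/
theorem exists_jordan {N : Module.End F V} {p : ℕ} (hN : N ^ p = 0) :
    ∃ (l : ℕ) (k : Fin l → ℕ) (w : Module.Basis (Σ i, Fin (k i)) F V), (∀ i, 0 < k i ∧ k i ≤ p) ∧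
      ∀ i (j : Fin (k i)), N (w ⟨i, j⟩) = if h : (j : ℕ) + 1 < k i then w ⟨i, ⟨j + 1, h⟩⟩ else 0 := by
  obtain ⟨l, k, v, h, hspan, hsum⟩ := exists_chains hN _ ⊤ le_rfl fun _ _ => trivial
  have hcard : Fintype.card (Σ i, Fin (k i)) = Module.finrank F V := by
    rw [Fintype.card_sigma, ← finrank_top F V, ← hsum]
    simp
  refine ⟨l, k, Module.Basis.mk (linearIndependent_of_top_le_span_of_card_eq_finrank hspan.ge hcard) hspan.ge,
    fun i => ⟨(h i).1, (h i).2.1⟩, fun i j => ?_⟩
  simp only [Module.Basis.mk_apply]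
  split_ifs with hj
  · rw [← Module.End.mul_apply, ← pow_succ']
  · rw [← Module.End.mul_apply, ← pow_succ', show (j : ℕ) + 1 = k i by omega]
    exact (h i).2.2

end Cfsg.Lib.Classical.Jordan
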