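import Mathlib
import Cfsg.Prelude.Def_GeometricClasses
import Cfsg.Agent.Classical.SL
import Cfsg.Agent.Classical.Symp.Card
import Cfsg.Agent.Classical.Transv.SympInSL
import Cfsg.Agent.Classical.Misc.InvolutionSimilitude

/-! Elements of odd prime order of `SL_n` without conjugates among symplectic similitudes. -/

set_option autoImplicit false
set_option linter.unusedSimpArgs false
set_option linter.unusedSectionVars false
set_option linter.unusedVariables false
set_option linter.style.haveILetI false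
set_option linter.flexible false

namespace Cfsg.Lib.Classical.SimDerange

open Submodule PrimeOrd InvolSim

universe u

variable {F : Type u} [Field F] [Fintype F] {n : ℕ}

local notation "V" => (Fin n → F)
local notation "M" => Matrix (Fin n) (Fin n) F

/-- The subgroup of similitudes. -/
abbrev H (f : V → V → F) : Subgroup (Matrix.SpecialLinearGroup (Fin n) F) :=
  (Cfsg.Geo.similarityGroup f).comap
    (Matrix.SpecialLinearGroup.toGL : Matrix.SpecialLinearGroup (Fin n) F →* GL (Fin n) F)

/-- A conjugate among the similitudes gives an invariant form. -/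
theorem transfer (f : V → V → F) (hf : Cfsg.Geo.IsSymplecticForm f) (hn : 0 < n)
    (x P : Matrix.SpecialLinearGroup (Fin n) F) {r : ℕ} (hxr : (x : M) ^ r = 1)
    (h : P⁻¹ * x * P ∈ H f) :
    ∃ (B : LinearMap.BilinForm F V) (μ : F), B.IsAlt ∧ B.Nondegenerate ∧ μ ^ r = 1 ∧
      ∀ u v, B ((x : M).mulVec u) ((x : M).mulVec v) = μ * B u v := by
  obtain ⟨μ, hμ⟩ := Subgroup.mem_comap.mp h
  obtain ⟨Q, hQ⟩ : ∃ Q : M, Q = ((P⁻¹ : Matrix.SpecialLinearGroup (Fin n) F) : M) := ⟨_, rfl⟩
  have hPQ : (P : M) * Q = 1 := by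
    rw [hQ, ← Matrix.SpecialLinearGroup.coe_mul, mul_inv_cancel, Matrix.SpecialLinearGroup.coe_one]
  have hQP : Q * (P : M) = 1 := by
    rw [hQ, ← Matrix.SpecialLinearGroup.coe_mul, inv_mul_cancel, Matrix.SpecialLinearGroup.coe_one]
  have hμ' : ∀ u v : V, f ((Q * (x : M) * (P : M)).mulVec u) ((Q * (x : M) * (P : M)).mulVec v) = (μ : F) * f u v := by
    rw [hQ]
    exact hμ
  let L : V →ₗ[F] V := Matrix.toLin' Q
  let B : LinearMap.BilinForm F V := (bil f hf).compl₁₂ L L
  have halt : B.IsAlt := fun v => by simp [B, bil_apply, hf.alternating]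
  have hnd : B.Nondegenerate := by
    have key : ∀ v : V, v ≠ 0 → ∃ u, B v u ≠ 0 := fun v hv => by
      have hv' : L v ≠ 0 := fun h => hv (by
        have := congrArg (Matrix.mulVec (P : M)) h
        simpa [L, Matrix.mulVec_mulVec, hPQ] using this)
      obtain ⟨-, u, hu⟩ := hf.nondegenerate _ hv'
      refine ⟨(P : M).mulVec u, ?_⟩
      simpa [B, L, bil_apply, Matrix.mulVec_mulVec, hQP] using hu
    refine ⟨fun v hv => ?_, fun v hv => ?_⟩ <;> by_contra h0 <;> obtain ⟨u, hu⟩ := key v h0
    · exact hu (hv u)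
    · exact hu (by rw [← halt.neg_eq, hv u, neg_zero])
  have hsim : ∀ u v : V, B ((x : M).mulVec u) ((x : M).mulVec v) = (μ : F) * B u v := fun u v => by
    have := hμ' (Q.mulVec u) (Q.mulVec v)
    simpa [B, L, bil_apply, Matrix.mulVec_mulVec, Matrix.mul_assoc, hPQ] using this
  refine ⟨B, μ, halt, hnd, ?_, hsim⟩
  have hj : ∀ (j : ℕ) (u v : V), B (((x : M) ^ j).mulVec u) (((x : M) ^ j).mulVec v) = (μ : F) ^ j * B u v := by
    intro j
    induction j with
    | zero => simp
    | succ j ih =>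
      intro u v
      rw [pow_succ', ← Matrix.mulVec_mulVec, ← Matrix.mulVec_mulVec, hsim, ih, pow_succ']
      ring
  have he : (Pi.single (⟨0, hn⟩ : Fin n) 1 : V) ≠ 0 := by simp
  obtain ⟨v, hv⟩ : ∃ v, B (Pi.single (⟨0, hn⟩ : Fin n) 1) v ≠ 0 := by
    by_contra h0
    push Not at h0
    exact he (hnd.1 _ h0)
  have := hj r (Pi.single (⟨0, hn⟩ : Fin n) 1) v
  rw [hxr, Matrix.one_mulVec, Matrix.one_mulVec] at this
  exact mul_right_cancel₀ hv (by rw [one_mul]; exact this.symm)

/-- An odd orthogonal summand is impossible. -/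
theorem odd_part {B : LinearMap.BilinForm F V} (hA : B.IsAlt) (hB : B.Nondegenerate) {U W : Submodule F V}
    (hc : IsCompl U W) (hodd : Odd (Module.finrank F U)) (hUW : ∀ u ∈ U, ∀ w ∈ W, B u w = 0) : False := by
  have hres : (B.restrict U).Nondegenerate := by
    have key : ∀ u : U, (∀ u' : U, B u u' = 0) → u = 0 := fun u hu => by
      refine Subtype.ext (hB.1 _ fun v => ?_)
      obtain ⟨a, ha, b, hb, rfl⟩ := mem_sup.mp (hc.sup_eq_top ▸ mem_top : v ∈ U ⊔ W)
      rw [map_add, hu ⟨a, ha⟩, hUW u u.2 b hb, add_zero]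
    refine ⟨fun u hu => key u hu, fun u hu => key u fun u' => ?_⟩
    rw [← hA.neg_eq, show B u' u = 0 from hu u', neg_zero]
  obtain ⟨m, -, hm, -⟩ := exists_symplectic_basis_nondegenerate (B := B.restrict U) (fun x => hA x) hres
  obtain ⟨j, hj⟩ := hodd
  omega

/-- A totally isotropic subspace has at most half the dimension. -/
theorem iso_part {B : LinearMap.BilinForm F V} (hA : B.IsAlt) (hB : B.Nondegenerate) {U : Submodule F V}
    (hU : ∀ u ∈ U, ∀ w ∈ U, B u w = 0) : 2 * Module.finrank F U ≤ n := by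
  have h1 : U ≤ B.orthogonal U := fun w hw => fun u hu => hU u hu w hw
  have h2 := finrank_mono h1
  rw [LinearMap.BilinForm.finrank_orthogonal hB, Module.finrank_fintype_fun_eq_card, Fintype.card_fin] at h2
  have h3 := U.finrank_le
  rw [Module.finrank_fintype_fun_eq_card, Fintype.card_fin] at h3
  omega

/-- A diagonal element with a large eigenspace of odd dimension. -/
theorem diag_not_sim (f : V → V → F) (hf : Cfsg.Geo.IsSymplecticForm f) (hn : 0 < n) (d : Fin n → F) (lam : F)
    (x : Matrix.SpecialLinearGroup (Fin n) F) (hx : (x : M) = Matrix.diagonal d) {r : ℕ} (hd : ∀ i, d i ^ r = 1)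
    (hd0 : ∀ i, d i ≠ 0) (hlam : lam ≠ 0) (S : Finset (Fin n)) (hS : ∀ i, i ∈ S ↔ d i = lam)
    (hodd : Odd S.card) (hbig : n < 2 * S.card) (P : Matrix.SpecialLinearGroup (Fin n) F) :
    P⁻¹ * x * P ∉ H f := by
  classical
  intro h
  obtain ⟨B, μ, hA, hB, -, hsim⟩ := transfer f hf hn x P (r := r) (by
    rw [hx, Matrix.diagonal_pow, ← Matrix.diagonal_one]
    congr 1
    funext i
    exact hd i) h
  let e : Fin n → V := fun i => Pi.basisFun F (Fin n) i
  have hxe : ∀ i, (x : M).mulVec (e i) = d i • e i := fun i => by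
    ext j
    simp [e, hx, Matrix.mulVec_diagonal, Pi.single_apply]
    split_ifs with h <;> simp_all
  have key : ∀ i j, (d i * d j - μ) * B (e i) (e j) = 0 := fun i j => by
    have := hsim (e i) (e j)
    rw [hxe, hxe] at this
    simp only [map_smul, LinearMap.smul_apply, smul_eq_mul] at this
    linear_combination this
  have hzero : ∀ (A C : Set (Fin n)), (∀ i ∈ A, ∀ j ∈ C, B (e i) (e j) = 0) →
      ∀ u ∈ span F (e '' A), ∀ w ∈ span F (e '' C), B u w = 0 := by
    intro A C hAC u hu w hw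
    have h1 : e '' A ⊆ LinearMap.ker (B.flip w) := by
      rintro _ ⟨i, hi, rfl⟩
      have h2 : e '' C ⊆ LinearMap.ker (B (e i)) := by
        rintro _ ⟨j, hj, rfl⟩
        exact hAC i hi j hj
      exact (span_le.mpr h2 hw : _)
    exact (span_le.mpr h1 hu : _)
  have hcard : Module.finrank F (span F (e '' (S : Set (Fin n)))) = S.card := by
    have hli : LinearIndependent F fun i : S => e i :=
      (Pi.basisFun F (Fin n)).linearIndependent.comp _ Subtype.val_injective
    have h0 := finrank_span_eq_card hli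
    rw [Fintype.card_coe] at h0
    rw [← h0, Set.image_eq_range]
    rfl
  by_cases hμ : lam * lam = μ
  · have hc : IsCompl (span F (e '' (S : Set (Fin n)))) (span F (e '' (S : Set (Fin n))ᶜ)) := by
      refine IsCompl.of_eq ?_ ?_
      · exact disjoint_iff.mp ((Pi.basisFun F (Fin n)).linearIndependent.disjoint_span_image disjoint_compl_right)
      · rw [← span_union, ← Set.image_union, Set.union_compl_self, Set.image_univ]
        exact (Pi.basisFun F (Fin n)).span_eq
    refine odd_part hA hB hc (by rw [hcard]; exact hodd) (hzero _ _ fun i hi j hj => ?_)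
    have h1 := key i j
    rw [(hS i).mp hi] at h1
    exact (mul_eq_zero.mp h1).resolve_left fun h2 => hj ((hS j).mpr
      (mul_left_cancel₀ hlam (by linear_combination h2 - hμ)))
  · have := iso_part hA hB (U := span F (e '' (S : Set (Fin n)))) (hzero _ _ fun i hi j hj => by
      have h1 := key i j
      rw [(hS i).mp hi, (hS j).mp hj] at h1
      exact (mul_eq_zero.mp h1).resolve_left (sub_ne_zero.mpr hμ))
    omega

/-- An element moving an odd number of dimensions. -/
theorem block_not_sim (f : V → V → F) (hf : Cfsg.Geo.IsSymplecticForm f) (hn : 0 < n) {r : ℕ} [Fact r.Prime]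
    (hr : (r : F) ≠ 0) (hnd : ¬ r ∣ Fintype.card F - 1) (x : Matrix.SpecialLinearGroup (Fin n) F)
    (hxr : (x : M) ^ r = 1) (hodd : Odd (Module.finrank F (fix (Matrix.toLin' (x : M)))))
    (P : Matrix.SpecialLinearGroup (Fin n) F) : P⁻¹ * x * P ∉ H f := by
  intro h
  obtain ⟨B, μ, hA, hB, hμ, hsim⟩ := transfer f hf hn x P hxr h
  obtain rfl : μ = 1 := PrimeOrd.root_one (Fact.out : r.Prime) hnd hμ
  have hT : Matrix.toLin' (x : M) ^ r = 1 := by
    rw [← Matrix.toLin'_pow, hxr, Matrix.toLin'_one]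
    rfl
  refine odd_part hA hB (isCompl_fix_mov hr hT) hodd ?_
  rintro u hu _ ⟨w, rfl⟩
  rw [mem_fix, Matrix.toLin'_apply] at hu
  have := hsim u w
  rw [hu, one_mul] at this
  simp [this]

/-- One irreducible block. -/
theorem exists_block {r : ℕ} [Fact r.Prime] (hr : (r : F) ≠ 0) (hrF : ¬ r ∣ Fintype.card F) {c : ℕ}
    (hc : c = orderOf (Fintype.card F : ZMod r)) (h2 : 2 ≤ c) (hcn : c ≤ n) :
    ∃ x : Matrix.SpecialLinearGroup (Fin n) F, (x : M) ^ r = 1 ∧ (∀ z : F, (x : M) ≠ z • (1 : M)) ∧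
      Module.finrank F (fix (Matrix.toLin' (x : M))) = n - c := by
  classical
  obtain ⟨X, hXd, hXr, hXs, hXf⟩ := exists_example (n := c) hr hrF (hc ▸ h2) hc.symm.le
  rw [← hc, Nat.mod_self, Nat.le_zero] at hXf
  obtain ⟨k, rfl⟩ := Nat.exists_eq_add_of_le hcn
  let e : Fin c ⊕ Fin k ≃ Fin (c + k) := finSumFinEquiv
  let Bm : Matrix (Fin c ⊕ Fin k) (Fin c ⊕ Fin k) F := Matrix.fromBlocks X 0 0 1
  let Y : Matrix (Fin (c + k)) (Fin (c + k)) F := Matrix.reindexAlgEquiv F F e Bm
  have hYd : Y.det = 1 := by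
    simp [Y, Bm, Matrix.det_reindexAlgEquiv, Matrix.det_fromBlocks_zero₂₁, hXd]
  have hBr : Bm ^ r = 1 := by
    have h : ∀ j : ℕ, Bm ^ j = Matrix.fromBlocks (X ^ j) 0 0 1 := by
      intro j
      induction j with
      | zero => simp [← Matrix.fromBlocks_one]
      | succ j ih =>
        rw [pow_succ, ih]
        simp [Bm, Matrix.fromBlocks_multiply, pow_succ]
    rw [h, hXr, Matrix.fromBlocks_one]
  have hmv : ∀ v, Y.mulVec v = Bm.mulVec (v ∘ e) ∘ e.symm := fun v => by
    show (Bm.submatrix e.symm e.symm).mulVec v = _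
    rw [Matrix.submatrix_mulVec_equiv]
    rfl
  have hX0 : ∀ w, X.mulVec w = w → w = 0 := fun w hw =>
    (Submodule.mem_bot F).mp (finrank_eq_zero.mp hXf ▸ mem_fix.mpr (by simpa using hw))
  refine ⟨⟨Y, hYd⟩, ?_, fun z hz => ?_, ?_⟩
  · show Y ^ r = 1
    rw [show Y = Matrix.reindexAlgEquiv F F e Bm from rfl, ← map_pow, hBr, map_one]
  · refine hXs z (Matrix.ext fun a b => ?_)
    have := congrFun (congrFun hz (e (Sum.inl a))) (e (Sum.inl b))
    simpa [Y, Bm, Matrix.one_apply] using this
  · show Module.finrank F (fix (Matrix.toLin' Y)) = c + k - c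
    rw [Nat.add_sub_cancel_left]
    let π : fix (Matrix.toLin' Y) →ₗ[F] (Fin k → F) :=
      (LinearMap.funLeft F F fun l => e (Sum.inr l)).comp (fix (Matrix.toLin' Y)).subtype
    have hspec : ∀ v, v ∈ fix (Matrix.toLin' Y) ↔ (∀ a, v (e (Sum.inl a)) = 0) := fun v => by
      rw [mem_fix, Matrix.toLin'_apply, hmv]
      constructor
      · intro hv
        have hB : Bm.mulVec (v ∘ e) = v ∘ e := funext fun a => by simpa using congrFun hv (e a)
        exact congrFun (hX0 _ (funext fun a => by
          have := congrFun hB (Sum.inl a)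
          simpa [Bm, Matrix.fromBlocks_mulVec, Function.comp_def] using this))
      · intro hv
        funext a
        obtain ⟨a, rfl⟩ := e.surjective a
        rcases a with a | a <;> simp [Bm, Matrix.fromBlocks_mulVec, Function.comp_def, hv, Matrix.mulVec, dotProduct,
          Matrix.one_apply]
    refine le_antisymm ((LinearMap.finrank_le_finrank_of_injective (f := π) fun v w h => ?_).trans (by simp)) ?_
    · refine Subtype.ext (funext fun a => ?_)
      obtain ⟨a, rfl⟩ := e.surjective a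
      rcases a with a | a
      · rw [(hspec _).mp v.2, (hspec _).mp w.2]
      · exact congrFun h a
    · have hsur : Function.Surjective π := fun w =>
        ⟨⟨fun a => Sum.elim (fun _ => 0) w (e.symm a), (hspec _).mpr (by simp)⟩, funext fun a => by simp [π]⟩
      have := LinearMap.finrank_le_finrank_of_surjective (f := π) hsur
      simpa using this

/-- The element in the characteristic. -/
theorem unipotent_case (f : V → V → F) (hf : Cfsg.Geo.IsSymplecticForm f) (hn : 4 ≤ n) {p : ℕ} [Fact p.Prime]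
    [CharP F p] (hp : p ≠ 2) :
    ∃ x : Matrix.SpecialLinearGroup (Fin n) F, (x : M) ^ p = 1 ∧ (∀ z : F, (x : M) ≠ z • (1 : M)) ∧
      ∀ P : Matrix.SpecialLinearGroup (Fin n) F, P⁻¹ * x * P ∉ H f := by
  classical
  haveI : Nonempty (Fin n) := ⟨⟨0, by omega⟩⟩
  let a : Fin n := ⟨0, by omega⟩
  let b : Fin n := ⟨1, by omega⟩
  let c : Fin n := ⟨2, by omega⟩
  have hab : a ≠ b := by simp [a, b]
  have hbc : b ≠ c := by simp [b, c]
  have hac : a ≠ c := by simp [a, c]
  let N : M := Matrix.single a b 1 + Matrix.single b c 1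
  have hN2 : N * N = Matrix.single a c 1 := by
    simp [N, add_mul, mul_add, Matrix.single_mul_single_of_ne, hab, hab.symm, hbc, hbc.symm, hac, hac.symm]
  have hN3 : N ^ 3 = 0 := by
    rw [pow_succ, sq, hN2]
    simp [N, mul_add, Matrix.single_mul_single_of_ne, hab.symm, hbc.symm, hac.symm]
  have hdet : (1 + N).det = 1 := by
    rw [Matrix.det_of_upperTriangular]
    · refine Finset.prod_eq_one fun i _ => ?_
      simp [N, Matrix.single_apply]
      split_ifs with h1 h2 <;> simp_all
    · intro i j hij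
      have hij' : j < i := hij
      simp [N, Matrix.single_apply, Matrix.one_apply, Fin.ext_iff, a, b, c]
      rw [Fin.lt_def] at hij'
      split_ifs <;> first | omega | simp
  let x : Matrix.SpecialLinearGroup (Fin n) F := ⟨1 + N, hdet⟩
  have hxp : (x : M) ^ p = 1 := by
    show (1 + N) ^ p = 1
    have hp3 : 3 ≤ p := by have := (Fact.out : p.Prime).two_le; omega
    rw [add_pow_char_of_commute p (Commute.one_left N), one_pow, pow_eq_zero_of_le hp3 hN3, add_zero]
  refine ⟨x, hxp, fun z hz => ?_, fun P h => ?_⟩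
  · have := congrFun (congrFun hz a) b
    simp [x, N, Matrix.single_apply, Matrix.one_apply, hab, hab.symm, hbc] at this
  obtain ⟨B, μ, hA, hB, hμ, hsim⟩ := transfer f hf (by omega) x P hxp h
  obtain rfl : μ = 1 := by
    have : (μ - 1) ^ p = 0 := by rw [sub_pow_char, hμ, one_pow, sub_self]
    exact sub_eq_zero.mp (pow_eq_zero_iff (Fact.out : p.Prime).ne_zero |>.mp this)
  let e : Fin n → V := fun i => Pi.basisFun F (Fin n) i
  have hx : ∀ j, (x : M).mulVec (e j) = e j + (if j = b then e a else 0) + (if j = c then e b else 0) := fun j => by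
    ext i
    have h1 : (x : M).mulVec (e j) i = (1 + N) i j := by
      show (1 + N).mulVec (e j) i = _
      simp [e, Matrix.mulVec_single_one]
    rw [h1]
    simp only [N, Matrix.add_apply, Matrix.one_apply, Matrix.single_apply, Pi.add_apply, e, Pi.basisFun_apply]
    by_cases hb' : j = b
    · subst hb'
      simp [hbc, hbc.symm, Pi.single_apply, eq_comm]
    · by_cases hc' : j = c
      · subst hc'
        simp [hbc, hbc.symm, Pi.single_apply, eq_comm]
      · simp [hb', hc', Ne.symm hb', Ne.symm hc', Pi.single_apply]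
  have hxa : (x : M).mulVec (e a) = e a := by rw [hx]; simp [hab, hac]
  have hxb : (x : M).mulVec (e b) = e b + e a := by rw [hx]; simp [hbc]
  have hxc : (x : M).mulVec (e c) = e c + e b := by rw [hx]; simp [hbc.symm]
  have hj : ∀ j, j ≠ b → j ≠ c → (x : M).mulVec (e j) = e j := fun j h1 h2 => by rw [hx]; simp [h1, h2]
  have haa : B (e a) (e a) = 0 := hA _
  have hbb : B (e b) (e b) = 0 := hA _
  have h01 : B (e a) (e b) = 0 := by
    have := hsim (e a) (e c)
    rw [hxa, hxc, map_add, one_mul] at this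
    linear_combination this
  have h02 : B (e a) (e c) = 0 := by
    have := hsim (e b) (e c)
    rw [hxb, hxc] at this
    simp only [map_add, LinearMap.add_apply, one_mul, hbb, h01] at this
    linear_combination this
  have hall : ∀ j, B (e a) (e j) = 0 := fun j => by
    by_cases h1 : j = b
    · rw [h1]; exact h01
    by_cases h2 : j = c
    · rw [h2]; exact h02
    have := hsim (e b) (e j)
    rw [hxb, hj j h1 h2] at this
    simp only [map_add, LinearMap.add_apply, one_mul] at this
    linear_combination this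
  have h0 : e a = 0 := hB.1 _ fun v => by
    have : B (e a) = 0 := (Pi.basisFun F (Fin n)).ext fun j => by simpa [e] using hall j
    simp [this]
  exact (Pi.basisFun F (Fin n)).ne_zero a h0

theorem prod_odd_even (g : ℕ → ℕ) : ∀ m, ∏ i ∈ Finset.range (2 * m), g (i + 1) =
    (∏ i ∈ Finset.range m, g (2 * i + 1)) * ∏ i ∈ Finset.range m, g (2 * (i + 1))
  | 0 => by simp
  | m + 1 => by
    rw [show 2 * (m + 1) = 2 * m + 1 + 1 by ring, Finset.prod_range_succ, Finset.prod_range_succ, prod_odd_even g m,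
      Finset.prod_range_succ, Finset.prod_range_succ, show 2 * (m + 1) = 2 * m + 1 + 1 by ring]
    ring

/-- A prime other than the characteristic dividing the index has odd order. -/
theorem order_odd (f : V → V → F) (hf : Cfsg.Geo.IsSymplecticForm f) (hn : 4 ≤ n) (he : Even n) {r : ℕ}
    [Fact r.Prime] (hrF : ¬ r ∣ Fintype.card F) (hΩ : r ∣ (H f).index) :
    Odd (orderOf (Fintype.card F : ZMod r)) ∧ orderOf (Fintype.card F : ZMod r) < n := by
  classical
  have hA : (bil f hf).IsAlt := hf.alternating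
  have hB : (bil f hf).Nondegenerate := by
    refine ⟨fun v hv => ?_, fun v hv => ?_⟩ <;> by_contra h
    · obtain ⟨-, x, hx⟩ := hf.nondegenerate v h
      exact hx (hv x)
    · obtain ⟨⟨x, hx⟩, -⟩ := hf.nondegenerate v h
      exact hx (hv x)
  have hdet : ∀ g : BilinIsom (bil f hf), (LinearMap.toMatrix' (g : V ≃ₗ[F] V).toLinearMap).det = 1 := fun g => by
    rw [LinearMap.det_toMatrix']
    have hg : LinearEquiv.det (g : V ≃ₗ[F] V) = 1 := bilinIsom_le_slGroup hA hB g.2
    rw [← LinearEquiv.coe_det, hg]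
    rfl
  let φ : BilinIsom (bil f hf) → H f := fun g => ⟨⟨_, hdet g⟩, Subgroup.mem_comap.mpr ⟨1, fun u v => by
    show f ((LinearMap.toMatrix' (g : V ≃ₗ[F] V).toLinearMap).mulVec u)
      ((LinearMap.toMatrix' (g : V ≃ₗ[F] V).toLinearMap).mulVec v) = _
    rw [LinearMap.toMatrix'_mulVec, LinearMap.toMatrix'_mulVec, Units.val_one, one_mul]
    exact g.2 u v⟩⟩
  let ψ : BilinIsom (bil f hf) →* H f := MonoidHom.mk' φ fun g g' => Subtype.ext (Subtype.ext (by
    show LinearMap.toMatrix' ((g : V ≃ₗ[F] V).toLinearMap ∘ₗ (g' : V ≃ₗ[F] V).toLinearMap) = _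
    rw [LinearMap.toMatrix'_comp]
    rfl))
  have hinj : Function.Injective ψ := fun g g' e => BilinIsom.ext' fun v => by
    have := congrArg (fun z : H f => ((z : Matrix.SpecialLinearGroup (Fin n) F) : M).mulVec v) e
    simpa [ψ, φ, LinearMap.toMatrix'_mulVec] using this
  have hdvd : r * Nat.card (BilinIsom (bil f hf)) ∣ Nat.card (Matrix.SpecialLinearGroup (Fin n) F) := by
    rw [← Subgroup.card_mul_index (H f), mul_comm r]
    exact mul_dvd_mul (Subgroup.card_dvd_of_injective ψ hinj) hΩ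
  obtain ⟨m, rfl⟩ := he.two_dvd
  set Q := Fintype.card F with hQ
  have hSL := Cfsg.Lib.Classical.card_SL_mul_eq_prod (F := F) (n := 2 * m) (by omega)
  have hprod : ∏ i : Fin (2 * m), (Q ^ (2 * m) - Q ^ (i : ℕ)) =
      (∏ i ∈ Finset.range (2 * m), Q ^ i) * ∏ i ∈ Finset.range (2 * m), (Q ^ (i + 1) - 1) := by
    rw [Fin.prod_univ_eq_prod_range (fun i => Q ^ (2 * m) - Q ^ i) (2 * m),
      ← Finset.prod_range_reflect (fun i => Q ^ (i + 1) - 1) (2 * m), ← Finset.prod_mul_distrib]
    refine Finset.prod_congr rfl fun i hi => ?_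
    rw [Finset.mem_range] at hi
    rw [Nat.mul_sub_one, ← pow_add]
    congr 2
    omega
  rw [hprod, prod_odd_even (fun j => Q ^ j - 1) m] at hSL
  rw [card_bilinIsom_symplectic m hA hB (by rw [Module.finrank_fintype_fun_eq_card, Fintype.card_fin]),
    Nat.card_eq_fintype_card (α := F), ← hQ] at hdvd
  have h := (mul_dvd_mul_left (Q - 1) hdvd).trans hSL.dvd
  set E := ∏ i ∈ Finset.range m, (Q ^ (2 * (i + 1)) - 1) with hE
  have hE0 : 0 < E := Finset.prod_pos fun i _ => Nat.sub_pos_of_lt (Nat.one_lt_pow (by omega) Fintype.one_lt_card)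
  have h' : ((Q - 1) * r * Q ^ m ^ 2) * E ∣
      ((∏ i ∈ Finset.range (2 * m), Q ^ i) * ∏ i ∈ Finset.range m, (Q ^ (2 * i + 1) - 1)) * E := by
    have e1 : (Q - 1) * (r * (Q ^ m ^ 2 * E)) = ((Q - 1) * r * Q ^ m ^ 2) * E := by ring
    rw [e1] at h
    simpa [mul_assoc] using h
  obtain ⟨j, rfl⟩ : ∃ j, m = j + 1 := ⟨m - 1, by omega⟩
  have h2 := Nat.dvd_of_mul_dvd_mul_right hE0 h'
  rw [Finset.prod_range_succ', pow_one, ← mul_assoc] at h2
  have h3 : r * (Q - 1) ∣ ((∏ i ∈ Finset.range (2 * (j + 1)), Q ^ i) *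
      ∏ i ∈ Finset.range j, (Q ^ (2 * (i + 1) + 1) - 1)) * (Q - 1) :=
    (by rw [mul_comm r]; exact dvd_mul_right _ _ : r * (Q - 1) ∣ (Q - 1) * r * Q ^ (j + 1) ^ 2).trans h2
  have hQ1 : 0 < Q - 1 := Nat.sub_pos_of_lt Fintype.one_lt_card
  have h4 := Nat.dvd_of_mul_dvd_mul_right hQ1 h3
  have hrp : r.Prime := Fact.out
  rcases hrp.dvd_mul.mp h4 with h5 | h5
  · obtain ⟨i, -, hi⟩ := (Prime.dvd_finsetProd_iff hrp.prime _).mp h5
    exact absurd (hrp.dvd_of_dvd_pow hi) hrF
  · obtain ⟨i, hi, hi'⟩ := (Prime.dvd_finsetProd_iff hrp.prime _).mp h5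
    rw [Finset.mem_range] at hi
    have hd := (PrimeOrd.dvd_pow_sub_one _).mp hi'
    refine ⟨Odd.of_dvd_nat ⟨i + 1, rfl⟩ hd, ?_⟩
    have h7 := Nat.le_of_dvd (by omega) hd
    simp only [← hQ] at h7 ⊢
    omega

/-- The derangement. -/
theorem main (f : V → V → F) (hf : Cfsg.Geo.IsSymplecticForm f) (hn : 4 ≤ n) (he : Even n) {p : ℕ}
    [Fact p.Prime] [CharP F p] {r : ℕ} [Fact r.Prime] (hr2 : r ≠ 2) (hgap : ¬ (n = 6 ∧ r = 3)) (hΩ : r ∣ (H f).index) :
    ∃ x : Matrix.SpecialLinearGroup (Fin n) F,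
      (∃ z : F, ((x ^ r : Matrix.SpecialLinearGroup (Fin n) F) : M) = z • (1 : M)) ∧
      (∀ z : F, (x : M) ≠ z • (1 : M)) ∧ ∀ P : Matrix.SpecialLinearGroup (Fin n) F, P⁻¹ * x * P ∉ H f := by
  classical
  have fin : ∀ x : Matrix.SpecialLinearGroup (Fin n) F, (x : M) ^ r = 1 →
      ∃ z : F, ((x ^ r : Matrix.SpecialLinearGroup (Fin n) F) : M) = z • (1 : M) := fun x h =>
    ⟨1, by rw [Matrix.SpecialLinearGroup.coe_pow, h, one_smul]⟩
  have hrp : r.Prime := Fact.out
  have hpp : p.Prime := Fact.out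
  by_cases hpr : r = p
  · subst hpr
    obtain ⟨x, h1, h2, h3⟩ := unipotent_case f hf hn hr2
    exact ⟨x, fin x h1, h2, h3⟩
  obtain ⟨e, he'⟩ := FiniteField.card F p
  have hrF : ¬ r ∣ Fintype.card F := fun h => hpr ((Nat.prime_dvd_prime_iff_eq hrp hpp).mp
    (hrp.dvd_of_dvd_pow (he'.2 ▸ h)))
  have hr : (r : F) ≠ 0 := fun h => hpr ((Nat.prime_dvd_prime_iff_eq hpp hrp).mp
    ((CharP.cast_eq_zero_iff F p r).mp h)).symm
  obtain ⟨hodd, hlt⟩ := order_odd f hf hn he hrF hΩ
  set c := orderOf (Fintype.card F : ZMod r) with hc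
  by_cases hc1 : c = 1
  · have hdvd : r ∣ Fintype.card F - 1 := by
      have := (PrimeOrd.dvd_pow_sub_one (F := F) (r := r) 1).mpr (by rw [← hc, hc1])
      rwa [pow_one] at this
    obtain ⟨w, hw⟩ := exists_prime_orderOf_dvd_card' (G := Fˣ) r (by
      rw [Nat.card_eq_fintype_card, Fintype.card_units]; exact hdvd)
    have hwr : ((w : Fˣ) : F) ^ r = 1 := by
      rw [← Units.val_pow_eq_pow_val, ← hw, pow_orderOf_eq_one, Units.val_one]
    have hwk : ∀ k : ℕ, (w : F) ^ k = 1 → r ∣ k := fun k hk => hw ▸ orderOf_dvd_of_pow_eq_one (Units.ext (by simpa using hk))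
    have hw0 : (w : F) ≠ 0 := w.ne_zero
    let i₀ : Fin n := ⟨0, by omega⟩
    let i₁ : Fin n := ⟨1, by omega⟩
    let i₂ : Fin n := ⟨2, by omega⟩
    let i₃ : Fin n := ⟨3, by omega⟩
    have mk : ∀ (d : Fin n → F) (lam : F) (S : Finset (Fin n)), (∀ i, d i ^ r = 1) → lam ≠ 0 →
        (∀ i, i ∈ S ↔ d i = lam) → Odd S.card → n < 2 * S.card → (∏ i, d i = 1) → (∃ i j, d i ≠ d j) →
        ∃ x : Matrix.SpecialLinearGroup (Fin n) F,
          (∃ z : F, ((x ^ r : Matrix.SpecialLinearGroup (Fin n) F) : M) = z • (1 : M)) ∧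
          (∀ z : F, (x : M) ≠ z • (1 : M)) ∧ ∀ P : Matrix.SpecialLinearGroup (Fin n) F, P⁻¹ * x * P ∉ H f := by
      intro d lam S hd hlam hS hSo hSb hprod hne
      refine ⟨⟨Matrix.diagonal d, by rw [Matrix.det_diagonal, hprod]⟩, fin _ ?_, fun z hz => ?_, fun P => ?_⟩
      · show Matrix.diagonal d ^ r = 1
        rw [Matrix.diagonal_pow, ← Matrix.diagonal_one]
        congr 1
        funext i
        exact hd i
      · obtain ⟨i, j, hij⟩ := hne
        have ei := congrFun (congrFun hz i) i
        have ej := congrFun (congrFun hz j) j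
        simp at ei ej
        exact hij (ei.trans ej.symm)
      · exact diag_not_sim f hf (by omega) d lam _ rfl hd
          (fun i h0 => by have := hd i; rw [h0, zero_pow hrp.ne_zero] at this; exact zero_ne_one this)
          hlam S hS hSo hSb P
    obtain ⟨m, hm⟩ := he
    by_cases hrn : r ∣ n
    · have hn8 : 8 ≤ n := by
        obtain ⟨k, hk⟩ := hrn
        have h3 : 3 ≤ r := by have := hrp.two_le; omega
        rcases Nat.lt_or_ge r 4 with h | h
        · obtain rfl : r = 3 := by omega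
          omega
        · have h5 : 5 ≤ r := by
            rcases Nat.lt_or_ge r 5 with h' | h'
            · obtain rfl : r = 4 := by omega
              norm_num at hrp
            · exact h'
          have hk2 : 2 ∣ k := ((Nat.coprime_primes Nat.prime_two hrp).mpr (Ne.symm hr2)).dvd_of_dvd_mul_left
            (hk ▸ ⟨m, by omega⟩)
          obtain ⟨l, rfl⟩ := hk2
          rcases l with _ | l
          · omega
          · nlinarith
      let d : Fin n → F := fun i => if i = i₀ then (w : F) else if i = i₁ then (w : F)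
        else if i = i₂ then ((w : F) ^ 2)⁻¹ else 1
      have hd0 : d i₀ = w := by simp [d]
      have hd1 : d i₁ = w := by simp [d, i₀, i₁]
      have hd2 : d i₂ = ((w : F) ^ 2)⁻¹ := by simp [d, i₀, i₁, i₂]
      have hd' : ∀ i, i ∉ ({i₀, i₁, i₂} : Finset (Fin n)) → d i = 1 := fun i hi => by
        simp at hi
        simp [d, hi]
      have hw1 : (w : F) ≠ 1 := fun h => hrp.not_dvd_one (hwk 1 (by rw [pow_one, h]))
      have hw2 : ((w : F) ^ 2)⁻¹ ≠ 1 := fun h => hr2 ((Nat.prime_dvd_prime_iff_eq hrp Nat.prime_two).mp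
        (hwk 2 (by simpa using h)))
      have hcard : ({i₀, i₁, i₂} : Finset (Fin n)).card = 3 := by simp [i₀, i₁, i₂]
      refine mk d 1 ({i₀, i₁, i₂} : Finset (Fin n))ᶜ (fun i => ?_) one_ne_zero (fun i => ?_) ?_ ?_ ?_
        ⟨i₀, i₃, by rw [hd0, hd' i₃ (by simp [i₀, i₁, i₂, i₃])]; exact hw1⟩
      · simp only [d]
        split_ifs
        · exact hwr
        · exact hwr
        · rw [inv_pow, ← pow_mul, mul_comm 2 r, pow_mul, hwr, one_pow, inv_one]
        · exact one_pow r
      · rw [Finset.mem_compl]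
        refine ⟨hd' i, fun h hi => ?_⟩
        simp only [Finset.mem_insert, Finset.mem_singleton] at hi
        rcases hi with rfl | rfl | rfl
        · exact hw1 (hd0 ▸ h)
        · exact hw1 (hd1 ▸ h)
        · exact hw2 (hd2 ▸ h)
      · rw [Finset.card_compl, hcard, Fintype.card_fin]
        exact ⟨m - 2, by omega⟩
      · rw [Finset.card_compl, hcard, Fintype.card_fin]
        omega
      · rw [← Finset.prod_subset (Finset.subset_univ ({i₀, i₁, i₂} : Finset (Fin n))) (fun i _ hi => hd' i hi),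
          Finset.prod_insert (by simp [i₀, i₁, i₂]), Finset.prod_insert (by simp [i₁, i₂]), Finset.prod_singleton,
          hd0, hd1, hd2]
        field_simp
    · let d : Fin n → F := fun i => if i = i₀ then ((w : F) ^ (n - 1))⁻¹ else w
      have hne : ((w : F) ^ (n - 1))⁻¹ ≠ w := fun h => hrn (hwk n (by
        rw [show n = n - 1 + 1 by omega, pow_succ]
        nth_rewrite 2 [← h]
        exact mul_inv_cancel₀ (pow_ne_zero _ hw0)))
      refine mk d w (Finset.univ.erase i₀) (fun i => ?_) hw0 (fun i => ?_) ?_ ?_ ?_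
        ⟨i₀, i₁, by simpa [d, i₀, i₁] using hne⟩
      · simp only [d]
        split_ifs
        · rw [inv_pow, ← pow_mul, mul_comm (n - 1) r, pow_mul, hwr, one_pow, inv_one]
        · exact hwr
      · simp only [d, Finset.mem_erase, Finset.mem_univ, and_true]
        refine ⟨fun h => by rw [if_neg h], fun h hi => ?_⟩
        rw [if_pos hi] at h
        exact hne h
      · rw [Finset.card_erase_of_mem (Finset.mem_univ _), Finset.card_univ, Fintype.card_fin]
        exact ⟨m - 1, by omega⟩
      · rw [Finset.card_erase_of_mem (Finset.mem_univ _), Finset.card_univ, Fintype.card_fin]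
        omega
      · rw [← Finset.mul_prod_erase _ _ (Finset.mem_univ i₀), Finset.prod_congr rfl (g := fun _ => (w : F))
          (fun i hi => by simp [d, Finset.ne_of_mem_erase hi]), Finset.prod_const,
          Finset.card_erase_of_mem (Finset.mem_univ _), Finset.card_univ, Fintype.card_fin]
        simp [d, inv_mul_cancel₀ (pow_ne_zero _ hw0)]
  · have h2 : 2 ≤ c := by
      have := hodd.pos
      omega
    obtain ⟨x, hx1, hx2, hx3⟩ := exists_block hr hrF hc h2 hlt.le
    refine ⟨x, fin x hx1, hx2, fun P => block_not_sim f hf (by omega) hr ?_ x hx1 ?_ P⟩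
    · intro h
      have := (PrimeOrd.dvd_pow_sub_one (F := F) (r := r) 1).mp (by rwa [pow_one])
      rw [← hc, Nat.dvd_one] at this
      exact hc1 this
    · rw [hx3]
      obtain ⟨a, ha⟩ := he
      obtain ⟨b, hb⟩ := hodd
      exact ⟨a - b - 1, by omega⟩

end Cfsg.Lib.Classical.SimDerange
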