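import Mathlib
import Cfsg.Prelude.Def_GeometricClasses
import Cfsg.Agent.Classical.Misc.PrimeOrderCriteria
import Cfsg.Agent.Classical.Misc.SimilitudeDerangement

/-! Elements of odd prime order and decompositions into subspaces of equal dimension. -/

set_option autoImplicit false
set_option linter.unusedSimpArgs false
set_option linter.unusedSectionVars false
set_option linter.unusedVariables false
set_option linter.style.haveILetI false
set_option linter.flexible false

namespace Cfsg.Lib.Classical.OddImprim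

open Submodule PrimeOrd

universe u v

section Gen

variable {F : Type u} [Field F] {V : Type v} [AddCommGroup V] [Module F V] [FiniteDimensional F V]

/-- The span of an orbit is invariant. -/
theorem inv_orbit {x : Module.End F V} {r : ℕ} (hr : 0 < r) {z : F} (hx : x ^ r = z • 1) (w : V) :
    Inv x (span F (Set.range fun j : Fin r => (x ^ (j : ℕ)) w)) := by
  intro u hu
  induction hu using span_induction with
  | mem u hu =>
    obtain ⟨j, rfl⟩ := hu
    show x ((x ^ (j : ℕ)) w) ∈ _
    rw [← Module.End.mul_apply, ← pow_succ']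
    rcases Nat.lt_or_ge ((j : ℕ) + 1) r with h | h
    · exact subset_span ⟨⟨_, h⟩, rfl⟩
    · rw [show (j : ℕ) + 1 = r by omega, hx]
      exact smul_mem _ _ (subset_span ⟨⟨0, hr⟩, by simp⟩)
  | zero => simp
  | add a b _ _ ha hb => rw [map_add]; exact add_mem ha hb
  | smul s a _ ha => rw [map_smul]; exact smul_mem _ _ ha

/-- Generators of an invariant subspace all of whose minimal parts have the same dimension. -/
theorem orbit_gens {x : Module.End F V} (hs : x.IsSemisimple) {r : ℕ} (hr : 0 < r) {z : F} (hx : x ^ r = z • 1) {a : ℕ}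
    (ha : 0 < a) (S : Submodule F V)
    (hmin : ∀ U ≤ S, Inv x U → U ≠ ⊥ → (∀ T ≤ U, Inv x T → T ≠ ⊥ → T = U) → Module.finrank F U = a) :
    ∀ (N : ℕ) (W : Submodule F V), Module.finrank F W = N → W ≤ S → Inv x W →
      ∃ (m : ℕ) (u : Fin m → V), m * a = N ∧ (∀ i, u i ∈ W) ∧
        W ≤ span F (Set.range fun p : Fin m × Fin r => (x ^ (p.2 : ℕ)) (u p.1)) := by
  intro N
  induction N using Nat.strong_induction_on with
  | _ N ih =>
    intro W hN hWS hW
    by_cases h0 : W = ⊥
    · refine ⟨0, Fin.elim0, ?_, fun i => i.elim0, by rw [h0]; exact bot_le⟩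
      rw [← hN, h0, finrank_bot, zero_mul]
    obtain ⟨U, hUW, hU, hU0, hUmin⟩ := exists_minimal hW h0
    have hUa := hmin U (hUW.trans hWS) hU hU0 hUmin
    obtain ⟨w, hw, hw0⟩ := U.exists_mem_ne_zero_of_ne_bot hU0
    have hspan : span F (Set.range fun j : Fin r => (x ^ (j : ℕ)) w) = U := by
      refine hUmin _ (span_le.mpr ?_) (inv_orbit hr hx w) ?_
      · rintro _ ⟨j, rfl⟩
        show (x ^ (j : ℕ)) w ∈ U
        induction (j : ℕ) with
        | zero => simpa using hw
        | succ i ih => rw [pow_succ', Module.End.mul_apply]; exact hU _ ih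
      · intro e
        exact hw0 ((Submodule.mem_bot F).mp (e ▸ subset_span ⟨⟨0, hr⟩, by simp⟩))
    obtain ⟨C, hC, hc⟩ := exists_compl hs hU
    have e : U ⊔ C ⊓ W = W := by rw [← sup_inf_assoc_of_le C hUW, hc.sup_eq_top, top_inf_eq]
    have h := Submodule.finrank_sup_add_finrank_inf_eq U (C ⊓ W)
    rw [(hc.disjoint.mono_right inf_le_left).eq_bot, finrank_bot, e] at h
    obtain ⟨m, u, hm, hu, hle⟩ := ih (Module.finrank F (C ⊓ W : Submodule F V)) (by omega) (C ⊓ W) rfl
      (inf_le_right.trans hWS) (hC.inf hW)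
    refine ⟨m + 1, Fin.cons w u, by rw [Nat.succ_mul]; omega, fun i => ?_, ?_⟩
    · refine Fin.cases ?_ ?_ i
      · simpa using hUW hw
      · intro j
        simpa using (hu j).2
    · rw [← e, sup_le_iff]
      refine ⟨?_, hle.trans (span_le.mpr ?_)⟩
      · rw [← hspan]
        refine span_le.mpr ?_
        rintro _ ⟨j, rfl⟩
        exact subset_span ⟨(0, j), by simp⟩
      · rintro _ ⟨⟨i, j⟩, rfl⟩
        exact subset_span ⟨(i.succ, j), by simp⟩

/-- Splitting into invariant subspaces of dimension `a`. -/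
theorem split_power [Fintype F] {r : ℕ} [Fact r.Prime] (hr : (r : F) ≠ 0) (hrF : ¬ r ∣ Fintype.card F)
    {x : Module.End F V} (hx : x ^ r = 1) (a : ℕ) :
    ∀ (s : ℕ) (W : Submodule F V), Inv x W → Module.finrank F W = a * s →
      s * (a % orderOf (Fintype.card F : ZMod r)) < orderOf (Fintype.card F : ZMod r) →
      ∃ v : Fin s × Fin a → V, W ≤ span F (Set.range v) ∧
        ∀ p, x (v p) ∈ span F (Set.range fun l => v (p.1, l)) := by
  intro s
  induction s with
  | zero =>
    intro W _ hd _
    refine ⟨fun p => p.1.elim0, ?_, fun p => p.1.elim0⟩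
    rw [mul_zero] at hd
    rw [finrank_eq_zero.mp hd]
    exact bot_le
  | succ s ih =>
    intro W hW hd hlt
    set c := orderOf (Fintype.card F : ZMod r)
    have hy : res x hW ^ r = 1 := by
      have := res_scalar (c := (1 : F)) hW (r := r) (by rw [hx, one_smul])
      rwa [one_smul] at this
    have hmod : (a * (s + 1)) % c = (s + 1) * (a % c) := by
      rw [mul_comm a, ← Nat.mul_mod_mod, Nat.mod_eq_of_lt hlt]
    obtain ⟨U', hU'i, hU'd⟩ := exists_one hr hrF hy (m := a) (by rw [hd]; exact Nat.le_mul_of_pos_right a (by omega)) (by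
      rw [hd, hmod]
      exact Nat.le_mul_of_pos_left _ (by omega))
    let U := U'.map W.subtype
    have hU : Inv x U := by
      rintro _ ⟨w, hw, rfl⟩
      exact ⟨res x hW w, hU'i w hw, rfl⟩
    have hUd : Module.finrank F U = a := (finrank_map_subtype_eq _ _).trans hU'd
    have hUW : U ≤ W := map_subtype_le _ _
    obtain ⟨C, hC, hc⟩ := exists_compl (semisimple (c := (1 : F)) hr one_ne_zero (by rw [hx, one_smul])) hU
    have e : U ⊔ C ⊓ W = W := by rw [← sup_inf_assoc_of_le C hUW, hc.sup_eq_top, top_inf_eq]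
    have h := Submodule.finrank_sup_add_finrank_inf_eq U (C ⊓ W)
    rw [(hc.disjoint.mono_right inf_le_left).eq_bot, finrank_bot, e, hd, hUd, Nat.mul_succ] at h
    obtain ⟨v, hv, hvi⟩ := ih (C ⊓ W) (hC.inf hW) (by omega) (lt_of_le_of_lt (Nat.mul_le_mul_right _ (Nat.le_succ s)) hlt)
    let b := (Module.finBasisOfFinrankEq F U hUd)
    have hspan : span F (Set.range fun l => (b l : V)) = U := by
      rw [show (fun l => (b l : V)) = U.subtype ∘ b from rfl, Set.range_comp, span_image, b.span_eq, Submodule.map_top, range_subtype]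
    refine ⟨fun p => Fin.cases (motive := fun _ => V) (b p.2 : V) (fun i => v (i, p.2)) p.1, ?_, ?_⟩
    · rw [← e, sup_le_iff]
      refine ⟨?_, hv.trans (span_le.mpr ?_)⟩
      · refine hspan.ge.trans (span_le.mpr ?_)
        rintro _ ⟨l, rfl⟩
        exact subset_span ⟨(0, l), by simp⟩
      · rintro _ ⟨⟨i, l⟩, rfl⟩
        exact subset_span ⟨(i.succ, l), by simp⟩
    · rintro ⟨i, l⟩
      refine Fin.cases ?_ ?_ i
      · simp only [Fin.cases_zero]
        rw [hspan]
        exact hU _ (b l).2
      · intro j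
        simpa using hvi (j, l)

/-- A decomposition from a spanning family grouped into blocks. -/
theorem of_family {ι : Type} [Fintype ι] [DecidableEq ι] {a t : ℕ} (ha : 0 < a) (ht : 2 ≤ t) (b : ι → V)
    (hb : ⊤ ≤ span F (Set.range b)) (hcard : Fintype.card ι = Module.finrank F V) (g : ι → Fin t)
    (hg : ∀ j, Fintype.card {i // g i = j} = a) :
    LinearIndependent F b ∧ iSupIndep (fun j => span F (b '' (g ⁻¹' {j}))) ∧
      (⨆ j, span F (b '' (g ⁻¹' {j}))) = ⊤ ∧ ∀ j, Module.finrank F (span F (b '' (g ⁻¹' {j}))) = a := by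
  have hli : LinearIndependent F b := linearIndependent_of_top_le_span_of_card_eq_finrank hb hcard
  refine ⟨hli, fun j => ?_, ?_, fun j => ?_⟩
  · refine (hli.disjoint_span_image (disjoint_compl_right (a := g ⁻¹' {j}))).mono_right (iSup₂_le fun l hl => ?_)
    refine span_mono (Set.image_mono fun i hi => ?_)
    simp only [Set.mem_preimage, Set.mem_singleton_iff] at hi
    simp [hi, hl]
  · rw [← span_iUnion, ← Set.image_iUnion, ← Set.preimage_iUnion, Set.iUnion_of_singleton, Set.preimage_univ, Set.image_univ]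
    exact top_le_iff.mp hb
  · have := finrank_span_eq_card (hli.comp (fun i : {i // g i = j} => i.1) Subtype.val_injective)
    rw [hg j] at this
    rw [← this, Set.image_eq_range]
    rfl

/-- Stable under a map permuting the blocks. -/
theorem map_family {ι : Type} [Fintype ι] [DecidableEq ι] {a t : ℕ} (b : ι → V) (g : ι → Fin t)
    (hd : ∀ j, Module.finrank F (span F (b '' (g ⁻¹' {j}))) = a) {x : Module.End F V} (hx : Function.Injective x)
    (σ : Equiv.Perm (Fin t)) (hσ : ∀ i, x (b i) ∈ span F (b '' (g ⁻¹' {σ (g i)}))) (j : Fin t) :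
    (span F (b '' (g ⁻¹' {j}))).map x = span F (b '' (g ⁻¹' {σ j})) := by
  refine eq_of_le_of_finrank_le ?_ ?_
  · rw [map_span_le]
    rintro _ ⟨i, hi, rfl⟩
    rw [← show g i = j from hi]
    exact hσ i
  · rw [hd, LinearEquiv.finrank_eq (Submodule.equivMapOfInjective x hx _).symm, hd]

end Gen

section Decomp

variable {F : Type u} [Field F] {n a t : ℕ}

local notation "V" => (Fin n → F)

theorem single_val (D : Fin t → Submodule F V) (k l : Fin t) (w : V) (hw : w ∈ D k) :
    ((Pi.single k (⟨w, hw⟩ : D k) : ∀ m, D m) l : V) = if k = l then w else 0 := by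
  by_cases h : k = l
  · subst h
    simp
  · rw [if_neg h, Pi.single_eq_of_ne (Ne.symm h), ZeroMemClass.coe_zero]

variable [Fintype F]

/-- Summation of components. -/
noncomputable def Φ (D : Fin t → Submodule F V) : (∀ l, D l) →ₗ[F] V :=
  ∑ l, (D l).subtype.comp (LinearMap.proj l)

theorem Φ_apply (D : Fin t → Submodule F V) (w : ∀ l, D l) : Φ D w = ∑ l, (w l : V) := by
  simp [Φ]

theorem Φ_injective {D : Fin t → Submodule F V} (hD : iSupIndep D) : Function.Injective (Φ D) := by
  rw [← LinearMap.ker_eq_bot, eq_bot_iff]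
  intro w hw
  rw [LinearMap.mem_ker, Φ_apply] at hw
  rw [Submodule.mem_bot]
  funext j
  refine Subtype.ext (Submodule.disjoint_def.mp (hD j) _ (w j).2 ?_)
  rw [← Finset.add_sum_erase _ _ (Finset.mem_univ j)] at hw
  rw [eq_neg_of_add_eq_zero_left hw]
  refine neg_mem (sum_mem fun l hl => ?_)
  exact mem_iSup_of_mem l (mem_iSup_of_mem (Finset.ne_of_mem_erase hl) (w l).2)

theorem Φ_bijective {D : Fin t → Submodule F V} (hat : n = a * t) (hD : Cfsg.Geo.IsMDecomposition a D) :
    Function.Bijective (Φ D) := by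
  have h := Φ_injective hD.indep
  refine ⟨h, (LinearMap.injective_iff_surjective_of_finrank_eq_finrank ?_).mp h⟩
  rw [Module.finrank_pi_fintype, Finset.sum_congr rfl fun l _ => hD.finrank_eq l, Finset.sum_const, Finset.card_univ,
    Fintype.card_fin, Module.finrank_fintype_fun_eq_card, Fintype.card_fin, smul_eq_mul, hat, mul_comm]

theorem decomp_inj {D : Fin t → Submodule F V} (hD : Cfsg.Geo.IsMDecomposition a D) : Function.Injective D := by
  intro j l h
  by_contra hne
  have h1 : D j ≤ ⨆ (m) (_ : m ≠ j), D m := h.trans_le (le_iSup₂_of_le l (Ne.symm hne) le_rfl)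
  have h2 := hD.finrank_eq j
  rw [(hD.indep j).eq_bot_of_le h1, finrank_bot] at h2
  exact hD.pos.ne h2

/-- Powers of the permutation. -/
theorem map_pow_eq {D : Fin t → Submodule F V} {x : Module.End F V} {σ : Equiv.Perm (Fin t)}
    (h : ∀ j, (D j).map x = D (σ j)) : ∀ (i : ℕ) (j : Fin t), (D j).map (x ^ i) = D ((σ ^ i) j) := by
  intro i
  induction i with
  | zero => intro j; simp [Module.End.one_eq_id]
  | succ i ih =>
    intro j
    rw [pow_succ', pow_succ', Equiv.Perm.mul_apply, ← h, ← ih, Module.End.mul_eq_comp, Submodule.map_comp]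

theorem perm_pow {D : Fin t → Submodule F V} (hD : Cfsg.Geo.IsMDecomposition a D) {x : Module.End F V}
    {σ : Equiv.Perm (Fin t)} (h : ∀ j, (D j).map x = D (σ j)) {r : ℕ} (hx : x ^ r = 1) : σ ^ r = 1 := by
  refine Equiv.ext fun j => decomp_inj hD ?_
  rw [← map_pow_eq h, hx, Module.End.one_eq_id, Submodule.map_id]
  rfl

/-- The components of an image. -/
theorem Φ_shift {D : Fin t → Submodule F V} {x : Module.End F V} {σ : Equiv.Perm (Fin t)}
    (h : ∀ j, (D j).map x = D (σ j)) (w : ∀ l, D l) :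
    ∃ w' : ∀ l, D l, x (Φ D w) = Φ D w' ∧ ∀ l, (w' (σ l) : V) = x (w l) := by
  have hmem : ∀ l, x (w (σ.symm l) : V) ∈ D l := fun l => by
    have := h (σ.symm l)
    rw [σ.apply_symm_apply] at this
    exact this ▸ Submodule.mem_map_of_mem (w (σ.symm l)).2
  refine ⟨fun l => ⟨_, hmem l⟩, ?_, fun l => congrArg (fun k => x (w k : V)) (σ.symm_apply_apply l)⟩
  rw [Φ_apply, Φ_apply, map_sum]
  exact (Equiv.sum_comp σ.symm fun l => x (w l : V)).symm

theorem fix_comp {D : Fin t → Submodule F V} (hD : Cfsg.Geo.IsMDecomposition a D) {x : Module.End F V}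
    {σ : Equiv.Perm (Fin t)} (h : ∀ j, (D j).map x = D (σ j)) (w : ∀ l, D l) (hw : Φ D w ∈ fix x) :
    ∀ l, (w (σ l) : V) = x (w l) := by
  obtain ⟨w', h1, h2⟩ := Φ_shift h w
  rw [mem_fix.mp hw] at h1
  obtain rfl := Φ_injective hD.indep h1
  exact h2

/-- A moved block gives a lower bound for the moved space. -/
theorem mov_bound {D : Fin t → Submodule F V} (hD : Cfsg.Geo.IsMDecomposition a D) {x : Module.End F V}
    {σ : Equiv.Perm (Fin t)} (h : ∀ j, (D j).map x = D (σ j)) {r : ℕ} [Fact r.Prime] (hx : x ^ r = 1) {j : Fin t}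
    (hj : σ j ≠ j) : (r - 1) * a ≤ Module.finrank F (mov x) := by
  classical
  have hr : r.Prime := Fact.out
  have hinj : Set.InjOn (fun i : ℕ => (σ ^ i) j) (Set.Iio r) := by
    have hper : Function.minimalPeriod σ j = r := Function.minimalPeriod_eq_prime_iff.mpr ⟨by
      show σ^[r] j = j
      rw [← Equiv.Perm.coe_pow, perm_pow hD h hx]
      rfl, hj⟩
    intro i hi i' hi' e
    simp only [Equiv.Perm.coe_pow] at e
    exact Function.iterate_injOn_Iio_minimalPeriod (by rw [hper]; exact hi) (by rw [hper]; exact hi') e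
  -- components supported at all places of the orbit except the last
  let J : Fin (r - 1) → Fin t := fun i => (σ ^ (i : ℕ)) j
  have hJ : Function.Injective J := fun i i' e =>
    Fin.ext (hinj (Set.mem_Iio.mpr (by omega)) (Set.mem_Iio.mpr (by omega)) e)
  let ψ : (∀ i, D (J i)) →ₗ[F] V := ∑ i, (D (J i)).subtype.comp (LinearMap.proj i)
  have hψ : Function.Injective (((x - 1) : Module.End F V) ∘ₗ ψ) := by
    rw [← LinearMap.ker_eq_bot, eq_bot_iff]
    intro w hw
    rw [LinearMap.mem_ker, LinearMap.comp_apply] at hw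
    let W : ∀ l, D l := ∑ i, Pi.single (J i) (w i)
    have hW : Φ D W = ψ w := by
      simp only [W, map_sum, ψ, LinearMap.sum_apply, LinearMap.comp_apply, LinearMap.proj_apply, Submodule.subtype_apply]
      refine Finset.sum_congr rfl fun i _ => ?_
      rw [Φ_apply, Finset.sum_eq_single (J i)]
      · simp
      · intro l _ hl
        simp [hl]
      · simp
    have hfix : Φ D W ∈ fix x := by rw [hW]; exact hw
    have hc := fix_comp hD h W hfix
    have hiter : ∀ (i : ℕ) l, (W ((σ ^ i) l) : V) = (x ^ i) (W l) := by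
      intro i
      induction i with
      | zero => intro l; exact (congrArg (fun k => (W k : V)) (by rw [pow_zero]; rfl : (σ ^ 0) l = l)).trans (by simp)
      | succ i ih => intro l; rw [pow_succ', pow_succ', Equiv.Perm.mul_apply, hc, ih, Module.End.mul_apply]
    have hlast : W ((σ ^ (r - 1)) j) = 0 := by
      simp only [W, Finset.sum_apply]
      refine Finset.sum_eq_zero fun i _ => ?_
      rw [Pi.single_eq_of_ne]
      intro e
      have := hinj (show r - 1 ∈ Set.Iio r from Set.mem_Iio.mpr (by have := hr.pos; omega))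
        (show (i : ℕ) ∈ Set.Iio r from Set.mem_Iio.mpr (by omega)) e
      omega
    have hWj : (W j : V) = 0 := by
      have h1 := hc ((σ ^ (r - 1)) j)
      rw [hlast, ← Equiv.Perm.mul_apply, ← pow_succ', Nat.sub_add_cancel hr.pos, perm_pow hD h hx] at h1
      simpa using h1
    rw [Submodule.mem_bot]
    funext i
    refine Subtype.ext ?_
    have h1 : W (J i) = w i := by
      simp only [W, Finset.sum_apply]
      rw [Finset.sum_eq_single i, Pi.single_eq_same]
      · intro k _ hk
        rw [Pi.single_eq_of_ne (hJ.ne hk.symm)]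
      · simp
    rw [← h1]
    exact (hiter i j).trans (by rw [hWj, map_zero]; rfl)
  have hle := LinearMap.finrank_le_finrank_of_injective (f := (((x - 1) : Module.End F V) ∘ₗ ψ).codRestrict (mov x)
    fun w => ⟨ψ w, rfl⟩) (fun w w' e => hψ (congrArg Subtype.val e))
  rwa [Module.finrank_pi_fintype, Finset.sum_congr rfl fun i _ => hD.finrank_eq (J i), Finset.sum_const, Finset.card_univ,
    Fintype.card_fin, smul_eq_mul] at hle

/-- A moved block gives a lower bound for the fixed space. -/
theorem fix_bound {D : Fin t → Submodule F V} (hD : Cfsg.Geo.IsMDecomposition a D) {x : Module.End F V}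
    {σ : Equiv.Perm (Fin t)} (h : ∀ j, (D j).map x = D (σ j)) {r : ℕ} [Fact r.Prime] (hx : x ^ r = 1) {j : Fin t}
    (hj : σ j ≠ j) : a ≤ Module.finrank F (fix x) := by
  classical
  have hr : r.Prime := Fact.out
  let N : Module.End F V := ∑ i ∈ Finset.range r, x ^ i
  have hN : ∀ v, N v ∈ fix x := fun v => by
    have hmul : x * N = N := by
      have := geom_sum_mul x r
      rw [hx, sub_self] at this
      have h2 := (Commute.sum_left (Finset.range r) (fun i => x ^ i) x fun i _ => Commute.pow_self x i).eq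
      rw [mul_sub, mul_one, sub_eq_zero] at this
      exact h2.symm.trans this
    rw [mem_fix, ← Module.End.mul_apply, hmul]
  let ψ : D j →ₗ[F] fix x := (N.comp (D j).subtype).codRestrict (fix x) fun v => hN _
  rw [← hD.finrank_eq j]
  refine LinearMap.finrank_le_finrank_of_injective (f := ψ) ?_
  rw [← LinearMap.ker_eq_bot, eq_bot_iff]
  intro v hv
  have hv0 : (∑ i ∈ Finset.range r, (x ^ i) (v : V)) = 0 := by
    simpa [ψ, N, LinearMap.sum_apply] using congrArg Subtype.val (LinearMap.mem_ker.mp hv)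
  rw [← Finset.add_sum_erase _ _ (Finset.mem_range.mpr hr.pos), pow_zero, Module.End.one_apply] at hv0
  refine (Submodule.mem_bot F).mpr (Subtype.ext (Submodule.disjoint_def.mp (hD.indep j) _ v.2 ?_))
  rw [eq_neg_of_add_eq_zero_left hv0]
  refine neg_mem (sum_mem fun i hi => ?_)
  have hij : (σ ^ i) j ≠ j := by
    rw [Finset.mem_erase, Finset.mem_range] at hi
    intro e
    apply hj
    have h1 : (σ ^ Nat.gcd i r) j = j := by
      have ha : Function.IsPeriodicPt σ i j := by show σ^[i] j = j; rw [← Equiv.Perm.coe_pow]; exact e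
      have hb : Function.IsPeriodicPt σ r j := by show σ^[r] j = j; rw [← Equiv.Perm.coe_pow, perm_pow hD h hx]; rfl
      rw [Equiv.Perm.coe_pow]
      exact ha.gcd hb
    rwa [((hr.coprime_iff_not_dvd.mpr fun hd => by
      have := Nat.le_of_dvd (Nat.pos_of_ne_zero hi.1) hd
      omega).symm).gcd_eq_one, pow_one] at h1
  exact mem_iSup_of_mem ((σ ^ i) j) (mem_iSup_of_mem hij (map_pow_eq h i j ▸ Submodule.mem_map_of_mem v.2))

/-- Orbits of lines. -/
theorem line_bound {D : Fin t → Submodule F V} (hat : n = a * t) (ha : a = 1)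
    (hD : Cfsg.Geo.IsMDecomposition a D) {x : Module.End F V}
    {σ : Equiv.Perm (Fin t)} (h : ∀ j, (D j).map x = D (σ j)) {r : ℕ} [Fact r.Prime] (hrc : (r : F) ≠ 0)
    (hnd : ¬ r ∣ Fintype.card F - 1) (hx : x ^ r = 1) : t ≤ r * Module.finrank F (fix x) := by
  classical
  have hr : r.Prime := Fact.out
  have hσ := perm_pow hD h hx
  have hpow : ∀ l l', σ.SameCycle l l' → ∃ i < r, (σ ^ i) l = l' := fun l l' hll => by
    obtain ⟨i, hi⟩ := hll.exists_nat_pow_eq
    refine ⟨i % r, Nat.mod_lt _ hr.pos, ?_⟩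
    rw [← hi]
    conv_rhs => rw [← Nat.mod_add_div i r, pow_add, pow_mul, hσ, one_pow, mul_one]
  choose v hv hv0 using fun l => (D l).exists_mem_ne_zero_of_ne_bot (fun e => by
    have := hD.finrank_eq l
    rw [e, finrank_bot] at this
    omega)
  let Q := Quotient (Equiv.Perm.SameCycle.setoid σ)
  let N : Module.End F V := ∑ i ∈ Finset.range r, x ^ i
  have hN : ∀ v, N v ∈ fix x := fun v => by
    have hmul : x * N = N := by
      have := geom_sum_mul x r
      rw [hx, sub_self] at this
      have h2 := (Commute.sum_left (Finset.range r) (fun i => x ^ i) x fun i _ => Commute.pow_self x i).eq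
      rw [mul_sub, mul_one, sub_eq_zero] at this
      exact h2.symm.trans this
    rw [mem_fix, ← Module.End.mul_apply, hmul]
  -- the components of the fixed vectors of the orbits
  let W : Q → ∀ l, D l := fun q => ∑ i ∈ Finset.range r,
    Pi.single ((σ ^ i) q.out) ⟨(x ^ i) (v q.out), map_pow_eq h i q.out ▸ Submodule.mem_map_of_mem (hv _)⟩
  have hW : ∀ q, Φ D (W q) = N (v q.out) := fun q => by
    simp only [W, map_sum, N, LinearMap.sum_apply]
    refine Finset.sum_congr rfl fun i _ => ?_
    rw [Φ_apply, Finset.sum_eq_single ((σ ^ i) q.out)]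
    · simp
    · intro l _ hl
      simp [hl]
    · simp
  have hoff : ∀ q q' : Q, q ≠ q' → W q q'.out = 0 := fun q q' hne => by
    simp only [W, Finset.sum_apply]
    refine Finset.sum_eq_zero fun i _ => Pi.single_eq_of_ne ?_ _
    intro e
    refine hne ?_
    rw [← Quotient.out_eq q, ← Quotient.out_eq q']
    exact Quotient.sound (show σ.SameCycle q.out q'.out from ⟨i, by rw [zpow_natCast]; exact e.symm⟩)
  have hon : ∀ q : Q, W q q.out ≠ 0 := fun q e => by
    have e' := congrArg Subtype.val e
    simp only [W, Finset.sum_apply, Submodule.coe_sum, ZeroMemClass.coe_zero] at e'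
    by_cases hf : σ q.out = q.out
    · have hfi : ∀ i : ℕ, (σ ^ i) q.out = q.out := fun i => by
        induction i with
        | zero => simp
        | succ i ih => rw [pow_succ', Equiv.Perm.mul_apply, ih, hf]
      obtain ⟨μ, hμ⟩ : ∃ μ : F, μ • v q.out = x (v q.out) := by
        have h1 : x (v q.out) ∈ D q.out := by
          have := h q.out
          rw [hf] at this
          exact this ▸ Submodule.mem_map_of_mem (hv _)
        have h2 : span F {v q.out} = D q.out := eq_of_le_of_finrank_eq ((span_singleton_le_iff_mem _ _).mpr (hv _))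
          (by rw [finrank_span_singleton (hv0 _), hD.finrank_eq, ha])
        exact mem_span_singleton.mp (h2 ▸ h1)
      have hμi : ∀ i : ℕ, (x ^ i) (v q.out) = μ ^ i • v q.out := fun i => by
        induction i with
        | zero => simp
        | succ i ih => rw [pow_succ', Module.End.mul_apply, ih, map_smul, ← hμ, smul_smul, pow_succ]
      have hμ1 : μ = 1 := by
        refine root_one hr hnd (smul_left_injective F (hv0 q.out) ?_)
        show μ ^ r • v q.out = (1 : F) • v q.out
        rw [← hμi, hx, one_smul, Module.End.one_apply]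
      have hsum : ∀ i ∈ Finset.range r, ((Pi.single ((σ ^ i) q.out) (⟨(x ^ i) (v q.out),
          map_pow_eq h i q.out ▸ Submodule.mem_map_of_mem (hv _)⟩ : D ((σ ^ i) q.out)) : ∀ l, D l) q.out : V) = v q.out := by
        intro i _
        rw [single_val, if_pos (hfi i), hμi, hμ1, one_pow, one_smul]
      rw [Finset.sum_congr rfl hsum, Finset.sum_const, Finset.card_range, ← Nat.cast_smul_eq_nsmul F] at e'
      exact hv0 _ ((smul_eq_zero.mp e').resolve_left hrc)
    · rw [Finset.sum_eq_single 0] at e'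
      · rw [single_val, if_pos (by simp), pow_zero, Module.End.one_apply] at e'
        exact hv0 _ e'
      · intro i hi hi0
        rw [Pi.single_eq_of_ne, ZeroMemClass.coe_zero]
        intro hh
        apply hf
        rw [Finset.mem_range] at hi
        have h1 : (σ ^ Nat.gcd i r) q.out = q.out := by
          have ha' : Function.IsPeriodicPt σ i q.out := by show σ^[i] _ = _; rw [← Equiv.Perm.coe_pow]; exact hh.symm
          have hb : Function.IsPeriodicPt σ r q.out := by show σ^[r] _ = _; rw [← Equiv.Perm.coe_pow, hσ]; rfl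
          rw [Equiv.Perm.coe_pow]
          exact ha'.gcd hb
        rwa [((hr.coprime_iff_not_dvd.mpr fun hd => by
          have := Nat.le_of_dvd (Nat.pos_of_ne_zero hi0) hd
          omega).symm).gcd_eq_one, pow_one] at h1
      · simp [hr.pos]
  have hli : LinearIndependent F fun q : Q => (⟨N (v q.out), hN _⟩ : fix x) := by
    rw [Fintype.linearIndependent_iff]
    intro g hg q
    have h1 : Φ D (∑ q' : Q, g q' • W q') = 0 := by
      rw [map_sum]
      simpa [hW, map_smul] using congrArg Subtype.val hg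
    have h2 := congrFun (Φ_injective hD.indep (h1.trans (map_zero (Φ D)).symm)) q.out
    rw [Finset.sum_apply, Finset.sum_eq_single q] at h2
    · exact (smul_eq_zero.mp h2).resolve_right (hon q)
    · intro q' _ hne
      rw [Pi.smul_apply, hoff q' q hne, smul_zero]
    · simp
  refine le_trans ?_ (Nat.mul_le_mul_left r hli.fintype_card_le_finrank)
  have hsurj : Function.Surjective fun p : Fin r × Q => (σ ^ (p.1 : ℕ)) p.2.out := fun l => by
    obtain ⟨i, hi, e⟩ := hpow _ l (Quotient.mk_out (s := Equiv.Perm.SameCycle.setoid σ) l)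
    exact ⟨(⟨i, hi⟩, Quotient.mk _ l), e⟩
  have := Fintype.card_le_of_surjective _ hsurj
  simpa using this

/-- Fixed parts of invariant blocks. -/
theorem fix_split {D : Fin t → Submodule F V} (hD : Cfsg.Geo.IsMDecomposition a D) {x : Module.End F V}
    {r : ℕ} [Fact r.Prime] (hrc : (r : F) ≠ 0) (hx : x ^ r = 1) (hinv : ∀ j, (D j).map x = D j) :
    t * (a % orderOf (Fintype.card F : ZMod r)) ≤ Module.finrank F (fix x) := by
  classical
  let ψ : (∀ l, (fix x ⊓ D l : Submodule F V)) →ₗ[F] fix x :=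
    ((Φ D).comp (LinearMap.pi fun l => (Submodule.inclusion inf_le_right).comp (LinearMap.proj l))).codRestrict (fix x)
      fun w => by
        rw [LinearMap.comp_apply, Φ_apply]
        exact sum_mem fun l _ => (w l).2.1
  have hψ : Function.Injective ψ := fun w w' e => by
    have := Φ_injective hD.indep (congrArg Subtype.val e)
    funext l
    have h := congrArg Subtype.val (congrFun this l)
    exact Subtype.ext h
  refine le_trans ?_ (LinearMap.finrank_le_finrank_of_injective hψ)
  rw [Module.finrank_pi_fintype]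
  refine le_trans (le_of_eq ?_) (Finset.sum_le_sum (s := Finset.univ)
    (f := fun _ : Fin t => a % orderOf (Fintype.card F : ZMod r)) fun l _ => ?_)
  · simp
  · obtain ⟨e, J, he, hd⟩ := dim_split hrc hx (inv_iff_map_le.mpr (hinv l).le)
    rw [hD.finrank_eq] at hd
    rw [hd, Nat.add_mul_mod_self_right]
    exact (Nat.mod_le _ _).trans he

/-- A prime dividing the number of decompositions is not too large. -/
theorem order_le {p : ℕ} [Fact p.Prime] [CharP F p] {r : ℕ} (hr : r.Prime) (hrp : r ≠ p) (hn : 0 < n)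
    (ha : 1 ≤ a) (ht : 2 ≤ t) (hat : n = a * t)
    (hΩ : r ∣ Nat.card {D : Fin t → Submodule F V // Cfsg.Geo.IsMDecomposition a D} / Nat.factorial t) :
    orderOf (Fintype.card F : ZMod r) ≤ n := by
  classical
  set X := {D : Fin t → Submodule F V // Cfsg.Geo.IsMDecomposition a D}
  rcases isEmpty_or_nonempty X with hX | ⟨⟨D₀⟩⟩
  · exfalso
    haveI := Fact.mk hr
    -- the coordinate decomposition always exists
    let e : Fin n ≃ Fin t × Fin a := Fintype.equivOfCardEq (by simp [hat, mul_comm])
    obtain ⟨-, h1, h2, h3⟩ := of_family (F := F) ha ht (Pi.basisFun F (Fin n)) (Pi.basisFun F (Fin n)).span_eq.ge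
      (by simp) (fun i => (e i).1) (fun j => by
        rw [Fintype.card_congr (e.subtypeEquiv (q := fun p => p.1 = j) fun i => Iff.rfl)]
        rw [Fintype.card_congr (⟨fun p => p.1.2, fun l => ⟨(j, l), rfl⟩, fun ⟨⟨i, l⟩, hi⟩ => by subst hi; rfl,
          fun l => rfl⟩ : {p : Fin t × Fin a // p.1 = j} ≃ Fin a), Fintype.card_fin])
    exact hX.false ⟨_, ⟨ht, ha, h3, h1, h2⟩⟩
  haveI : Finite X := inferInstance
  -- permuting the summands acts freely
  letI : MulAction (Equiv.Perm (Fin t)) X :=
    { smul := fun σ D => ⟨fun l => D.1 (σ⁻¹ l), ⟨D.2.two_le, D.2.pos, fun l => D.2.finrank_eq _,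
        D.2.indep.comp (σ⁻¹ : Equiv.Perm (Fin t)).injective, by
          rw [show iSup (fun l => D.1 (σ⁻¹ l)) = iSup D.1 from (σ⁻¹ : Equiv.Perm (Fin t)).iSup_congr fun _ => rfl]
          exact D.2.iSup_eq_top⟩⟩
      one_smul := fun D => Subtype.ext rfl
      mul_smul := fun σ τ D => Subtype.ext (funext fun l => by
        show D.1 ((σ * τ)⁻¹ l) = D.1 (τ⁻¹ (σ⁻¹ l))
        rw [mul_inv_rev]
        rfl) }
  have hfact : Nat.factorial t ∣ Nat.card X := by
    haveI := Fintype.ofFinite X
    haveI := Fintype.ofFinite (MulAction.orbitRel.Quotient (Equiv.Perm (Fin t)) X)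
    rw [Nat.card_congr (MulAction.selfEquivSigmaOrbits (Equiv.Perm (Fin t)) X), Nat.card_sigma]
    refine Finset.dvd_sum fun ω _ => dvd_of_eq ?_
    have hinj : Function.Injective fun σ : Equiv.Perm (Fin t) => (⟨σ • ω.out, ⟨σ, rfl⟩⟩ : MulAction.orbit (Equiv.Perm (Fin t)) ω.out) := by
      intro σ τ e
      have e' : σ • ω.out = τ • ω.out := congrArg Subtype.val e
      refine inv_injective (Equiv.ext fun l => decomp_inj ω.out.2 ?_)
      exact congrFun (congrArg Subtype.val e') l
    rw [← Nat.card_congr (Equiv.ofBijective _ ⟨hinj, fun ⟨D, σ, hD⟩ => ⟨σ, Subtype.ext hD⟩⟩), Nat.card_perm, Nat.card_fin]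
  have hcard : r ∣ Nat.card X := hΩ.trans (Nat.div_dvd_of_dvd hfact)
  -- the linear group is transitive
  letI : MulAction (V ≃ₗ[F] V) X :=
    { smul := fun g D => ⟨fun l => (D.1 l).map g.toLinearMap, ⟨D.2.two_le, D.2.pos,
        fun l => (LinearEquiv.finrank_map_eq g _).trans (D.2.finrank_eq l),
        D.2.indep.map_orderIso (Submodule.orderIsoMapComap g), by
          rw [← Submodule.map_iSup, D.2.iSup_eq_top, Submodule.map_top, LinearEquiv.range]⟩⟩
      one_smul := fun D => Subtype.ext (funext fun l => Submodule.map_id _)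
      mul_smul := fun g g' D => Subtype.ext (funext fun l => Submodule.map_comp _ _ _) }
  haveI : Finite (V ≃ₗ[F] V) := Finite.of_injective (fun g => (g : V → V)) DFunLike.coe_injective
  haveI : MulAction.IsPretransitive (V ≃ₗ[F] V) X := ⟨fun D E => by
    let eD := LinearEquiv.ofBijective (Φ D.1) (Φ_bijective hat D.2)
    let eE := LinearEquiv.ofBijective (Φ E.1) (Φ_bijective hat E.2)
    let m : (∀ l, D.1 l) ≃ₗ[F] (∀ l, E.1 l) := LinearEquiv.piCongrRight fun l =>
      LinearEquiv.ofFinrankEq _ _ ((D.2.finrank_eq l).trans (E.2.finrank_eq l).symm)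
    refine ⟨eD.symm ≪≫ₗ m ≪≫ₗ eE, Subtype.ext (funext fun l => eq_of_le_of_finrank_eq ?_ ?_)⟩
    · rintro _ ⟨v, hv, rfl⟩
      have h1 : eD.symm v = Pi.single l ⟨v, hv⟩ := by
        rw [LinearEquiv.symm_apply_eq]
        show v = Φ D.1 _
        rw [Φ_apply, Finset.sum_eq_single l]
        · simp
        · intro k _ hk
          simp [hk]
        · simp
      show Φ E.1 (m (eD.symm v)) ∈ E.1 l
      rw [h1, Φ_apply]
      refine sum_mem fun k _ => ?_
      by_cases hk : k = l
      · subst hk
        exact SetLike.coe_mem _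
      · have h2 : ∀ u : ∀ i, D.1 i, u k = 0 → m u k = 0 := fun u hu => by
          show LinearEquiv.ofFinrankEq (D.1 k) (E.1 k) _ (u k) = 0
          rw [hu, map_zero]
        rw [h2 _ (Pi.single_eq_of_ne hk _)]
        exact zero_mem _
    · exact (LinearEquiv.finrank_map_eq _ _).trans ((D.2.finrank_eq l).trans (E.2.finrank_eq l).symm)⟩
  have hGL : Nat.card X ∣ ∏ i : Fin n, (Fintype.card F ^ n - Fintype.card F ^ (i : ℕ)) := by
    rw [← Matrix.card_GL_field, ← MulAction.index_stabilizer_of_transitive (V ≃ₗ[F] V) D₀]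
    refine (Subgroup.index_dvd_card _).trans (dvd_of_eq (Nat.card_congr ?_))
    exact ((LinearMap.GeneralLinearGroup.generalLinearEquiv F V).symm.trans
      (Matrix.GeneralLinearGroup.toLin (R := F) (n := Fin n)).symm).toEquiv
  obtain ⟨i, -, hi⟩ := (Prime.dvd_finsetProd_iff hr.prime _).mp (hcard.trans hGL)
  have he : Fintype.card F ^ n - Fintype.card F ^ (i : ℕ) =
      Fintype.card F ^ (i : ℕ) * (Fintype.card F ^ (n - (i : ℕ)) - 1) := by
    rw [Nat.mul_sub_one, ← pow_add, Nat.add_sub_cancel' i.2.le]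
  rw [he] at hi
  have h1 := (hr.dvd_mul.mp hi).resolve_left fun hd => not_dvd_card hr hrp (hr.dvd_of_dvd_pow hd)
  exact (Nat.le_of_dvd (by have := i.2; omega) ((dvd_pow_sub_one _).mp h1)).trans (Nat.sub_le _ _)

end Decomp

section Main

variable {F : Type u} [Field F] [Fintype F] {n : ℕ}

local notation "V" => (Fin n → F)
local notation "M" => Matrix (Fin n) (Fin n) F

theorem toLin'_injective (x : Matrix.SpecialLinearGroup (Fin n) F) : Function.Injective (Matrix.toLin' (x : M)) :=
  fun v w h => by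
    have := congrArg (Matrix.mulVec ((x⁻¹ : Matrix.SpecialLinearGroup (Fin n) F) : M)) h
    simp only [Matrix.toLin'_apply, Matrix.mulVec_mulVec, ← Matrix.SpecialLinearGroup.coe_mul, inv_mul_cancel,
      Matrix.SpecialLinearGroup.coe_one, Matrix.one_mulVec] at this
    exact this

/-- The good direction, lines. -/
theorem lines {r : ℕ} [Fact r.Prime] (hrc : (r : F) ≠ 0) (hrF : ¬ r ∣ Fintype.card F) (ht : 2 ≤ n)
    (hc : orderOf (Fintype.card F : ZMod r) = r - 1) (hk : n ≤ (n % orderOf (Fintype.card F : ZMod r)) * r)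
    (y : Module.End F V) (hy : y ^ r = 1) (hinj : Function.Injective y) :
    ∃ D : Fin n → Submodule F V, Cfsg.Geo.IsMDecomposition 1 D ∧
      ∃ σ : Equiv.Perm (Fin n), ∀ j, (D j).map y = D (σ j) := by
  classical
  have hr : r.Prime := Fact.out
  haveI : NeZero r := ⟨hr.ne_zero⟩
  set c := orderOf (Fintype.card F : ZMod r) with hcdef
  have hc0 : 0 < c := ord_pos hrF
  have hy' : y ^ r = (1 : F) • 1 := by rw [hy, one_smul]
  have hcompl := isCompl_fix_mov hrc hy
  obtain ⟨m, u, hm, hu, hspan⟩ := orbit_gens (semisimple hrc one_ne_zero hy') hr.pos hy' hc0 (mov y) (fun U hUS hU hU0 hmin =>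
    le_antisymm (minimal_le hr hc0.ne' ((dvd_pow_sub_one _).mpr dvd_rfl) hy hU hU0 hmin)
      (Nat.le_of_dvd (Nat.pos_of_ne_zero fun e => hU0 (finrank_eq_zero.mp e)) (dvd_of_fpf hy hU (by
        rw [eq_bot_iff]
        rintro w ⟨hw, hwf⟩
        exact hcompl.disjoint.le_bot ⟨hwf, hUS hw⟩)))) _ (mov y) rfl le_rfl (inv_mov y)
  have hdim := finrank_add_eq_of_isCompl hcompl
  rw [Module.finrank_fintype_fun_eq_card, Fintype.card_fin, ← hm] at hdim
  set f := Module.finrank F (fix y)
  have hkf : n % c ≤ f := by rw [← hdim, Nat.add_mul_mod_self_right]; exact Nat.mod_le _ _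
  have hmf : m ≤ f := by
    refine le_trans ?_ hkf
    by_contra hlt
    have h1 : (n % c + 1) * c ≤ m * c := Nat.mul_le_mul_right c (by omega)
    have h2 : n % c * r = n % c * c + n % c := by
      rw [show r = c + 1 by have := hr.pos; omega, Nat.mul_succ]
    rw [add_mul, one_mul] at h1
    omega
  obtain ⟨l, hl⟩ : ∃ l, f = m + l := ⟨f - m, by omega⟩
  let β : Module.Basis (Fin m ⊕ Fin l) F (fix y) :=
    (Module.finBasisOfFinrankEq F (fix y) (hl : f = m + l)).reindex finSumFinEquiv.symm
  let b : (Fin m × Fin r) ⊕ Fin l → V := Sum.elim (fun p => (β (Sum.inl p.1) : V) + (y ^ (p.2 : ℕ)) (u p.1))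
    (fun j => (β (Sum.inr j) : V))
  have hsum : ∀ i, (∑ j : Fin r, (y ^ (j : ℕ)) (u i)) = 0 := fun i => by
    refine Submodule.disjoint_def.mp hcompl.disjoint _ ?_ (sum_mem fun j _ => ?_)
    · have hmul := geom_sum_mul y r
      rw [hy, sub_self] at hmul
      rw [mem_fix, ← Fin.sum_univ_eq_sum_range (fun j => y ^ j) r] at *
      have := congrArg (fun g : Module.End F V => g (u i)) hmul
      simp only [mul_sub, mul_one, LinearMap.sub_apply, Module.End.mul_apply, LinearMap.zero_apply, LinearMap.sum_apply,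
        sub_eq_zero] at this
      rw [map_sum]
      rw [← this]
      refine Finset.sum_congr rfl fun j _ => ?_
      rw [← Module.End.mul_apply, ← Module.End.mul_apply, ← pow_succ, ← pow_succ']
    · induction (j : ℕ) with
      | zero => simpa using hu i
      | succ k ih => rw [pow_succ', Module.End.mul_apply]; exact inv_mov y _ ih
  have hfmem : ∀ i, (β (Sum.inl i) : V) ∈ span F (Set.range b) := fun i => by
    have h1 : (∑ j : Fin r, b (Sum.inl (i, j))) ∈ span F (Set.range b) := sum_mem fun j _ => subset_span ⟨_, rfl⟩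
    rw [show (∑ j : Fin r, b (Sum.inl (i, j))) = (r : F) • (β (Sum.inl i) : V) by
      simp only [b, Sum.elim_inl, Finset.sum_add_distrib, hsum, add_zero, Finset.sum_const, Finset.card_univ,
        Fintype.card_fin, Nat.cast_smul_eq_nsmul]] at h1
    simpa [smul_smul, inv_mul_cancel₀ hrc] using smul_mem _ (r : F)⁻¹ h1
  have hb : ⊤ ≤ span F (Set.range b) := by
    rw [← hcompl.sup_eq_top, sup_le_iff]
    refine ⟨?_, hspan.trans (span_le.mpr ?_)⟩
    · have hβ : fix y = span F (Set.range fun z => (β z : V)) := by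
        rw [show (fun z => (β z : V)) = (fix y).subtype ∘ β from rfl, Set.range_comp, span_image, β.span_eq, Submodule.map_top,
          range_subtype]
      refine hβ.trans_le (span_le.mpr ?_)
      rintro _ ⟨z | z, rfl⟩
      · exact hfmem z
      · exact subset_span ⟨Sum.inr z, rfl⟩
    · rintro _ ⟨⟨i, j⟩, rfl⟩
      have := sub_mem (subset_span ⟨Sum.inl (i, j), rfl⟩ : b (Sum.inl (i, j)) ∈ span F (Set.range b)) (hfmem i)
      simpa [b] using this
  have hcard : Fintype.card ((Fin m × Fin r) ⊕ Fin l) = n := by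
    simp only [Fintype.card_sum, Fintype.card_prod, Fintype.card_fin]
    rw [show r = c + 1 by have := hr.pos; omega, Nat.mul_succ]
    omega
  let g := Fintype.equivFinOfCardEq hcard
  obtain ⟨-, h1, h2, h3⟩ := of_family (F := F) one_pos ht b hb (by rw [hcard, Module.finrank_fintype_fun_eq_card, Fintype.card_fin]) g
    (fun j => by
      rw [Fintype.card_eq_one_iff]
      exact ⟨⟨g.symm j, g.apply_symm_apply j⟩, fun z => Subtype.ext (g.injective (z.2.trans (g.apply_symm_apply j).symm))⟩)
  let π : Equiv.Perm ((Fin m × Fin r) ⊕ Fin l) :=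
    Equiv.sumCongr (Equiv.prodCongr (Equiv.refl _) (Equiv.addRight 1)) (Equiv.refl _)
  refine ⟨_, ⟨ht, one_pos, h3, h1, h2⟩, g.permCongr π, map_family b g h3 hinj _ fun i => ?_⟩
  refine subset_span ⟨π i, by simp [Equiv.permCongr_apply], ?_⟩
  rcases i with ⟨i, j⟩ | j
  · simp only [π, Equiv.sumCongr_apply, Sum.map_inl, Equiv.prodCongr_apply, Prod.map, Equiv.refl_apply,
      Equiv.coe_addRight, b, Sum.elim_inl, map_add, mem_fix.mp (β (Sum.inl i)).2, ← Module.End.mul_apply, ← pow_succ']
    congr 2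
    rw [Fin.val_add]
    conv_rhs => rw [← Nat.mod_add_div ((j : ℕ) + 1) r, pow_add, pow_mul, hy, one_pow, mul_one]
    rcases r with _ | _ | r
    · exact absurd rfl hr.ne_zero
    · exact absurd rfl hr.ne_one
    · simp
  · simp [π, b, mem_fix.mp (β (Sum.inr j)).2]

/-- The good direction, a scalar without root. -/
theorem nonpower {r : ℕ} [Fact r.Prime] (hrc : (r : F) ≠ 0) (a t : ℕ) (ha : 0 < a) (ht : 2 ≤ t) (hat : n = a * t)
    {z : F} (hz : z ≠ 0) (hnp : ∀ b : F, b ^ r ≠ z) (x : Module.End F V) (hx : x ^ r = z • 1)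
    (hinj : Function.Injective x) :
    ∃ D : Fin t → Submodule F V, Cfsg.Geo.IsMDecomposition a D ∧
      ∃ σ : Equiv.Perm (Fin t), ∀ j, (D j).map x = D (σ j) := by
  classical
  have hr : r.Prime := Fact.out
  haveI : NeZero r := ⟨hr.ne_zero⟩
  obtain ⟨s, u, hs, -, hspan⟩ := orbit_gens (semisimple hrc hz hx) hr.pos hx hr.pos (⊤ : Submodule F V)
    (fun U _ hU hU0 hmin => by
      obtain ⟨w, hw, hw0⟩ := U.exists_mem_ne_zero_of_ne_bot hU0
      have hspan : span F (Set.range fun j : Fin r => (x ^ (j : ℕ)) w) = U := by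
        refine hmin _ (span_le.mpr ?_) (inv_orbit hr.pos hx w) ?_
        · rintro _ ⟨j, rfl⟩
          show (x ^ (j : ℕ)) w ∈ U
          induction (j : ℕ) with
          | zero => simpa using hw
          | succ i ih => rw [pow_succ', Module.End.mul_apply]; exact hU _ ih
        · intro e
          exact hw0 ((Submodule.mem_bot F).mp (e ▸ subset_span ⟨⟨0, hr.pos⟩, by simp⟩))
      refine le_antisymm ?_ (Nat.le_of_dvd (Nat.pos_of_ne_zero fun e => hU0 (finrank_eq_zero.mp e))
        (dvd_of_nonpower hr hz hx hnp hU))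
      rw [← hspan]
      exact (finrank_range_le_card _).trans (Fintype.card_fin r).le) _ ⊤ rfl le_rfl (fun _ _ => mem_top)
  rw [finrank_top, Module.finrank_fintype_fun_eq_card, Fintype.card_fin] at hs
  let b : Fin s × Fin r → V := fun p => (x ^ (p.2 : ℕ)) (u p.1)
  have hcard : Fintype.card (Fin s × Fin r) = Module.finrank F V := by simp [hs]
  have hxb : ∀ i j, ∃ μ : F, x (b (i, j)) = μ • b (i, j + 1) := fun i j => by
    simp only [b, ← Module.End.mul_apply, ← pow_succ']
    rcases Nat.lt_or_ge ((j : ℕ) + 1) r with h | h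
    · refine ⟨1, ?_⟩
      rw [one_smul, Fin.val_add_one_of_lt' h]
    · refine ⟨z, ?_⟩
      have e : ((j + 1 : Fin r) : ℕ) = 0 := by
        rw [Fin.val_add, Fin.val_one', Nat.add_mod_mod, show (j : ℕ) + 1 = r by omega, Nat.mod_self]
      rw [e, show (j : ℕ) + 1 = r by omega, hx, pow_zero]
      rfl
  rcases (hr.dvd_mul.mp (by rw [← hat, ← hs]; exact dvd_mul_left r s) : r ∣ a ∨ r ∣ t) with hra | hrt
  · obtain ⟨a', rfl⟩ := hra
    have hst : s = t * a' := Nat.eq_of_mul_eq_mul_right hr.pos (by rw [hs, hat]; ring)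
    let e : Fin s ≃ Fin t × Fin a' := (finCongr hst).trans finProdFinEquiv.symm
    let g : Fin s × Fin r → Fin t := fun p => (e p.1).1
    obtain ⟨-, h1, h2, h3⟩ := of_family (F := F) ha ht b hspan hcard g fun j => by
      rw [Fintype.card_congr (⟨fun p => ((e p.1.1).2, p.1.2), fun l => ⟨(e.symm (j, l.1), l.2), by simp [g]⟩,
        fun ⟨⟨i, l⟩, hi⟩ => Subtype.ext (Prod.ext (e.injective (by simp [g] at hi; simp [← hi])) rfl),
        fun l => by simp⟩ : {p : Fin s × Fin r // g p = j} ≃ Fin a' × Fin r)]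
      simp [mul_comm]
    refine ⟨_, ⟨ht, ha, h3, h1, h2⟩, 1, map_family b g h3 hinj 1 ?_⟩
    rintro ⟨i, j⟩
    obtain ⟨μ, hμ⟩ := hxb i j
    rw [hμ]
    exact smul_mem _ _ (subset_span ⟨(i, j + 1), rfl, rfl⟩)
  · obtain ⟨t', rfl⟩ := hrt
    have hst : s = t' * a := Nat.eq_of_mul_eq_mul_right hr.pos (by rw [hs, hat]; ring)
    let e : Fin s ≃ Fin t' × Fin a := (finCongr hst).trans finProdFinEquiv.symm
    let e' : Fin t' × Fin r ≃ Fin (r * t') := Fintype.equivFinOfCardEq (by simp [mul_comm])
    let g : Fin s × Fin r → Fin (r * t') := fun p => e' ((e p.1).1, p.2)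
    obtain ⟨-, h1, h2, h3⟩ := of_family (F := F) ha ht b hspan hcard g fun j => by
      rw [Fintype.card_congr (⟨fun p => (e p.1.1).2, fun l => ⟨(e.symm ((e'.symm j).1, l), (e'.symm j).2), by simp [g]⟩,
        fun ⟨⟨i, l⟩, hi⟩ => by subst hi; simp [g],
        fun l => by simp⟩ : {p : Fin s × Fin r // g p = j} ≃ Fin a)]
      simp
    refine ⟨_, ⟨ht, ha, h3, h1, h2⟩, e'.permCongr (Equiv.prodCongr (Equiv.refl _) (Equiv.addRight 1)),
      map_family b g h3 hinj _ ?_⟩
    rintro ⟨i, j⟩
    obtain ⟨μ, hμ⟩ := hxb i j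
    rw [hμ]
    exact smul_mem _ _ (subset_span ⟨(i, j + 1), by simp [g, Equiv.permCongr_apply], rfl⟩)

theorem main {p : ℕ} [Fact p.Prime] [CharP F p] (a t : ℕ) (hn : 2 ≤ n) (hat : n = a * t) (ha : 1 ≤ a) (ht : 2 ≤ t)
    (r : ℕ) [Fact r.Prime] (hr2 : r ≠ 2) (hrp : r ≠ p)
    (hΩ : r ∣ Nat.card {D : Fin t → Submodule F V // Cfsg.Geo.IsMDecomposition a D} / Nat.factorial t) :
    (∀ x : Matrix.SpecialLinearGroup (Fin n) F,
      (∃ z : F, ((x ^ r : Matrix.SpecialLinearGroup (Fin n) F) : M) = z • (1 : M)) →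
      (∀ z : F, (x : M) ≠ z • (1 : M)) →
      ∃ D : Fin t → Submodule F V, Cfsg.Geo.IsMDecomposition a D ∧
        ∃ σ : Equiv.Perm (Fin t), ∀ j, (D j).map (Matrix.toLin' (x : M)) = D (σ j)) ↔
    ((a = 1 ∧ 1 < orderOf (Fintype.card F : ZMod r) ∧ orderOf (Fintype.card F : ZMod r) = r - 1 ∧
        n ≤ (n % orderOf (Fintype.card F : ZMod r)) * r) ∨
      (orderOf (Fintype.card F : ZMod r) ≤ a ∧
        n % orderOf (Fintype.card F : ZMod r) = t * (a % orderOf (Fintype.card F : ZMod r)))) := by
  classical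
  have hr : r.Prime := Fact.out
  have hrc : (r : F) ≠ 0 := cast_ne_zero hr hrp
  have hrF := not_dvd_card (F := F) hr hrp
  set c := orderOf (Fintype.card F : ZMod r) with hcdef
  have hc0 : 0 < c := ord_pos hrF
  have hcn : c ≤ n := order_le (p := p) hr hrp (by omega) ha ht hat hΩ
  have hdim : Module.finrank F V = n := by rw [Module.finrank_fintype_fun_eq_card, Fintype.card_fin]
  have hnd : 2 ≤ c → ¬ r ∣ Fintype.card F - 1 := fun h hd => by
    rw [← pow_one (Fintype.card F), dvd_pow_sub_one, ← hcdef, Nat.dvd_one] at hd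
    omega
  have hcr : c ≤ r - 1 := Nat.le_of_dvd (by have := hr.two_le; omega) (orderOf_dvd_iff_pow_eq_one.mpr
    (ZMod.pow_card_sub_one_eq_one fun e => hrF ((ZMod.natCast_eq_zero_iff _ _).mp e)))
  constructor
  · intro hall
    rcases Nat.lt_or_ge a c with hca | hca
    · have hc2 : 2 ≤ c := by omega
      obtain ⟨x, hxr, hns, hxf⟩ := SimDerange.exists_block (n := n) hrc hrF hcdef hc2 hcn
      obtain ⟨D, hD, σ, hσ⟩ := hall x (mk_elt x (c := (1 : F)) (by rw [hxr, one_smul])) hns
      have hT : Matrix.toLin' (x : M) ^ r = 1 := by rw [toLin'_pow_eq, hxr, Matrix.toLin'_one]; rfl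
      obtain ⟨j, hj⟩ : ∃ j, σ j ≠ j := by
        by_contra hall'
        push Not at hall'
        have h1 : ∀ j, D j ≤ fix (Matrix.toLin' (x : M)) := fun j => by
          obtain ⟨e, J, he, hd⟩ := dim_split hrc hT (inv_iff_map_le.mpr (by rw [hσ j, hall' j]))
          rw [hD.finrank_eq, ← hcdef] at hd
          rcases Nat.eq_zero_or_pos J with rfl | hJ
          · have := eq_of_le_of_finrank_le (inf_le_right : fix (Matrix.toLin' (x : M)) ⊓ D j ≤ D j) (by rw [hD.finrank_eq]; omega)
            exact this ▸ inf_le_left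
          · have : c ≤ J * c := Nat.le_mul_of_pos_left c hJ
            omega
        have h2 : fix (Matrix.toLin' (x : M)) = ⊤ := top_le_iff.mp (hD.iSup_eq_top.ge.trans (iSup_le h1))
        rw [h2, finrank_top, hdim] at hxf
        omega
      have h1 := mov_bound hD hσ hT hj
      have h2 := finrank_add_eq_of_isCompl (isCompl_fix_mov hrc hT)
      rw [hdim, hxf] at h2
      have ha1 : a = 1 := by
        by_contra hne
        have : (r - 1) * 2 ≤ (r - 1) * a := Nat.mul_le_mul_left _ (by omega)
        have := hr.two_le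
        omega
      have hcr' : c = r - 1 := by
        rw [ha1, mul_one] at h1
        omega
      obtain ⟨X, hd, hX, hXs, hXk⟩ := exists_example (F := F) (n := n) hrc hrF hc2 hcn
      obtain ⟨D', hD', σ', hσ'⟩ := hall ⟨X, hd⟩ (mk_elt ⟨X, hd⟩ (c := (1 : F)) (by rw [hX, one_smul])) hXs
      have h3 := line_bound hat ha1 hD' hσ' hrc (hnd hc2) (by rw [toLin'_pow_eq, hX, Matrix.toLin'_one]; rfl)
      refine Or.inl ⟨ha1, by omega, hcr', ?_⟩
      have h4 : n = t := by rw [hat, ha1, one_mul]
      calc n = t := h4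
        _ ≤ _ := h3
        _ ≤ r * (n % c) := Nat.mul_le_mul_left r hXk
        _ = _ := mul_comm _ _
    · refine Or.inr ⟨hca, ?_⟩
      rcases Nat.lt_or_ge c 2 with h | h
      · rw [show c = 1 by omega]
        simp [Nat.mod_one]
      · obtain ⟨X, hd, hX, hXs, hXk⟩ := exists_example (F := F) (n := n) hrc hrF h hcn
        obtain ⟨D, hD, σ, hσ⟩ := hall ⟨X, hd⟩ (mk_elt ⟨X, hd⟩ (c := (1 : F)) (by rw [hX, one_smul])) hXs
        have hT : Matrix.toLin' X ^ r = 1 := by rw [toLin'_pow_eq, hX, Matrix.toLin'_one]; rfl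
        have hk : n % c < c := Nat.mod_lt _ hc0
        have hinv : ∀ j, (D j).map (Matrix.toLin' X) = D j := fun j => by
          by_cases hj : σ j = j
          · exact (hσ j).trans (by rw [hj])
          · have : a ≤ Module.finrank F (fix (Matrix.toLin' X)) := fix_bound hD hσ hT hj
            rw [← hcdef] at hXk
            omega
        have h1 := fix_split hD hrc hT hinv
        rw [← hcdef] at h1 hXk
        refine le_antisymm ?_ (h1.trans hXk)
        rw [hat, mul_comm a t, Nat.mul_mod]
        exact (Nat.mod_le _ _).trans (Nat.mul_le_mul_right _ (Nat.mod_le _ _))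
  · intro hR x hx hns
    obtain ⟨z, hz, hxr, -⟩ := data hr (by omega) x hx
    have hinj := toLin'_injective x
    by_cases hpow : ∃ b : F, b ^ r = z
    · obtain ⟨b, hb⟩ := hpow
      obtain ⟨hy, hb'⟩ := normalise hz hb hr.ne_zero hxr
      have hyinj : Function.Injective (b⁻¹ • Matrix.toLin' (x : M)) := fun v w h => hinj (smul_right_injective _ hb' h)
      have hmap : ∀ S : Submodule F V, S.map (b⁻¹ • Matrix.toLin' (x : M)) = S.map (Matrix.toLin' (x : M)) := fun S =>
        Submodule.map_smul _ _ _ hb'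
      rcases hR with ⟨rfl, hc1, hc2, hk⟩ | ⟨hca, hk⟩
      · obtain rfl : n = t := by rw [hat, one_mul]
        obtain ⟨D, hD, σ, hσ⟩ := lines hrc hrF hn hc2 hk _ hy hyinj
        exact ⟨D, hD, σ, fun j => (hmap _).symm.trans (hσ j)⟩
      · obtain ⟨v, hv, hvi⟩ := split_power hrc hrF hy a t ⊤ (fun _ _ => mem_top) (by rw [finrank_top, hdim, hat])
          (by rw [← hcdef, ← hk]; exact Nat.mod_lt _ hc0)
        obtain ⟨-, h1, h2, h3⟩ := of_family (F := F) (by omega : 0 < a) ht v hv (by simp [hat, mul_comm]) Prod.fst fun j => by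
          rw [Fintype.card_congr (⟨fun p => p.1.2, fun l => ⟨(j, l), rfl⟩, fun ⟨⟨i, l⟩, hi⟩ => by subst hi; rfl,
            fun l => rfl⟩ : {p : Fin t × Fin a // p.1 = j} ≃ Fin a), Fintype.card_fin]
        refine ⟨_, ⟨ht, by omega, h3, h1, h2⟩, 1, fun j => (hmap _).symm.trans (map_family v Prod.fst h3 hyinj 1 ?_ j)⟩
        rintro ⟨i, l⟩
        refine span_mono ?_ (hvi (i, l))
        rintro _ ⟨l', rfl⟩
        exact ⟨(i, l'), rfl, rfl⟩
    · push Not at hpow
      exact nonpower hrc a t (by omega) ht hat hz hpow _ hxr hinj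

end Main

end Cfsg.Lib.Classical.OddImprim
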