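import Mathlib
import Cfsg.Prelude.Def_GeometricClasses
import Cfsg.Agent.Classical.SL
import Cfsg.Agent.Classical.Orth.Orders
import Cfsg.Agent.Classical.Orth.FamilyOvergroups
import Cfsg.Agent.Known.FormIndex
import Cfsg.Agent.Classical.Misc.InvolutionForms
import Cfsg.Agent.Classical.Misc.OddImprimitive
import Cfsg.Agent.Classical.Misc.SimilitudeDerangement

/-! Elements of prime order of `SL_n(q)`, `q` odd, and similitudes of a quadratic form. -/

set_option autoImplicit false
set_option linter.unusedSimpArgs false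
set_option linter.unusedSectionVars false
set_option linter.unusedVariables false
set_option linter.style.haveILetI false
set_option linter.flexible false

namespace Cfsg.Lib.Classical.QuadSim

open Submodule QuadraticMap PrimeOrd Cfsg.Lib.FormNormal

universe u

variable {F : Type u} [Field F]

/-- Weights of a pairing matrix: a value and its partner occur equally often. -/
theorem card_partner {κ : Type} [Fintype κ] [DecidableEq κ] [DecidableEq F] (G : Matrix κ κ F) (hG : G.det ≠ 0)
    (d d' : κ → F) {μ l : F} (hl : l ≠ 0) (hrel : ∀ i j, G i j ≠ 0 → d i * d' j = μ) :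
    Fintype.card {i // d i = l} ≤ Fintype.card {j // d' j = μ / l} := by
  classical
  let E : ({i // d i = l} → F) →ₗ[F] (κ → F) :=
    { toFun := fun u a => if h : d a = l then u ⟨a, h⟩ else 0
      map_add' := fun u v => by funext a; by_cases h : d a = l <;> simp [h]
      map_smul' := fun c u => by funext a; by_cases h : d a = l <;> simp [h] }
  let L : ({i // d i = l} → F) →ₗ[F] ({j // d' j = μ / l} → F) :=
    (LinearMap.funLeft F F Subtype.val).comp ((Matrix.vecMulLinear G).comp E)
  have hinj : Function.Injective L := by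
    rw [← LinearMap.ker_eq_bot, eq_bot_iff]
    intro u hu
    rw [LinearMap.mem_ker] at hu
    have h0 : Matrix.vecMul (E u) G = 0 := by
      funext j
      by_cases hj : d' j = μ / l
      · exact congrFun hu ⟨j, hj⟩
      · refine Finset.sum_eq_zero fun i _ => ?_
        by_cases hi : d i = l
        · by_cases hGi : G i j = 0
          · show E u i * G i j = 0
            rw [hGi, mul_zero]
          · refine absurd ?_ hj
            rw [eq_div_iff hl, mul_comm, ← hi]
            exact hrel i j hGi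
        · show E u i * G i j = 0
          simp [E, hi]
    have h1 : E u = 0 := Matrix.eq_zero_of_vecMul_eq_zero hG h0
    refine (Submodule.mem_bot F).mpr (funext fun i => ?_)
    simpa [E, i.2] using congrFun h1 i.1
  simpa using LinearMap.finrank_le_finrank_of_injective hinj

variable [Fintype F] {n : ℕ}

local notation "V" => (Fin n → F)
local notation "M" => Matrix (Fin n) (Fin n) F

theorem det_mem_SL {x : GL (Fin n) F} : x ∈ Cfsg.Geo.specialLinear (Fin n) F ↔ (x : M).det = 1 := by
  show Matrix.GeneralLinearGroup.det x = 1 ↔ _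
  rw [Units.ext_iff]
  rfl

/-- A conjugate among the similitudes gives an invariant bilinear form. -/
theorem transfer (Q : QuadraticForm F V) (hQ : (polarBilin Q).Nondegenerate) (x s : GL (Fin n) F)
    (h : s⁻¹ * x * s ∈ Cfsg.Geo.quadSimilarityGroup (⇑Q)) :
    ∃ (P : QuadraticForm F V) (μ : F), μ ≠ 0 ∧ (polarBilin P).Nondegenerate ∧
      (∀ v, P ((x : M).mulVec v) = μ * P v) ∧ Nat.card {v // P v = 0} = Nat.card {v // Q v = 0} := by
  classical
  obtain ⟨c, hc⟩ := h
  let Si : V →ₗ[F] V := Matrix.toLin' ((s⁻¹ : GL (Fin n) F) : M)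
  let e : V ≃ₗ[F] V := LinearEquiv.ofLinearMap Si (Matrix.toLin' (s : M))
    (by rw [← Matrix.toLin'_mul, ← Units.val_mul, inv_mul_cancel, Units.val_one, Matrix.toLin'_one])
    (by rw [← Matrix.toLin'_mul, ← Units.val_mul, mul_inv_cancel, Units.val_one, Matrix.toLin'_one])
  refine ⟨Q.comp Si, c, c.ne_zero, ?_, fun v => ?_, Nat.card_congr (e.toEquiv.subtypeEquiv fun v => Iff.rfl)⟩
  · have key : ∀ u, (∀ v, polar (⇑(Q.comp Si)) u v = 0) → u = 0 := fun u hu => e.injective (by
      rw [map_zero]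
      refine hQ.1 _ fun v => ?_
      obtain ⟨v, rfl⟩ := e.surjective v
      have := hu v
      simp only [polar, QuadraticMap.comp_apply, map_add] at this
      exact this)
    exact ⟨key, fun u hu => key u fun v => (polar_comm _ u v).trans (hu v)⟩
  · have := hc (Si v)
    simp only [Si, Matrix.toLin'_apply, Matrix.mulVec_mulVec] at this
    rw [← Units.val_mul, mul_inv_cancel_right, Units.val_mul] at this
    simpa [Si, QuadraticMap.comp_apply, Matrix.mulVec_mulVec] using this

theorem exists_value (Q : QuadraticForm F V) (hQ : (polarBilin Q).Nondegenerate) (hn : 0 < n) : ∃ v, Q v ≠ 0 := by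
  by_contra h
  push Not at h
  have hz : (fun _ : Fin n => (1 : F)) = 0 := hQ.1 _ fun v => by
    show polar (⇑Q) _ v = 0
    simp [polar, h]
  exact one_ne_zero (congrFun hz ⟨0, hn⟩)

/-- The multiplier of an element of order `r`. -/
theorem mult_pow (P : QuadraticForm F V) (hP : (polarBilin P).Nondegenerate) (hn : 0 < n) (X : M) {μ : F} {r : ℕ}
    (hX : ∀ v, P (X.mulVec v) = μ * P v) (hXr : X ^ r = 1) : μ ^ r = 1 := by
  obtain ⟨v, hv⟩ := exists_value P hP hn
  have hj : ∀ j : ℕ, ∀ v, P ((X ^ j).mulVec v) = μ ^ j * P v := by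
    intro j
    induction j with
    | zero => simp
    | succ j ih => intro v; rw [pow_succ', ← Matrix.mulVec_mulVec, hX, ih, pow_succ']; ring
  have := hj r v
  rw [hXr, Matrix.one_mulVec] at this
  exact mul_right_cancel₀ hv (by rw [one_mul]; exact this.symm)

theorem polar_sim (P : QuadraticForm F V) (X : M) {μ : F} (hX : ∀ v, P (X.mulVec v) = μ * P v) (u v : V) :
    polar (⇑P) (X.mulVec u) (X.mulVec v) = μ * polar (⇑P) u v := by
  rw [polar, polar, ← Matrix.mulVec_add, hX, hX, hX]
  ring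

/-- The element as a member of the general linear group. -/
theorem mk (X : M) (hd : X.det = 1) {r : ℕ} {z : F} (hXr : X ^ r = z • 1) (hns : ∀ a : F, X ≠ a • 1) :
    ∃ x ∈ Cfsg.Geo.specialLinear (Fin n) F, (x : M) = X ∧
      (∃ z : F, ((x ^ r : GL (Fin n) F) : M) = z • (1 : M)) ∧ ∀ a : F, (x : M) ≠ a • (1 : M) := by
  let S : Matrix.SpecialLinearGroup (Fin n) F := ⟨X, hd⟩
  exact ⟨Matrix.SpecialLinearGroup.toGL S, det_mem_SL.mpr hd, rfl, ⟨z, by
    rw [Units.val_pow_eq_pow_val]; exact hXr⟩, hns⟩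

/-- Diagonal elements with two distinguished multiplicities. -/
theorem diag_bad (Q : QuadraticForm F V) (hQ : (polarBilin Q).Nondegenerate) (hn : 0 < n) {r : ℕ} (hr : r.Prime)
    (hr2 : r ≠ 2) (b A B C : F) (hb : b ≠ 0) (hA : A ^ r = 1) (hB : B ^ r = 1) (hC : C ^ r = 1) {k₁ k₂ k₃ : ℕ}
    (hsum : k₁ + k₂ + k₃ = n) (h1 : 0 < k₁) (h2 : 0 < k₂) (h12 : k₁ ≠ k₂) (h13 : k₁ ≠ k₃) (h23 : k₂ ≠ k₃)
    (hAB : A ≠ B) (hC' : k₃ = 0 ∨ (C ≠ A ∧ C ≠ B)) (hdet : b ^ n * (A ^ k₁ * B ^ k₂ * C ^ k₃) = 1) :
    ∃ x ∈ Cfsg.Geo.specialLinear (Fin n) F, (∃ z : F, ((x ^ r : GL (Fin n) F) : M) = z • (1 : M)) ∧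
      (∀ a : F, (x : M) ≠ a • (1 : M)) ∧ ∀ s : GL (Fin n) F, s⁻¹ * x * s ∉ Cfsg.Geo.quadSimilarityGroup (⇑Q) := by
  classical
  let e : (Fin k₁ ⊕ Fin k₂) ⊕ Fin k₃ ≃ Fin n := Fintype.equivFinOfCardEq (by simp [hsum])
  let d' : (Fin k₁ ⊕ Fin k₂) ⊕ Fin k₃ → F := Sum.elim (Sum.elim (fun _ => A) fun _ => B) fun _ => C
  let d : Fin n → F := d' ∘ e.symm
  have hd : ∀ i, d i ^ r = 1 := fun i => by
    show d' (e.symm i) ^ r = 1
    rcases e.symm i with (j | j) | j <;> simp [d', hA, hB, hC]
  have hcard : ∀ l : F, Fintype.card {i // d i = l} = Fintype.card {j // d' j = l} := fun l =>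
    Fintype.card_congr (e.symm.subtypeEquiv fun i => Iff.rfl)
  have hsplit : ∀ l : F, Fintype.card {j // d' j = l} =
      (if A = l then k₁ else 0) + (if B = l then k₂ else 0) + (if C = l then k₃ else 0) := fun l => by
    rw [Fintype.card_subtype, Finset.card_filter, Fintype.sum_sum_type, Fintype.sum_sum_type]
    have hb : ∀ (m : ℕ) (a : F), (∑ _i : Fin m, if a = l then (1 : ℕ) else 0) = if a = l then m else 0 :=
      fun m a => by by_cases ha : a = l <;> simp [ha]
    show (∑ _i : Fin k₁, if A = l then (1 : ℕ) else 0) + (∑ _i : Fin k₂, if B = l then (1 : ℕ) else 0) +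
      (∑ _i : Fin k₃, if C = l then (1 : ℕ) else 0) = _
    rw [hb, hb, hb]
  have hNA : Fintype.card {i // d i = A} = k₁ := by
    rw [hcard, hsplit, if_pos rfl, if_neg hAB.symm]
    rcases hC' with h | ⟨h, -⟩
    · simp [h]
    · simp [h]
  have hNB : Fintype.card {i // d i = B} = k₂ := by
    rw [hcard, hsplit, if_pos rfl, if_neg hAB]
    rcases hC' with h | ⟨-, h⟩
    · simp [h]
    · simp [h]
  have hX : (b • Matrix.diagonal d : M) ^ r = (b ^ r) • 1 := by
    rw [_root_.smul_pow, Matrix.diagonal_pow, show d ^ r = fun _ => 1 from funext hd, Matrix.diagonal_one]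
  have hns : ∀ a : F, (b • Matrix.diagonal d : M) ≠ a • 1 := fun a ha => by
    have hi : ∀ i, b * d i = a := fun i => by simpa using congrFun (congrFun ha i) i
    refine hAB (mul_left_cancel₀ hb ?_)
    have hiA := hi (e (Sum.inl (Sum.inl ⟨0, h1⟩)))
    have hiB := hi (e (Sum.inl (Sum.inr ⟨0, h2⟩)))
    simp [d, d'] at hiA hiB
    rw [hiA, hiB]
  obtain ⟨x, hxS, hxv, hxz, hxn⟩ := mk (b • Matrix.diagonal d) (by
    rw [Matrix.det_smul, Fintype.card_fin, Matrix.det_diagonal, ← hdet]
    congr 1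
    rw [← e.prod_comp, Fintype.prod_sum_type, Fintype.prod_sum_type]
    simp [d, d']) hX hns
  refine ⟨x, hxS, hxz, hxn, fun s hs => ?_⟩
  obtain ⟨P, μ, hμ, hP, hPx, -⟩ := transfer Q hQ x s hs
  rw [hxv] at hPx
  have hPy : ∀ v, P ((Matrix.diagonal d).mulVec v) = μ / (b * b) * P v := fun v => by
    have := hPx v
    rw [Matrix.smul_mulVec, QuadraticMap.map_smul, smul_eq_mul] at this
    field_simp
    linear_combination this
  set ν := μ / (b * b)
  have hν : ν ^ r = 1 := mult_pow P hP hn _ hPy (by rw [Matrix.diagonal_pow, show d ^ r = fun _ => 1 from funext hd, Matrix.diagonal_one])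
  let G : M := LinearMap.BilinForm.toMatrix (Pi.basisFun F (Fin n)) (polarBilin P)
  have hG : G.det ≠ 0 := (LinearMap.BilinForm.nondegenerate_iff_det_ne_zero _).mp hP
  have hrel : ∀ i j, G i j ≠ 0 → d i * d j = ν := fun i j hij => by
    have h := polar_sim P _ hPy (Pi.single i 1) (Pi.single j 1)
    rw [Matrix.diagonal_mulVec_single, Matrix.diagonal_mulVec_single, mul_one, mul_one,
      show Pi.single i (d i) = d i • (Pi.single i 1 : V) by rw [← Pi.single_smul', smul_eq_mul, mul_one],
      show Pi.single j (d j) = d j • (Pi.single j 1 : V) by rw [← Pi.single_smul', smul_eq_mul, mul_one],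
      polar_smul_left, polar_smul_right, smul_eq_mul, smul_eq_mul, ← mul_assoc] at h
    refine mul_right_cancel₀ ?_ h
    simpa [G, LinearMap.BilinForm.toMatrix_apply] using hij
  have hν0 : ν ≠ 0 := fun h => by rw [h, zero_pow hr.ne_zero] at hν; exact zero_ne_one hν
  have key : ∀ l : F, l ≠ 0 → Fintype.card {i // d i = l} = Fintype.card {i // d i = ν / l} := fun l hl =>
    le_antisymm (card_partner G hG d d hl hrel) (by
      have := card_partner G hG d d (div_ne_zero hν0 hl) hrel
      rwa [div_div_cancel₀ hν0] at this)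
  have hfixed : ∀ l : F, l ^ r = 1 → ∀ k, 0 < k → Fintype.card {i // d i = l} = k →
      (∀ l', Fintype.card {i // d i = l'} = k → l' = l) → l * l = ν := by
    intro l hl k hk hlk huniq
    have hl0 : l ≠ 0 := fun h => by rw [h, zero_pow hr.ne_zero] at hl; exact zero_ne_one hl
    have := huniq (ν / l) ((key l hl0).symm.trans hlk)
    rw [div_eq_iff hl0] at this
    exact this.symm
  have huA : ∀ l', Fintype.card {i // d i = l'} = k₁ → l' = A := fun l' hl' => by
    by_contra hne
    rw [hcard, hsplit, if_neg (Ne.symm hne)] at hl'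
    split_ifs at hl' with hB' hC'' <;> subst_vars <;> rcases hC' with h | ⟨h, h'⟩ <;>
      first | omega | exact absurd rfl h' | (simp_all)
  have huB : ∀ l', Fintype.card {i // d i = l'} = k₂ → l' = B := fun l' hl' => by
    by_contra hne
    rw [hcard, hsplit, if_neg (Ne.symm hne)] at hl'
    split_ifs at hl' with hA' hC'' <;> subst_vars <;> rcases hC' with h | ⟨h, h'⟩ <;>
      first | omega | exact absurd rfl h | (simp_all)
  have hsq : A * A = B * B := (hfixed A hA k₁ h1 hNA huA).trans (hfixed B hB k₂ h2 hNB huB).symm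
  refine hAB ?_
  obtain ⟨j, hj⟩ := hr.odd_of_ne_two hr2
  have hA0 : A ≠ 0 := fun h => by rw [h, zero_pow hr.ne_zero] at hA; exact zero_ne_one hA
  have hpow : A ^ (2 * j) = B ^ (2 * j) := by rw [pow_mul, pow_mul, _root_.sq, _root_.sq, hsq]
  rw [hj, pow_succ, hpow] at hA
  rw [hj, pow_succ] at hB
  exact mul_left_cancel₀ (fun h => by rw [h, zero_mul] at hB; exact zero_ne_one hB) (hA.trans hB.symm)

/-- Transvections. -/
theorem unipotent_bad (Q : QuadraticForm F V) (hQ : (polarBilin Q).Nondegenerate) (hn : 2 ≤ n) {p : ℕ} [Fact p.Prime]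
    [CharP F p] (h2 : (2 : F) ≠ 0) :
    ∃ x ∈ Cfsg.Geo.specialLinear (Fin n) F, (∃ z : F, ((x ^ p : GL (Fin n) F) : M) = z • (1 : M)) ∧
      (∀ a : F, (x : M) ≠ a • (1 : M)) ∧ ∀ s : GL (Fin n) F, s⁻¹ * x * s ∉ Cfsg.Geo.quadSimilarityGroup (⇑Q) := by
  classical
  haveI : Nonempty (Fin n) := ⟨⟨0, by omega⟩⟩
  let a : Fin n := ⟨0, by omega⟩
  let b : Fin n := ⟨1, by omega⟩
  have hab : a ≠ b := by simp [a, b]
  let X : M := 1 + Matrix.single a b 1
  have hd : X.det = 1 := Matrix.det_transvection_of_ne a b hab 1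
  have hXp : X ^ p = 1 := by
    show (1 + Matrix.single a b (1 : F)) ^ p = 1
    have hsq : (Matrix.single a b (1 : F)) ^ 2 = 0 := by
      rw [_root_.sq, Matrix.single_mul_single_of_ne _ _ _ _ hab.symm]
    rw [add_pow_char_of_commute p (Commute.one_left _), one_pow,
      pow_eq_zero_of_le (Fact.out : p.Prime).two_le hsq, add_zero]
  have hXab : X a b = 1 := by simp [X, hab]
  obtain ⟨x, hxS, hxv, hxz, hxn⟩ := mk X hd (r := p) (z := 1) (by rw [hXp, one_smul]) (fun z hz => by
    rw [hz] at hXab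
    simp [hab] at hXab)
  refine ⟨x, hxS, hxz, hxn, fun s hs => ?_⟩
  obtain ⟨P, μ, hμ, hP, hPx, -⟩ := transfer Q hQ x s hs
  rw [hxv] at hPx
  obtain rfl : μ = 1 := by
    have h := mult_pow P hP (by omega) X hPx hXp
    have : (μ - 1) ^ p = 0 := by rw [sub_pow_char, h, one_pow, sub_self]
    exact sub_eq_zero.mp (pow_eq_zero_iff (Fact.out : p.Prime).ne_zero |>.mp this)
  let e : Fin n → V := fun i => Pi.single i 1
  have hxe : ∀ i, X.mulVec (e i) = e i + if i = b then e a else 0 := fun i => by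
    funext j
    simp only [X, e, Matrix.add_mulVec, Matrix.one_mulVec, Pi.add_apply]
    by_cases hi : i = b
    · subst hi
      simp [Matrix.single_apply, Pi.single_apply, eq_comm]
    · simp [hi, Matrix.single_apply, Ne.symm hi]
  have hB := polar_sim P X hPx
  have h0 : ∀ j, j ≠ b → polar (⇑P) (e j) (e a) = 0 := fun j hj => by
    have := hB (e j) (e b)
    rw [hxe, hxe, if_neg hj, if_pos rfl, add_zero, polar_add_right, one_mul] at this
    linear_combination this
  have hb : polar (⇑P) (e b) (e a) = 0 := by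
    have := hB (e b) (e b)
    rw [hxe, if_pos rfl, one_mul] at this
    simp only [polar_add_left, polar_add_right, polar_comm (⇑P) (e a) (e b), h0 a hab] at this
    have h2' : 2 * polar (⇑P) (e b) (e a) = 0 := by linear_combination this
    exact (mul_eq_zero.mp h2').resolve_left h2
  have hall : ∀ j, polar (⇑P) (e a) (e j) = 0 := fun j => by
    rw [polar_comm]
    by_cases hj : j = b
    · exact hj ▸ hb
    · exact h0 j hj
  have h0' : e a = 0 := hP.1 _ fun v => by
    have : polarBilin P (e a) = 0 := (Pi.basisFun F (Fin n)).ext fun j => by simpa [e] using hall j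
    simp [this]
  exact one_ne_zero (α := F) (by simpa [e] using congrFun h0' a)

/-- An isometry of odd order without fixed vectors acts in even dimension. -/
theorem mov_even (P : QuadraticForm F V) (hP : (polarBilin P).Nondegenerate) (h2 : (2 : F) ≠ 0) {r : ℕ} [Fact r.Prime]
    (hr : (r : F) ≠ 0) (hnd : ¬ r ∣ Fintype.card F - 1) (X : M) (hX : ∀ v, P (X.mulVec v) = P v) (hXr : X ^ r = 1) :
    Even (Module.finrank F (mov (Matrix.toLin' X))) := by
  classical
  set T := Matrix.toLin' X with hTdef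
  have hT : T ^ r = 1 := by rw [hTdef, toLin'_pow_eq, hXr, Matrix.toLin'_one]; rfl
  have hc := isCompl_fix_mov hr hT
  have hB : ∀ u v, polar (⇑P) (T u) (T v) = polar (⇑P) u v := fun u v => by
    rw [hTdef, Matrix.toLin'_apply, Matrix.toLin'_apply, polar_sim P X (μ := 1) (fun v => by rw [one_mul, hX]), one_mul]
  have horth : ∀ f ∈ fix T, ∀ m ∈ mov T, polar (⇑P) f m = 0 := by
    rintro f hf _ ⟨w, rfl⟩
    rw [LinearMap.sub_apply, Module.End.one_apply, polar_sub_right]
    conv_lhs => arg 1; rw [← mem_fix.mp hf]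
    rw [hB, sub_self]
  let B' : LinearMap.BilinForm F (mov T) := LinearMap.BilinForm.restrict (polarBilin P) (mov T)
  have hB'nd : B'.Nondegenerate := by
    have key : ∀ u : mov T, (∀ v : mov T, polar (⇑P) (u : V) v = 0) → u = 0 := fun u hu => Subtype.ext (hP.1 _ fun v => by
      obtain ⟨f, hf, m, hm, rfl⟩ := mem_sup.mp (hc.sup_eq_top ▸ mem_top : v ∈ fix T ⊔ mov T)
      show polar (⇑P) (u : V) (f + m) = 0
      rw [polar_add_right, hu ⟨m, hm⟩, polar_comm, horth f hf u u.2, add_zero])
    exact ⟨fun u hu => key u hu, fun u hu => key u fun v => (polar_comm _ _ _).trans (hu v)⟩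
  let bm := Module.finBasis F (mov T)
  let y := res T (inv_mov T)
  set G := LinearMap.BilinForm.toMatrix bm B'
  set Y := LinearMap.toMatrix bm bm y
  have hcomp : B'.comp y y = B' := LinearMap.ext fun u => LinearMap.ext fun v => hB u v
  have hYG : Y.transpose * G * Y = G := by
    have := LinearMap.BilinForm.toMatrix_comp bm bm B' y y
    rw [hcomp] at this
    exact this.symm
  have hGd : G.det ≠ 0 := (LinearMap.BilinForm.nondegenerate_iff_det_ne_zero bm).mp hB'nd
  have hy : y ^ r = 1 := by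
    have := res_scalar (c := (1 : F)) (inv_mov T) (r := r) (by rw [hT, one_smul])
    rwa [one_smul] at this
  have hYd : Y.det = 1 := by
    refine root_one Fact.out hnd ?_
    rw [← Matrix.det_pow, show Y ^ r = LinearMap.toMatrix bm bm (y ^ r) from LinearMap.toMatrix_pow bm y r,
      hy, LinearMap.toMatrix_one, Matrix.det_one]
  have hY1 : (Y - 1).det ≠ 0 := by
    rw [show Y - 1 = LinearMap.toMatrix bm bm (y - 1) from (by rw [← LinearMap.toMatrix_one bm, ← map_sub]),
      LinearMap.det_toMatrix]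
    intro h0
    obtain ⟨u, hu, hu0⟩ := Submodule.exists_mem_ne_zero_of_ne_bot (LinearMap.det_eq_zero_iff_ker_ne_bot.mp h0)
    refine hu0 (Subtype.ext (Submodule.disjoint_def.mp hc.disjoint _ (mem_fix.mpr ?_) u.2))
    have := LinearMap.mem_ker.mp hu
    rw [LinearMap.sub_apply, Module.End.one_apply, sub_eq_zero] at this
    exact congrArg Subtype.val this
  have heq : Y.transpose * G * (Y - 1) = -((Y - 1).transpose * G) := by
    rw [Matrix.mul_sub, hYG, Matrix.mul_one, Matrix.transpose_sub, Matrix.transpose_one, Matrix.sub_mul, Matrix.one_mul,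
      neg_sub]
  have hd := congrArg Matrix.det heq
  rw [Matrix.det_mul, Matrix.det_mul, Matrix.det_transpose, hYd, one_mul, Matrix.det_neg, Matrix.det_mul,
    Matrix.det_transpose, Fintype.card_fin] at hd
  by_contra hodd
  rw [(Nat.not_even_iff_odd.mp hodd).neg_one_pow] at hd
  have : 2 * ((Y - 1).det * G.det) = 0 := by linear_combination hd
  exact mul_ne_zero h2 (mul_ne_zero hY1 hGd) this

/-- An element of order `r` without fixed vectors forces a congruence on the number of zeros. -/
theorem zeros_mod (P : QuadraticForm F V) {r : ℕ} [Fact r.Prime] (X : M) (hX : ∀ v, P (X.mulVec v) = P v)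
    (hXr : X ^ r = 1) (hfix : ∀ v, X.mulVec v = v → v = 0) : Nat.card {v // P v = 0} ≡ 1 [MOD r] := by
  classical
  have hr : r.Prime := Fact.out
  haveI := Fintype.ofFinite {v // P v = 0}
  have hj : ∀ v, X.mulVec ((X ^ (r - 1)).mulVec v) = v ∧ (X ^ (r - 1)).mulVec (X.mulVec v) = v := fun v => by
    rw [Matrix.mulVec_mulVec, Matrix.mulVec_mulVec, ← pow_succ', ← pow_succ, Nat.sub_add_cancel hr.pos, hXr,
      Matrix.one_mulVec]
    exact ⟨rfl, rfl⟩
  let σ : Equiv.Perm {v // P v = 0} :=
    { toFun := fun v => ⟨X.mulVec v.1, by rw [hX]; exact v.2⟩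
      invFun := fun v => ⟨(X ^ (r - 1)).mulVec v.1, by
        have := hX ((X ^ (r - 1)).mulVec v.1)
        rw [(hj v.1).1] at this
        rw [← this]; exact v.2⟩
      left_inv := fun v => Subtype.ext (hj v.1).2
      right_inv := fun v => Subtype.ext (hj v.1).1 }
  have hσ : σ ^ r ^ 1 = 1 := by
    refine Equiv.ext fun w => Subtype.ext ?_
    have h : ∀ j : ℕ, ((σ ^ j) w).1 = (X ^ j).mulVec w.1 := by
      intro j
      induction j with
      | zero => simp
      | succ j ih => rw [pow_succ', pow_succ', Equiv.Perm.mul_apply, ← Matrix.mulVec_mulVec, ← ih]; rfl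
    rw [pow_one, h, hXr, Matrix.one_mulVec]
    rfl
  have hsupp : σ.supportᶜ.card = 1 := by
    rw [Finset.card_eq_one]
    refine ⟨⟨0, QuadraticMap.map_zero P⟩, Finset.ext fun w => ?_⟩
    simp only [Finset.mem_compl, Equiv.Perm.mem_support, not_not, Finset.mem_singleton]
    refine ⟨fun h => Subtype.ext (hfix w.1 (congrArg Subtype.val h)), fun h => ?_⟩
    subst h
    exact Subtype.ext (Matrix.mulVec_zero X)
  have h := Equiv.Perm.card_compl_support_modEq hσ
  rw [hsupp, ← Nat.card_eq_fintype_card] at h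
  exact h.symm

/-- Large orders: the good primes. -/
theorem big_bad (Q : QuadraticForm F V) (hQ : (polarBilin Q).Nondegenerate) (h2 : (2 : F) ≠ 0) {r : ℕ} [Fact r.Prime]
    (hr : (r : F) ≠ 0) (hrF : ¬ r ∣ Fintype.card F) {c : ℕ} (hc : c = orderOf (Fintype.card F : ZMod r)) (hc2 : 2 ≤ c)
    (hcn : c ≤ n) (hev : Even c → c ∣ n ∧ ¬ Nat.card {v // Q v = 0} ≡ 1 [MOD r]) :
    ∃ x ∈ Cfsg.Geo.specialLinear (Fin n) F, (∃ z : F, ((x ^ r : GL (Fin n) F) : M) = z • (1 : M)) ∧
      (∀ a : F, (x : M) ≠ a • (1 : M)) ∧ ∀ s : GL (Fin n) F, s⁻¹ * x * s ∉ Cfsg.Geo.quadSimilarityGroup (⇑Q) := by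
  classical
  have hnd : ¬ r ∣ Fintype.card F - 1 := fun h => by
    rw [← pow_one (Fintype.card F), dvd_pow_sub_one, ← hc, Nat.dvd_one] at h
    omega
  obtain ⟨X, hd, hXr, hns, hbad⟩ : ∃ X : M, X.det = 1 ∧ X ^ r = 1 ∧ (∀ a : F, X ≠ a • 1) ∧
      ∀ P : QuadraticForm F V, (polarBilin P).Nondegenerate → (∀ v, P (X.mulVec v) = P v) →
        Nat.card {v // P v = 0} = Nat.card {v // Q v = 0} → False := by
    by_cases hce : Even c
    · obtain ⟨hdvd, hmod⟩ := hev hce
      obtain ⟨X, hd, hXr, hns, hk⟩ := exists_example (n := n) hr hrF (hc ▸ hc2) (hc ▸ hcn)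
      rw [← hc, Nat.mod_eq_zero_of_dvd hdvd, Nat.le_zero] at hk
      refine ⟨X, hd, hXr, hns, fun P hP hPX hz => hmod ?_⟩
      rw [← hz]
      exact zeros_mod P X hPX hXr fun v hv =>
        (Submodule.mem_bot F).mp (finrank_eq_zero.mp hk ▸ mem_fix.mpr (by simpa using hv))
    · obtain ⟨x, hXr, hns, hxf⟩ := SimDerange.exists_block (n := n) hr hrF hc hc2 hcn
      refine ⟨_, x.2, hXr, hns, fun P hP hPX _ => hce ?_⟩
      have h1 := mov_even P hP h2 hr hnd _ hPX hXr
      have h3 := finrank_add_eq_of_isCompl (isCompl_fix_mov (x := Matrix.toLin' (x : M)) hr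
        (by rw [toLin'_pow_eq, hXr, Matrix.toLin'_one]; rfl))
      rw [Module.finrank_fintype_fun_eq_card, Fintype.card_fin, hxf] at h3
      rwa [show Module.finrank F (mov (Matrix.toLin' (x : M))) = c by omega] at h1
  obtain ⟨x, hxS, hxv, hxz, hxn⟩ := mk X hd (r := r) (z := 1) (by rw [hXr, one_smul]) hns
  refine ⟨x, hxS, hxz, hxn, fun s hs => ?_⟩
  obtain ⟨P, μ, hμ, hP, hPx, hPz⟩ := transfer Q hQ x s hs
  rw [hxv] at hPx
  obtain rfl : μ = 1 := root_one Fact.out hnd (mult_pow P hP (by omega) X hPx hXr)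
  exact hbad P hP (fun v => by rw [hPx, one_mul]) hPz

/-- The divisors of the index. -/
theorem index_div (Q : QuadraticForm F V) (hQ : (polarBilin Q).Nondegenerate) (h2 : (2 : F) ≠ 0) (hn : 3 ≤ n) {r : ℕ}
    [Fact r.Prime] (hr2 : r ≠ 2) (hrF : ¬ r ∣ Fintype.card F) (hnd : ¬ r ∣ Fintype.card F - 1)
    (hΩ : r ∣ (Cfsg.Geo.quadSimilarityGroup (⇑Q)).relIndex (Cfsg.Geo.specialLinear (Fin n) F)) :
    orderOf (Fintype.card F : ZMod r) ≤ n ∧
      (Even (orderOf (Fintype.card F : ZMod r)) →
        orderOf (Fintype.card F : ZMod r) ∣ n ∧ ¬ Nat.card {v // Q v = 0} ≡ 1 [MOD r]) := by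
  classical
  have hrp : r.Prime := Fact.out
  set c := orderOf (Fintype.card F : ZMod r) with hc
  set H := Cfsg.Geo.quadSimilarityGroup (⇑Q)
  set S := Cfsg.Geo.specialLinear (Fin n) F
  let δ : Cfsg.isometryGroup F (⇑Q) →* Fˣ := Matrix.GeneralLinearGroup.det.comp (Cfsg.isometryGroup F (⇑Q)).subtype
  have hker : Nat.card δ.ker ∣ Nat.card (H.subgroupOf S) := by
    let φ : δ.ker →* H.subgroupOf S :=
      { toFun := fun g => ⟨⟨(g.1 : GL (Fin n) F), g.2⟩, 1, fun v => by
          rw [Units.val_one, one_mul]; exact (Refl.mem_iff Q).mp g.1.2 v⟩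
        map_one' := rfl
        map_mul' := fun g g' => rfl }
    exact Subgroup.card_dvd_of_injective φ fun g g' h => Subtype.ext (Subtype.ext (congrArg (fun z : H.subgroupOf S => (z.1 : GL (Fin n) F)) h))
  have hsq : ∀ u ∈ δ.range, u * u = 1 := by
    rintro _ ⟨g, rfl⟩
    have hg := (Refl.mem_iff Q).mp g.2
    let G : M := LinearMap.BilinForm.toMatrix (Pi.basisFun F (Fin n)) (polarBilin Q)
    have hGd : G.det ≠ 0 := (LinearMap.BilinForm.nondegenerate_iff_det_ne_zero _).mp hQ
    have hcomp : LinearMap.BilinForm.comp (polarBilin Q) (Matrix.toLin' ((g : GL (Fin n) F) : M))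
        (Matrix.toLin' ((g : GL (Fin n) F) : M)) = polarBilin Q := LinearMap.ext fun u => LinearMap.ext fun v => by
      show polar (⇑Q) (((g : GL (Fin n) F) : M).mulVec u) (((g : GL (Fin n) F) : M).mulVec v) = _
      rw [polar_sim Q _ (μ := 1) (fun v => by rw [one_mul]; exact hg v), one_mul]
      rfl
    have := LinearMap.BilinForm.toMatrix_comp (Pi.basisFun F (Fin n)) (Pi.basisFun F (Fin n)) (polarBilin Q)
      (Matrix.toLin' ((g : GL (Fin n) F) : M)) (Matrix.toLin' ((g : GL (Fin n) F) : M))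
    rw [hcomp, LinearMap.toMatrix_eq_toMatrix', LinearMap.toMatrix'_toLin'] at this
    have hd := congrArg Matrix.det this
    rw [Matrix.det_mul, Matrix.det_mul, Matrix.det_transpose] at hd
    refine Units.ext ?_
    show ((g : GL (Fin n) F) : M).det * ((g : GL (Fin n) F) : M).det = 1
    exact mul_right_cancel₀ hGd (by linear_combination -hd)
  have hrange : Nat.card δ.range ∣ 2 := by
    haveI : IsCyclic δ.range := inferInstance
    obtain ⟨u, hu⟩ := IsCyclic.exists_generator (α := δ.range)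
    rw [← orderOf_eq_card_of_forall_mem_zpowers hu]
    exact orderOf_dvd_of_pow_eq_one (Subtype.ext (by rw [_root_.sq]; exact hsq u.1 u.2))
  have hO : Nat.card (Cfsg.isometryGroup F (⇑Q)) ∣ 2 * Nat.card (H.subgroupOf S) := by
    rw [← δ.ker.card_mul_index, Subgroup.index_ker, mul_comm 2]
    exact mul_dvd_mul hker hrange
  set q := Fintype.card F with hq
  have hmain : r * Nat.card (Cfsg.isometryGroup F (⇑Q)) * (q - 1) ∣ 2 * ∏ i : Fin n, (q ^ n - q ^ (i : ℕ)) := by
    rw [← card_SL_mul_eq_prod (F := F) (n := n) (by omega), mul_comm (q - 1) (Nat.card _), ← mul_assoc]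
    refine mul_dvd_mul_right ?_ _
    have hS : Nat.card S = Nat.card (Matrix.SpecialLinearGroup (Fin n) F) := by
      refine (Nat.card_eq_of_bijective (fun g : Matrix.SpecialLinearGroup (Fin n) F =>
        (⟨Matrix.SpecialLinearGroup.toGL g, det_mem_SL.mpr g.2⟩ : S)) ⟨fun g g' h => ?_, fun g => ?_⟩).symm
      · exact Subtype.ext (congrArg (fun z : S => ((z : GL (Fin n) F) : M)) h)
      · exact ⟨⟨((g : GL (Fin n) F) : M), det_mem_SL.mp g.2⟩, Subtype.ext (Units.ext rfl)⟩
    rw [← hS, ← (H.subgroupOf S).card_mul_index, ← mul_assoc, mul_comm r]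
    exact mul_dvd_mul hO hΩ
  have hprod : ∏ i : Fin n, (q ^ n - q ^ (i : ℕ)) =
      (∏ i ∈ Finset.range n, q ^ i) * ∏ i ∈ Finset.range n, (q ^ (i + 1) - 1) := by
    rw [Fin.prod_univ_eq_prod_range (fun i => q ^ n - q ^ i) n,
      ← Finset.prod_range_reflect (fun i => q ^ (i + 1) - 1) n, ← Finset.prod_mul_distrib]
    refine Finset.prod_congr rfl fun i hi => ?_
    rw [Finset.mem_range] at hi
    rw [Nat.mul_sub_one, ← pow_add]
    congr 2
    omega
  have hq1 : 1 < q := Fintype.one_lt_card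
  have hP0 : ∀ k, 0 < OrthCard.prodQ q k := fun k =>
    Finset.prod_pos fun i _ => Nat.sub_pos_of_lt (Nat.one_lt_pow (by omega) hq1)
  rw [hprod] at hmain
  set P₀ := ∏ i ∈ Finset.range n, q ^ i
  have hP₀ : ¬ r ∣ P₀ := fun h => by
    obtain ⟨i, -, hi⟩ := (Prime.dvd_finsetProd_iff hrp.prime _).mp h
    exact hrF (hrp.dvd_of_dvd_pow hi)
  have hr2' : ¬ r ∣ 2 := fun h => hr2 ((Nat.prime_dvd_prime_iff_eq hrp Nat.prime_two).mp h)
  have hodd : ∀ k, r ∣ ∏ i ∈ Finset.range k, (q ^ (2 * i + 1) - 1) → Odd c ∧ c < 2 * k := fun k h => by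
    obtain ⟨i, hi, hd⟩ := (Prime.dvd_finsetProd_iff hrp.prime _).mp h
    rw [Finset.mem_range] at hi
    have hd' := (dvd_pow_sub_one _).mp hd
    have := Nat.le_of_dvd (by omega) hd'
    exact ⟨Odd.of_dvd_nat (by exact ⟨i, rfl⟩) hd', by omega⟩
  rcases Nat.even_or_odd n with ⟨m, rfl⟩ | ⟨k, rfl⟩
  · obtain ⟨k, rfl⟩ : ∃ k, m = k + 1 := ⟨m - 1, by omega⟩
    obtain ⟨D⟩ := exists_decomp (Q := Q) _ ⊤ (finrank_top F _) (nd_top Q hQ)
    have h1 := D.dim
    have h3 := D.small
    rw [finrank_top, Module.finrank_fintype_fun_eq_card, Fintype.card_fin] at h1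
    have e2 : ∏ i ∈ Finset.range (k + 1 + (k + 1)), (q ^ (i + 1) - 1) =
        ∏ i ∈ Finset.range (2 * (k + 1)), (q ^ (i + 1) - 1) := by
      rw [show k + 1 + (k + 1) = 2 * (k + 1) by ring]
    rw [e2, SimDerange.prod_odd_even (fun j => q ^ j - 1) (k + 1),
      show ∏ i ∈ Finset.range (k + 1), (q ^ (2 * (i + 1)) - 1) = OrthCard.prodQ q (k + 1) from rfl,
      OrthCard.prodQ_succ, show q ^ (2 * (k + 1)) - 1 = (q ^ (k + 1) + 1) * (q ^ (k + 1) - 1) from
        (OrthCard.sq_pow_sub_one _ _).symm] at hmain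
    have hA1 : 1 < q ^ (k + 1) := Nat.one_lt_pow (by omega) hq1
    have fin : ∀ A A' : ℕ, 0 < A → Nat.card (Cfsg.isometryGroup F (⇑Q)) = 2 * q ^ ((k + 1) * k) * A * OrthCard.prodQ q k →
        (q ^ (k + 1) + 1) * (q ^ (k + 1) - 1) = A * A' →
        r ∣ ∏ i ∈ Finset.range (k + 1), (q ^ (2 * i + 1) - 1) ∨ r ∣ A' := by
      intro A A' hA hcard hAA
      rw [hcard, hAA] at hmain
      have h : (2 * A * OrthCard.prodQ q k) * (r * q ^ ((k + 1) * k) * (q - 1)) ∣
          (2 * A * OrthCard.prodQ q k) * (P₀ * ((∏ i ∈ Finset.range (k + 1), (q ^ (2 * i + 1) - 1)) * A')) := by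
        convert hmain using 1 <;> ring
      have h' := Nat.dvd_of_mul_dvd_mul_left (Nat.mul_pos (Nat.mul_pos two_pos hA) (hP0 k)) h
      have h'' : r ∣ P₀ * ((∏ i ∈ Finset.range (k + 1), (q ^ (2 * i + 1) - 1)) * A') :=
        (((dvd_mul_right r _).mul_right _)).trans h'
      exact hrp.dvd_mul.mp ((hrp.dvd_mul.mp h'').resolve_left hP₀)
    have conclude : ∀ A' : ℕ, r ∣ ∏ i ∈ Finset.range (k + 1), (q ^ (2 * i + 1) - 1) ∨ r ∣ A' →
        (r ∣ A' → r ∣ q ^ (2 * (k + 1)) - 1) →
        (r ∣ A' → 2 ≤ c → ¬ Nat.card {v // Q v = 0} ≡ 1 [MOD r]) →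
        c ≤ k + 1 + (k + 1) ∧ (Even c → c ∣ k + 1 + (k + 1) ∧ ¬ Nat.card {v // Q v = 0} ≡ 1 [MOD r]) := by
      intro A' h hdiv hzero
      rcases h with h | h
      · obtain ⟨ho, hlt⟩ := hodd _ h
        exact ⟨by omega, fun he => absurd ho (Nat.not_odd_iff_even.mpr he)⟩
      · have hd := (dvd_pow_sub_one _).mp (hdiv h)
        rw [← hc] at hd
        refine ⟨by have := Nat.le_of_dvd (by omega) hd; omega, fun he => ⟨by rwa [show k + 1 + (k + 1) = 2 * (k + 1) by ring],
          hzero h ?_⟩⟩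
        have := ord_pos (F := F) hrF
        obtain ⟨j, hj⟩ := he
        omega
    have hcz : ((q : ℕ) : ZMod r) ≠ 1 := fun h => hnd (by
      rw [← pow_one q, dvd_pow_sub_one, ← hc, Nat.dvd_one]
      exact orderOf_eq_one_iff.mpr h)
    have hr2z : (2 : ZMod r) ≠ 0 := fun h => hr2' ((ZMod.natCast_eq_zero_iff 2 r).mp (by exact_mod_cast h))
    by_cases hK : Module.finrank F D.K = 0
    · obtain ⟨g, hg⟩ := FormNormal.plus_equiv D (k := k + 1) (by omega) hK
      have hz : Nat.card {v // Q v = 0} = q ^ (2 * (k + 1) - 1) + q ^ (k + 1) - q ^ k := by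
        rw [hq, ← Nat.card_eq_fintype_card]
        refine ((Nat.card_congr (g.toEquiv.subtypeEquiv (fun v => by rw [hg v]; rfl) :
          {v // Q v = 0} ≃ {v // Cfsg.quadFormPlus (k + 1) F v = 0})).trans (OrthCard.count_plus (F := F) (k + 1) (by omega))).trans ?_
        rw [Nat.add_sub_cancel]
      have hcard : Nat.card (Cfsg.isometryGroup F (⇑Q)) = 2 * q ^ ((k + 1) * k) * (q ^ (k + 1) - 1) * OrthCard.prodQ q k := by
        rw [OrthCard.card_isometryGroup, OrthCard.card_congr Q (HypQuad.plusForm (k + 1) F) g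
          (fun v => by rw [hg v, HypQuad.plusForm_apply]), ← OrthCard.card_isometryGroup,
          show (⇑(HypQuad.plusForm (k + 1) F)) = Cfsg.quadFormPlus (k + 1) F from funext (HypQuad.plusForm_apply _),
          OrthCard.card_plus, Nat.card_eq_fintype_card]
      refine conclude _ (fin _ (q ^ (k + 1) + 1) (by omega) hcard (mul_comm _ _))
        (fun h => by rw [← OrthCard.sq_pow_sub_one]; exact h.mul_right _) fun h _ hmod => ?_
      have e1 : (q : ZMod r) * (q : ZMod r) ^ k = -1 := by
        have := (ZMod.natCast_eq_zero_iff _ _).mpr h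
        push_cast at this
        linear_combination this
      rw [hz, show 2 * (k + 1) - 1 = k + 1 + k by omega, ← ZMod.natCast_eq_natCast_iff] at hmod
      rw [Nat.cast_sub (le_add_left (Nat.pow_le_pow_right (by omega) (show k ≤ k + 1 by omega))), Nat.cast_one] at hmod
      push_cast at hmod
      have : (2 : ZMod r) * ((q : ZMod r) ^ k + 1) = 0 := by
        linear_combination (q : ZMod r) ^ k * e1 - hmod + e1
      have h3 : (q : ZMod r) ^ k = -1 := by
        linear_combination (mul_eq_zero.mp this).resolve_left hr2z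
      rw [h3] at e1
      exact hcz (by linear_combination -e1)
    · obtain ⟨ζ, hζ, -⟩ := exists_plane Q D.ndK D.aniso (by omega)
      obtain ⟨g, hg⟩ := FormNormal.minus_equiv D (k := k) (by omega) (by omega) hζ
      have hab : ∀ x y : F, x ^ 2 + 1 * x * y + ζ * y ^ 2 = 0 → x = 0 ∧ y = 0 := fun x y h => by
        by_cases hy : y = 0
        · subst hy
          exact ⟨pow_eq_zero_iff two_ne_zero |>.mp (by linear_combination h), rfl⟩
        · refine absurd ?_ (hζ (x / y))
          field_simp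
          linear_combination h
      have hz : Nat.card {v // Q v = 0} = q ^ (2 * (k + 1) - 1) + q ^ k - q ^ (k + 1) := by
        rw [hq, ← Nat.card_eq_fintype_card]
        exact (Nat.card_congr (g.toEquiv.subtypeEquiv (fun v => by rw [hg v]; rfl) :
          {v // Q v = 0} ≃ {v // Cfsg.quadFormMinus (k + 1 - 1) F 1 ζ v = 0})).trans
          (OrthCard.count_minus (F := F) (k + 1) (by omega) hab)
      have hcard : Nat.card (Cfsg.isometryGroup F (⇑Q)) = 2 * q ^ ((k + 1) * k) * (q ^ (k + 1) + 1) * OrthCard.prodQ q k := by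
        rw [OrthCard.card_isometryGroup, OrthCard.card_congr Q (Refl.minusForm k F 1 ζ) g
          (fun v => by rw [hg v, Refl.minusForm_coe]), ← OrthCard.card_isometryGroup, Refl.minusForm_coe,
          OrthCard.card_minus hab, Nat.card_eq_fintype_card]
      refine conclude _ (fin _ (q ^ (k + 1) - 1) (by omega) hcard rfl)
        (fun h => by rw [← OrthCard.sq_pow_sub_one]; exact h.mul_left _) fun h _ hmod => ?_
      have e1 : (q : ZMod r) * (q : ZMod r) ^ k = 1 := by
        have := (ZMod.natCast_eq_zero_iff _ _).mpr h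
        rw [Nat.cast_sub (by omega)] at this
        push_cast at this
        linear_combination this
      rw [hz, show 2 * (k + 1) - 1 = k + 1 + k by omega, ← ZMod.natCast_eq_natCast_iff] at hmod
      rw [Nat.cast_sub ((Nat.pow_le_pow_right (by omega) (Nat.le_add_right _ k)).trans (Nat.le_add_right _ _)),
        Nat.cast_one] at hmod
      push_cast at hmod
      have : (2 : ZMod r) * ((q : ZMod r) ^ k - 1) = 0 := by
        linear_combination hmod - (q : ZMod r) ^ k * e1 + e1
      have h3 : (q : ZMod r) ^ k = 1 := by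
        linear_combination (mul_eq_zero.mp this).resolve_left hr2z
      rw [h3] at e1
      exact hcz (by linear_combination e1)
  · obtain ⟨D, z, hm, hz, hQz, hli, hK⟩ := odd_basis (Q := Q) (m := k) (by simp) hQ
    obtain ⟨β, hβ⟩ := D.basis rfl (κ := Unit) (fun _ => z) (fun _ => hz) (LinearIndependent.of_subsingleton () (fun e => hQz (by rw [e, QuadraticMap.map_zero])))
      (by rw [hK]; rfl)
    -- only the order of the isometry group is needed
    have hcard : Nat.card (Cfsg.isometryGroup F (⇑Q)) = 2 * q ^ (k ^ 2) * OrthCard.prodQ q k := by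
      suffices h : Nat.card (Cfsg.isometryGroup F (⇑Q)) = 2 * q ^ (D.m ^ 2) * OrthCard.prodQ q D.m by
        rw [hm] at h; exact h
      let P := (Q z) • Refl.oddForm D.m F
      let β' := β.reindex (Equiv.sumComm _ _)
      have hP : ∀ v, P (β'.equivFun v) * 1 = P (β'.equivFun v) := fun v => mul_one _
      let S : QuadraticForm F (Unit ⊕ (Fin D.m ⊕ Fin D.m) → F) :=
        Q.comp β'.equivFun.symm.toLinearMap
      obtain ⟨g, hg⟩ : ∃ g : (Unit ⊕ (Fin D.m ⊕ Fin D.m) → F) ≃ₗ[F] (Unit ⊕ (Fin D.m ⊕ Fin D.m) → F),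
          ∀ v, P (g v) = S v := by
        let sc : Unit ⊕ (Fin D.m ⊕ Fin D.m) → Fˣ := Sum.elim (fun _ => 1)
          (Sum.elim (fun _ => (Units.mk0 _ hQz)⁻¹) fun _ => 1)
        let g := LinearEquiv.piCongrRight fun i => (LinearEquiv.smulOfUnit (sc i) : F ≃ₗ[F] F)
        refine ⟨g, fun v => ?_⟩
        refine eq_of_basis (P.comp g.toLinearMap) S (Pi.basisFun F _) ?_ ?_ v
        · intro i
          have hS : S (Pi.basisFun F _ i) = Q (β' i) := by
            simp [S, Module.Basis.equivFun_symm_apply, Pi.single_apply, ite_smul]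
          rw [hS, show β' i = Sum.elim (fun _ => z) (Sum.elim D.e D.f) i by
            rcases i with i | i | i <;> simp [β', hβ]]
          rcases i with i | i | i <;>
            simp [P, g, sc, Units.smul_def, LinearEquiv.smulOfUnit, Refl.oddForm_coe, Cfsg.quadFormOdd, Pi.single_apply, D.qe, D.qf]
        · intro i j
          have hS : polar (⇑S) (Pi.basisFun F _ i) (Pi.basisFun F _ j) = polar (⇑Q) (β' i) (β' j) := by
            simp only [polar, S, QuadraticMap.comp_apply, map_add]
            simp [Module.Basis.equivFun_symm_apply, Pi.single_apply, ite_smul]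
          rw [hS, show β' i = Sum.elim (fun _ => z) (Sum.elim D.e D.f) i by
            rcases i with i | i | i <;> simp [β', hβ], show β' j = Sum.elim (fun _ => z) (Sum.elim D.e D.f) j by
            rcases j with j | j | j <;> simp [β', hβ]]
          rcases i with i | i | i <;> rcases j with j | j | j <;>
            simp only [Sum.elim_inl, Sum.elim_inr, polar_self Q, polar_comm (⇑Q) (D.f _) (D.e _),
              polar_comm (⇑Q) z (D.e _), polar_comm (⇑Q) z (D.f _), D.ee, D.ff, D.ef, D.ek _ _ hz, D.fk _ _ hz] <;>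
            simp [P, g, sc, polar, Units.smul_def, LinearEquiv.smulOfUnit, Refl.oddForm_coe, Cfsg.quadFormOdd,
              Pi.single_apply, add_mul, mul_add, Finset.sum_add_distrib] <;>
            first
              | ring1
              | (rw [show Q (z + z) = 4 * Q z by rw [← two_smul F z, QuadraticMap.map_smul, smul_eq_mul]; ring]; ring1)
              | (by_cases hij : i = j <;> simp [hij, hQz, eq_comm])
      have e : OrthCard.Aut (P.comp g.toLinearMap) ≃ OrthCard.Aut (Refl.oddForm D.m F) :=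
        { toFun := fun a => ⟨g.symm ≪≫ₗ a.1 ≪≫ₗ g, fun w => by
            have h := a.2 (g.symm w)
            simp [P, hQz] at h ⊢
            exact h⟩
          invFun := fun a => ⟨g ≪≫ₗ a.1 ≪≫ₗ g.symm, fun w => by
            simp [P, a.2 (g w)]⟩
          left_inv := fun a => Subtype.ext (LinearEquiv.ext fun w => by simp)
          right_inv := fun a => Subtype.ext (LinearEquiv.ext fun w => by simp) }
      rw [OrthCard.card_isometryGroup, OrthCard.card_congr Q (P.comp g.toLinearMap) β'.equivFun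
        (fun v => by show P (g _) = _; rw [hg]; simp [S]), Nat.card_congr e, ← OrthCard.card_isometryGroup,
        Refl.oddForm_coe, OrthCard.card_odd h2, Nat.card_eq_fintype_card]
    rw [hcard, Finset.prod_range_succ (fun i => q ^ (i + 1) - 1), SimDerange.prod_odd_even (fun j => q ^ j - 1) k,
      show ∏ i ∈ Finset.range k, (q ^ (2 * (i + 1)) - 1) = OrthCard.prodQ q k from rfl] at hmain
    have h : (2 * OrthCard.prodQ q k) * (r * q ^ (k ^ 2) * (q - 1)) ∣
        (2 * OrthCard.prodQ q k) * (P₀ * ((∏ i ∈ Finset.range k, (q ^ (2 * i + 1) - 1)) * (q ^ (2 * k + 1) - 1))) := by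
      convert hmain using 1 <;> ring
    have h' := Nat.dvd_of_mul_dvd_mul_left (Nat.mul_pos two_pos (hP0 k)) h
    have h'' : r ∣ P₀ * ((∏ i ∈ Finset.range k, (q ^ (2 * i + 1) - 1)) * (q ^ (2 * k + 1) - 1)) :=
      (((dvd_mul_right r _).mul_right _)).trans h'
    rw [← Finset.prod_range_succ (fun i => q ^ (2 * i + 1) - 1) k] at h''
    obtain ⟨ho, hlt⟩ := hodd _ ((hrp.dvd_mul.mp h'').resolve_left hP₀)
    exact ⟨by omega, fun he => absurd ho (Nat.not_odd_iff_even.mpr he)⟩

/-- Conjugation into the similitudes. -/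
theorem into (Q : QuadraticForm F V) (x : GL (Fin n) F) (g : V ≃ₗ[F] V) {μ : F} (hμ : μ ≠ 0)
    (hsim : ∀ v, Q (g ((x : M).mulVec v)) = μ * Q (g v))
    (hD : ∀ δ : F, δ ≠ 0 → ∃ D : M, D.det = δ ∧ D * (x : M) = (x : M) * D) :
    ∃ s ∈ Cfsg.Geo.specialLinear (Fin n) F, s⁻¹ * x * s ∈ Cfsg.Geo.quadSimilarityGroup (⇑Q) := by
  classical
  let G : M := LinearMap.toMatrix' g.toLinearMap
  have hG : G.det ≠ 0 := by
    rw [show G.det = LinearMap.det g.toLinearMap from LinearMap.det_toMatrix' _]
    exact (LinearEquiv.isUnit_det' g).ne_zero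
  obtain ⟨D, hDd, hDx⟩ := hD G.det⁻¹ (inv_ne_zero hG)
  have hd : (G * D).det = 1 := by rw [Matrix.det_mul, hDd, mul_inv_cancel₀ hG]
  let P : GL (Fin n) F := Matrix.SpecialLinearGroup.toGL ⟨G * D, hd⟩
  have hPv : (P : M) = G * D := rfl
  refine ⟨P⁻¹, inv_mem (det_mem_SL.mpr hd), Units.mk0 μ hμ, fun v => ?_⟩
  have hGv : ∀ w, G.mulVec w = g w := fun w => LinearMap.toMatrix'_mulVec _ w
  have hv : v = g (D.mulVec (((P⁻¹ : GL (Fin n) F) : M).mulVec v)) := by
    rw [← hGv, Matrix.mulVec_mulVec, Matrix.mulVec_mulVec, ← hPv, ← Units.val_mul, mul_inv_cancel, Units.val_one,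
      Matrix.one_mulVec]
  rw [inv_inv, Units.val_mul, Units.val_mul, hPv, Units.val_mk0, Matrix.mul_assoc G D, hDx, ← Matrix.mulVec_mulVec,
    ← Matrix.mulVec_mulVec, ← Matrix.mulVec_mulVec, hGv, hsim, ← hv]

/-- Similitudes on a basis. -/
theorem sim_of_basis (Q : QuadraticForm F V) (h2 : (2 : F) ≠ 0) {κ : Type} (w : Module.Basis κ F V) (X : M)
    (g : V ≃ₗ[F] V) {μ : F}
    (h : ∀ i j, polar (⇑Q) (g (X.mulVec (w i))) (g (X.mulVec (w j))) = μ * polar (⇑Q) (g (w i)) (g (w j))) :
    ∀ v, Q (g (X.mulVec v)) = μ * Q (g v) := by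
  intro v
  let L : V →ₗ[F] V := g.toLinearMap ∘ₗ Matrix.toLin' X
  have hB : (polarBilin Q).compl₁₂ L L = μ • (polarBilin Q).compl₁₂ g.toLinearMap g.toLinearMap :=
    LinearMap.BilinForm.ext_basis w fun i j => by simpa [L] using h i j
  have := LinearMap.congr_fun (LinearMap.congr_fun hB v) v
  simp only [L, LinearMap.compl₁₂_apply, LinearMap.smul_apply, polarBilin_apply_apply, smul_eq_mul, LinearMap.comp_apply,
    Matrix.toLin'_apply, LinearEquiv.coe_coe, polar_self, two_smul] at this
  exact mul_left_cancel₀ h2 (by linear_combination this)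

/-- An orthogonal basis of anisotropic vectors. -/
theorem orth_basis (Q : QuadraticForm F V) (hQ : (polarBilin Q).Nondegenerate) (h2 : (2 : F) ≠ 0) (hn : 0 < n) :
    ∃ o : Module.Basis (Fin n) F V, (∀ i, Q (o i) ≠ 0) ∧ ∀ i j, i ≠ j → polar (⇑Q) (o i) (o j) = 0 := by
  classical
  obtain ⟨m, rfl⟩ : ∃ m, n = m + 1 := ⟨n - 1, by omega⟩
  obtain ⟨f, -, hf1, hfl, hfo⟩ := exists_diag (Q := Q) h2 m ⊤ (by simp) (nd_top Q hQ)
  have hne : ∀ i, Q (f i) ≠ 0 := fun i => by
    by_cases hi : i = Fin.last m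
    · rw [hi]; exact hfl
    · rw [hf1 i hi]; exact one_ne_zero
  have hli : LinearIndependent F f := by
    rw [Fintype.linearIndependent_iff]
    intro c hc j
    have h := congrArg (fun z => polarBilin Q z (f j)) hc
    simp only [map_sum, map_smul, LinearMap.sum_apply, LinearMap.smul_apply, polarBilin_apply_apply, smul_eq_mul,
      map_zero, LinearMap.zero_apply] at h
    rw [Finset.sum_eq_single j] at h
    · rw [polar_self, two_smul] at h
      have : c j * (2 * Q (f j)) = 0 := by linear_combination h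
      exact (mul_eq_zero.mp this).resolve_right (mul_ne_zero h2 (hne j))
    · intro i _ hij
      rw [hfo i j hij, mul_zero]
    · simp
  let o := basisOfLinearIndependentOfCardEqFinrank hli (by simp)
  have ho : ⇑o = f := coe_basisOfLinearIndependentOfCardEqFinrank _ _
  exact ⟨o, fun i => by rw [ho]; exact hne i, fun i j h => by rw [ho]; exact hfo i j h⟩

/-- Centralising elements of any determinant for a diagonalisable map. -/
theorem diag_centre (X : M) (w : Module.Basis (Fin n) F V) (ν : Fin n → F) (hw : ∀ i, X.mulVec (w i) = ν i • w i)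
    (hn : 0 < n) (δ : F) : ∃ D : M, D.det = δ ∧ D * X = X * D := by
  classical
  let i₀ : Fin n := ⟨0, hn⟩
  let f : V →ₗ[F] V := w.constr F fun i => (if i = i₀ then δ else 1) • w i
  refine ⟨LinearMap.toMatrix' f, ?_, Matrix.toLin'.injective (w.ext fun i => ?_)⟩
  · rw [LinearMap.det_toMatrix', ← LinearMap.det_toMatrix w]
    rw [show LinearMap.toMatrix w w f = Matrix.diagonal fun i => if i = i₀ then δ else 1 by
      ext a b
      rw [LinearMap.toMatrix_apply, show f (w b) = _ from w.constr_basis F _ b, map_smul, w.repr_self,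
        Finsupp.smul_apply, Matrix.diagonal_apply, Finsupp.single_apply]
      by_cases hab : b = a
      · subst hab; simp
      · simp [hab, Ne.symm hab]]
    simp
  · rw [Matrix.toLin'_mul, Matrix.toLin'_mul, LinearMap.comp_apply, LinearMap.comp_apply, Matrix.toLin'_toMatrix',
      Matrix.toLin'_apply, Matrix.toLin'_apply, hw, map_smul, show f (w i) = _ from w.constr_basis F _ i,
      Matrix.mulVec_smul, hw, smul_smul, smul_smul, mul_comm]

theorem zmod3_sum : ∀ a : ZMod 3, a + a + a = 0 := by decide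

theorem zmod5_five : (5 : ZMod 5) = 0 := by decide

theorem tau_bij : Function.Bijective
    (Sum.elim (Sum.elim (fun _ => 1) fun _ => 2) fun _ => 0 : (Fin 1 ⊕ Fin 1) ⊕ Unit → Fin 3) := by decide

theorem idx_bij : Function.Bijective
    (Sum.elim (Sum.elim ![0, 1] ![2, 3]) fun _ => 4 : (Fin 2 ⊕ Fin 2) ⊕ Unit → Fin 5) := by decide

/-- Projective involutions. -/
theorem good_two (Q : QuadraticForm F V) (hQ : (polarBilin Q).Nondegenerate) (h2 : (2 : F) ≠ 0) (hn : 3 ≤ n)
    (x : GL (Fin n) F) (hxS : x ∈ Cfsg.Geo.specialLinear (Fin n) F) {z : F}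
    (hz : ((x ^ 2 : GL (Fin n) F) : M) = z • (1 : M)) :
    ∃ s ∈ Cfsg.Geo.specialLinear (Fin n) F, s⁻¹ * x * s ∈ Cfsg.Geo.quadSimilarityGroup (⇑Q) := by
  classical
  rw [Units.val_pow_eq_pow_val] at hz
  have hz0 : z ≠ 0 := fun e => by
    have := congrArg Matrix.det hz
    haveI _hne : Nonempty (Fin n) := ⟨⟨0, by omega⟩⟩
    rw [Matrix.det_pow, det_mem_SL.mp hxS, one_pow, e, zero_smul, Matrix.det_zero] at this
    exact one_ne_zero this
  obtain ⟨o, hone, horth⟩ := orth_basis Q hQ h2 (by omega)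
  set T := Matrix.toLin' (x : M) with hTdef
  have hT : T ^ 2 = z • (1 : Module.End F V) := by
    rw [hTdef, toLin'_pow_eq, hz, map_smul, Matrix.toLin'_one]; rfl
  by_cases hsq : IsSquare z
  · obtain ⟨b, hb⟩ := hsq
    have hb2 : b ^ 2 = z := by rw [_root_.sq, ← hb]
    obtain ⟨hy, hb'⟩ := normalise hz0 hb2 two_ne_zero hT
    obtain ⟨w, ε, hε, hw⟩ := InvolForm.eigen_basis h2 _ hy
    have hb0 : b ≠ 0 := fun e => hb' (by rw [e, inv_zero])
    have hxw : ∀ i, (x : M).mulVec (w i) = (b * ε i) • w i := fun i => by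
      have := congrArg (fun u => b • u) (hw i)
      simp only [LinearMap.smul_apply, smul_smul, mul_inv_cancel₀ hb0, one_smul] at this
      rw [← Matrix.toLin'_apply]
      exact this
    refine into Q x (w.equiv o (Equiv.refl _)) hz0 (sim_of_basis Q h2 w _ _ fun i j => ?_)
      fun δ _ => diag_centre (x : M) w _ hxw (by omega) δ
    rw [hxw, hxw, map_smul, map_smul, Module.Basis.equiv_apply, Module.Basis.equiv_apply, polar_smul_left,
      polar_smul_right, smul_eq_mul, smul_eq_mul, Equiv.refl_apply, Equiv.refl_apply]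
    by_cases hij : i = j
    · subst hij
      rcases hε i with h | h <;> rw [h, hb] <;> ring
    · rw [horth i j hij]
      ring
  · have hnp : ∀ b : F, b ^ 2 ≠ z := fun b e => hsq ⟨b, by rw [← e, _root_.sq]⟩
    haveI : Fact (Nat.Prime 2) := ⟨Nat.prime_two⟩
    obtain ⟨s, u, hs, -, hspan⟩ := OddImprim.orbit_gens (semisimple (r := 2) (by exact_mod_cast h2) hz0 hT) two_pos hT
      two_pos (⊤ : Submodule F V)
      (fun U _ hU hU0 hmin => by
        obtain ⟨w, hw, hw0⟩ := U.exists_mem_ne_zero_of_ne_bot hU0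
        have hspan : span F (Set.range fun j : Fin 2 => (T ^ (j : ℕ)) w) = U := by
          refine hmin _ (span_le.mpr ?_) (OddImprim.inv_orbit two_pos hT w) ?_
          · rintro _ ⟨j, rfl⟩
            fin_cases j
            · simpa using hw
            · simpa using hU w hw
          · intro e
            exact hw0 ((Submodule.mem_bot F).mp (e ▸ subset_span ⟨⟨0, two_pos⟩, by simp⟩))
        refine le_antisymm ?_ (Nat.le_of_dvd (Nat.pos_of_ne_zero fun e => hU0 (finrank_eq_zero.mp e))
          (dvd_of_nonpower Nat.prime_two hz0 hT hnp hU))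
        rw [← hspan]
        exact (finrank_range_le_card _).trans (Fintype.card_fin 2).le) _ ⊤ rfl le_rfl (fun _ _ => mem_top)
    rw [finrank_top, Module.finrank_fintype_fun_eq_card, Fintype.card_fin] at hs
    let fw : Fin 2 × Fin s → V := fun p => (T ^ (p.1 : ℕ)) (u p.2)
    have hfw : ⊤ ≤ span F (Set.range fw) := hspan.trans (span_mono (by rintro _ ⟨⟨i, j⟩, rfl⟩; exact ⟨(j, i), rfl⟩))
    let w := basisOfTopLeSpanOfCardEqFinrank fw hfw (by simp; omega)
    have hw : ⇑w = fw := coe_basisOfTopLeSpanOfCardEqFinrank _ _ _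
    let e : Fin 2 × Fin s ≃ Fin n := Fintype.equivFinOfCardEq (by simp; omega)
    have hval : ∀ i : Fin s, ∃ a c : F, c ≠ 0 ∧
        a * a * Q (o (e (0, i))) + c * c * Q (o (e (1, i))) = z * Q (o (e (0, i))) := by
      intro i
      set α := Q (o (e (0, i)))
      set β := Q (o (e (1, i)))
      obtain ⟨a, c, hac⟩ := FiniteField.exists_root_sum_quadratic (R := F) (f := Polynomial.C α * Polynomial.X ^ 2)
        (g := Polynomial.C β * Polynomial.X ^ 2 - Polynomial.C (z * α)) (Polynomial.degree_C_mul_X_pow 2 (hone _))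
        (by rw [Polynomial.degree_sub_C (by rw [Polynomial.degree_C_mul_X_pow 2 (hone _)]; norm_num),
          Polynomial.degree_C_mul_X_pow 2 (hone _)]; rfl)
        (FiniteField.odd_card_of_char_ne_two fun h => h2 (by
          haveI := (ringChar.charP F); rw [h] at this; exact CharTwo.two_eq_zero))
      simp only [Polynomial.eval_pow, Polynomial.eval_X, Polynomial.eval_sub, Polynomial.eval_mul, Polynomial.eval_C] at hac
      refine ⟨a, c, fun hc => ?_, by linear_combination hac⟩
      subst hc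
      have : (a ^ 2 - z) * α = 0 := by linear_combination hac
      exact hnp a (sub_eq_zero.mp ((mul_eq_zero.mp this).resolve_right (hone _)))
    choose a c hc hac using hval
    let fp : Fin 2 × Fin s → V := fun p =>
      if p.1 = 0 then o (e (0, p.2)) else a p.2 • o (e (0, p.2)) + c p.2 • o (e (1, p.2))
    have hfp : ⊤ ≤ span F (Set.range fp) := by
      rw [← o.span_eq, span_le]
      rintro _ ⟨j, rfl⟩
      obtain ⟨⟨i, k⟩, rfl⟩ := e.surjective j
      have h0 : o (e (0, k)) ∈ span F (Set.range fp) := subset_span ⟨(0, k), by simp [fp]⟩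
      fin_cases i
      · exact h0
      · have h1 : a k • o (e (0, k)) + c k • o (e (1, k)) ∈ span F (Set.range fp) := subset_span ⟨(1, k), by simp [fp]⟩
        have h3 := smul_mem _ (c k)⁻¹ (sub_mem h1 (smul_mem _ (a k) h0))
        simpa [smul_smul, inv_mul_cancel₀ (hc k)] using h3
    let p := basisOfTopLeSpanOfCardEqFinrank fp hfp (by simp; omega)
    have hp : ⇑p = fp := coe_basisOfTopLeSpanOfCardEqFinrank _ _ _
    have hx0 : ∀ i, (x : M).mulVec (w (0, i)) = w (1, i) := fun i => by simp [hw, fw, hTdef]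
    have hx1 : ∀ i, (x : M).mulVec (w (1, i)) = z • w (0, i) := fun i => by
      have h := LinearMap.congr_fun hT (u i)
      rw [_root_.sq, Module.End.mul_apply] at h
      simpa [hw, fw, hTdef] using h
    refine into Q x (w.equiv p (Equiv.refl _)) hz0 (sim_of_basis Q h2 w _ _ ?_) fun δ hδ => ?_
    · have hoo : ∀ j, polar (⇑Q) (o j) (o j) = 2 * Q (o j) := fun j => by rw [polar_self, two_smul, two_mul]
      rintro ⟨i, k⟩ ⟨j, l⟩
      by_cases hkl : k = l
      · subst hkl
        have h01 : polar (⇑Q) (o (e (0, k))) (o (e (1, k))) = 0 := horth _ _ (by simp)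
        have h10 : polar (⇑Q) (o (e (1, k))) (o (e (0, k))) = 0 := horth _ _ (by simp)
        fin_cases i <;> fin_cases j <;>
          simp [hx0, hx1, hp, fp, polar_add_left, polar_add_right, polar_smul_left, polar_smul_right, hoo, h01, h10] <;>
          first
            | ring1
            | linear_combination 2 * hac k
            | linear_combination (2 * z) * hac k
            | (simp only [QuadraticMap.map_add (⇑Q), QuadraticMap.map_smul, polar_smul_left,
                polar_smul_right, h01, smul_eq_mul, mul_zero, add_zero]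
               first | linear_combination 2 * hac k | linear_combination (-2 * z) * hac k | linear_combination (2 * z) * hac k)
      · have hz' : ∀ i j, polar (⇑Q) (o (e (i, k))) (o (e (j, l))) = 0 := fun i j =>
          horth _ _ (by simp [hkl])
        fin_cases i <;> fin_cases j <;>
          simp [hx0, hx1, hp, fp, polar_add_left, polar_add_right, polar_smul_left, polar_smul_right, hz']
    · obtain ⟨A, B, hAB⟩ := FiniteField.exists_root_sum_quadratic (R := F) (f := Polynomial.X ^ 2)
        (g := Polynomial.C (-z) * Polynomial.X ^ 2 - Polynomial.C δ) (Polynomial.degree_X_pow 2)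
        (by rw [Polynomial.degree_sub_C (by rw [Polynomial.degree_C_mul_X_pow 2 (neg_ne_zero.mpr hz0)]; norm_num),
          Polynomial.degree_C_mul_X_pow 2 (neg_ne_zero.mpr hz0)]; rfl)
        (FiniteField.odd_card_of_char_ne_two fun h => h2 (by
          haveI := (ringChar.charP F); rw [h] at this; exact CharTwo.two_eq_zero))
      simp only [Polynomial.eval_pow, Polynomial.eval_X, Polynomial.eval_sub, Polynomial.eval_mul, Polynomial.eval_C] at hAB
      have hs0 : 0 < s := by omega
      let i₀ : Fin s := ⟨0, hs0⟩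
      let C : Matrix (Fin 2) (Fin 2) F := !![0, z; 1, 0]
      let E : Fin s → Matrix (Fin 2) (Fin 2) F := fun i => if i = i₀ then !![A, z * B; B, A] else 1
      have hTw : LinearMap.toMatrix w w T = Matrix.blockDiagonal fun _ : Fin s => C := by
        ext ⟨i, k⟩ ⟨j, l⟩
        rw [LinearMap.toMatrix_apply, Matrix.blockDiagonal_apply, hTdef, Matrix.toLin'_apply]
        fin_cases j
        · show w.repr ((x : M).mulVec (w (0, l))) (i, k) = _
          rw [hx0, Module.Basis.repr_self, Finsupp.single_apply]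
          fin_cases i <;> simp [C, eq_comm]
        · show w.repr ((x : M).mulVec (w (1, l))) (i, k) = _
          rw [hx1, map_smul, Module.Basis.repr_self, Finsupp.smul_apply, Finsupp.single_apply]
          fin_cases i <;> simp [C, eq_comm]
      refine ⟨LinearMap.toMatrix' (Matrix.toLin w w (Matrix.blockDiagonal E)), ?_, ?_⟩
      · rw [LinearMap.det_toMatrix', LinearMap.det_toLin, Matrix.det_blockDiagonal]
        rw [Finset.prod_eq_single i₀ (fun i _ hi => by simp [E, hi]) (by simp)]
        simp [E, Matrix.det_fin_two]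
        linear_combination hAB
      · refine Matrix.toLin'.injective ?_
        rw [Matrix.toLin'_mul, Matrix.toLin'_mul, Matrix.toLin'_toMatrix', ← hTdef]
        refine (LinearMap.toMatrix w w).injective ?_
        rw [LinearMap.toMatrix_comp w w w, LinearMap.toMatrix_comp w w w, hTw, LinearMap.toMatrix_toLin,
          ← Matrix.blockDiagonal_mul, ← Matrix.blockDiagonal_mul]
        congr 1
        funext i
        by_cases hi : i = i₀
        · simp [E, C, hi, mul_comm]
        · simp [E, C, hi]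

/-- Exponents pairing up around a fixed one. -/
theorem five_pair : ∀ a b c : ZMod 5, ∃ p ∈ ([![1,3,2,4,0], ![1,2,3,4,0], ![1,2,4,3,0], ![0,3,2,4,1], ![0,2,3,4,1],
      ![0,2,4,3,1], ![0,3,1,4,2], ![0,1,3,4,2], ![0,1,4,3,2], ![0,2,1,4,3], ![0,1,2,4,3], ![0,1,4,2,3], ![0,2,1,3,4],
      ![0,1,2,3,4], ![0,1,3,2,4]] : List (Fin 5 → Fin 5)), Function.Injective p ∧
      (fun e : Fin 5 → ZMod 5 => e (p 0) + e (p 2) = e (p 4) + e (p 4) ∧ e (p 1) + e (p 3) = e (p 4) + e (p 4))
        ![0, a, b, c, -(a + b + c)] := by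
  decide +kernel

/-- The small exceptions. -/
theorem good_small (Q : QuadraticForm F V) (hQ : (polarBilin Q).Nondegenerate) (h2 : (2 : F) ≠ 0) {r : ℕ}
    [Fact r.Prime] (hn35 : r = 3 ∨ r = 5) (hnr : n = r) (hv : padicValNat r (Fintype.card F - 1) = 1)
    (hrF : ¬ r ∣ Fintype.card F) (hrc : (r : F) ≠ 0) (x : GL (Fin n) F)
    (hxS : x ∈ Cfsg.Geo.specialLinear (Fin n) F) (hz : ∃ z : F, ((x ^ r : GL (Fin n) F) : M) = z • (1 : M)) :
    ∃ s ∈ Cfsg.Geo.specialLinear (Fin n) F, s⁻¹ * x * s ∈ Cfsg.Geo.quadSimilarityGroup (⇑Q) := by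
  classical
  subst hnr
  have hr : n.Prime := Fact.out
  haveI : NeZero n := ⟨hr.ne_zero⟩
  have hdvd : n ∣ Fintype.card F - 1 := dvd_of_one_le_padicValNat hv.ge
  have hdetx := det_mem_SL.mp hxS
  obtain ⟨z, hz⟩ := hz
  rw [Units.val_pow_eq_pow_val] at hz
  set T := Matrix.toLin' (x : M) with hTdef
  have hTz : T ^ n = z • (1 : Module.End F V) := by rw [hTdef, toLin'_pow_eq, hz, map_smul, Matrix.toLin'_one]; rfl
  have hzn : z ^ n = 1 := by
    have := congrArg Matrix.det hz
    rwa [Matrix.det_pow, hdetx, one_pow, Matrix.det_smul, Matrix.det_one, mul_one, Fintype.card_fin, eq_comm] at this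
  have hT : T ^ n = 1 := by
    by_cases hnp : ∃ b : F, b ^ n = z
    · obtain ⟨b, rfl⟩ := hnp
      rw [← pow_mul] at hzn
      have hb0 : b ≠ 0 := fun e => by rw [e, zero_pow (mul_ne_zero hr.ne_zero hr.ne_zero)] at hzn; exact zero_ne_one hzn
      have h := (pow_gcd_eq_one (a := b)).mpr ⟨hzn, FiniteField.pow_card_sub_one_eq_one b hb0⟩
      have hg : (n * n).gcd (Fintype.card F - 1) = n := by
        obtain ⟨t, ht⟩ := hdvd
        rw [ht, Nat.gcd_mul_left, (hr.coprime_iff_not_dvd.mpr fun hnt => ?_).gcd_eq_one, mul_one]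
        have h0 : Fintype.card F - 1 ≠ 0 := (Nat.sub_pos_of_lt Fintype.one_lt_card).ne'
        have := (padicValNat_dvd_iff_le h0).mp (show n ^ 2 ∣ Fintype.card F - 1 by
          rw [ht, _root_.sq]; exact mul_dvd_mul_left n hnt)
        omega
      rw [hg] at h
      rw [hTz, h, one_smul]
    · push Not at hnp
      have h := det_of_nonpower (s := 1) hr hTz hnp (by simp)
      rw [hTdef, LinearMap.det_toLin', hdetx, pow_one, (hr.odd_of_ne_two (by omega)).add_odd odd_one |>.neg_one_pow,
        one_mul] at h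
      exact absurd (by rw [one_pow, h]) (hnp 1)
  have hc1 : orderOf (Fintype.card F : ZMod n) = 1 := by
    rw [← Nat.dvd_one, ← dvd_pow_sub_one, pow_one]; exact hdvd
  obtain ⟨v, hv', hvi⟩ := OddImprim.split_power hrc hrF hT 1 n ⊤ (fun _ _ => mem_top) (by simp)
    (by rw [hc1]; simp)
  let fw : Fin n → V := fun i => v (i, 0)
  have hfw : ⊤ ≤ span F (Set.range fw) := hv'.trans (span_mono (by
    rintro _ ⟨⟨i, j⟩, rfl⟩
    exact ⟨i, by simp [fw, Subsingleton.elim j 0]⟩))
  let w := basisOfTopLeSpanOfCardEqFinrank fw hfw (by simp)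
  have hw : ⇑w = fw := coe_basisOfTopLeSpanOfCardEqFinrank _ _ _
  have heig : ∀ i, ∃ ν : F, T (w i) = ν • w i := fun i => by
    have h := hvi (i, 0)
    rw [show (Set.range fun l : Fin 1 => v (i, l)) = {fw i} by
      ext y; simp [fw, Fin.exists_fin_one, eq_comm]] at h
    obtain ⟨ν, hν⟩ := mem_span_singleton.mp h
    exact ⟨ν, by rw [hw]; exact hν.symm⟩
  choose ν hν using heig
  have hνn : ∀ i, ν i ^ n = 1 := fun i => by
    have hj : ∀ j : ℕ, (T ^ j) (w i) = ν i ^ j • w i := fun j => by
      induction j with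
      | zero => simp
      | succ j ih => rw [pow_succ', Module.End.mul_apply, ih, map_smul, hν, smul_smul, pow_succ]
    have := hj n
    rw [hT, Module.End.one_apply] at this
    exact (smul_left_injective F (w.ne_zero i) ((one_smul F (w i)).trans this)).symm
  obtain ⟨ζ, hζ⟩ := exists_prime_orderOf_dvd_card (G := Fˣ) n (by rw [Fintype.card_units]; exact hdvd)
  have hprim : IsPrimitiveRoot (ζ : F) n := by
    rw [← hζ, ← orderOf_units]; exact IsPrimitiveRoot.orderOf _
  let χ : ZMod n → F := fun a => (ζ : F) ^ a.val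
  have hχn : ∀ j : ℕ, χ (j : ZMod n) = (ζ : F) ^ j := fun j => by
    simp only [χ, ZMod.val_natCast]
    conv_rhs => rw [← Nat.mod_add_div j n, pow_add, pow_mul, hprim.pow_eq_one, one_pow, mul_one]
  have hχ : ∀ a b, χ (a + b) = χ a * χ b := fun a b => by
    rw [← ZMod.natCast_zmod_val a, ← ZMod.natCast_zmod_val b, ← Nat.cast_add, hχn, hχn, hχn, pow_add]
  have hex : ∀ i, ∃ a : ZMod n, χ a = ν i := fun i => by
    obtain ⟨j, -, hj⟩ := hprim.eq_pow_of_pow_eq_one (hνn i)
    exact ⟨j, by rw [hχn, hj]⟩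
  choose ex hex using hex
  have hsum : ∑ i, ex i = 0 := by
    have hd : LinearMap.det T = ∏ i, ν i := by
      rw [← LinearMap.det_toMatrix w, show LinearMap.toMatrix w w T = Matrix.diagonal ν by
        ext a b
        rw [LinearMap.toMatrix_apply, hν, map_smul, Module.Basis.repr_self, Finsupp.smul_apply, Finsupp.single_apply,
          Matrix.diagonal_apply]
        by_cases hab : b = a
        · subst hab; simp
        · simp [hab, Ne.symm hab], Matrix.det_diagonal]
    rw [hTdef, LinearMap.det_toLin', hdetx] at hd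
    have hs : ∀ s : Finset (Fin n), χ (∑ i ∈ s, ex i) = ∏ i ∈ s, ν i := by
      intro s
      induction s using Finset.induction_on with
      | empty => simp [χ]
      | insert a s ha ih => rw [Finset.sum_insert ha, Finset.prod_insert ha, hχ, ih, hex]
    have h := (hs Finset.univ).trans hd.symm
    rw [show χ (∑ i, ex i) = (ζ : F) ^ (∑ i, ex i).val from rfl, hprim.pow_eq_one_iff_dvd] at h
    rw [← ZMod.val_eq_zero]
    exact Nat.eq_zero_of_dvd_of_lt h (ZMod.val_lt _)
  -- pairing of the eigenvalues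
  obtain ⟨k, τ, s₀, hk, hτ1, hτ2⟩ : ∃ (k : ℕ) (τ : (Fin k ⊕ Fin k) ⊕ Unit ≃ Fin n) (s₀ : ZMod n),
      n = 2 * k + 1 ∧ (∀ j, ex (τ (Sum.inl (Sum.inl j))) + ex (τ (Sum.inl (Sum.inr j))) = s₀) ∧
        ex (τ (Sum.inr ())) + ex (τ (Sum.inr ())) = s₀ := by
    rcases hn35 with rfl | rfl
    · rw [Fin.sum_univ_three] at hsum
      let τ : (Fin 1 ⊕ Fin 1) ⊕ Unit → Fin 3 := Sum.elim (Sum.elim (fun _ => 1) fun _ => 2) fun _ => 0
      have h3 : ∀ a : ZMod 3, a + a + a = 0 := zmod3_sum
      refine ⟨1, Equiv.ofBijective τ tau_bij, ex 0 + ex 0, rfl, fun j => ?_, rfl⟩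
      show ex 1 + ex 2 = ex 0 + ex 0
      linear_combination hsum - h3 (ex 0)
    · rw [Fin.sum_univ_five] at hsum
      obtain ⟨p, -, hp, hp0, hp1⟩ := five_pair (ex 1 - ex 0) (ex 2 - ex 0) (ex 3 - ex 0)
      have h5 : (5 : ZMod 5) = 0 := zmod5_five
      have hval : ∀ i, (![0, ex 1 - ex 0, ex 2 - ex 0, ex 3 - ex 0,
          -(ex 1 - ex 0 + (ex 2 - ex 0) + (ex 3 - ex 0))] : Fin 5 → ZMod 5) i = ex i - ex 0 := fun i => by
        fin_cases i <;> simp
        linear_combination -hsum + ex 0 * h5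
      simp only [hval] at hp0 hp1
      let idx : (Fin 2 ⊕ Fin 2) ⊕ Unit → Fin 5 := Sum.elim (Sum.elim ![0, 1] ![2, 3]) fun _ => 4
      have hidx : Function.Bijective idx := idx_bij
      refine ⟨2, (Equiv.ofBijective idx hidx).trans (Equiv.ofBijective p (Finite.injective_iff_bijective.mp hp)),
        ex (p 4) + ex (p 4), rfl, fun j => ?_, rfl⟩
      fin_cases j
      · show ex (p 0) + ex (p 2) = _
        linear_combination hp0
      · show ex (p 1) + ex (p 3) = _
        linear_combination hp1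
  obtain ⟨D, z₁, hm, hz₁, hQz₁, -, hK⟩ := odd_basis (Q := Q) (m := k) (by simp; omega) hQ
  subst hm
  obtain ⟨β, hβ⟩ := D.basis rfl (κ := Unit) (fun _ => z₁) (fun _ => hz₁)
    (LinearIndependent.of_subsingleton () (fun e => hQz₁ (by rw [e, QuadraticMap.map_zero]))) (by rw [hK]; rfl)
  have hμ : χ s₀ ≠ 0 := pow_ne_zero _ (Units.ne_zero ζ)
  have hxw : ∀ i, (x : M).mulVec (w i) = ν i • w i := fun i => by rw [← Matrix.toLin'_apply, ← hTdef, hν]
  refine into Q x ((w.reindex τ.symm).equiv β (Equiv.refl _)) hμ (sim_of_basis Q h2 (w.reindex τ.symm) _ _ fun i j => ?_)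
    fun δ _ => diag_centre (x : M) w _ hxw (by omega) δ
  have hxi : ∀ i, (x : M).mulVec ((w.reindex τ.symm) i) = χ (ex (τ i)) • (w.reindex τ.symm) i := fun i => by
    simp [hxw, hex]
  rw [hxi, hxi, map_smul, map_smul, Module.Basis.equiv_apply, Module.Basis.equiv_apply, Equiv.refl_apply,
    Equiv.refl_apply, polar_smul_left, polar_smul_right, smul_eq_mul, smul_eq_mul, ← mul_assoc, ← hχ, hβ]
  rcases i with (a | a) | a <;> rcases j with (b | b) | b <;>
    simp only [Sum.elim_inl, Sum.elim_inr, D.ee, D.ff, D.ef, polar_comm (⇑Q) (D.f _) (D.e _), D.ek _ _ hz₁, D.fk _ _ hz₁,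
      polar_comm (⇑Q) z₁, mul_zero, mul_ite, mul_one, hτ2] <;>
    (try split_ifs with hab) <;> (try subst hab) <;>
    simp only [hτ1, add_comm (ex (τ (Sum.inl (Sum.inr _))))]

theorem main {p : ℕ} [Fact p.Prime] [CharP F p] (hodd : Odd (Fintype.card F)) (hn : 3 ≤ n) (Q : V → F)
    (hQ : Cfsg.Geo.IsNondegenerateQuadraticForm Q) (r : ℕ) [Fact r.Prime] (hgap : ¬ (n = 6 ∧ r = 3))
    (hΩ : r ∣ (Cfsg.Geo.quadSimilarityGroup Q).relIndex (Cfsg.Geo.specialLinear (Fin n) F)) :
    (∀ x ∈ Cfsg.Geo.specialLinear (Fin n) F, (∃ z : F, ((x ^ r : GL (Fin n) F) : M) = z • (1 : M)) →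
      (∀ z : F, (x : M) ≠ z • (1 : M)) →
      ∃ g ∈ Cfsg.Geo.specialLinear (Fin n) F, g⁻¹ * x * g ∈ Cfsg.Geo.quadSimilarityGroup Q) ↔
    (r = 2 ∨ ((r = 3 ∨ r = 5) ∧ n = r ∧ padicValNat r (Fintype.card F - 1) = 1)) := by
  classical
  obtain ⟨Q, rfl, hnd⟩ := Refl.exists_form hQ
  have h2 : (2 : F) ≠ 0 := Refl.two_ne_zero_of_odd hodd
  have hr : r.Prime := Fact.out
  constructor
  · intro hall
    by_contra hcond
    push Not at hcond
    obtain ⟨hr2, hsmall⟩ := hcond
    have finish : (∃ x ∈ Cfsg.Geo.specialLinear (Fin n) F, (∃ z : F, ((x ^ r : GL (Fin n) F) : M) = z • (1 : M)) ∧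
        (∀ a : F, (x : M) ≠ a • (1 : M)) ∧ ∀ s : GL (Fin n) F, s⁻¹ * x * s ∉ Cfsg.Geo.quadSimilarityGroup (⇑Q)) →
        False := fun ⟨x, hxS, hxz, hxn, hx⟩ => by
      obtain ⟨g, -, hg⟩ := hall x hxS hxz hxn
      exact hx g hg
    by_cases hrp : r = p
    · subst hrp
      exact finish (unipotent_bad Q hnd (by omega) h2)
    have hrc : (r : F) ≠ 0 := cast_ne_zero hr hrp
    have hrF := not_dvd_card (F := F) hr hrp
    by_cases hd : r ∣ Fintype.card F - 1
    · obtain ⟨ζ, hζ⟩ := exists_prime_orderOf_dvd_card (G := Fˣ) r (by rw [Fintype.card_units]; exact hd)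
      have hprim : IsPrimitiveRoot (ζ : F) r := by rw [← hζ, ← orderOf_units]; exact IsPrimitiveRoot.orderOf _
      have hz0 : ∀ j : ℕ, ((ζ : F) ^ j) ^ r = 1 := fun j => by rw [← pow_mul, mul_comm, pow_mul, hprim.pow_eq_one, one_pow]
      have hinj : ∀ i j, i < r → j < r → (ζ : F) ^ i = (ζ : F) ^ j → i = j := fun i j hi hj => hprim.pow_inj hi hj
      by_cases hrn : r ∣ n
      · rcases eq_or_ne n r with hnr | hnr
        · subst hnr
          rcases Nat.lt_or_ge n 7 with h7 | h7
          · have h35 : n = 3 ∨ n = 5 := by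
              interval_cases n
              · exact .inl rfl
              · exact absurd hr (by norm_num)
              · exact .inr rfl
              · exact absurd hr (by norm_num)
            have hv := hsmall h35 rfl
            have hv1 : 1 ≤ padicValNat n (Fintype.card F - 1) :=
              one_le_padicValNat_of_dvd (Nat.sub_pos_of_lt Fintype.one_lt_card).ne' hd
            obtain ⟨t, ht⟩ : n ^ 2 ∣ Fintype.card F - 1 :=
              (padicValNat_dvd_iff_le (Nat.sub_pos_of_lt Fintype.one_lt_card).ne').mpr (by omega)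
            obtain ⟨b, hb⟩ := power_of_pow_eq_one hr hd (c := ((ζ : F) ^ 1)⁻¹) (by simp) (by
              rw [ht, _root_.sq, mul_assoc, Nat.mul_div_cancel_left _ hr.pos, pow_mul, inv_pow, hz0, inv_one, one_pow])
            refine finish (diag_bad Q hnd (by omega) hr hr2 b ((ζ : F) ^ 1) ((ζ : F) ^ 0) 1 (fun e => ?_) (hz0 _) (hz0 _)
              (one_pow _) (k₁ := 1) (k₂ := n - 1) (k₃ := 0) (by omega) one_pos (by omega) (by omega) (by omega) (by omega)
              (fun h => absurd (hinj 1 0 hr.one_lt hr.pos h) one_ne_zero) (.inl rfl) ?_)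
            · rw [e, zero_pow hr.ne_zero] at hb
              simp at hb
              exact ζ.ne_zero hb.symm
            · rw [hb]; simp
          · refine finish (diag_bad Q hnd (by omega) hr hr2 1 ((ζ : F) ^ (n - 2)) ((ζ : F) ^ 1) ((ζ : F) ^ 0) one_ne_zero
              (hz0 _) (hz0 _) (hz0 _) (k₁ := 1) (k₂ := 2) (k₃ := n - 3) (by omega) one_pos two_pos (by omega) (by omega)
              (by omega) (fun h => by have := hinj _ _ (by omega) hr.one_lt h; omega)
              (.inr ⟨fun h => by have := hinj _ _ hr.pos (by omega) h; omega,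
                fun h => absurd (hinj 0 1 hr.pos hr.one_lt h) zero_ne_one⟩) ?_)
            rw [one_pow, one_mul, ← pow_mul, ← pow_mul, ← pow_mul, ← pow_add, ← pow_add,
              show (n - 2) * 1 + 1 * 2 + 0 * (n - 3) = n by omega, hprim.pow_eq_one]
        · obtain ⟨t, rfl⟩ := hrn
          have ht2 : 2 ≤ t := by
            rcases t with _ | _ | t
            · omega
            · exact absurd (mul_one r) hnr
            · omega
          have hr3 : 3 ≤ r := by have := hr.two_le; omega
          rcases eq_or_ne r 3 with rfl | hr3'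
          · refine finish (diag_bad Q hnd (by omega) hr hr2 1 ((ζ : F) ^ 0) ((ζ : F) ^ 1) 1 one_ne_zero (hz0 _) (hz0 _)
              (one_pow _) (k₁ := 3) (k₂ := 3 * t - 3) (k₃ := 0) (by omega) (by omega) (by omega) (by omega) (by omega)
              (by omega) (fun h => absurd (hinj 0 1 (by omega) (by omega) h) zero_ne_one) (.inl rfl) ?_)
            rw [one_pow, one_mul, ← pow_mul, ← pow_mul, one_pow, mul_one, ← pow_add,
              show 0 * 3 + 1 * (3 * t - 3) = 3 * (t - 1) by omega, pow_mul, hprim.pow_eq_one, one_pow]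
          · have hr5 : 5 ≤ r := by
              by_contra h
              have : r = 4 := by omega
              subst this
              norm_num at hr
            have h10 : 10 ≤ r * t := Nat.mul_le_mul hr5 ht2
            refine finish (diag_bad Q hnd (by omega) hr hr2 1 ((ζ : F) ^ (r - 2)) ((ζ : F) ^ 1) ((ζ : F) ^ 0) one_ne_zero
              (hz0 _) (hz0 _) (hz0 _) (k₁ := 1) (k₂ := 2) (k₃ := r * t - 3) (by omega) one_pos two_pos (by omega) (by omega)
              (by omega) (fun h => by have := hinj _ _ (by omega) hr.one_lt h; omega)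
              (.inr ⟨fun h => by have := hinj _ _ hr.pos (by omega) h; omega,
                fun h => absurd (hinj 0 1 hr.pos hr.one_lt h) zero_ne_one⟩) ?_)
            rw [one_pow, one_mul, ← pow_mul, ← pow_mul, ← pow_mul, ← pow_add, ← pow_add,
              show (r - 2) * 1 + 1 * 2 + 0 * (r * t - 3) = r by omega, hprim.pow_eq_one]
      · refine finish (diag_bad Q hnd (by omega) hr hr2 1 ((ζ : F) ^ (n - 1)) ((ζ : F) ^ (r - 1)) 1 one_ne_zero (hz0 _)
          (hz0 _) (one_pow _) (k₁ := 1) (k₂ := n - 1) (k₃ := 0) (by omega) one_pos (by omega) (by omega) (by omega)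
          (by omega) (fun h => hrn ?_) (.inl rfl) ?_)
        · refine hprim.dvd_of_pow_eq_one n ?_
          calc (ζ : F) ^ n = (ζ : F) ^ (n - 1) * (ζ : F) ^ 1 := by rw [← pow_add]; congr 1; omega
            _ = (ζ : F) ^ (r - 1) * (ζ : F) ^ 1 := by rw [h]
            _ = 1 := by rw [← pow_add, Nat.sub_add_cancel hr.pos, hprim.pow_eq_one]
        · rw [one_pow, one_mul, ← pow_mul, ← pow_mul, one_pow, mul_one, ← pow_add,
            show (n - 1) * 1 + (r - 1) * (n - 1) = r * (n - 1) by
              conv_rhs => rw [← Nat.sub_add_cancel hr.pos]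
              ring,
            pow_mul, hprim.pow_eq_one, one_pow]
    · obtain ⟨hcn, hev⟩ := index_div Q hnd h2 hn hr2 hrF hd hΩ
      have hc2 : 2 ≤ orderOf (Fintype.card F : ZMod r) := by
        have := ord_pos (F := F) hrF
        by_contra h
        refine hd ?_
        rw [← pow_one (Fintype.card F), dvd_pow_sub_one, show orderOf (Fintype.card F : ZMod r) = 1 by omega]
      exact finish (big_bad Q hnd h2 hrc hrF rfl hc2 hcn hev)
  · rintro (rfl | ⟨h35, hnr, hv⟩) x hxS hz -
    · obtain ⟨z, hz⟩ := hz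
      exact good_two Q hnd h2 hn x hxS hz
    · have hrp : r ≠ p := fun e => by
        subst e
        have hd : r ∣ Fintype.card F - 1 := dvd_of_one_le_padicValNat hv.ge
        obtain ⟨f, -, hf⟩ := FiniteField.card F r
        have h1 : r ∣ Fintype.card F := hf ▸ dvd_pow_self r f.pos.ne'
        have h3 := Nat.dvd_sub h1 hd
        rw [Nat.sub_sub_self Fintype.card_pos, Nat.dvd_one] at h3
        exact hr.ne_one h3
      exact good_small Q hnd h2 h35 hnr hv (not_dvd_card hr hrp) (cast_ne_zero hr hrp) x hxS hz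

end Cfsg.Lib.Classical.QuadSim
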