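import Mathlib
import Cfsg.Prelude.Def_GeometricClasses
import Cfsg.Agent.Classical.Misc.OrthUnipotentModels
import Cfsg.Agent.Classical.Misc.NegOne
import Cfsg.Agent.Classical.Misc.HyperbolicQuadric
import Cfsg.Agent.Classical.Orth.StdForms

/-! Invariant nondegenerate subspaces of unipotent orthogonal elements. -/

set_option autoImplicit false
set_option linter.unusedSimpArgs false
set_option linter.unusedSectionVars false
set_option linter.unusedVariables false
set_option linter.style.haveILetI false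
set_option linter.flexible false

namespace Cfsg.Lib.Classical.OrthUni

open Submodule QuadraticMap

universe u

variable {F : Type u} [Field F]

section Ranks

variable {V : Type u} [AddCommGroup V] [Module F V] [FiniteDimensional F V]

/-- Rank of a power on a subspace. -/
noncomputable def rk (N : Module.End F V) (W : Submodule F V) (j : ℕ) : ℕ :=
  Module.finrank F (W.map (N ^ j))

/-- Number of blocks of a given size on a subspace. -/
noncomputable def blocks (N : Module.End F V) (W : Submodule F V) (b : ℕ) : ℕ :=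
  rk N W (b - 1) + rk N W (b + 1) - 2 * rk N W b

theorem rank_nullity (N : Module.End F V) (U : Submodule F V) :
    Module.finrank F U = Module.finrank F (U.map N) + Module.finrank F (U ⊓ LinearMap.ker N : Submodule F V) := by
  have h := LinearMap.finrank_range_add_finrank_ker (N.domRestrict U)
  rw [LinearMap.range_domRestrict, LinearMap.ker_domRestrict] at h
  rw [← h]
  congr 1
  refine LinearEquiv.finrank_eq (LinearEquiv.ofEq _ _ ?_ ≪≫ₗ Submodule.comapSubtypeEquivOfLe inf_le_left)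
  ext ⟨v, hv⟩
  simp [hv]

theorem map_pow_succ (N : Module.End F V) (W : Submodule F V) (j : ℕ) :
    W.map (N ^ (j + 1)) = (W.map (N ^ j)).map N := by
  rw [pow_succ', Module.End.mul_eq_comp, Submodule.map_comp]

theorem rk_convex (N : Module.End F V) (W : Submodule F V) (hW : ∀ w ∈ W, N w ∈ W) (j : ℕ) :
    2 * rk N W (j + 1) ≤ rk N W j + rk N W (j + 2) := by
  have h1 := rank_nullity N (W.map (N ^ j))
  have h2 := rank_nullity N (W.map (N ^ (j + 1)))
  rw [← map_pow_succ] at h1 h2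
  have hle : W.map (N ^ (j + 1)) ≤ W.map (N ^ j) := by
    rintro _ ⟨w, hw, rfl⟩
    exact ⟨N w, hW w hw, by rw [pow_succ, Module.End.mul_apply]⟩
  have h3 := Submodule.finrank_mono (inf_le_inf_right (LinearMap.ker N) hle)
  show 2 * rk N W (j + 1) ≤ rk N W j + rk N W (j + 1 + 1)
  simp only [rk]
  omega

theorem blocks_sum (N : Module.End F V) (W : Submodule F V) (hW : ∀ w ∈ W, N w ∈ W) :
    ∀ A, (∑ b ∈ Finset.Icc 1 A, b * blocks N W b) + (A + 1) * rk N W A = rk N W 0 + A * rk N W (A + 1) := by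
  intro A
  induction A with
  | zero => simp
  | succ A ih =>
    rw [Finset.sum_Icc_succ_top (by omega)]
    have hc : 2 * rk N W (A + 1) ≤ rk N W A + rk N W (A + 1 + 1) := rk_convex N W hW A
    have hb : blocks N W (A + 1) + 2 * rk N W (A + 1) = rk N W A + rk N W (A + 1 + 1) := by
      simp only [blocks, Nat.add_sub_cancel]; omega
    zify at ih hb ⊢
    linear_combination ih + ((A : ℤ) + 1) * hb

theorem rk_add (N : Module.End F V) {W W' : Submodule F V} (hc : IsCompl W W') (hW : ∀ w ∈ W, N w ∈ W)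
    (hW' : ∀ w ∈ W', N w ∈ W') (j : ℕ) : rk N ⊤ j = rk N W j + rk N W' j := by
  have hinv : ∀ (U : Submodule F V), (∀ w ∈ U, N w ∈ U) → U.map (N ^ j) ≤ U := by
    intro U hU
    induction j with
    | zero => rintro _ ⟨w, hw, rfl⟩; exact hw
    | succ j ih =>
      rw [map_pow_succ]
      rintro _ ⟨w, hw, rfl⟩
      exact hU w (ih hw)
  have h := Submodule.finrank_sup_add_finrank_inf_eq (W.map (N ^ j)) (W'.map (N ^ j))
  rw [← Submodule.map_sup, hc.sup_eq_top, (hc.disjoint.mono (hinv W hW) (hinv W' hW')).eq_bot, finrank_bot,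
    add_zero] at h
  exact h

/-- Skew maps have even rank. -/
theorem rk_skew_even (h2 : (2 : F) ≠ 0) (B : LinearMap.BilinForm F V) (hs : ∀ u v, B u v = B v u)
    (S : Module.End F V) (hS : ∀ u v, B (S u) v = -B u (S v)) (W : Submodule F V) (hW : ∀ w ∈ W, S w ∈ W)
    (hnd : ∀ w ∈ W, (∀ v ∈ W, B w v = 0) → w = 0) : Even (Module.finrank F (W.map S)) := by
  classical
  set f := S.domRestrict W with hf
  obtain ⟨C, hC⟩ := Submodule.exists_isCompl (LinearMap.ker f)
  have hdim : Module.finrank F C = Module.finrank F (W.map S) := by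
    have h1 := LinearMap.finrank_range_add_finrank_ker f
    have h2 := Submodule.finrank_add_eq_of_isCompl hC
    rw [LinearMap.range_domRestrict] at h1
    omega
  let b := Module.finBasis F C
  let G : Matrix (Fin (Module.finrank F C)) (Fin (Module.finrank F C)) F :=
    Matrix.of fun i l => B (f (b i : W)) ((b l : W) : V)
  have hskew : G.transpose = -G := by
    ext i l
    show B (S ((b l : W) : V)) _ = -B (S ((b i : W) : V)) _
    rw [hS, hs]
  have hdet : G.det ≠ 0 := by
    intro h0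
    obtain ⟨u, hu0, hu⟩ := Matrix.exists_vecMul_eq_zero_iff.mpr h0
    set w : C := ∑ i, u i • b i with hw
    have hwb : ∀ l, B (f (w : W)) ((b l : W) : V) = 0 := fun l => by
      have h := congrFun hu l
      simp only [Matrix.vecMul, dotProduct, G, Matrix.of_apply, Pi.zero_apply] at h
      simpa [hw, map_sum, LinearMap.sum_apply] using h
    have hC0 : ∀ c : C, B (f (w : W)) ((c : W) : V) = 0 := fun c => by
      rw [← b.sum_repr c]
      simp only [Submodule.coe_sum, Submodule.coe_smul, map_sum, map_smul, hwb, smul_zero, Finset.sum_const_zero]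
    have hall : ∀ v : W, B (f (w : W)) (v : V) = 0 := fun v => by
      obtain ⟨k, hk, c, hc, rfl⟩ := Submodule.mem_sup.mp (hC.sup_eq_top ▸ mem_top : v ∈ LinearMap.ker f ⊔ C)
      rw [Submodule.coe_add, map_add, hC0 ⟨c, hc⟩, add_zero]
      show B (S ((w : W) : V)) (k : V) = 0
      rw [hS, show S (k : V) = 0 from hk, map_zero, neg_zero]
    have hfw : f (w : W) = 0 := hnd _ (hW _ (w : W).2) fun v hv => hall ⟨v, hv⟩
    have hw0 : (w : W) = 0 := Submodule.disjoint_def.mp hC.disjoint _ hfw w.2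
    refine hu0 (funext fun i => Fintype.linearIndependent_iff.mp b.linearIndependent u ?_ i)
    exact Subtype.ext hw0
  rw [← hdim]
  by_contra hodd
  have h := congrArg Matrix.det hskew
  rw [Matrix.det_transpose, Matrix.det_neg, Fintype.card_fin, (Nat.not_even_iff_odd.mp hodd).neg_one_pow] at h
  exact hdet ((mul_eq_zero.mp (show (2 : F) * G.det = 0 by linear_combination h)).resolve_left h2)

/-- The ranks of odd powers of a unipotent isometry minus one are even. -/
theorem rk_odd_even (h2 : (2 : F) ≠ 0) (B : LinearMap.BilinForm F V) (hs : ∀ u v, B u v = B v u)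
    (T : Module.End F V) (hT : ∀ u v, B (T u) (T v) = B u v) {p : ℕ} (hp : Odd p) (hTp : T ^ p = 1)
    (W : Submodule F V) (hW : ∀ w ∈ W, T w ∈ W) (hnd : ∀ w ∈ W, (∀ v ∈ W, B w v = 0) → w = 0) {j : ℕ} (hj : Odd j) :
    Even (rk (T - 1) W j) := by
  obtain ⟨i, hi⟩ := hp
  set Y : Module.End F V := T ^ (2 * i)
  have hTY : T * Y = 1 := by rw [← pow_succ', ← hi, hTp]
  have hYT : Y * T = 1 := by rw [← pow_succ, ← hi, hTp]
  have hBY : ∀ u v, B (Y u) v = B u (T v) := fun u v => by
    conv_rhs => rw [show u = T (Y u) by rw [← Module.End.mul_apply, hTY]; rfl]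
    rw [hT]
  have hBT : ∀ u v, B (T u) v = B u (Y v) := fun u v => by rw [hs, ← hBY, hs]
  set K := T - Y
  have hK : ∀ u v, B (K u) v = -B u (K v) := fun u v => by
    simp only [K, LinearMap.sub_apply, map_sub, hBY, hBT]; ring
  have hKj : ∀ (k : ℕ) u v, B ((K ^ k) u) v = (-1) ^ k * B u ((K ^ k) v) := by
    intro k
    induction k with
    | zero => intro u v; simp
    | succ k ih =>
      intro u v
      rw [pow_succ K, Module.End.mul_apply, ih, hK, ← Module.End.mul_apply, ← pow_succ', ← pow_succ K,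
        pow_succ (-1 : F)]
      ring
  have hKW : ∀ (k : ℕ) w, w ∈ W → (K ^ k) w ∈ W := by
    have hTk : ∀ (k : ℕ) w, w ∈ W → (T ^ k) w ∈ W := by
      intro k
      induction k with
      | zero => intro w hw; exact hw
      | succ k ih => intro w hw; rw [pow_succ', Module.End.mul_apply]; exact hW _ (ih w hw)
    intro k
    induction k with
    | zero => intro w hw; exact hw
    | succ k ih => intro w hw; rw [pow_succ', Module.End.mul_apply]; exact sub_mem (hW _ (ih w hw)) (hTk _ _ (ih w hw))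
  have heven := rk_skew_even h2 B hs (K ^ j) (fun u v => by rw [hKj, hj.neg_one_pow, neg_one_mul]) W (hKW j) hnd
  set U : Module.End F V := Y * (T + 1)
  have hU : Function.Injective U := by
    have hY : Function.Injective Y :=
      Function.LeftInverse.injective (g := T) fun v => by rw [← Module.End.mul_apply, hTY]; rfl
    rw [show ⇑U = ⇑Y ∘ ⇑(T + 1) from rfl]
    refine hY.comp ((injective_iff_map_eq_zero _).mpr fun v hv => ?_)
    rw [LinearMap.add_apply, Module.End.one_apply, add_eq_zero_iff_eq_neg] at hv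
    have hk : ∀ k : ℕ, (T ^ k) v = (-1 : F) ^ k • v := by
      intro k
      induction k with
      | zero => simp
      | succ k ih => rw [pow_succ', Module.End.mul_apply, ih, map_smul, hv, pow_succ, mul_smul, neg_one_smul]
    have h := hk p
    rw [hTp, Module.End.one_apply, hi, (odd_two_mul_add_one i).neg_one_pow, neg_one_smul] at h
    have h' : (2 : F) • v = 0 := by rw [two_smul]; conv_lhs => arg 1; rw [h]
                                    exact neg_add_cancel v
    exact (smul_eq_zero.mp h').resolve_left h2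
  have hcT : Commute T Y := (Commute.refl T).pow_right _
  have hfac : K = U * (T - 1) := by
    show T - Y = Y * (T + 1) * (T - 1)
    rw [mul_assoc, add_mul, one_mul, mul_sub, mul_one, sub_add_sub_cancel, mul_sub, ← mul_assoc, hYT, one_mul, mul_one]
  have hcU : Commute U (T - 1) := by
    refine Commute.sub_right (Commute.mul_left ?_ ?_) (Commute.one_right _)
    · exact hcT.symm
    · exact (Commute.refl T).add_left (Commute.one_left T)
  rw [hfac, hcU.mul_pow, Module.End.mul_eq_comp, Submodule.map_comp] at heven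
  have hUj : Function.Injective (U ^ j) := by rw [Module.End.coe_pow]; exact hU.iterate j
  rwa [← LinearEquiv.finrank_eq (Submodule.equivMapOfInjective _ hUj (W.map ((T - 1) ^ j)))] at heven

end Ranks

/-- The blocks on a nondegenerate invariant subspace. -/
theorem sub_partition [Fintype F] {ι : Type} [Fintype ι] [DecidableEq ι] (h2 : (2 : F) ≠ 0) (Q : QuadraticForm F (ι → F))
    (x : GL ι F) (hx : ∀ v, Q ((x : Matrix ι ι F).mulVec v) = Q v) {p : ℕ} (hp : Odd p) (hxp : x ^ p = 1)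
    (μ : Multiset ℕ) (hle : ∀ e ∈ μ, 0 < e ∧ e ≤ p)
    (hrk : ∀ j, rk (Matrix.toLin' (x : Matrix ι ι F) - 1) ⊤ j = (μ.map fun e => e - j).sum)
    (W : Submodule F (ι → F)) (hW : W.map (Matrix.toLin' (x : Matrix ι ι F)) ≤ W)
    (hnd : Cfsg.Geo.IsNondegenerateOn (polar ⇑Q) W) :
    ∃ ν : Multiset ℕ, ν ≤ μ ∧ ν.sum = Module.finrank F W ∧ (∀ e : ℕ, Even e → Even (ν.count e)) ∧
      ∀ b, 1 ≤ b → b ≤ p → ν.count b = blocks (Matrix.toLin' (x : Matrix ι ι F) - 1) W b := by
  classical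
  set T : Module.End F (ι → F) := Matrix.toLin' (x : Matrix ι ι F) with hTd
  set N : Module.End F (ι → F) := T - 1 with hN
  have hiso : ∀ u v, polarBilin Q (T u) (T v) = polarBilin Q u v := fun u v => by
    show polar (⇑Q) _ _ = polar (⇑Q) u v
    simp only [hTd, Matrix.toLin'_apply, polar, ← Matrix.mulVec_add, hx]
  have hTinj : Function.Injective T := Function.LeftInverse.injective
    (g := Matrix.toLin' ((x⁻¹ : GL ι F) : Matrix ι ι F)) fun v => by
    rw [hTd, Matrix.toLin'_apply, Matrix.toLin'_apply, Matrix.mulVec_mulVec, ← Units.val_mul, inv_mul_cancel,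
      Units.val_one, Matrix.one_mulVec]
  have hWT : ∀ w ∈ W, T w ∈ W := fun w hw => hW ⟨w, hw, rfl⟩
  have hWeq : W.map T = W := eq_of_le_of_finrank_le hW
    (LinearEquiv.finrank_eq (Submodule.equivMapOfInjective _ hTinj W)).le
  have hres : ∀ w ∈ W, (∀ v ∈ W, polarBilin Q w v = 0) → w = 0 := fun w hw h => by
    by_contra h0
    obtain ⟨-, v, hv, hv'⟩ := hnd w hw h0
    exact hv' (h v hv)
  set W' := LinearMap.BilinForm.orthogonal (polarBilin Q) W with hW'd
  have hrefl : LinearMap.BilinForm.IsRefl (polarBilin Q) := fun u v h => by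
    rw [polarBilin_apply_apply, polar_comm]; exact h
  have hcompl : IsCompl W W' := by
    refine (LinearMap.BilinForm.isCompl_orthogonal_iff_disjoint hrefl).mpr (Submodule.disjoint_def.mpr fun w hw hw' => ?_)
    exact hres w hw fun v hv => hrefl v w (hw' v hv)
  have hW'T : ∀ v ∈ W', T v ∈ W' := fun v hv w hw => by
    obtain ⟨w', hw', rfl⟩ : w ∈ W.map T := hWeq.symm ▸ hw
    exact (hiso w' v).trans (hv w' hw')
  have hWN : ∀ w ∈ W, N w ∈ W := fun w hw => sub_mem (hWT w hw) hw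
  have hW'N : ∀ w ∈ W', N w ∈ W' := fun w hw => sub_mem (hW'T w hw) hw
  have hμ0 : ∀ j, p ≤ j → (μ.map fun e => e - j).sum = 0 := fun j hj =>
    Multiset.sum_eq_zero fun a ha => by
      obtain ⟨e, he, rfl⟩ := Multiset.mem_map.mp ha
      have := (hle e he).2
      omega
  have hid : ∀ (m : Multiset ℕ) (b : ℕ), 1 ≤ b → (m.map fun e => e - (b - 1)).sum + (m.map fun e => e - (b + 1)).sum =
      2 * (m.map fun e => e - b).sum + m.count b := by
    intro m b hb
    induction m using Multiset.induction_on with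
    | empty => simp
    | cons a m ih =>
      simp only [Multiset.map_cons, Multiset.sum_cons, Multiset.count_cons]
      split_ifs with h <;> omega
  let ν : Multiset ℕ := ∑ b ∈ Finset.Icc 1 p, Multiset.replicate (blocks N W b) b
  have hνc : ∀ e, ν.count e = if e ∈ Finset.Icc 1 p then blocks N W e else 0 := fun e => by
    simp [ν, Multiset.count_sum', Multiset.count_replicate, Finset.sum_ite_eq']
  refine ⟨ν, Multiset.le_iff_count.mpr fun e => ?_, ?_, fun e he => ?_, fun b hb hbp => ?_⟩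
  · rw [hνc]
    split_ifs with he
    · rw [Finset.mem_Icc] at he
      obtain ⟨j, rfl⟩ : ∃ j, e = j + 1 := ⟨e - 1, by omega⟩
      have h := hid μ (j + 1) (by omega)
      simp only [Nat.add_sub_cancel] at h
      rw [← hrk, ← hrk, ← hrk, rk_add N hcompl hWN hW'N, rk_add N hcompl hWN hW'N,
        rk_add N hcompl hWN hW'N] at h
      have h' : 2 * rk N W' (j + 1) ≤ rk N W' j + rk N W' (j + 1 + 1) := rk_convex N W' hW'N j
      simp only [blocks, Nat.add_sub_cancel]
      omega
    · exact Nat.zero_le _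
  · have h := blocks_sum N W hWN p
    have hp0 : ∀ j, p ≤ j → rk N W j = 0 := fun j hj => by
      have := rk_add N hcompl hWN hW'N j
      rw [hrk, hμ0 j hj] at this
      omega
    rw [hp0 p le_rfl, hp0 (p + 1) (by omega), mul_zero, mul_zero, add_zero, add_zero] at h
    have h0 : rk N W 0 = Module.finrank F W := by
      rw [rk, pow_zero, Module.End.one_eq_id, Submodule.map_id]
    rw [← h0, ← h]
    rw [Multiset.sum_sum]
    exact Finset.sum_congr rfl fun b _ => by rw [Multiset.sum_replicate, smul_eq_mul, mul_comm]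
  · rw [hνc]
    split_ifs with hm
    · rw [Finset.mem_Icc] at hm
      obtain ⟨i, hi⟩ := he
      have hT' : T ^ p = 1 := by
        have h : Matrix.toLinAlgEquiv' ((x : Matrix ι ι F) ^ p) = Matrix.toLinAlgEquiv' (1 : Matrix ι ι F) := by
          rw [← Units.val_pow_eq_pow_val, hxp]; rfl
        rw [map_pow, map_one] at h
        exact h
      have e1 := rk_odd_even h2 (polarBilin Q) (fun u v => polar_comm _ _ _) T hiso hp hT' W hWT hres
        (j := e - 1) ⟨i - 1, by omega⟩
      have e2 := rk_odd_even h2 (polarBilin Q) (fun u v => polar_comm _ _ _) T hiso hp hT' W hWT hres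
        (j := e + 1) ⟨i, by omega⟩
      rw [← hN] at e1 e2
      rw [blocks, Nat.even_iff] at *
      omega
    · exact Even.zero
  · rw [hνc, if_pos (Finset.mem_Icc.mpr ⟨hb, hbp⟩)]

/-- A unipotent element for a partition with an odd part. -/
theorem witness [Fintype F] {p : ℕ} [Fact p.Prime] [CharP F p] (hp : Odd p) (h2 : (2 : F) ≠ 0) {ι : Type} [Fintype ι]
    [DecidableEq ι] (Q : QuadraticForm F (ι → F)) (hQ : (polarBilin Q).Nondegenerate) (μ : Multiset ℕ)
    (hle : ∀ e ∈ μ, 0 < e ∧ e ≤ p) (hev : ∀ e : ℕ, Even e → Even (μ.count e)) (hsum : μ.sum = Fintype.card ι)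
    {a₀ : ℕ} (ha₀ : a₀ ∈ μ) (hodd : Odd a₀) :
    ∃ x : GL ι F, x ∈ Cfsg.Geo.omegaGL (⇑Q) ∧ x ^ p = 1 ∧ (∀ v, Q ((x : Matrix ι ι F).mulVec v) = Q v) ∧
      ∀ j, rk (Matrix.toLin' (x : Matrix ι ι F) - 1) ⊤ j = (μ.map fun e => e - j).sum := by
  classical
  let β := Σ a : μ.toFinset, Fin (μ.count a.1)
  let A : β → ℕ := fun k => k.1.1
  let τ : β → β := fun k => ⟨k.1, if Even k.1.1 then k.2.rev else k.2⟩
  let c : β → F := fun k => if Even k.1.1 ∧ μ.count k.1.1 ≤ 2 * (k.2 : ℕ) then -1 else 1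
  have hτ : ∀ k, τ (τ k) = k := by
    rintro ⟨a, i⟩
    by_cases h : Even a.1 <;> simp [τ, h]
  have hc : ∀ k, c (τ k) = (-1) ^ (A k + 1) * c k := by
    rintro ⟨a, i⟩
    by_cases h : Even a.1
    · simp only [c, τ, A, if_pos h, h, if_true, true_and, (h.add_one).neg_one_pow]
      have hi := i.2
      obtain ⟨t, ht⟩ := hev a.1 h
      rw [Fin.val_rev]
      by_cases hs : μ.count a.1 ≤ 2 * (i : ℕ)
      · rw [if_neg (by omega), if_pos hs]; ring
      · rw [if_pos (by omega), if_neg hs]; ring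
    · simp only [c, τ, A, h, false_and, if_false, mul_one,
        ((Nat.not_even_iff_odd.mp h).add_one).neg_one_pow]
  have hA : ∀ j, ∑ k, (A k - j) = (μ.map fun e => e - j).sum := fun j => by
    rw [Finset.sum_multiset_map_count, Fintype.sum_sigma]
    refine Eq.trans ?_ (Finset.sum_coe_sort _ _)
    exact Finset.sum_congr rfl fun a _ => by simp [A]
  let k₀ : β := ⟨⟨a₀, Multiset.mem_toFinset.mpr ha₀⟩, ⟨0, Multiset.count_pos.mpr ha₀⟩⟩
  obtain ⟨x, hx, hxp, hrk⟩ := exists_model (A := A) (τ := τ) h2 (p := p)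
    (fun k => (hle _ (Multiset.mem_toFinset.mp k.1.2)).2)
    (fun k => rfl) hτ hc (fun k => by simp only [c]; split_ifs <;> simp) (k₀ := k₀)
    (by simp [τ, k₀, Nat.not_even_iff_odd.mpr hodd]) hodd Q hQ (by
      rw [← hsum, show ∑ k, A k = ∑ k, (A k - 0) from rfl, hA]; simp)
  refine ⟨x, ?_, hxp, hx, fun j => (hrk j).trans (hA j)⟩
  let g : Cfsg.isometryGroup F (⇑Q) := ⟨x, (Refl.mem_iff Q).mpr hx⟩
  exact ⟨g, odd_mem_omega Q h2 hQ g hp (Subtype.ext hxp), rfl⟩

theorem scalar_ones {p : ℕ} [Fact p.Prime] [CharP F p] {ι : Type} [Fintype ι] [DecidableEq ι] [Nonempty ι]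
    (x : GL ι F) (hxp : x ^ p = 1) (μ : Multiset ℕ) (hle : ∀ e ∈ μ, 0 < e ∧ e ≤ p)
    (hrk : ∀ j, rk (Matrix.toLin' (x : Matrix ι ι F) - 1) ⊤ j = (μ.map fun e => e - j).sum)
    (h : x = 1 ∨ ∃ z : F, (x : Matrix ι ι F) = z • 1) : ∀ e ∈ μ, e = 1 := by
  classical
  have hx1 : (x : Matrix ι ι F) = 1 := by
    rcases h with rfl | ⟨z, hz⟩
    · rfl
    · have hzp := congrArg (fun g : GL ι F => (g : Matrix ι ι F)) hxp
      simp only [Units.val_pow_eq_pow_val, hz, _root_.smul_pow, one_pow, Units.val_one] at hzp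
      have h1 : z ^ p = 1 := by
        have := congrFun (congrFun hzp (Classical.arbitrary ι)) (Classical.arbitrary ι)
        simpa using this
      have : (z - 1) ^ p = 0 := by rw [sub_pow_char, h1, one_pow, sub_self]
      rw [hz, sub_eq_zero.mp (pow_eq_zero_iff (Fact.out : p.Prime).ne_zero |>.mp this), one_smul]
  have h1 := hrk 1
  rw [hx1, Matrix.toLin'_one, ← Module.End.one_eq_id, sub_self, rk, pow_one, Submodule.map_zero, finrank_bot] at h1
  intro e he
  have h2 := Multiset.sum_eq_zero_iff.mp h1.symm (e - 1) (Multiset.mem_map.mpr ⟨e, he, rfl⟩)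
  have := (hle e he).1
  omega

/-- Partitions with an odd part suffice. -/
theorem reduce {p m : ℕ} (hp : Odd p) (hm : Even m) (S : ℕ) (hS : 0 < S)
    (h : ∀ μ : Multiset ℕ, (∀ e ∈ μ, 0 < e ∧ e ≤ p) → (∀ e : ℕ, Even e → Even (μ.count e)) → μ.sum = S →
      (∃ e ∈ μ, Odd e) → ∃ ν : Multiset ℕ, ν ≤ μ ∧ ν.sum = m ∧ ∀ e : ℕ, Even e → Even (ν.count e))
    (μ : Multiset ℕ) (hle : ∀ e ∈ μ, 0 < e ∧ e ≤ p) (hev : ∀ e : ℕ, Even e → Even (μ.count e)) (hsum : μ.sum = S) :
    ∃ ν : Multiset ℕ, ν ≤ μ ∧ ν.sum = m ∧ ∀ e : ℕ, Even e → Even (ν.count e) := by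
  classical
  by_cases hodd : ∃ e ∈ μ, Odd e
  · exact h μ hle hev hsum hodd
  push Not at hodd
  obtain ⟨a, ha⟩ : ∃ a, a ∈ μ := Multiset.exists_mem_of_ne_zero fun e => by
    rw [e, Multiset.sum_zero] at hsum; omega
  have hae : Even a := Nat.not_odd_iff_even.mp (hodd a ha)
  obtain ⟨ha0, hap⟩ := hle a ha
  have ha2 : 2 ≤ μ.count a := by
    have h1 := Multiset.count_pos.mpr ha
    obtain ⟨t, ht⟩ := hev a hae
    omega
  have hapl : a + 1 ≤ p := by
    obtain ⟨i, hi⟩ := hp; obtain ⟨t, ht⟩ := hae; omega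
  obtain ⟨b, rfl⟩ : ∃ b, a = b + 1 := ⟨a - 1, by omega⟩
  have hb : 1 ≤ b := by obtain ⟨t, ht⟩ := hae; omega
  have hrep : Multiset.replicate 2 (b + 1) ≤ μ := Multiset.le_count_iff_replicate_le.mp ha2
  obtain ⟨R, hR⟩ := Multiset.le_iff_exists_add.mp hrep
  have hRodd : ∀ e, Odd e → R.count e = 0 := fun e he => Multiset.count_eq_zero.mpr fun hmem =>
    (hodd e (by rw [hR]; exact Multiset.mem_add.mpr (Or.inr hmem))) he
  have hRev : ∀ e, Even e → Even (R.count e) := fun e he => by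
    have := hev e he
    rw [hR, Multiset.count_add, Multiset.count_replicate] at this
    split_ifs at this <;> simp_all [Nat.even_add]
  obtain ⟨ν, hνle, hνsum, hνev⟩ := h ({b + 2, b} + R) (fun e he => by
      rcases Multiset.mem_add.mp he with he | he
      · simp at he; rcases he with rfl | rfl <;> omega
      · exact hle e (by rw [hR]; exact Multiset.mem_add.mpr (Or.inr he)))
    (fun e he => by
      rw [Multiset.count_add, Multiset.count_eq_zero.mpr (fun hmem => ?_), zero_add]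
      · exact hRev e he
      · simp at hmem
        obtain ⟨t, ht⟩ := hae
        obtain ⟨s, hs⟩ := he
        rcases hmem with rfl | rfl <;> omega)
    (by rw [← hsum, hR]; simp [Multiset.sum_replicate]; ring)
    ⟨b + 2, by simp, by obtain ⟨t, ht⟩ := hae; exact ⟨t, by omega⟩⟩
  have hcnt : ∀ e, ν.count e ≤ Multiset.count e {b + 2, b} + R.count e := fun e => by
    rw [← Multiset.count_add]; exact Multiset.le_iff_count.mp hνle e
  have hbo : Odd b := by obtain ⟨t, ht⟩ := hae; exact ⟨t - 1, by omega⟩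
  have hb2o : Odd (b + 2) := by obtain ⟨t, ht⟩ := hae; exact ⟨t, by omega⟩
  have c1 : ν.count b ≤ 1 := by simpa [hRodd b hbo] using hcnt b
  have c2 : ν.count (b + 2) ≤ 1 := by simpa [hRodd _ hb2o] using hcnt (b + 2)
  have hsplit : ν = Multiset.replicate (ν.count b) b + Multiset.replicate (ν.count (b + 2)) (b + 2) +
      ν.filter Even := by
    ext e
    rw [Multiset.count_add, Multiset.count_add, Multiset.count_replicate, Multiset.count_replicate, Multiset.count_filter]
    by_cases he : Even e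
    · rw [if_neg (fun h : b = e => Nat.not_even_iff_odd.mpr hbo (h ▸ he)),
        if_neg (fun h : b + 2 = e => Nat.not_even_iff_odd.mpr hb2o (h ▸ he)), if_pos he, zero_add, zero_add]
    · rw [if_neg he, add_zero]
      have h0 := hcnt e
      rw [hRodd e (Nat.not_even_iff_odd.mp he)] at h0
      by_cases h1 : b = e
      · subst h1; simp
      · by_cases h2 : b + 2 = e
        · subst h2; simp
        · simp [h1, h2, Ne.symm h1, Ne.symm h2] at h0 ⊢
          exact h0
  have hsumν := congrArg Multiset.sum hsplit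
  rw [Multiset.sum_add, Multiset.sum_add, Multiset.sum_replicate, Multiset.sum_replicate, hνsum, smul_eq_mul,
    smul_eq_mul] at hsumν
  have hfe : Even (ν.filter Even).sum := by
    refine Multiset.sum_induction (fun n => Even n) _ (fun x y hx hy => hx.add hy) Even.zero fun e he => ?_
    exact (Multiset.mem_filter.mp he).2
  have hfle : ν.filter Even ≤ R := Multiset.le_iff_count.mpr fun e => by
    rw [Multiset.count_filter]
    split_ifs with he
    · have h0 := hcnt e
      have hz : Multiset.count e ({b + 2, b} : Multiset ℕ) = 0 := Multiset.count_eq_zero.mpr fun hmem => by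
        simp at hmem
        rcases hmem with rfl | rfl
        · exact Nat.not_even_iff_odd.mpr hb2o he
        · exact Nat.not_even_iff_odd.mpr hbo he
      rwa [hz, zero_add] at h0
    · exact Nat.zero_le _
  have hfev : ∀ e : ℕ, Even e → Even ((ν.filter Even).count e) := fun e he => by
    rw [Multiset.count_filter, if_pos he]; exact hνev e he
  rcases Nat.eq_zero_or_pos (ν.count b) with z1 | z1
  · refine ⟨ν.filter Even, by rw [hR]; exact hfle.trans (Multiset.le_add_left _ _), ?_, hfev⟩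
    rcases Nat.eq_zero_or_pos (ν.count (b + 2)) with z2 | z2
    · rw [z1, z2] at hsumν; omega
    · rw [z1, show ν.count (b + 2) = 1 by omega] at hsumν
      obtain ⟨i, hi⟩ := hm
      obtain ⟨t, ht⟩ := hfe
      obtain ⟨s, hs⟩ := hb2o
      omega
  · rw [show ν.count b = 1 by omega] at hsumν
    refine ⟨Multiset.replicate 2 (b + 1) + ν.filter Even, by rw [hR]; exact add_le_add le_rfl hfle, ?_, fun e he => ?_⟩
    · rw [Multiset.sum_add, Multiset.sum_replicate, smul_eq_mul]
      rcases Nat.eq_zero_or_pos (ν.count (b + 2)) with z2 | z2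
      · rw [z2] at hsumν
        obtain ⟨i, hi⟩ := hm
        obtain ⟨t, ht⟩ := hfe
        obtain ⟨s, hs⟩ := hbo
        omega
      · rw [show ν.count (b + 2) = 1 by omega] at hsumν
        omega
    · rw [Multiset.count_add, Multiset.count_replicate]
      exact Even.add (by split_ifs <;> simp) (hfev e he)

/-- The partition condition. -/
theorem necessary [Fintype F] {p : ℕ} [Fact p.Prime] [CharP F p] (hp : Odd p) (h2 : (2 : F) ≠ 0) {ι : Type} [Fintype ι]
    [DecidableEq ι] [Nonempty ι] (Q : QuadraticForm F (ι → F)) (hQ : (polarBilin Q).Nondegenerate) {m : ℕ}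
    (hm : Even m) (hmn : m ≤ Fintype.card ι)
    (H : ∀ x : GL ι F, x ∈ Cfsg.Geo.omegaGL (⇑Q) → x ^ p = 1 → (∀ z : F, (x : Matrix ι ι F) ≠ z • 1) → x ≠ 1 →
      ∃ W : Submodule F (ι → F), Module.finrank F W = m ∧ Cfsg.Geo.IsNondegenerateOn (polar ⇑Q) W ∧
        W.map (Matrix.toLin' (x : Matrix ι ι F)) ≤ W)
    (μ : Multiset ℕ) (hle : ∀ e ∈ μ, 0 < e ∧ e ≤ p) (hev : ∀ e : ℕ, Even e → Even (μ.count e))
    (hsum : μ.sum = Fintype.card ι) :
    ∃ ν : Multiset ℕ, ν ≤ μ ∧ ν.sum = m ∧ ∀ e : ℕ, Even e → Even (ν.count e) := by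
  classical
  refine reduce hp hm (Fintype.card ι) Fintype.card_pos ?_ μ hle hev hsum
  intro μ hle hev hsum ⟨a₀, ha₀, hodd⟩
  obtain ⟨x, hxΩ, hxp, hx, hrk⟩ := witness hp h2 Q hQ μ hle hev hsum ha₀ hodd
  by_cases htriv : ∀ e ∈ μ, e = 1
  · have hμ := Multiset.eq_replicate_card.mpr htriv
    rw [hμ] at hsum ⊢
    rw [Multiset.sum_replicate, smul_eq_mul, mul_one] at hsum
    refine ⟨Multiset.replicate m 1, (Multiset.replicate_le_replicate _).mpr (hsum ▸ hmn), by simp, fun e he => ?_⟩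
    rw [Multiset.count_replicate, if_neg (by rintro rfl; simp at he)]
    exact Even.zero
  · obtain ⟨W, hWm, hWn, hWi⟩ := H x hxΩ hxp (fun z hz => htriv (scalar_ones x hxp μ hle hrk (.inr ⟨z, hz⟩)))
      (fun h => htriv (scalar_ones x hxp μ hle hrk (.inl h)))
    obtain ⟨ν, h1, h2', h3, -⟩ := sub_partition h2 Q x hx hp hxp μ hle hrk W hWi hWn
    exact ⟨ν, h1, h2'.trans hWm, h3⟩

/-- Odd order forces odd characteristic. -/
theorem char_facts [Fintype F] {p : ℕ} [Fact p.Prime] [CharP F p] (hodd : Odd (Fintype.card F)) :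
    Odd p ∧ (2 : F) ≠ 0 ∧ 3 ≤ p := by
  have h2 : (2 : F) ≠ 0 := fun h => by
    have hp2 : p = 2 := ((Nat.prime_dvd_prime_iff_eq Fact.out Nat.prime_two).mp
      ((CharP.cast_eq_zero_iff F p 2).mp (by exact_mod_cast h)))
    obtain ⟨f, -, hf⟩ := FiniteField.card F p
    rw [hf, hp2] at hodd
    exact Nat.not_even_iff_odd.mpr hodd ((Nat.even_pow.mpr ⟨even_two, f.pos.ne'⟩))
  have hp2 : p ≠ 2 := fun e => h2 (by subst e; exact_mod_cast (CharP.cast_eq_zero F 2))
  have := (Fact.out : p.Prime).two_le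
  exact ⟨(Fact.out : p.Prime).odd_of_ne_two hp2, h2, by omega⟩

theorem counts_small {k : ℕ} {t : Multiset ℕ} {ν : Multiset ℕ} (hν : ν ≤ Multiset.replicate k 2 + t) (ht : 2 ∉ t) :
    ν.filter (· = 2) = Multiset.replicate (ν.count 2) 2 ∧ ν.filter (fun e => ¬ e = 2) ≤ t := by
  refine ⟨Multiset.filter_eq' ν 2, Multiset.le_iff_count.mpr fun e => ?_⟩
  rw [Multiset.count_filter]
  split_ifs with he
  · exact Nat.zero_le _
  · have := Multiset.le_iff_count.mp hν e
    rwa [Multiset.count_add, Multiset.count_replicate, if_neg (Ne.symm he), zero_add] at this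

/-- Sums of sub-partitions of twos and a tail. -/
theorem sub_sum {k : ℕ} {t ν : Multiset ℕ} (hν : ν ≤ Multiset.replicate k 2 + t) (ht : 2 ∉ t)
    (hev : Even (ν.count 2)) : ∃ s ≤ t, (4 : ℕ) ∣ ν.sum - s.sum ∧ s.sum ≤ ν.sum := by
  obtain ⟨h1, h2⟩ := counts_small hν ht
  refine ⟨_, h2, ?_⟩
  conv => enter [1, 2, 1]; rw [← Multiset.filter_add_not (· = 2) ν]
  rw [Multiset.sum_add, Nat.add_sub_cancel, h1, Multiset.sum_replicate, smul_eq_mul]
  obtain ⟨i, hi⟩ := hev
  refine ⟨⟨i, by omega⟩, ?_⟩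
  conv_rhs => rw [← Multiset.filter_add_not (· = 2) ν]
  rw [Multiset.sum_add]
  exact Nat.le_add_left _ _

theorem plus_main [Fintype F] {p : ℕ} [Fact p.Prime] [CharP F p] (hodd : Odd (Fintype.card F)) (d m : ℕ) (hd : 0 < d)
    (hme : Even m) (hmd : m ≤ 2 * d)
    (H : ∀ x : GL (Fin d ⊕ Fin d) F, x ∈ Cfsg.Geo.omegaGL (Cfsg.quadFormPlus d F) →
      (∃ z : F, ((x ^ p : GL (Fin d ⊕ Fin d) F) : Matrix (Fin d ⊕ Fin d) (Fin d ⊕ Fin d) F) =
        z • (1 : Matrix (Fin d ⊕ Fin d) (Fin d ⊕ Fin d) F)) →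
      (∀ z : F, (x : Matrix (Fin d ⊕ Fin d) (Fin d ⊕ Fin d) F) ≠ z • (1 : Matrix (Fin d ⊕ Fin d) (Fin d ⊕ Fin d) F)) →
      ∃ W : Submodule F (Fin d ⊕ Fin d → F), (Module.finrank F ↥W = m ∧
        Cfsg.Geo.IsNondegenerateOn (QuadraticMap.polar (Cfsg.quadFormPlus d F)) W ∧
        Cfsg.Geo.IsPlusTypeOn (Cfsg.quadFormPlus d F) W) ∧
        W.map (Matrix.toLin' (x : Matrix (Fin d ⊕ Fin d) (Fin d ⊕ Fin d) F)) ≤ W) :
    ∀ μ : Multiset ℕ, (∀ e ∈ μ, 0 < e ∧ e ≤ p) → (∀ e : ℕ, Even e → Even (μ.count e)) → μ.sum = 2 * d →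
      ∃ ν : Multiset ℕ, ν ≤ μ ∧ ν.sum = m ∧ ∀ e : ℕ, Even e → Even (ν.count e) := by
  obtain ⟨hp, h2, -⟩ := char_facts (p := p) hodd
  have hf : ⇑(HypQuad.plusForm d F) = Cfsg.quadFormPlus d F := funext (HypQuad.plusForm_apply d)
  haveI : Nonempty (Fin d ⊕ Fin d) := ⟨Sum.inl ⟨0, hd⟩⟩
  intro μ hle hev hsum
  refine necessary hp h2 (HypQuad.plusForm d F) (HypQuad.plusForm_nondegenerate d) hme (by simp; omega)
    (fun x hx hxp hns _ => ?_) μ hle hev (by simp [hsum, two_mul])
  rw [hf] at hx ⊢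
  obtain ⟨W, ⟨h1, h3, -⟩, h4⟩ := H x hx ⟨1, by rw [hxp, one_smul]; rfl⟩ hns
  exact ⟨W, h1, h3, h4⟩

theorem odd_main [Fintype F] {p : ℕ} [Fact p.Prime] [CharP F p] (hodd : Odd (Fintype.card F)) (d m : ℕ)
    (hme : Even m) (hmd : m ≤ 2 * d)
    (H : ∀ x : GL (Unit ⊕ (Fin d ⊕ Fin d)) F, x ∈ Cfsg.Geo.omegaGL (Cfsg.quadFormOdd d F) → orderOf x = p →
      ∃ W : Submodule F (Unit ⊕ (Fin d ⊕ Fin d) → F), (Module.finrank F ↥W = m ∧
        Cfsg.Geo.IsNondegenerateOn (QuadraticMap.polar (Cfsg.quadFormOdd d F)) W ∧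
        Cfsg.Geo.IsPlusTypeOn (Cfsg.quadFormOdd d F) W) ∧
        W.map (Matrix.toLin' (x : Matrix (Unit ⊕ (Fin d ⊕ Fin d)) (Unit ⊕ (Fin d ⊕ Fin d)) F)) ≤ W) :
    m % 4 = 0 ∧ ∀ μ : Multiset ℕ, (∀ e ∈ μ, 0 < e ∧ e ≤ p) → (∀ e : ℕ, Even e → Even (μ.count e)) →
      μ.sum = 2 * d + 1 → ∃ ν : Multiset ℕ, ν ≤ μ ∧ ν.sum = m ∧ ∀ e : ℕ, Even e → Even (ν.count e) := by
  obtain ⟨hp, h2, hp3⟩ := char_facts (p := p) hodd
  have hcond : ∀ μ : Multiset ℕ, (∀ e ∈ μ, 0 < e ∧ e ≤ p) → (∀ e : ℕ, Even e → Even (μ.count e)) →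
      μ.sum = 2 * d + 1 → ∃ ν : Multiset ℕ, ν ≤ μ ∧ ν.sum = m ∧ ∀ e : ℕ, Even e → Even (ν.count e) := by
    intro μ hle hev hsum
    refine necessary hp h2 (Refl.oddForm d F) (Refl.oddForm_nondegenerate h2 d) hme (by simp; omega)
      (fun x hx hxp _ hx1 => ?_) μ hle hev (by simp [hsum]; omega)
    rw [Refl.oddForm_coe] at hx ⊢
    obtain ⟨W, ⟨h1, h3, -⟩, h4⟩ := H x hx (orderOf_eq_prime hxp hx1)
    exact ⟨W, h1, h3, h4⟩
  refine ⟨?_, hcond⟩
  obtain ⟨i, hi⟩ := hme
  rcases Nat.even_or_odd d with ⟨s, hs⟩ | ⟨s, hs⟩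
  · obtain ⟨ν, hν, hνs, hνe⟩ := hcond (Multiset.replicate d 2 + {1}) (fun e he => by
        simp only [Multiset.mem_add, Multiset.mem_replicate, Multiset.mem_singleton, Multiset.insert_eq_cons, Multiset.mem_cons] at he; rcases he with ⟨-, rfl⟩ | rfl <;> omega) (fun e he => by
        rw [Multiset.count_add, Multiset.count_replicate, Multiset.count_eq_zero.mpr (fun hmem : e ∈ ({1} : Multiset ℕ) => by
          rw [Multiset.mem_singleton] at hmem; rw [hmem] at he; exact Nat.not_even_one he), add_zero]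
        split_ifs
        · exact ⟨s, by omega⟩
        · exact Even.zero) (by simp; omega)
    obtain ⟨t, htle, hdvd, hts⟩ := sub_sum hν (by simp) (hνe 2 even_two)
    rcases (Multiset.le_singleton.mp htle) with rfl | rfl <;> simp at hdvd hts <;> omega
  · obtain ⟨ν, hν, hνs, hνe⟩ := hcond (Multiset.replicate (d - 1) 2 + {3}) (fun e he => by
        simp only [Multiset.mem_add, Multiset.mem_replicate, Multiset.mem_singleton, Multiset.insert_eq_cons, Multiset.mem_cons] at he; rcases he with ⟨-, rfl⟩ | rfl <;> omega) (fun e he => by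
        rw [Multiset.count_add, Multiset.count_replicate, Multiset.count_eq_zero.mpr (fun hmem : e ∈ ({3} : Multiset ℕ) => by
          rw [Multiset.mem_singleton] at hmem; rw [hmem] at he; revert he; decide), add_zero]
        split_ifs
        · exact ⟨s, by omega⟩
        · exact Even.zero) (by simp; omega)
    obtain ⟨t, htle, hdvd, hts⟩ := sub_sum hν (by simp) (hνe 2 even_two)
    rcases (Multiset.le_singleton.mp htle) with rfl | rfl <;> simp at hdvd hts <;> omega

theorem minus_main [Fintype F] {p : ℕ} [Fact p.Prime] [CharP F p] (hodd : Odd (Fintype.card F)) (d m : ℕ) (hd : 2 ≤ d)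
    (hme : Even m) (hmd : m ≤ 2 * d) (a b : F)
    (hab : ∀ x y : F, x ^ 2 + a * x * y + b * y ^ 2 = 0 → x = 0 ∧ y = 0)
    (H : ∀ x : GL ((Fin (d - 1) ⊕ Fin (d - 1)) ⊕ Fin 2) F, x ∈ Cfsg.Geo.omegaGL (Cfsg.quadFormMinus (d - 1) F a b) →
      (∃ z : F, ((x ^ p : GL ((Fin (d - 1) ⊕ Fin (d - 1)) ⊕ Fin 2) F) :
        Matrix ((Fin (d - 1) ⊕ Fin (d - 1)) ⊕ Fin 2) ((Fin (d - 1) ⊕ Fin (d - 1)) ⊕ Fin 2) F) =
          z • (1 : Matrix ((Fin (d - 1) ⊕ Fin (d - 1)) ⊕ Fin 2) ((Fin (d - 1) ⊕ Fin (d - 1)) ⊕ Fin 2) F)) →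
      (∀ z : F, (x : Matrix ((Fin (d - 1) ⊕ Fin (d - 1)) ⊕ Fin 2) ((Fin (d - 1) ⊕ Fin (d - 1)) ⊕ Fin 2) F) ≠
        z • (1 : Matrix ((Fin (d - 1) ⊕ Fin (d - 1)) ⊕ Fin 2) ((Fin (d - 1) ⊕ Fin (d - 1)) ⊕ Fin 2) F)) →
      ∃ W : Submodule F ((Fin (d - 1) ⊕ Fin (d - 1)) ⊕ Fin 2 → F), (Module.finrank F ↥W = m ∧
        Cfsg.Geo.IsNondegenerateOn (QuadraticMap.polar (Cfsg.quadFormMinus (d - 1) F a b)) W ∧
        ¬ Cfsg.Geo.IsPlusTypeOn (Cfsg.quadFormMinus (d - 1) F a b) W) ∧
        W.map (Matrix.toLin' (x : Matrix ((Fin (d - 1) ⊕ Fin (d - 1)) ⊕ Fin 2)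
          ((Fin (d - 1) ⊕ Fin (d - 1)) ⊕ Fin 2) F)) ≤ W) :
    (2 * d) % 4 = m % 4 ∧ ∀ μ : Multiset ℕ, (∀ e ∈ μ, 0 < e ∧ e ≤ p) → (∀ e : ℕ, Even e → Even (μ.count e)) →
      μ.sum = 2 * d → ∃ ν : Multiset ℕ, ν ≤ μ ∧ ν.sum = m ∧ ∀ e : ℕ, Even e → Even (ν.count e) := by
  obtain ⟨hp, h2, hp3⟩ := char_facts (p := p) hodd
  haveI : Nonempty ((Fin (d - 1) ⊕ Fin (d - 1)) ⊕ Fin 2) := ⟨Sum.inr 0⟩
  set Q := Refl.minusForm (d - 1) F a b with hQd
  have hf : ⇑Q = Cfsg.quadFormMinus (d - 1) F a b := Refl.minusForm_coe _ a b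
  have hQ : (polarBilin Q).Nondegenerate := Refl.minusForm_nondegenerate' (d - 1) hab
  rw [← hf] at H
  have hcond : ∀ μ : Multiset ℕ, (∀ e ∈ μ, 0 < e ∧ e ≤ p) → (∀ e : ℕ, Even e → Even (μ.count e)) →
      μ.sum = 2 * d → ∃ ν : Multiset ℕ, ν ≤ μ ∧ ν.sum = m ∧ ∀ e : ℕ, Even e → Even (ν.count e) := by
    intro μ hle hev hsum
    refine necessary hp h2 Q hQ hme (by simp; omega) (fun x hx hxp hns _ => ?_) μ hle hev (by simp [hsum]; omega)
    obtain ⟨W, ⟨h1, h3, -⟩, h4⟩ := H x hx ⟨1, by rw [hxp, one_smul]; rfl⟩ hns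
    exact ⟨W, h1, h3, h4⟩
  refine ⟨?_, hcond⟩
  obtain ⟨i, hi⟩ := hme
  rcases Nat.even_or_odd d with ⟨s, hs⟩ | ⟨s, hs⟩
  · obtain ⟨ν, hν, hνs, hνe⟩ := hcond (Multiset.replicate (d - 2) 2 + {3, 1}) (fun e he => by
        simp only [Multiset.mem_add, Multiset.mem_replicate, Multiset.mem_singleton, Multiset.insert_eq_cons, Multiset.mem_cons] at he; rcases he with ⟨-, rfl⟩ | rfl | rfl <;> omega) (fun e he => by
        rw [Multiset.count_add, Multiset.count_replicate]
        rw [Multiset.count_eq_zero.mpr (fun hmem : e ∈ ({3, 1} : Multiset ℕ) => by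
          simp at hmem; rcases hmem with rfl | rfl <;> simp [Nat.even_iff] at he), add_zero]
        split_ifs
        · exact ⟨s - 1, by omega⟩
        · exact Even.zero) (by simp; omega)
    obtain ⟨t, htle, hdvd, hts⟩ := sub_sum hν (by simp) (hνe 2 even_two)
    have hall : ∀ s ∈ ({3, 1} : Multiset ℕ).powerset, s.sum = 0 ∨ s.sum = 1 ∨ s.sum = 3 ∨ s.sum = 4 := by decide
    have hs' := hall t (Multiset.mem_powerset.mpr htle)
    omega
  · by_contra hne
    set μ : Multiset ℕ := Multiset.replicate (d - 1) 2 + {1, 1} with hμ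
    have hle : ∀ e ∈ μ, 0 < e ∧ e ≤ p := fun e he => by
      simp only [hμ, Multiset.mem_add, Multiset.mem_replicate, Multiset.mem_singleton, Multiset.insert_eq_cons, Multiset.mem_cons] at he; rcases he with ⟨-, rfl⟩ | rfl | rfl <;> omega
    have hev : ∀ e : ℕ, Even e → Even (μ.count e) := fun e he => by
      rw [hμ, Multiset.count_add, Multiset.count_replicate,
        Multiset.count_eq_zero.mpr (fun hmem : e ∈ ({1, 1} : Multiset ℕ) => by
          simp at hmem; subst hmem; simp [Nat.even_iff] at he), add_zero]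
      split_ifs
      · exact ⟨s, by omega⟩
      · exact Even.zero
    obtain ⟨x, hxΩ, hxp, hx, hrk⟩ := witness hp h2 Q hQ μ hle hev (by simp [hμ]; omega) (a₀ := 1) (by simp [hμ]) odd_one
    have hns : ∀ z : F, (x : Matrix ((Fin (d - 1) ⊕ Fin (d - 1)) ⊕ Fin 2) ((Fin (d - 1) ⊕ Fin (d - 1)) ⊕ Fin 2) F) ≠ z • 1 := fun z hz => by
      have h := scalar_ones x hxp μ hle hrk (.inr ⟨z, hz⟩) 2 (by rw [hμ]; exact Multiset.mem_add.mpr (Or.inl (Multiset.mem_replicate.mpr ⟨by omega, rfl⟩)))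
      omega
    obtain ⟨W, ⟨hWm, hWn, hWp⟩, hWi⟩ := H x hxΩ ⟨1, by rw [hxp, one_smul]; rfl⟩ hns
    obtain ⟨ν, hν, hνs, hνe, hνc⟩ := sub_partition h2 Q x hx hp hxp μ hle hrk W hWi hWn
    set T : Module.End F (((Fin (d - 1) ⊕ Fin (d - 1)) ⊕ Fin 2) → F) := Matrix.toLin' (x : Matrix ((Fin (d - 1) ⊕ Fin (d - 1)) ⊕ Fin 2) ((Fin (d - 1) ⊕ Fin (d - 1)) ⊕ Fin 2) F)
    set N := T - 1 with hN
    obtain ⟨t, htle, hdvd, hts⟩ := sub_sum hν (by simp) (hνe 2 even_two)
    obtain ⟨h1, h2'⟩ := counts_small hν (by simp)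
    have hc1 : ν.count 1 = 0 := by
      have hle1 : ν.count 1 ≤ 2 := by
        have := Multiset.le_iff_count.mp hν 1
        simpa [hμ, Multiset.count_replicate] using this
      have hs1 := congrArg Multiset.sum (Multiset.filter_add_not (· = 2) ν)
      have h3 : ν.filter (fun e => ¬ e = 2) = Multiset.replicate (ν.count 1) 1 := by
        ext e
        rw [Multiset.count_filter, Multiset.count_replicate]
        by_cases he : e = 1
        · subst he; simp
        · rw [if_neg (Ne.symm he)]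
          by_cases he2 : e = 2
          · rw [if_neg (not_not.mpr he2)]
          · rw [if_pos he2]
            have := Multiset.le_iff_count.mp hν e
            simpa [hμ, Multiset.count_replicate, he, he2, Ne.symm he2] using this
      rw [Multiset.sum_add, h1, h3, Multiset.sum_replicate, Multiset.sum_replicate, hνs, hWm, smul_eq_mul,
        smul_eq_mul] at hs1
      obtain ⟨j, hj⟩ := hνe 2 even_two
      omega
    have htop2 : rk N ⊤ 2 = 0 := by
      rw [hN, hrk]
      exact Multiset.sum_eq_zero fun e he => by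
        obtain ⟨e', he', rfl⟩ := Multiset.mem_map.mp he
        simp only [hμ, Multiset.mem_add, Multiset.mem_replicate, Multiset.mem_singleton, Multiset.insert_eq_cons, Multiset.mem_cons] at he'
        rcases he' with ⟨-, rfl⟩ | rfl | rfl <;> rfl
    have hW2 : rk N W 2 = 0 := Nat.le_zero.mp (htop2 ▸ Submodule.finrank_mono (Submodule.map_mono le_top))
    have hW0 : rk N W 0 = m := by rw [rk, pow_zero, Module.End.one_eq_id, Submodule.map_id, hWm]
    have hb1 := hνc 1 le_rfl (by omega)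
    simp only [blocks, Nat.sub_self, Nat.reduceAdd] at hb1
    rw [hc1, hW2, hW0] at hb1
    have hcx : 2 * rk N W 1 ≤ rk N W 0 + rk N W 2 := rk_convex N W (fun w hw => sub_mem (hWi ⟨w, hw, rfl⟩) hw) 0
    rw [hW2, hW0] at hcx
    refine hWp ⟨W.map N, ?_, ?_, ?_⟩
    · rintro _ ⟨w, hw, rfl⟩
      exact sub_mem (hWi ⟨w, hw, rfl⟩) hw
    · rintro _ ⟨w, hw, rfl⟩
      have hNN : N (N w) = 0 := by
        have h : (N ^ 2) w ∈ (⊤ : Submodule F _).map (N ^ 2) := ⟨w, mem_top, rfl⟩
        rw [finrank_eq_zero.mp htop2, Submodule.mem_bot, _root_.sq] at h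
        exact h
      have e1 : T w = w + N w := by simp [hN]
      have e2 : T (N w) = N w := by
        have : T (N w) - N w = 0 := hNN
        exact sub_eq_zero.mp this
      have hb : polar (⇑Q) (T w) (T (N w)) = polar (⇑Q) w (N w) := by
        simp only [T, Matrix.toLin'_apply, polar, ← Matrix.mulVec_add, hx]
      rw [e2, e1, polar_add_left, polar_self, two_smul] at hb
      exact (mul_eq_zero.mp (show (2 : F) * Q (N w) = 0 by linear_combination hb)).resolve_left h2
    · have : rk N W 1 = Module.finrank F (W.map N) := by rw [rk, pow_one]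
      rw [← this, hWm]
      omega

end Cfsg.Lib.Classical.OrthUni
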