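import Mathlib
import Cfsg.Agent.Classical.Misc.PGLMax

/-! Maximal subgroups of `PGL₂(q)` meet `PSL₂(q)` maximally. -/

set_option autoImplicit false
set_option linter.unusedSimpArgs false
set_option linter.unusedSectionVars false
set_option linter.style.haveILetI false
set_option linter.flexible false
set_option maxRecDepth 20000

namespace Cfsg.Lib.Classical.PGLMax

open Matrix MulAction
open scoped MatrixGroups LinearAlgebra.Projectivization
open Cfsg.Lib.Classical.PSLFour Cfsg.Lib.Classical.PSLMaxPoints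
open Cfsg.Lib.Classical.PSLEmbed (pslMap)
open Cfsg.Lib.Classical.SharpGeom (pairStab)

universe u

local notation "PSL₂" k => Matrix.ProjectiveSpecialLinearGroup (Fin 2) k
local notation "PGL₂" k => Matrix.ProjGenLinGroup (Fin 2) k

variable {F : Type u} [Field F] [Fintype F] {q : ℕ}

theorem borel_meet (hF : Fintype.card F = q) (hodd : Odd (Fintype.card F)) (h4 : 4 ≤ q) (h7 : q ≠ 7) (h9 : q ≠ 9)
    (h11 : q ≠ 11) {M : Subgroup (PGL₂ F)} (hM : IsCoatom M) (hML : ¬ Lg F ≤ M) (hc : Nat.card M = q * (q - 1)) :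
    IsCoatom (meet M) := by
  have hcN := card_meet hodd hM hML
  rw [hc] at hcN
  have hG : Nat.card (PSL₂ F) * 2 = (q + 1) * (q * (q - 1)) := by
    rw [two_card hodd, PSLBounds.card_pgl_two, hF]
    obtain ⟨s, rfl⟩ : ∃ s, q = s + 1 := ⟨q - 1, by omega⟩
    rw [Nat.add_sub_cancel, show (s + 1) ^ 2 = (s + 1 + 1) * s + 1 by ring, Nat.add_sub_cancel]
    ring
  have hidx : (meet M).index = q + 1 := by
    have h1 := (meet M).card_mul_index
    have h2 : Nat.card (meet M) * 2 * (meet M).index = Nat.card (meet M) * 2 * (q + 1) := by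
      rw [mul_right_comm, h1, hG, hcN]; ring
    exact Nat.eq_of_mul_eq_mul_left (by have := Nat.card_pos (α := meet M); omega) h2
  refine ⟨meet_ne_top hML, fun S hS => by_contra fun hne => ?_⟩
  have hdvd : S.index ∣ q + 1 := hidx ▸ Subgroup.index_dvd_of_le hS.le
  have hlt : S.index < q + 1 := by
    refine lt_of_le_of_ne (Nat.le_of_dvd (by omega) hdvd) fun e => hS.ne ?_
    refine Subgroup.eq_of_le_of_card_ge hS.le (le_of_eq ?_)
    have h1 := (meet M).card_mul_index
    have h2 := S.card_mul_index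
    rw [e, ← h1, hidx] at h2
    exact Nat.eq_of_mul_eq_mul_right (by omega) h2
  by_cases h5 : q = 5
  · subst h5
    haveI := Cfsg.Lib.Classical.isSimpleGroup_PSL_fin (F := F) (n := 2) le_rfl (fun _ => by
      rw [Nat.card_eq_fintype_card]; omega)
    have hcore : S.normalCore = ⊥ :=
      (Subgroup.normalCore_normal S).eq_bot_or_eq_top.resolve_right fun e => hne (top_le_iff.mp (e ▸ S.normalCore_le))
    have hinj : Function.Injective (MulAction.toPermHom (PSL₂ F) ((PSL₂ F) ⧸ S)) := by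
      rw [← MonoidHom.ker_eq_bot_iff, ← Subgroup.normalCore_eq_ker, hcore]
    have hle := Nat.card_le_card_of_injective _ hinj
    rw [Nat.card_perm, show Nat.card ((PSL₂ F) ⧸ S) = S.index from rfl] at hle
    have h6 : S.index ≤ 3 := by
      have : S.index ∣ 6 := hdvd
      have hlt6 : S.index < 6 := hlt
      generalize S.index = i at this hlt6 ⊢
      interval_cases i <;> omega
    have : S.index.factorial ≤ Nat.factorial 3 := Nat.factorial_le h6
    norm_num [Nat.factorial] at this hG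
    omega
  · have hq : q ∉ ({2, 3, 5, 7, 9, 11} : Finset ℕ) := by simp; omega
    have := PSLBounds.index_bound hF hq S hne
    omega

theorem sym_meet {p : ℕ} [Fact p.Prime] (hF : Fintype.card F = p) (hodd : Odd (Fintype.card F)) (h4 : 4 ≤ p)
    (h8 : p % 8 = 3 ∨ p % 8 = 5) (h40 : p % 40 ∉ ({11, 19, 21, 29} : Finset ℕ))
    {M : Subgroup (PGL₂ F)} (hM : IsCoatom M) (hML : ¬ Lg F ≤ M) (ψ : M ≃* Equiv.Perm (Fin 4)) :
    IsCoatom (meet M) := by
  let f : alternatingGroup (Fin 4) →* PGL₂ F :=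
    M.subtype.comp (ψ.symm.toMonoidHom.comp (alternatingGroup (Fin 4)).subtype)
  obtain ⟨ψ0⟩ := part_iso hodd hM hML f (Subtype.val_injective.comp (ψ.symm.injective.comp Subtype.val_injective))
    (fun a => (ψ.symm _).2) (hom_le f squares_four)
    (by rw [PSLSmallMax.card_S4 ψ, PSLSmallMax.card_A4 (MulEquiv.refl (alternatingGroup (Fin 4)))])
  simp only [Finset.mem_insert, Finset.mem_singleton, not_or] at h40
  exact PSLSmallMax.altFour_coatom p hF (by omega) h8 (by omega) _ ψ0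

theorem sub_meet (hF : Fintype.card F = q) (hodd : Odd (Fintype.card F)) {K : Type} [Field K] [Fintype K] {r : ℕ}
    (hr : r.Prime) (hro : Odd r) (hq : q = Fintype.card K ^ r)
    {M : Subgroup (PGL₂ F)} (hM : IsCoatom M) (hML : ¬ Lg F ≤ M) (ψ : M ≃* PGL₂ K) : IsCoatom (meet M) := by
  have hKo : Odd (Fintype.card K) := by
    rw [hF, hq, Nat.odd_pow_iff hr.ne_zero] at hodd; exact hodd
  let f : (PSL₂ K) →* PGL₂ F :=
    M.subtype.comp (ψ.symm.toMonoidHom.comp Matrix.ProjectiveSpecialLinearGroup.toPGL)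
  obtain ⟨ψ0⟩ := part_iso hodd hM hML f (Subtype.val_injective.comp (ψ.symm.injective.comp
    Matrix.ProjectiveSpecialLinearGroup.toPGL_injective)) (fun a => (ψ.symm _).2) (hom_le_psl (two_ne hKo) f)
    (by rw [two_card hKo]; exact (Nat.card_congr ψ.toEquiv).symm)
  exact PSLSubfieldMax.psl_coatom_odd rfl (hF.trans hq) hKo hr (fun e => by subst e; exact absurd hro (by decide)) _ ψ0

theorem pair_meet (p : ℕ) [Fact p.Prime] [CharP F p] (hF : Fintype.card F = q) (hodd : Odd (Fintype.card F))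
    (h5 : 5 ≤ q) (h7 : q ≠ 7) (h9 : q ≠ 9) (h11 : q ≠ 11) {k : Type u} [Field k] [IsAlgClosed k] [CharP k p]
    (j : F →+* k) {M : Subgroup (PGL₂ F)} (hM : IsCoatom M) (hML : ¬ Lg F ≤ M) {a b : ℙ k (Fin 2 → k)}
    {g : (PGLFull.χ j).range} (hab : a ≠ b) (hg : g ≠ 1) (ha : g • a = a) (hb : g • b = b)
    (hMeq : M.map (PGLFull.eP j).toMonoidHom = pairStab a b) : IsCoatom (meet M) := by
  haveI := PGLFull.finite_range j
  haveI : Finite (pslMap j).range := Finite.of_surjective _ (pslMap j).rangeRestrict_surjective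
  have W := PGLFull.full j p hF
  obtain ⟨m, w, hw, hw', hcm, hm, hm2, ⟨ψ₀⟩, -⟩ := W.pair_info (by omega) (by omega) hab hg ha hb
  let ψM : M ≃* DihedralGroup m :=
    (M.equivMapOfInjective _ (PGLFull.eP j).injective).trans ((MulEquiv.subgroupCongr hMeq).trans ψ₀)
  rw [mul_one] at hm
  have hm3 : 4 ≤ m := by omega
  -- a square in the torus
  haveI := W.geom.two_point_cyclic a b hab
  obtain ⟨c, hc⟩ := IsCyclic.exists_ofOrder_eq_natCard
    (α := ↥(stabilizer (PGLFull.χ j).range a ⊓ stabilizer (PGLFull.χ j).range b))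
  rw [hcm] at hc
  obtain ⟨⟨c, x, rfl⟩, hca, hcb⟩ := c
  obtain ⟨s, hs⟩ := sq_mem x
  have hs' : pslMap j s = PGLFull.χ j x * PGLFull.χ j x := by rw [← PGLFull.χ_toPGL, hs, map_mul]
  have hsfix : ∀ z : ℙ k (Fin 2 → k), PGLFull.χ j x • z = z → pslMap j s • z = z := fun z hz => by
    rw [hs', mul_smul, hz, hz]
  have hg'1 : PSLFull.eW j s ≠ 1 := fun e => by
    have h1 : PGLFull.χ j x * PGLFull.χ j x = 1 := by rw [← hs']; exact congrArg Subtype.val e
    have h2 : orderOf (PGLFull.χ j x) = m := by rw [← hc, ← Subgroup.orderOf_coe, ← Subgroup.orderOf_coe]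
    have h3 : orderOf (PGLFull.χ j x) ∣ 2 := orderOf_dvd_of_pow_eq_one (by rw [pow_two, h1])
    have := Nat.le_of_dvd (by norm_num) h3
    omega
  obtain ⟨m', w', hv, hv', hcm', hm', hm2', ⟨ψ'⟩, -⟩ := PSLMaxPoints.pair_data j p hF (by omega) hab hg'1
    (hsfix a hca) (hsfix b hcb)
  have hmem : meet M = PSLFull.pull j (pairStab (G := (pslMap j).range) a b) := by
    ext v
    rw [PSLFull.mem_pull]
    have key : Matrix.ProjectiveSpecialLinearGroup.toPGL v ∈ M ↔
        PGLFull.eP j (Matrix.ProjectiveSpecialLinearGroup.toPGL v) ∈ pairStab (G := (PGLFull.χ j).range) a b := by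
      rw [← hMeq]
      exact (Subgroup.mem_map_iff_mem (PGLFull.eP j).injective).symm
    have hact : ∀ z : ℙ k (Fin 2 → k),
        PGLFull.eP j (Matrix.ProjectiveSpecialLinearGroup.toPGL v) • z = PSLFull.eW j v • z := fun z => by
      show PGLFull.χ j _ • z = pslMap j v • z
      rw [PGLFull.χ_toPGL]
    refine key.trans ?_
    show ((_ • a = a ∧ _ • b = b) ∨ (_ • a = b ∧ _ • b = a)) ↔ ((_ • a = a ∧ _ • b = b) ∨ (_ • a = b ∧ _ • b = a))
    rw [hact, hact]
  have hd : Nat.gcd 2 (q - 1) = 2 := Nat.gcd_eq_left (by rw [hF] at hodd; obtain ⟨t, ht⟩ := hodd; omega)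
  have hcard := card_meet hodd hM hML
  rw [Nat.card_congr ψM.toEquiv, DihedralGroup.nat_card, hmem, Nat.card_congr ψ'.toEquiv, DihedralGroup.nat_card] at hcard
  rw [hd] at hm'
  rw [hmem]
  refine (PSLTori.pair_coatom' j p hF hab m' hcm' hv hv' ?_).1
  rw [hd]
  by_cases h : q = 5 ∧ m' * 2 = q - 1
  · exfalso
    refine five_no_eight (hF.trans h.1) hM hML ?_
    rw [Nat.card_congr ψM.toEquiv, DihedralGroup.nat_card]
    omega
  simp only [PSLTori.Good, Finset.mem_insert, Finset.mem_singleton, not_or]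
  rcases hm' with e | e
  · exact Or.inr ⟨e, by omega⟩
  · exact Or.inl ⟨e, by omega⟩

theorem coatom_sub {M : Subgroup (PGL₂ F)} (h : IsCoatom (meet M)) :
    IsCoatom ((M ⊓ Lg F).subgroupOf (Lg F)) := by
  let eR : (PSL₂ F) ≃* Lg F := MonoidHom.ofInjective Matrix.ProjectiveSpecialLinearGroup.toPGL_injective
  have e : (M ⊓ Lg F).subgroupOf (Lg F) = (meet M).map eR.toMonoidHom := by
    ext y
    obtain ⟨v, rfl⟩ := eR.surjective y
    refine Iff.trans ?_ (Subgroup.mem_map_iff_mem eR.injective).symm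
    show Matrix.ProjectiveSpecialLinearGroup.toPGL v ∈ M ⊓ Lg F ↔ Matrix.ProjectiveSpecialLinearGroup.toPGL v ∈ M
    exact ⟨fun h => h.1, fun h => ⟨h, v, rfl⟩⟩
  rw [e]
  exact ((MulEquiv.mapSubgroup eR).isCoatom_iff _).mpr h

/-- The special part of a maximal subgroup is maximal. -/
theorem meets_maximally (h4 : 4 ≤ Fintype.card F) (h7 : Fintype.card F ≠ 7) (h9 : Fintype.card F ≠ 9)
    (h11 : Fintype.card F ≠ 11)
    (h40 : (Fintype.card F).Prime → Fintype.card F % 40 ∉ ({11, 19, 21, 29} : Finset ℕ))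
    (M : Subgroup (PGL₂ F)) (hM : IsCoatom M)
    (hML : ¬ (Matrix.ProjGenLinGroup.mk.comp Matrix.SpecialLinearGroup.toGL).range ≤ M) :
    IsCoatom ((M ⊓ (Matrix.ProjGenLinGroup.mk.comp Matrix.SpecialLinearGroup.toGL).range).subgroupOf
      (Matrix.ProjGenLinGroup.mk.comp Matrix.SpecialLinearGroup.toGL).range) := by
  rw [range_eq] at hML ⊢
  refine coatom_sub ?_
  obtain ⟨p, hp⟩ := CharP.exists F
  haveI : Fact p.Prime := ⟨CharP.char_is_prime F p⟩
  by_cases hp2 : p = 2
  · subst hp2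
    have hsurj : Function.Surjective (Matrix.ProjectiveSpecialLinearGroup.toPGL (n := Fin 2) (R := F)) := by
      refine Matrix.ProjectiveSpecialLinearGroup.toPGL_surj_of_roots fun r => ?_
      obtain ⟨x, hx⟩ := FiniteField.isSquare_of_char_two (ringChar.eq F 2) (r : F)
      refine ⟨Units.mk0 x (fun e => r.ne_zero (by rw [hx, e, mul_zero])), Units.ext ?_⟩
      simp [hx, pow_two]
    have : IsCoatom ((meet M).map (MulEquiv.ofBijective _
        ⟨Matrix.ProjectiveSpecialLinearGroup.toPGL_injective, hsurj⟩).toMonoidHom) := by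
      have e : (meet M).map (MulEquiv.ofBijective _
          ⟨Matrix.ProjectiveSpecialLinearGroup.toPGL_injective, hsurj⟩).toMonoidHom = M :=
        Subgroup.map_comap_eq_self_of_surjective hsurj M
      rw [e]; exact hM
    exact ((MulEquiv.mapSubgroup (MulEquiv.ofBijective _
      ⟨Matrix.ProjectiveSpecialLinearGroup.toPGL_injective, hsurj⟩)).isCoatom_iff (meet M)).mp this
  obtain ⟨hodd, -⟩ := PSLMaxExceptional.odd_card (F := F) p hp2
  obtain ⟨F2, _, _, hF2, ⟨i1⟩, ⟨i2⟩⟩ := exists_fields (F := F) p rfl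
  haveI : CharP (AlgebraicClosure F) p := charP_of_injective_ringHom (algebraMap F (AlgebraicClosure F)).injective p
  rcases types p hp2 rfl (by omega) hF2 i1 i2 hM hML with h | ⟨a, b, w, g, m, hab, -, -, hg, ha, hb, hMeq, -, -, -⟩ |
    ⟨h1, h2, ⟨ψ⟩⟩ | ⟨K, _, _, r, hr, hro, hq, ⟨ψ⟩⟩
  · exact borel_meet rfl hodd h4 h7 h9 h11 hM hML h
  · exact pair_meet p rfl hodd (by obtain ⟨t, ht⟩ := hodd; omega) h7 h9 h11 (i2.comp i1) hM hML hab hg ha hb hMeq
  · exact sym_meet h1 hodd (h1 ▸ h4) (h1 ▸ h2) (h1 ▸ h40 (h1 ▸ Fact.out)) hM hML ψ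
  · exact sub_meet rfl hodd hr hro hq hM hML ψ

end Cfsg.Lib.Classical.PGLMax
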