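import Mathlib
import Cfsg.Agent.Classical.Misc.PSLMaxField
import Cfsg.Agent.Classical.Misc.PSLEmbed
import Cfsg.Agent.Classical.Misc.Icosian
import Cfsg.Agent.Classical.Misc.SmallPSL
import Cfsg.Agent.Classical.SL

/-! The icosahedral subgroups of `PSL₂(11)`. -/

set_option autoImplicit false
set_option linter.unusedSectionVars false

namespace Cfsg.Lib.Classical.PSLElevenIcosa

open Matrix
open scoped MatrixGroups Pointwise
open Cfsg.Lib.Classical.PSLFour Cfsg.Lib.Classical.PSLFrame Cfsg.Lib.Classical.PSLMaxField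

local notation "A₅" => alternatingGroup (Fin 5)
local notation "𝕜" => ZMod 11
local notation "G" => Matrix.ProjectiveSpecialLinearGroup (Fin 2) (ZMod 11)

instance : Fact (Nat.Prime 11) := ⟨by norm_num⟩

theorem odd11 : Odd (Fintype.card 𝕜) := by rw [ZMod.card]; decide

theorem finite_G : Finite G := inferInstanceAs (Finite (SL(2, 𝕜) ⧸ _))

theorem card_G : Nat.card G = 660 := by
  haveI := finite_G
  have h := Cfsg.Lib.Classical.SmallPSL.card_psl (F := 𝕜) (ZMod.card 11)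
  rw [show Nat.gcd 2 (11 - 1) = 2 from rfl] at h
  have h' : 2 * Nat.card G = 11 * (11 ^ 2 - 1) := h
  norm_num at h'
  rw [Nat.card_eq_fintype_card]; omega

/-! ### The letters -/

def fa : A₅ := ⟨Equiv.swap 0 1 * Equiv.swap 2 3, Equiv.Perm.mem_alternatingGroup.mpr (by decide +kernel)⟩
def fb : A₅ := ⟨Equiv.swap 0 2 * Equiv.swap 1 3, Equiv.Perm.mem_alternatingGroup.mpr (by decide +kernel)⟩
def fd : A₅ := ⟨Equiv.swap 0 1 * Equiv.swap 2 4, Equiv.Perm.mem_alternatingGroup.mpr (by decide +kernel)⟩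

theorem letters : fa * fa = 1 ∧ fb * fb = 1 ∧ fa * fb = fb * fa ∧ fa ≠ 1 ∧ fb ≠ 1 ∧ fa ≠ fb ∧
    fd * fd = 1 ∧ fd ≠ 1 ∧ (fa * fd) ^ 3 = 1 ∧ (fb * fd) ^ 5 = 1 ∧ (fa * fb * fd) ^ 5 = 1 ∧
    orderOf fd ∣ 2 ∧ (fa * fd) ≠ 1 ∧ (fb * fd) ≠ 1 := by
  refine ⟨?_, ?_, ?_, ?_, ?_, ?_, ?_, ?_, ?_, ?_, ?_, orderOf_dvd_of_pow_eq_one ?_, ?_, ?_⟩ <;> decide +kernel

theorem orders : ∀ u : A₅, u ^ 2 = 1 ∨ u ^ 3 = 1 ∨ u ^ 5 = 1 := by decide +kernel

theorem relabel : ∀ u v : A₅, u ∈ ({fa, fb, fa * fb} : Finset A₅) → v ∈ ({fa, fb, fa * fb} : Finset A₅) → u ≠ v →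
    ∃ σ : Equiv.Perm (Fin 5), σ * (fa : Equiv.Perm (Fin 5)) * σ⁻¹ = u ∧ σ * (fb : Equiv.Perm (Fin 5)) * σ⁻¹ = v := by
  decide +kernel

theorem swap01 : Equiv.swap (0 : Fin 5) 1 * (fa : Equiv.Perm (Fin 5)) * (Equiv.swap (0 : Fin 5) 1)⁻¹ = (fa : Equiv.Perm (Fin 5)) ∧
    Equiv.swap (0 : Fin 5) 1 * (fb : Equiv.Perm (Fin 5)) * (Equiv.swap (0 : Fin 5) 1)⁻¹ = ((fa * fb : A₅) : Equiv.Perm (Fin 5)) ∧
    Equiv.swap (0 : Fin 5) 1 * (fd : Equiv.Perm (Fin 5)) * (Equiv.swap (0 : Fin 5) 1)⁻¹ = (fd : Equiv.Perm (Fin 5)) := by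
  decide +kernel

theorem closure_letters : Subgroup.closure ({fa, fb, fd} : Set A₅) = ⊤ := by
  obtain ⟨a2, b2, ab, a1, b1, hne, -, -, h3, h5, -, -, h31, h51⟩ := letters
  set K := Subgroup.closure ({fa, fb, fd} : Set A₅)
  have hA : fa ∈ K := Subgroup.subset_closure (by simp)
  have hB : fb ∈ K := Subgroup.subset_closure (by simp)
  have hD : fd ∈ K := Subgroup.subset_closure (by simp)
  have h4 : 4 ∣ Nat.card K := by
    have hk := (four_klein a2 b2 ab a1 b1 hne).card_four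
    rw [← hk]
    exact Subgroup.card_dvd_of_le ((Subgroup.closure_le K).2 (by
      intro x hx; rcases hx with rfl | rfl <;> assumption))
  have ord : ∀ (x : A₅) (k : ℕ), Nat.Prime k → x ∈ K → x ^ k = 1 → x ≠ 1 → k ∣ Nat.card K := by
    intro x k hk hx hp h1
    haveI := Fact.mk hk
    have h := orderOf_eq_prime hp h1
    rw [← h]
    exact Subgroup.orderOf_dvd_natCard (s := K) hx
  have d3 := ord _ 3 (by norm_num) (mul_mem hA hD) h3 h31
  have d5 := ord _ 5 (by norm_num) (mul_mem hB hD) h5 h51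
  apply Subgroup.eq_top_of_card_eq
  have hc : Nat.card A₅ = 60 := by rw [nat_card_alternatingGroup, Nat.card_fin]; rfl
  have hdvd := Subgroup.card_subgroup_dvd_card K
  rw [hc] at hdvd ⊢
  refine Nat.dvd_antisymm hdvd ?_
  exact Nat.Coprime.mul_dvd_of_dvd_of_dvd (m := 12) (n := 5) (by norm_num)
    (Nat.Coprime.mul_dvd_of_dvd_of_dvd (m := 4) (n := 3) (by norm_num) h4 d3) d5

/-! ### The standard frame -/

def sJ : SL(2, 𝕜) := ⟨!![0, 1; -1, 0], by decide +kernel⟩
def sB : SL(2, 𝕜) := ⟨!![1, 3; 3, -1], by decide +kernel⟩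
def sE1 : SL(2, 𝕜) := ⟨!![-1, -5; -4, 1], by decide +kernel⟩
def sE2 : SL(2, 𝕜) := ⟨!![-1, 4; 5, 1], by decide +kernel⟩

theorem frame_facts : sJ * sJ = -1 ∧ sB * sB = -1 ∧ sJ * sB = -(sB * sJ) ∧
    ((sE1 * sE2).1.trace ≠ 0 ∧ (sE1 * sE2).1.trace ^ 2 ≠ 4 ∧ (sE1 * sE2).1.trace ^ 2 ≠ 1 ∧
      ((sE1 * sE2).1.trace ^ 2 - (sE1 * sE2).1.trace - 1) * ((sE1 * sE2).1.trace ^ 2 + (sE1 * sE2).1.trace - 1) ≠ 0) := by
  decide +kernel

theorem isPair : IsPair sJ sB := ⟨frame_facts.1, frame_facts.2.1, frame_facts.2.2.1⟩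

/-- The finite check. -/
theorem cands : ∀ a b c : 𝕜, -a * a - b * c = 1 → ((c - b) ^ 2 = 1 ∨ (c - b) ^ 2 = 4) →
    ((2 * a + 3 * b + 3 * c) ^ 2 = 5 ∨ (2 * a + 3 * b + 3 * c) ^ 2 = 9 ∨ (2 * a + 3 * b + 3 * c) ^ 2 = 4) →
    ((6 * a - b - c) ^ 2 = 5 ∨ (6 * a - b - c) ^ 2 = 9 ∨ (6 * a - b - c) ^ 2 = 4) →
    ((2 * a + 3 * b + 3 * c) ^ 2 = 5 ∧ (6 * a - b - c) ^ 2 = 9 ∧
      ∃ k ∈ [1, sJ, sB, sJ * sB], k.1 * sE1.1 = !![a, b; c, -a] * k.1 ∨ k.1 * sE1.1 = -(!![a, b; c, -a] * k.1)) ∨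
    ((2 * a + 3 * b + 3 * c) ^ 2 = 9 ∧ (6 * a - b - c) ^ 2 = 5 ∧
      ∃ k ∈ [1, sJ, sB, sJ * sB], k.1 * sE2.1 = !![a, b; c, -a] * k.1 ∨ k.1 * sE2.1 = -(!![a, b; c, -a] * k.1)) := by
  decide +kernel

def V0 : Subgroup G := Vof sJ sB
def K1 : Subgroup G := Subgroup.closure {π sJ, π sB, π sE1}
def K2 : Subgroup G := Subgroup.closure {π sJ, π sB, π sE2}

theorem three_or {s : SL(2, 𝕜)} (h : π s ^ 3 = 1) : s.1.trace ^ 2 = 1 ∨ s.1.trace ^ 2 = 4 := by
  rw [← map_pow, π_one_iff] at h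
  have hsq := sq_val s
  have h3 : (s ^ 3).1 = (s.1.trace ^ 2 - 1) • s.1 - s.1.trace • 1 := by
    rw [Matrix.SpecialLinearGroup.coe_pow, pow_succ, pow_two, hsq, sub_mul, smul_mul_assoc, hsq, one_mul]; module
  obtain ⟨β, hβ⟩ : ∃ β : 𝕜, (s ^ 3).1 = β • (1 : Matrix (Fin 2) (Fin 2) 𝕜) := by
    rcases h with h | h <;> rw [h]
    · exact ⟨1, by simp⟩
    · exact ⟨-1, by simp⟩
  rw [h3] at hβ
  rcases scalar_or s (α := s.1.trace ^ 2 - 1) (β := β + s.1.trace) (by rw [add_smul, ← hβ, sub_add_cancel]) with e | e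
  · exact Or.inl (sub_eq_zero.1 e)
  · exact Or.inr e

theorem five_or {s : SL(2, 𝕜)} (h : π s ^ 5 = 1) :
    s.1.trace ^ 2 = 5 ∨ s.1.trace ^ 2 = 9 ∨ s.1.trace ^ 2 = 4 := by
  rw [← map_pow, π_one_iff] at h
  have hsq := sq_val s
  have h5 : (s ^ 5).1 = (s.1.trace ^ 4 - 3 * s.1.trace ^ 2 + 1) • s.1 - (s.1.trace ^ 3 - 2 * s.1.trace) • 1 := by
    rw [Matrix.SpecialLinearGroup.coe_pow, pow_succ, pow_succ, pow_succ, pow_two, hsq]
    simp only [sub_mul, smul_mul_assoc, hsq, one_mul, smul_sub, smul_smul]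
    module
  obtain ⟨β, hβ⟩ : ∃ β : 𝕜, (s ^ 5).1 = β • (1 : Matrix (Fin 2) (Fin 2) 𝕜) := by
    rcases h with h | h <;> rw [h]
    · exact ⟨1, by simp⟩
    · exact ⟨-1, by simp⟩
  rw [h5] at hβ
  rcases scalar_or s (α := s.1.trace ^ 4 - 3 * s.1.trace ^ 2 + 1)
    (β := β + (s.1.trace ^ 3 - 2 * s.1.trace)) (by rw [add_smul β, ← hβ, sub_add_cancel]) with e | e
  · generalize s.1.trace = t at e ⊢
    revert e; revert t; decide +kernel
  · exact Or.inr (Or.inr e)

section normal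

variable (f : A₅ →* G)

/-- normalised embedding -/
structure Normal : Prop where
  inj : Function.Injective f
  ha : f fa = π sJ
  hb : f fb = π sB

variable {f}

theorem Normal.range_eq (hf : Normal f) : f.range = Subgroup.closure {π sJ, π sB, f fd} := by
  rw [MonoidHom.range_eq_map, ← closure_letters, MonoidHom.map_closure]
  congr 1
  simp [Set.image_insert_eq, hf.ha, hf.hb]

theorem closure_conj_eq {a b d e k : G} (hk : k ∈ Subgroup.closure ({a, b} : Set G)) (h : d = k * e * k⁻¹) :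
    Subgroup.closure ({a, b, d} : Set G) = Subgroup.closure {a, b, e} := by
  have hk' : ∀ z : G, k ∈ Subgroup.closure ({a, b, z} : Set G) := fun z =>
    Subgroup.closure_mono (by intro x hx; rcases hx with rfl | rfl <;> simp) hk
  have mem : ∀ z : G, z ∈ Subgroup.closure ({a, b, z} : Set G) := fun z => Subgroup.subset_closure (by simp)
  apply le_antisymm <;> rw [Subgroup.closure_le] <;> intro x hx <;> rcases hx with hx | hx | hx <;> rw [hx]
  · exact Subgroup.subset_closure (by simp)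
  · exact Subgroup.subset_closure (by simp)
  · rw [h]; exact mul_mem (mul_mem (hk' e) (mem e)) (inv_mem (hk' e))
  · exact Subgroup.subset_closure (by simp)
  · exact Subgroup.subset_closure (by simp)
  · have h1 := mul_mem (mul_mem (inv_mem (hk' d)) (mem d)) (hk' d)
    rwa [show k⁻¹ * d * k = e by rw [h]; group] at h1

theorem Normal.classify (hf : Normal f) {s : SL(2, 𝕜)} (hs : π s = f fd) :
    ((sB * s).1.trace ^ 2 = 5 ∧ (sJ * sB * s).1.trace ^ 2 = 9 ∧ f.range = K1) ∨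
    ((sB * s).1.trace ^ 2 = 9 ∧ (sJ * sB * s).1.trace ^ 2 = 5 ∧ f.range = K2) := by
  obtain ⟨-, -, -, -, -, -, d2, d1, h3, h5, h5', -, -, -⟩ := letters
  have hd : π s ≠ 1 := fun h => d1 (hf.inj (by rw [← hs, h, map_one]))
  have hs2 : s * s = -1 := by
    have h2 : π (s * s) = 1 := by rw [map_mul, hs, ← map_mul, d2, map_one]
    refine (π_one_iff.mp h2).resolve_left fun h1 => hd (π_one_iff.mpr (eq_or_neg odd11 h1))
  have h11 := (sq_iff s).1 hs2
  have hT1 := three_or (s := sJ * s) (by rw [map_mul, hs, ← hf.ha, ← map_mul, ← map_pow, h3, map_one])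
  have hT2 := five_or (s := sB * s) (by rw [map_mul, hs, ← hf.hb, ← map_mul, ← map_pow, h5, map_one])
  have hT3 := five_or (s := sJ * sB * s) (by
    rw [map_mul, map_mul, hs, ← hf.ha, ← hf.hb, ← map_mul, ← map_mul, ← map_pow, h5', map_one])
  have e1 : (sJ * s).1.trace = s.1 1 0 - s.1 0 1 := by
    rw [Matrix.trace_fin_two, val_mul, val_mul]
    simp [sJ, h11]; ring
  have e2 : (sB * s).1.trace = 2 * s.1 0 0 + 3 * s.1 0 1 + 3 * s.1 1 0 := by
    rw [Matrix.trace_fin_two, val_mul, val_mul]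
    simp [sB, h11]; ring
  have e3 : (sJ * sB * s).1.trace = 6 * s.1 0 0 - s.1 0 1 - s.1 1 0 := by
    rw [Matrix.trace_fin_two, val_mul, val_mul, val_mul, val_mul, val_mul, val_mul]
    simp [sJ, sB, h11]; ring
  have hdet : -s.1 0 0 * s.1 0 0 - s.1 0 1 * s.1 1 0 = 1 := by
    have := det_eq_one s
    rw [h11] at this
    linear_combination this
  have hD : !![s.1 0 0, s.1 0 1; s.1 1 0, -s.1 0 0] = s.1 := by
    conv_rhs => rw [Matrix.eta_fin_two s.1, h11]
  rw [e1] at hT1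
  rw [e2] at hT2
  rw [e3] at hT3
  have fin : ∀ E : SL(2, 𝕜), (∃ k ∈ [1, sJ, sB, sJ * sB],
      k.1 * E.1 = s.1 * k.1 ∨ k.1 * E.1 = -(s.1 * k.1)) → f.range = Subgroup.closure {π sJ, π sB, π E} := by
    rintro E ⟨k, hk, hkE⟩
    have hπ : π (k * E) = π (s * k) := by
      rcases hkE with h | h
      · rw [show k * E = s * k from Subtype.ext h]
      · rw [show k * E = -(s * k) from Subtype.ext h, π_neg]
    rw [map_mul, map_mul, hs] at hπ
    rw [hf.range_eq]
    refine closure_conj_eq (k := π k) ?_ (by rw [hπ, mul_inv_cancel_right])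
    have hA : π sJ ∈ Subgroup.closure ({π sJ, π sB} : Set G) := Subgroup.subset_closure (by simp)
    have hB : π sB ∈ Subgroup.closure ({π sJ, π sB} : Set G) := Subgroup.subset_closure (by simp)
    simp only [List.mem_cons, List.not_mem_nil, or_false] at hk
    rcases hk with rfl | rfl | rfl | rfl
    · rw [map_one]; exact one_mem _
    · exact hA
    · exact hB
    · rw [map_mul]; exact mul_mem hA hB
  rcases cands _ _ _ hdet hT1 hT2 hT3 with ⟨q2, q3, hk⟩ | ⟨q2, q3, hk⟩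
  · exact Or.inl ⟨by rw [e2]; exact q2, by rw [e3]; exact q3, fin sE1 (by rwa [hD] at hk)⟩
  · exact Or.inr ⟨by rw [e2]; exact q2, by rw [e3]; exact q3, fin sE2 (by rwa [hD] at hk)⟩

theorem Normal.range_cases (hf : Normal f) : f.range = K1 ∨ f.range = K2 := by
  obtain ⟨s, hs⟩ := QuotientGroup.mk'_surjective (Subgroup.center SL(2, 𝕜)) (f fd)
  exact (hf.classify hs).imp (fun h => h.2.2) (fun h => h.2.2)

end normal

/-! ### Conjugating to a normalised embedding -/

theorem card_V0 : Nat.card V0 = 4 := (Vof_klein odd11 isPair).card_four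

theorem sylow_V0 {V : Subgroup G} (hV : Nat.card V = 4) : Nat.card V = 2 ^ (Nat.card G).factorization 2 := by
  rw [hV, card_G, Nat.factorization_def _ Nat.prime_two]
  have h : padicValNat 2 660 = 2 := by
    rw [show 660 = 2 ^ 2 * 165 by norm_num, padicValNat.mul (by norm_num) (by norm_num),
      padicValNat.prime_pow, padicValNat.eq_zero_of_not_dvd (by norm_num)]
  rw [h]; norm_num

theorem exists_normal (f : A₅ →* G) (hf : Function.Injective f) :
    ∃ (g : G) (f' : A₅ →* G), Normal f' ∧ f'.range = MulAut.conj g • f.range := by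
  haveI := finite_G
  obtain ⟨a2, b2, ab, a1, b1, hne, -, -, -, -, -, -, -, -⟩ := letters
  have ca : f fa * f fa = 1 := by rw [← map_mul, a2, map_one]
  have cb : f fb * f fb = 1 := by rw [← map_mul, b2, map_one]
  have cab : f fa * f fb = f fb * f fa := by rw [← map_mul, ab, map_mul]
  have hk := four_klein ca cb cab (fun e => a1 (hf (e.trans (map_one f).symm)))
    (fun e => b1 (hf (e.trans (map_one f).symm))) (fun e => hne (hf e))
  haveI : Fact (Nat.Prime 2) := ⟨Nat.prime_two⟩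
  obtain ⟨g, hg⟩ := MulAction.exists_smul_eq G (Sylow.ofCard _ (sylow_V0 hk.card_four))
    (Sylow.ofCard _ (sylow_V0 card_V0))
  have hg' : MulAut.conj g • Subgroup.closure ({f fa, f fb} : Set G) = V0 := congrArg Sylow.toSubgroup hg
  have mem : ∀ z : G, z ∈ V0 → z ≠ 1 → ∃ u ∈ ({fa, fb, fa * fb} : Finset A₅), g * f u * g⁻¹ = z := by
    intro z hz hz1
    rw [← hg', Subgroup.mem_pointwise_smul_iff_inv_smul_mem] at hz
    rcases (four_closed ca cb cab _).1 hz with h | h | h | h <;> rw [inv_smul_eq_iff] at h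
    · exact absurd (h.trans (smul_one _)) hz1
    · exact ⟨fa, by simp, h.symm⟩
    · exact ⟨fb, by simp, h.symm⟩
    · exact ⟨fa * fb, by simp, by rw [map_mul]; exact h.symm⟩
  obtain ⟨-, -, -, p1, p2, p3⟩ := pair_facts odd11 isPair
  obtain ⟨u, hu, hu'⟩ := mem (π sJ) (Subgroup.subset_closure (by simp)) p1
  obtain ⟨v, hv, hv'⟩ := mem (π sB) (Subgroup.subset_closure (by simp)) p2
  obtain ⟨σ, hσa, hσb⟩ := relabel u v hu hv (fun e => p3 (by rw [← hu', ← hv', e]))
  let τ : MulAut A₅ := MulAut.conjNormal σ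
  have hτa : τ fa = u := Subtype.ext (by rw [MulAut.conjNormal_apply]; exact hσa)
  have hτb : τ fb = v := Subtype.ext (by rw [MulAut.conjNormal_apply]; exact hσb)
  refine ⟨g, (MulAut.conj g).toMonoidHom.comp (f.comp τ.toMonoidHom), ⟨?_, ?_, ?_⟩, ?_⟩
  · exact (MulAut.conj g).injective.comp (hf.comp τ.injective)
  · change g * f (τ fa) * g⁻¹ = _
    rw [hτa, hu']
  · change g * f (τ fb) * g⁻¹ = _
    rw [hτb, hv']
  · rw [MonoidHom.range_comp, MonoidHom.range_comp, show τ.toMonoidHom.range = ⊤ from MonoidHom.range_eq_top.2 τ.surjective,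
      ← MonoidHom.range_eq_map, Subgroup.pointwise_smul_def]
    rfl

theorem exists_hom : ∃ f : A₅ →* G, Function.Injective f := by
  obtain ⟨H, ⟨ψ⟩⟩ := (Cfsg.Lib.Classical.Icosian.iff_A5 (ZMod.card 11)).2 (by norm_num)
  exact ⟨H.subtype.comp ψ.symm.toMonoidHom, Subtype.val_injective.comp ψ.symm.injective⟩

/-- both classes occur -/
theorem both : (∃ f : A₅ →* G, Normal f ∧ f.range = K1) ∧
    (∃ f : A₅ →* G, Normal f ∧ f.range = K2) := by
  obtain ⟨f₀, hf₀⟩ := exists_hom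
  obtain ⟨g, f, hf, -⟩ := exists_normal f₀ hf₀
  obtain ⟨s, hs⟩ := QuotientGroup.mk'_surjective (Subgroup.center SL(2, 𝕜)) (f fd)
  have hJB : IsPair sJ (sJ * sB) := by
    obtain ⟨h1, h2, h3, -⟩ := frame_facts
    exact ⟨h1, isPair.next.2.1, by decide +kernel⟩
  obtain ⟨C, τ, hC, htr, hCJ, hCB⟩ := frame_aut (a := (1 : 𝕜)) (b := 3) sJ (sJ * sB) hJB (by decide) (by decide)
  have hJ : C sJ = sJ := Subtype.ext hCJ
  have hB : C (sJ * sB) = sB := Subtype.ext hCB
  let σ : MulAut A₅ := MulAut.conjNormal (Equiv.swap 0 1)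
  have σa : σ fa = fa := Subtype.ext (by rw [MulAut.conjNormal_apply]; exact swap01.1)
  have σb : σ fb = fa * fb := Subtype.ext (by rw [MulAut.conjNormal_apply]; exact swap01.2.1)
  have σd : σ fd = fd := Subtype.ext (by rw [MulAut.conjNormal_apply]; exact swap01.2.2)
  let f' : A₅ →* G := τ.toMonoidHom.comp (f.comp σ.toMonoidHom)
  have hf' : Normal f' := by
    refine ⟨τ.injective.comp (hf.inj.comp σ.injective), ?_, ?_⟩
    · change τ (f (σ fa)) = _
      rw [σa, hf.ha, hC, hJ]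
    · change τ (f (σ fb)) = _
      rw [σb, map_mul, hf.ha, hf.hb, ← map_mul π, hC, hB]
  have hs' : π (C s) = f' fd := by
    change _ = τ (f (σ fd))
    rw [σd, ← hs]
    exact (hC s).symm
  have ht : (sB * C s).1.trace = (sJ * sB * s).1.trace := by rw [← htr (sJ * sB * s), map_mul C (sJ * sB) s, hB]
  have h59 : (5 : 𝕜) ≠ 9 := by decide
  rcases hf.classify hs with ⟨-, a3, a⟩ | ⟨-, a3, a⟩ <;> rcases hf'.classify hs' with ⟨b2, -, b⟩ | ⟨b2, -, b⟩ <;>
    rw [ht] at b2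
  · exact absurd (b2.symm.trans a3) h59
  · exact ⟨⟨f, hf, a⟩, ⟨f', hf', b⟩⟩
  · exact ⟨⟨f', hf', b⟩, ⟨f, hf, a⟩⟩
  · exact absurd (a3.symm.trans b2) h59

theorem iso_iff (K : Subgroup G) : Nonempty (K ≃* A₅) ↔ ∃ f : A₅ →* G, Function.Injective f ∧ f.range = K := by
  constructor
  · rintro ⟨ψ⟩
    exact ⟨K.subtype.comp ψ.symm.toMonoidHom, Subtype.val_injective.comp ψ.symm.injective,
      by rw [MonoidHom.range_comp, MonoidHom.range_eq_top_of_surjective _ ψ.symm.surjective, ← MonoidHom.range_eq_map, Subgroup.range_subtype]⟩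
  · rintro ⟨f, hf, rfl⟩
    exact ⟨(MonoidHom.ofInjective hf).symm⟩

theorem K_ne : K1 ≠ K2 := by
  intro h
  obtain ⟨f, hf, hr⟩ := both.2
  have h1 : π (sE1 * sE2) ∈ f.range := by
    rw [hr, map_mul]
    exact mul_mem (h ▸ Subgroup.subset_closure (by simp)) (Subgroup.subset_closure (by simp))
  obtain ⟨u, hu⟩ := h1
  obtain ⟨-, -, -, n0, n4, n1, n5⟩ := frame_facts
  have := trace_cases (sE1 * sE2) (by
    rw [← hu, ← map_pow f, ← map_pow f, ← map_pow f]
    exact (orders u).imp (fun e => by rw [e, map_one])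
      (Or.imp (fun e => by rw [e, map_one]) (fun e => by rw [e, map_one])))
  rcases this with e | e | e | e
  exacts [n0 e, n4 e, n1 e, n5 e]

theorem card_iso {K : Subgroup G} (h : Nonempty (K ≃* A₅)) : Nat.card K = 60 := by
  rw [Nat.card_congr h.some.toEquiv, nat_card_alternatingGroup, Nat.card_fin]; rfl

theorem normalizer_eq {K : Subgroup G} (h : Nonempty (K ≃* A₅)) : Subgroup.normalizer (K : Set G) = K := by
  haveI := finite_G
  haveI : IsSimpleGroup G := Cfsg.Lib.Classical.isSimpleGroup_PSL_fin le_rfl (fun _ => by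
    rw [Nat.card_eq_fintype_card, ZMod.card]; norm_num)
  have hc := card_iso h
  have hle : K ≤ Subgroup.normalizer (K : Set G) := Subgroup.le_normalizer
  have hidx : K.index = 11 := by
    have := K.index_mul_card
    rw [hc, card_G] at this
    omega
  have hmul := Subgroup.relIndex_mul_index hle
  rw [hidx] at hmul
  rcases Nat.prime_mul_iff.1 (hmul ▸ (by norm_num : Nat.Prime 11)) with ⟨-, h1⟩ | ⟨-, h1⟩
  · exfalso
    haveI : K.Normal := Subgroup.normalizer_eq_top_iff.1 (Subgroup.index_eq_one.1 h1)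
    rcases IsSimpleGroup.eq_bot_or_eq_top_of_normal K inferInstance with e | e
    · rw [e, Subgroup.card_bot] at hc; omega
    · rw [e, Subgroup.index_top] at hidx; omega
  · exact le_antisymm (Subgroup.relIndex_eq_one.1 h1) hle

theorem card_normalizer_V0 : Nat.card (Subgroup.normalizer (V0 : Set G)) = 12 := by
  haveI := finite_G
  haveI : Fact (Nat.Prime 2) := ⟨Nat.prime_two⟩
  have h12 := card_four_groups (F := 𝕜) odd11
  rw [card_G] at h12
  let P : Sylow 2 G := Sylow.ofCard _ (sylow_V0 card_V0)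
  have hn : Nat.card {V : Subgroup G // IsKleinFour V} = Nat.card (Sylow 2 G) := by
    have hP : ∀ Q : Sylow 2 G, IsKleinFour Q.toSubgroup := fun Q => by
      obtain ⟨g, rfl⟩ := MulAction.exists_smul_eq G P Q
      have e : P.toSubgroup ≃* (g • P).toSubgroup := (Subgroup.equivSMul (MulAut.conj g) P.toSubgroup)
      haveI : IsKleinFour P.toSubgroup := Vof_klein odd11 isPair
      refine ⟨?_, ?_⟩
      · rw [← Nat.card_congr e.toEquiv]; exact IsKleinFour.card_four
      · rw [← Monoid.exponent_eq_of_mulEquiv e]; exact IsKleinFour.exponent_two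
    refine (Nat.card_congr (Equiv.ofBijective (fun Q : Sylow 2 G => (⟨Q.toSubgroup, hP Q⟩ : {V : Subgroup G // IsKleinFour V}))
      ⟨fun Q R e => Sylow.ext (congrArg Subtype.val e),
       fun V => ⟨Sylow.ofCard V.1 (sylow_V0 V.2.card_four), Subtype.ext rfl⟩⟩)).symm
  rw [hn, Sylow.card_eq_index_normalizer P] at h12
  change 12 * (Subgroup.normalizer (P.toSubgroup : Set G)).index = 660 at h12
  have h := Subgroup.index_mul_card (Subgroup.normalizer (P.toSubgroup : Set G))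
  rw [card_G] at h
  have h55 : (Subgroup.normalizer (P.toSubgroup : Set G)).index = 55 := by omega
  rw [h55] at h
  change Nat.card (Subgroup.normalizer (P.toSubgroup : Set G)) = 12
  omega

theorem V0_le {E : SL(2, 𝕜)} : V0 ≤ Subgroup.closure ({π sJ, π sB, π E} : Set G) :=
  Subgroup.closure_mono (by intro x hx; rcases hx with rfl | rfl <;> simp)

def g3 : A₅ := ⟨Equiv.swap 0 1 * Equiv.swap 1 2, Equiv.Perm.mem_alternatingGroup.mpr (by decide +kernel)⟩

theorem g3_facts : g3 ^ 3 = 1 ∧ g3 ≠ 1 ∧ g3 * fa * g3⁻¹ ∈ ({fa, fb, fa * fb} : Finset A₅) ∧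
    g3 * fb * g3⁻¹ ∈ ({fa, fb, fa * fb} : Finset A₅) := by decide +kernel

theorem normalizer_le {f : A₅ →* G} (hf : Normal f) : Subgroup.normalizer (V0 : Set G) ≤ f.range := by
  haveI := finite_G
  obtain ⟨g33, g31, ga, gb⟩ := g3_facts
  have hin : f g3 ∈ Subgroup.normalizer (V0 : Set G) := by
    have hA : π sJ ∈ V0 := Subgroup.subset_closure (by simp)
    have hB : π sB ∈ V0 := Subgroup.subset_closure (by simp)
    have him : ∀ u ∈ ({fa, fb, fa * fb} : Finset A₅), f u ∈ V0 := by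
      intro u hu
      simp only [Finset.mem_insert, Finset.mem_singleton] at hu
      rcases hu with rfl | rfl | rfl
      · rw [hf.ha]; exact hA
      · rw [hf.hb]; exact hB
      · rw [map_mul, hf.ha, hf.hb]; exact mul_mem hA hB
    have hle : V0 ≤ V0.comap (MulAut.conj (f g3)).toMonoidHom := by
      rw [V0, Vof, Subgroup.closure_le]
      intro x hx
      rcases hx with rfl | rfl
      · change f g3 * π sJ * (f g3)⁻¹ ∈ V0
        rw [← hf.ha, ← map_inv, ← map_mul, ← map_mul]; exact him _ ga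
      · change f g3 * π sB * (f g3)⁻¹ ∈ V0
        rw [← hf.hb, ← map_inv, ← map_mul, ← map_mul]; exact him _ gb
    exact Subgroup.mem_normalizer_fintype fun x hx => hle hx
  have hVr : V0 ≤ f.range := by
    rw [V0, Vof, Subgroup.closure_le]
    intro x hx
    rcases hx with rfl | rfl
    exacts [⟨fa, hf.ha⟩, ⟨fb, hf.hb⟩]
  let N := Subgroup.normalizer (V0 : Set G)
  have d4 : 4 ∣ Nat.card ↥(N ⊓ f.range) := by
    rw [← card_V0]; exact Subgroup.card_dvd_of_le (le_inf Subgroup.le_normalizer hVr)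
  have d3 : 3 ∣ Nat.card ↥(N ⊓ f.range) := by
    haveI : Fact (Nat.Prime 3) := ⟨by norm_num⟩
    have ho : orderOf (f g3) = 3 := by
      rw [orderOf_injective f hf.inj]
      exact orderOf_eq_prime g33 g31
    rw [← ho]
    exact Subgroup.orderOf_dvd_natCard (s := N ⊓ f.range) ⟨hin, g3, rfl⟩
  have h12 : 12 ∣ Nat.card ↥(N ⊓ f.range) :=
    Nat.Coprime.mul_dvd_of_dvd_of_dvd (m := 4) (n := 3) (by norm_num) d4 d3
  have := Subgroup.eq_of_le_of_card_ge (inf_le_left : N ⊓ f.range ≤ N)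
    (by rw [show Nat.card ↥N = 12 from card_normalizer_V0]; exact Nat.le_of_dvd Nat.card_pos h12)
  rw [show Subgroup.normalizer (V0 : Set G) = N from rfl, ← this]
  exact inf_le_right

theorem not_conj (g : G) : MulAut.conj g • K1 ≠ K2 := by
  haveI := finite_G
  intro h
  haveI : Fact (Nat.Prime 2) := ⟨Nat.prime_two⟩
  obtain ⟨⟨f, hf, hr⟩, ⟨f2, hf2, hr2⟩⟩ := both
  have h1 : V0 ≤ K2 := V0_le
  have h2 : MulAut.conj g • V0 ≤ K2 := h ▸ Subgroup.pointwise_smul_le_pointwise_smul_iff.2 V0_le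
  have hc60 : Nat.card K2 = 60 := card_iso ((iso_iff K2).2 ⟨f2, hf2.inj, hr2⟩)
  have hcV : ∀ {V : Subgroup G}, Nat.card V = 4 → V ≤ K2 →
      Nat.card (V.subgroupOf K2) = 2 ^ (Nat.card K2).factorization 2 := fun {V} hV hle => by
    rw [Nat.card_congr (Subgroup.subgroupOfEquivOfLe hle).toEquiv, hV, hc60, Nat.factorization_def _ Nat.prime_two,
      show 60 = 2 ^ 2 * 15 by norm_num, padicValNat.mul (by norm_num) (by norm_num), padicValNat.prime_pow,
      padicValNat.eq_zero_of_not_dvd (by norm_num)]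
    norm_num
  have hgV : Nat.card (MulAut.conj g • V0 : Subgroup G) = 4 := by
    rw [← Nat.card_congr (Subgroup.equivSMul (MulAut.conj g) V0).toEquiv, card_V0]
  obtain ⟨k, hk⟩ := MulAction.exists_smul_eq K2 (Sylow.ofCard _ (hcV hgV h2)) (Sylow.ofCard _ (hcV card_V0 h1))
  have hk' : MulAut.conj ((k : G) * g) • V0 = V0 := by
    have e := congrArg (fun P : Sylow 2 K2 => P.toSubgroup.map K2.subtype) hk
    change (MulAut.conj k • (MulAut.conj g • V0).subgroupOf K2).map K2.subtype = (V0.subgroupOf K2).map K2.subtype at e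
    rw [Subgroup.map_subgroupOf_eq_of_le h1] at e
    rw [map_mul, mul_smul]
    refine Eq.trans ?_ e
    symm
    ext x
    constructor
    · rintro ⟨y, hy, rfl⟩
      rw [SetLike.mem_coe, Subgroup.mem_pointwise_smul_iff_inv_smul_mem] at hy
      rw [Subgroup.mem_pointwise_smul_iff_inv_smul_mem]
      exact hy
    · intro hx
      obtain ⟨y, hy, hxy⟩ := (Subgroup.mem_map).1 hx
      refine ⟨⟨x, ?_⟩, ?_, rfl⟩
      · rw [← hxy]
        exact mul_mem (mul_mem k.2 (h2 hy)) (inv_mem k.2)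
      · rw [SetLike.mem_coe, Subgroup.mem_pointwise_smul_iff_inv_smul_mem]
        rw [Subgroup.mem_pointwise_smul_iff_inv_smul_mem] at hx
        exact hx
  have hn : (k : G) * g ∈ Subgroup.normalizer (V0 : Set G) := by
    refine Subgroup.mem_normalizer_fintype fun x hx => ?_
    have := Subgroup.smul_mem_pointwise_smul x (MulAut.conj ((k : G) * g)) V0 hx
    rwa [hk'] at this
  have hkg : (k : G) * g ∈ K1 := hr ▸ normalizer_le hf hn
  have e1 : MulAut.conj ((k : G) * g) • K1 = K1 :=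
    Subgroup.conj_smul_eq_self_of_mem hkg
  have e2 : MulAut.conj ((k : G) * g) • K1 = K2 := by
    rw [map_mul, mul_smul, h]
    exact Subgroup.conj_smul_eq_self_of_mem k.2
  exact K_ne (e1.symm.trans e2)

theorem classes (L : Subgroup G) (hL : Nonempty (L ≃* A₅)) :
    ∃ g : G, MulAut.conj g • L = K1 ∨ MulAut.conj g • L = K2 := by
  obtain ⟨f, hf, hr⟩ := (iso_iff L).1 hL
  obtain ⟨g, f', hf', hr'⟩ := exists_normal f hf
  refine ⟨g, ?_⟩
  rw [← hr, ← hr']
  exact hf'.range_cases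

theorem card_orbit (K : Subgroup G) (hK : Nonempty (K ≃* A₅)) :
    Nat.card {L : Subgroup G // ∃ g : G, MulAut.conj g • L = K} = 11 := by
  haveI := finite_G
  have hn := normalizer_eq hK
  have hidx : K.index = 11 := by
    have := K.index_mul_card
    rw [card_iso hK, card_G] at this
    omega
  have key : ∀ a b : G, MulAut.conj a • K = MulAut.conj b • K ↔ a⁻¹ * b ∈ K := by
    intro a b
    constructor
    · intro e
      rw [← hn]
      refine Subgroup.mem_normalizer_fintype fun x hx => ?_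
      have h1 : MulAut.conj (a⁻¹ * b) • K = K := by
        rw [map_mul, mul_smul, ← e, ← mul_smul, ← map_mul, inv_mul_cancel, map_one, one_smul]
      have := Subgroup.smul_mem_pointwise_smul x (MulAut.conj (a⁻¹ * b)) K hx
      rwa [h1] at this
    · intro h
      calc MulAut.conj a • K = MulAut.conj a • (MulAut.conj (a⁻¹ * b) • K) := by
            rw [Subgroup.conj_smul_eq_self_of_mem h]
        _ = MulAut.conj b • K := by rw [← mul_smul, ← map_mul, mul_inv_cancel_left]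
  refine Eq.trans ?_ hidx
  refine (Nat.card_congr (Equiv.ofBijective
    (Quotient.lift (fun a : G => (⟨MulAut.conj a • K, a⁻¹, by
        rw [← mul_smul, ← map_mul, inv_mul_cancel, map_one, one_smul]⟩ : {L : Subgroup G // ∃ g : G, MulAut.conj g • L = K}))
      (fun a b h => Subtype.ext ((key a b).2 (QuotientGroup.leftRel_apply.1 h)))) ⟨?_, ?_⟩)).symm
  · intro x y
    induction x using Quotient.ind with | _ a => induction y using Quotient.ind with | _ b =>
    intro e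
    exact QuotientGroup.eq.2 ((key a b).1 (congrArg Subtype.val e))
  · rintro ⟨L, g, hg⟩
    refine ⟨Quotient.mk _ g⁻¹, Subtype.ext ?_⟩
    show MulAut.conj g⁻¹ • K = L
    rw [← hg, ← mul_smul, ← map_mul, inv_mul_cancel, map_one, one_smul]

theorem eleven :
    Nat.card {H : Subgroup G // Nonempty (H ≃* A₅)} = 22 ∧
      ∃ H K : Subgroup G, Nonempty (H ≃* A₅) ∧ Nonempty (K ≃* A₅) ∧ (∀ g : G, MulAut.conj g • H ≠ K) ∧
        ∀ L : Subgroup G, Nonempty (L ≃* A₅) → ∃ g : G, MulAut.conj g • L = H ∨ MulAut.conj g • L = K := by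
  classical
  haveI := finite_G
  obtain ⟨⟨f, hf, hr⟩, ⟨f2, hf2, hr2⟩⟩ := both
  have i1 : Nonempty (K1 ≃* A₅) := (iso_iff _).2 ⟨f, hf.inj, hr⟩
  have i2 : Nonempty (K2 ≃* A₅) := (iso_iff _).2 ⟨f2, hf2.inj, hr2⟩
  refine ⟨?_, K1, K2, i1, i2, not_conj, classes⟩
  have hiso : ∀ (g : G) (L K : Subgroup G), MulAut.conj g • L = K → Nonempty (K ≃* A₅) → Nonempty (L ≃* A₅) := by
    rintro g L K rfl ⟨ψ⟩
    exact ⟨(Subgroup.equivSMul (MulAut.conj g) L).trans ψ⟩
  have h := card_orbit K1 i1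
  have h' := card_orbit K2 i2
  have hd : ∀ L : Subgroup G, (∃ g : G, MulAut.conj g • L = K1) → ¬ ∃ g : G, MulAut.conj g • L = K2 := by
    rintro L ⟨g, hg⟩ ⟨g', hg'⟩
    refine not_conj (g' * g⁻¹) ?_
    rw [← hg, ← hg', ← mul_smul, ← map_mul, inv_mul_cancel_right]
  have e : Nat.card {H : Subgroup G // Nonempty (H ≃* A₅)} =
      Nat.card ({L : Subgroup G // ∃ g : G, MulAut.conj g • L = K1} ⊕
        {L : Subgroup G // ∃ g : G, MulAut.conj g • L = K2}) := by
    refine (Nat.card_congr (Equiv.ofBijective (Sum.elim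
      (fun L => (⟨L.1, L.2.elim fun g hg => hiso g _ _ hg i1⟩ : {H : Subgroup G // Nonempty (H ≃* A₅)}))
      (fun L => ⟨L.1, L.2.elim fun g hg => hiso g _ _ hg i2⟩)) ⟨?_, ?_⟩)).symm
    · rintro (a | a) (b | b) e <;> have e' : a.1 = b.1 := congrArg (fun x : {H : Subgroup G // Nonempty (H ≃* A₅)} => x.1) e
      · exact congrArg Sum.inl (Subtype.ext e')
      · exact absurd (e' ▸ b.2) (hd _ a.2)
      · exact absurd (e' ▸ a.2) (hd _ b.2)
      · exact congrArg Sum.inr (Subtype.ext e')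
    · rintro ⟨L, hL⟩
      obtain ⟨g, hg | hg⟩ := classes L hL
      · exact ⟨Sum.inl ⟨L, g, hg⟩, rfl⟩
      · exact ⟨Sum.inr ⟨L, g, hg⟩, rfl⟩
  rw [e, Nat.card_sum, h, h']

end Cfsg.Lib.Classical.PSLElevenIcosa
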