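import Mathlib
import Cfsg.Agent.Classical.Misc.PrimeOrderCriteria
import Cfsg.Agent.Classical.Misc.UnipotentSplit

/-! Elements of prime order fixing a pair of complementary subspaces. -/

set_option autoImplicit false
set_option linter.unusedSimpArgs false
set_option linter.unusedSectionVars false
set_option linter.unusedVariables false
set_option linter.style.haveILetI false
set_option linter.flexible false

namespace Cfsg.Lib.Classical.PrimeOrd

open Submodule

universe u v

variable {F : Type u} [Field F] [Fintype F] {V : Type v} [AddCommGroup V] [Module F V] [FiniteDimensional F V]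

/-- The number of complements. -/
theorem card_compl (U : Submodule F V) : Nat.card {W : Submodule F V // IsCompl U W} =
    Fintype.card F ^ ((Module.finrank F V - Module.finrank F U) * Module.finrank F U) := by
  classical
  haveI : Finite V := Module.finite_of_finite F
  obtain ⟨C, hC⟩ := Submodule.exists_isCompl U
  have h := finrank_add_eq_of_isCompl hC
  let e : {f : V →ₗ[F] U // ∀ x : U, f x = x} ≃ (C →ₗ[F] U) :=
    { toFun := fun f => f.1.comp C.subtype
      invFun := fun g => ⟨LinearMap.ofIsCompl hC LinearMap.id g, fun x => LinearMap.ofIsCompl_left_apply hC x⟩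
      left_inv := fun f => Subtype.ext (LinearMap.ofIsCompl_eq hC (fun x => (f.2 x).symm) fun x => rfl)
      right_inv := fun g => LinearMap.ext fun x => LinearMap.ofIsCompl_right_apply hC x }
  rw [Nat.card_congr (Submodule.isComplEquivProj U), Nat.card_congr e, Module.natCard_eq_pow_finrank (K := F),
    Nat.card_eq_fintype_card, Module.finrank_linearMap]
  congr 2
  omega

/-- A prime other than `p` dividing the number of pairs divides the number of subspaces. -/
theorem pairs_multiple {p r : ℕ} [Fact p.Prime] [CharP F p] (hr : r.Prime) (hrp : r ≠ p) {m : ℕ}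
    (hm : m ≤ Module.finrank F V)
    (h : r ∣ Nat.card {P : Submodule F V × Submodule F V // IsCompl P.1 P.2 ∧ Module.finrank F P.1 = m}) :
    ∃ j < m, orderOf (Fintype.card F : ZMod r) ∣ Module.finrank F V - j := by
  classical
  haveI : Finite V := Module.finite_of_finite F
  haveI : Finite (Submodule F V) := Finite.of_injective _ SetLike.coe_injective
  haveI := Fintype.ofFinite {U : Submodule F V // Module.finrank F U = m}
  have e : Nat.card {P : Submodule F V × Submodule F V // IsCompl P.1 P.2 ∧ Module.finrank F P.1 = m} =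
      Nat.card (Σ U : {U : Submodule F V // Module.finrank F U = m}, {W : Submodule F V // IsCompl U.1 W}) :=
    Nat.card_congr
      { toFun := fun P => ⟨⟨P.1.1, P.2.2⟩, ⟨P.1.2, P.2.1⟩⟩
        invFun := fun x => ⟨(x.1.1, x.2.1), x.2.2, x.1.2⟩
        left_inv := fun P => rfl
        right_inv := fun x => rfl }
  rw [e, Nat.card_sigma, Finset.sum_congr rfl (g := fun _ => Fintype.card F ^ ((Module.finrank F V - m) * m))
    fun U _ => by rw [card_compl, U.2], Finset.sum_const, Finset.card_univ, smul_eq_mul, ← Nat.card_eq_fintype_card] at h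
  rcases hr.dvd_mul.mp h with h | h
  · exact (exists_multiple (p := p) hr hm h).2
  · exact absurd (hr.dvd_of_dvd_pow h) (not_dvd_card (F := F) hr hrp)

/-- The criterion. -/
theorem pair_elusive {p : ℕ} [Fact p.Prime] [CharP F p] {q : ℕ} (hq : Fintype.card F = q) {n : ℕ} (m : ℕ) (hm : 1 ≤ m)
    (hmn : 2 * m < n) (r : ℕ) [Fact r.Prime]
    (hrΩ : r ∣ Nat.card {P : Submodule F (Fin n → F) × Submodule F (Fin n → F) // IsCompl P.1 P.2 ∧ Module.finrank F ↥P.1 = m}) :
    (∀ x : Matrix.SpecialLinearGroup (Fin n) F,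
      (∃ c : F, ((x ^ r : Matrix.SpecialLinearGroup (Fin n) F) : Matrix (Fin n) (Fin n) F) = c • (1 : Matrix (Fin n) (Fin n) F)) →
      (∀ c : F, (x : Matrix (Fin n) (Fin n) F) ≠ c • (1 : Matrix (Fin n) (Fin n) F)) →
      ∃ U W : Submodule F (Fin n → F), IsCompl U W ∧ Module.finrank F ↥U = m ∧
        U.map (Matrix.toLin' (x : Matrix (Fin n) (Fin n) F)) ≤ U ∧ W.map (Matrix.toLin' (x : Matrix (Fin n) (Fin n) F)) ≤ W) ↔
    ((r = p ∧ 2 < p ∧ (∀ μ : Multiset ℕ, (∀ a ∈ μ, 0 < a ∧ a ≤ p) → μ.sum = n → ∃ ν : Multiset ℕ, ν ≤ μ ∧ ν.sum = m)) ∨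
     (r = p ∧ p = 2 ∧ (Odd n ∨ Even m)) ∨
     (r ≠ p ∧
      ((orderOf (q : ZMod r) = 1 ∧ (r ∣ m ∨ (padicValNat r n ≤ padicValNat r (q - 1) ∧ (r = 2 → Even n → q % 4 = 1)))) ∨
       (2 ≤ orderOf (q : ZMod r) ∧ orderOf (q : ZMod r) ≤ m ∧ m % orderOf (q : ZMod r) ≤ n % orderOf (q : ZMod r))))) := by
  by_cases hrp : r = p
  · subst hrp
    refine (Jordan.pair_iff m (by omega) (by omega)).trans ?_
    simp only [ne_eq, not_true_eq_false, false_and, or_false, true_and]
    rcases Nat.lt_or_ge 2 r with h2 | h2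
    · exact ⟨fun h => Or.inl ⟨h2, h⟩, fun h => h.elim And.right fun h => absurd h.1 (by omega)⟩
    · have hr2 : r = 2 := le_antisymm h2 (Fact.out : r.Prime).two_le
      subst hr2
      rw [Jordan.part_two_iff (by omega)]
      simp
  · simp only [hrp, false_and, false_or, ne_eq, not_false_eq_true, true_and]
    have hr : r.Prime := Fact.out
    obtain ⟨j, hj, hjd⟩ := pairs_multiple (p := p) hr hrp (by rw [Module.finrank_fintype_fun_eq_card, Fintype.card_fin]; omega) hrΩ
    rw [Module.finrank_fintype_fun_eq_card, Fintype.card_fin, hq] at hjd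
    refine Iff.trans ?_ (one_iff (p := p) hq m hm (by omega) r hrp ⟨j, hj, hjd⟩)
    refine forall_congr' fun x => imp_congr_right fun hx => imp_congr_right fun hns => ⟨?_, ?_⟩
    · rintro ⟨U, W, hc, hUm, hU, hW⟩
      exact ⟨U, hUm, inv_iff_map_le.mpr hU⟩
    · rintro ⟨U, hUm, hU⟩
      obtain ⟨c, hc, hxr, -⟩ := data hr (by omega) x hx
      obtain ⟨W, hW, hUW⟩ := exists_compl (semisimple (cast_ne_zero hr hrp) hc hxr) hU
      exact ⟨U, W, hUW, hUm, inv_iff_map_le.mp hU, inv_iff_map_le.mp hW⟩

end Cfsg.Lib.Classical.PrimeOrd
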