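import Mathlib
import Cfsg.Prelude.Def_GeometricClasses
import Cfsg.Agent.Classical.MaxBridge
import Cfsg.Agent.Classical.Transv.Basic

set_option autoImplicit false
set_option linter.unusedVariables false
set_option linter.unusedSimpArgs false
set_option linter.style.haveILetI false

/-! Maximal parabolic subgroups of `GL_n`. -/

namespace Cfsg.Lib.Classical

open Matrix

universe u

variable {F : Type u} [Field F] {n : ℕ}

/-- The span of the first `k` coordinate vectors. -/
def coordSub (F : Type u) [Field F] (n k : ℕ) : Submodule F (Fin n → F) where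
  carrier := {v | ∀ i : Fin n, k ≤ (i : ℕ) → v i = 0}
  add_mem' {a b} ha hb i hi := by rw [Pi.add_apply, ha i hi, hb i hi, add_zero]
  zero_mem' i hi := rfl
  smul_mem' c a ha i hi := by rw [Pi.smul_apply, ha i hi, smul_zero]

theorem single_mem_coordSub {k : ℕ} {j : Fin n} (hj : (j : ℕ) < k) (c : F) : Pi.single j c ∈ coordSub F n k :=
  fun i hi => Pi.single_eq_of_ne (show i ≠ j from fun h => by subst h; omega) _

theorem coordSub_ne_bot {k : ℕ} (h : 0 < k) (hn : 0 < n) : coordSub F n k ≠ ⊥ := fun e => by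
  have := (Submodule.mem_bot F).mp (e ▸ single_mem_coordSub (j := (⟨0, hn⟩ : Fin n)) h (1 : F))
  simpa using congrFun this ⟨0, hn⟩

theorem coordSub_ne_top {k : ℕ} (h : k < n) : coordSub F n k ≠ ⊤ := fun e => by
  have h' := (e ▸ Submodule.mem_top : Pi.single (⟨k, h⟩ : Fin n) (1 : F) ∈ coordSub F n k) ⟨k, h⟩ le_rfl
  simp at h'

theorem stab_iff_zero [Finite F] {k : ℕ} (g : Matrix.GeneralLinearGroup (Fin n) F) :
    g ∈ Cfsg.Geo.subspaceStabilizer (coordSub F n k) ↔
      ∀ i j : Fin n, k ≤ (i : ℕ) → (j : ℕ) < k → (g : Matrix (Fin n) (Fin n) F) i j = 0 := by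
  constructor
  · intro hg i j hi hj
    have := (hg _).mp (single_mem_coordSub hj (1 : F)) i hi
    rwa [Units.coeHom_apply, Matrix.mulVec_single_one] at this
  · intro h
    have hmap : ∀ v ∈ coordSub F n k, (g : Matrix (Fin n) (Fin n) F) *ᵥ v ∈ coordSub F n k := by
      intro v hv i hi
      change ∑ j, (g : Matrix (Fin n) (Fin n) F) i j * v j = 0
      refine Finset.sum_eq_zero fun j _ => ?_
      rcases lt_or_ge (j : ℕ) k with hj | hj
      · rw [h i j hi hj, zero_mul]
      · rw [hv j hj, mul_zero]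
    intro v
    refine ⟨hmap v, fun hv => ?_⟩
    obtain ⟨w, hw, hwv⟩ : ∃ w ∈ coordSub F n k, (g : Matrix (Fin n) (Fin n) F) *ᵥ w = (g : Matrix (Fin n) (Fin n) F) *ᵥ v := by
      have hinj : Function.Injective fun w : coordSub F n k => (⟨_, hmap w w.2⟩ : coordSub F n k) := fun a b hab =>
        Subtype.ext ((Matrix.mulVec_injective_iff_isUnit.mpr g.isUnit) (congrArg Subtype.val hab))
      obtain ⟨w, hw⟩ := Finite.injective_iff_surjective.mp hinj ⟨_, hv⟩
      exact ⟨w, w.2, congrArg Subtype.val hw⟩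
    exact (Matrix.mulVec_injective_iff_isUnit.mpr g.isUnit hwv) ▸ hw

theorem exists_det_stab (k : ℕ) (hn : 0 < n) (c : Fˣ) :
    ∃ d ∈ Cfsg.Geo.subspaceStabilizer (coordSub F n k), Matrix.GeneralLinearGroup.det d = c := by
  set i₀ : Fin n := ⟨0, hn⟩
  let D : Matrix (Fin n) (Fin n) F := Matrix.diagonal (Function.update 1 i₀ (c : F))
  have hd : D.det = c := by
    simp only [D, Matrix.det_diagonal, Finset.prod_update_of_mem (Finset.mem_univ i₀)]
    simp
  refine ⟨Matrix.GeneralLinearGroup.mkOfDetNeZero D (by rw [hd]; exact c.ne_zero), fun v => ?_,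
    Units.ext (by rw [Matrix.GeneralLinearGroup.val_det_apply]; exact hd)⟩
  change (∀ i : Fin n, k ≤ (i : ℕ) → v i = 0) ↔ (∀ i : Fin n, k ≤ (i : ℕ) → (D *ᵥ v) i = 0)
  refine forall_congr' fun i => imp_congr_right fun _ => ?_
  have hne : Function.update (1 : Fin n → F) i₀ (c : F) i ≠ 0 := by
    by_cases h : i = i₀ <;> simp [h]
  simp only [D, Matrix.mulVec_diagonal, mul_eq_zero, hne, false_or]

theorem isCoatom_parabolic {k : ℕ} (hk0 : 0 < k) (hkn : k < n) :
    IsCoatom (Cfsg.Geo.subspaceStabilizer (coordSub F n k)) := by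
  set M := Cfsg.Geo.subspaceStabilizer (coordSub F n k)
  have e : M.comap (slToGL (Fin n) F) = slSubStabilizer (coordSub F n k) := by
    ext g
    refine forall_congr' fun x => ?_
    change (x ∈ coordSub F n k ↔ (slToGL (Fin n) F g).val.mulVec x ∈ coordSub F n k) ↔ _
    rw [slToGL_mulVec]
  have hc := e.symm ▸ isCoatom_slSubStabilizer (coordSub_ne_bot (F := F) hk0 (by omega)) (coordSub_ne_top hkn)
  have hmax := isMaximalIn_of_isCoatom_comap (slToGL (Fin n) F) (range_slToGL (Fin n)) hc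
  refine ⟨fun h => hmax.1.ne (by rw [h, top_inf_eq]), fun K hlt => ?_⟩
  obtain ⟨g, hgK, hgM⟩ := SetLike.exists_of_lt hlt
  -- split off the determinant
  have split : ∀ x : Matrix.GeneralLinearGroup (Fin n) F, ∃ d ∈ M, x * d⁻¹ ∈ Cfsg.Geo.specialLinear (Fin n) F := by
    intro x
    obtain ⟨d, hd, hdet⟩ := exists_det_stab (F := F) (n := n) k (by omega) (Matrix.GeneralLinearGroup.det x)
    exact ⟨d, hd, by rw [Cfsg.Geo.specialLinear, MonoidHom.mem_ker, map_mul, map_inv, hdet, mul_inv_cancel]⟩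
  rcases hmax.2 (K ⊓ Cfsg.Geo.specialLinear (Fin n) F) (inf_le_inf_right _ hlt.le) inf_le_right with h | h
  · obtain ⟨d, hd, hs⟩ := split g
    have : g * d⁻¹ ∈ M ⊓ Cfsg.Geo.specialLinear (Fin n) F := h ▸ ⟨K.mul_mem hgK (K.inv_mem (hlt.le hd)), hs⟩
    exact absurd (by simpa using M.mul_mem this.1 hd) hgM
  · rw [eq_top_iff]
    intro x _
    obtain ⟨d, hd, hs⟩ := split x
    have h1 : x * d⁻¹ ∈ K := ((h.symm ▸ hs) : _ ∈ K ⊓ Cfsg.Geo.specialLinear (Fin n) F).1
    simpa using K.mul_mem h1 (hlt.le hd)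

theorem invariant_eq {W U : Submodule F (Fin n → F)} (hW0 : W ≠ ⊥) (hU0 : U ≠ ⊥) (hU1 : U ≠ ⊤)
    (hinv : ∀ g ∈ Cfsg.Geo.subspaceStabilizer W, ∀ x ∈ U, (g : Matrix (Fin n) (Fin n) F) *ᵥ x ∈ U) : U = W := by
  have step : ∀ (φ : Module.Dual F (Fin n → F)) (v : Fin n → F), φ v = 0 → (v ∈ W ∨ ∀ w ∈ W, φ w = 0) →
      ∀ x ∈ U, φ x • v ∈ U := by
    intro φ v hv hW x hx
    have h := hinv (slToGL (Fin n) F (slT φ v hv)) (fun y => by
      change y ∈ W ↔ (slToGL (Fin n) F (slT φ v hv)).val *ᵥ y ∈ W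
      rw [slToGL_mulVec]; exact slT_mem_slSubStabilizer hv hW y) x hx
    rw [slToGL_mulVec, slT_apply] at h
    exact (Submodule.add_mem_iff_right _ hx).mp h
  have hUW : U ≤ W := by
    intro x hx
    by_contra hxW
    obtain ⟨φ, hφx, hφW⟩ := exists_dual_vanish hxW
    refine hU1 (eq_top_iff.mpr fun y _ => ?_)
    have h := step φ (y - φ y • x) (by rw [map_sub, map_smul, hφx, smul_eq_mul, mul_one, sub_self])
      (Or.inr hφW) x hx
    rw [hφx, one_smul] at h
    simpa using U.add_mem h (U.smul_mem (φ y) hx)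
  refine le_antisymm hUW fun y hy => ?_
  by_contra hyU
  obtain ⟨x, hx, hx0⟩ := Submodule.exists_mem_ne_zero_of_ne_bot hU0
  have hxy : x ∉ Submodule.span F {y} := fun h => by
    obtain ⟨c, rfl⟩ := Submodule.mem_span_singleton.mp h
    exact hyU ((U.smul_mem_iff (fun hc => hx0 (by rw [hc, zero_smul]))).mp hx)
  obtain ⟨φ, hφx, hφy⟩ := exists_dual_vanish hxy
  have h := step φ y (hφy y (Submodule.mem_span_singleton_self y)) (Or.inl hy) x hx
  rw [hφx, one_smul] at h
  exact hyU h

theorem coordSub_ne {a b : ℕ} (hab : a < b) (hbn : b ≤ n) : coordSub F n a ≠ coordSub F n b := fun e => by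
  have h := (e.symm ▸ single_mem_coordSub (j := (⟨a, by omega⟩ : Fin n)) hab (1 : F)) ⟨a, by omega⟩ le_rfl
  simp at h

theorem finrank_coordSub (k : ℕ) (hk : k ≤ n) : Module.finrank F (coordSub F n k) = k := by
  let e : coordSub F n k ≃ₗ[F] (Fin k → F) :=
    { toFun := fun v i => v.1 (Fin.castLE hk i)
      invFun := fun w => ⟨fun i => if h : (i : ℕ) < k then w ⟨i, h⟩ else 0, fun i hi => dif_neg (by omega)⟩
      left_inv := fun v => Subtype.ext (funext fun i => by
        by_cases h : (i : ℕ) < k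
        · simp [h]
        · simp [h, v.2 i (by omega)])
      right_inv := fun w => funext fun i => by simp
      map_add' := fun a b => rfl
      map_smul' := fun c a => rfl }
  rw [e.finrank_eq, Module.finrank_fin_fun]

/-- Inverse transpose followed by reversal of the indices. -/
def glFlip (F : Type u) [Field F] (n : ℕ) : Matrix.GeneralLinearGroup (Fin n) F ≃* Matrix.GeneralLinearGroup (Fin n) F where
  toFun g :=
    { val := (((g⁻¹ : Matrix.GeneralLinearGroup (Fin n) F) : Matrix (Fin n) (Fin n) F)ᵀ).submatrix Fin.revPerm Fin.revPerm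
      inv := ((g : Matrix (Fin n) (Fin n) F)ᵀ).submatrix Fin.revPerm Fin.revPerm
      val_inv := by
        rw [Matrix.submatrix_mul_equiv, ← Matrix.transpose_mul, ← Units.val_mul, mul_inv_cancel]; simp
      inv_val := by
        rw [Matrix.submatrix_mul_equiv, ← Matrix.transpose_mul, ← Units.val_mul, inv_mul_cancel]; simp }
  invFun g :=
    { val := (((g⁻¹ : Matrix.GeneralLinearGroup (Fin n) F) : Matrix (Fin n) (Fin n) F)ᵀ).submatrix Fin.revPerm Fin.revPerm
      inv := ((g : Matrix (Fin n) (Fin n) F)ᵀ).submatrix Fin.revPerm Fin.revPerm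
      val_inv := by
        rw [Matrix.submatrix_mul_equiv, ← Matrix.transpose_mul, ← Units.val_mul, mul_inv_cancel]; simp
      inv_val := by
        rw [Matrix.submatrix_mul_equiv, ← Matrix.transpose_mul, ← Units.val_mul, inv_mul_cancel]; simp }
  left_inv g := Units.ext (by ext i j; simp [Units.inv_mk])
  right_inv g := Units.ext (by ext i j; simp [Units.inv_mk])
  map_mul' a b := Units.ext (by
    simp only [Units.val_mul, _root_.mul_inv_rev, Matrix.transpose_mul]
    rw [Matrix.submatrix_mul_equiv])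

theorem parabolic_flip [Finite F] {k : ℕ} (hk : k ≤ n) (g : Matrix.GeneralLinearGroup (Fin n) F) :
    g ∈ Cfsg.Geo.subspaceStabilizer (coordSub F n k) ↔
      glFlip F n g ∈ Cfsg.Geo.subspaceStabilizer (coordSub F n (n - k)) := by
  rw [← (Cfsg.Geo.subspaceStabilizer (coordSub F n k)).inv_mem_iff, stab_iff_zero, stab_iff_zero]
  constructor
  · intro h i j hi hj
    exact h (Fin.rev j) (Fin.rev i) (by rw [Fin.val_rev]; omega) (by rw [Fin.val_rev]; omega)
  · intro h i j hi hj
    have := h (Fin.rev j) (Fin.rev i) (by rw [Fin.val_rev]; omega) (by rw [Fin.val_rev]; omega)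
    simpa [glFlip] using this

theorem parabolic_iso [Finite F] {k : ℕ} (hk : k ≤ n) :
    Nonempty (↥(Cfsg.Geo.subspaceStabilizer (coordSub F n k)) ≃*
      ↥(Cfsg.Geo.subspaceStabilizer (coordSub F n (n - k)))) := by
  refine ⟨(glFlip F n).subgroupMap _ |>.trans (MulEquiv.subgroupCongr ?_)⟩
  ext g
  rw [Subgroup.mem_map]
  constructor
  · rintro ⟨a, ha, rfl⟩
    exact (parabolic_flip hk a).mp ha
  · intro hg
    exact ⟨(glFlip F n).symm g, (parabolic_flip hk _).mpr (by rwa [MulEquiv.apply_symm_apply]),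
      (glFlip F n).apply_symm_apply g⟩

theorem parabolic_not_conj {k : ℕ} (hk0 : 0 < k) (hkn : k < n) (h2 : 2 * k ≠ n)
    (g : Matrix.GeneralLinearGroup (Fin n) F) :
    (Cfsg.Geo.subspaceStabilizer (coordSub F n k)).map (MulAut.conj g).toMonoidHom ≠
      Cfsg.Geo.subspaceStabilizer (coordSub F n (n - k)) := by
  intro he
  set L := Matrix.GeneralLinearGroup.toLin g⁻¹ with hL
  set U := (coordSub F n (n - k)).comap (g : Matrix (Fin n) (Fin n) F).mulVecLin with hU
  have hinj : Function.Injective (g : Matrix (Fin n) (Fin n) F).mulVecLin := Matrix.mulVec_injective_iff_isUnit.mpr g.isUnit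
  let e := LinearEquiv.ofBijective _ ⟨hinj, LinearMap.injective_iff_surjective.mp hinj⟩
  have hUe : U = (coordSub F n (n - k)).map e.symm.toLinearMap := by
    rw [← Submodule.comap_equiv_eq_map_symm]; rfl
  have hUfr : Module.finrank F U = n - k := by
    rw [hUe, LinearEquiv.finrank_map_eq, finrank_coordSub _ (by omega)]
  have hinv : ∀ h ∈ Cfsg.Geo.subspaceStabilizer (coordSub F n k), ∀ x ∈ U,
      (h : Matrix (Fin n) (Fin n) F) *ᵥ x ∈ U := by
    intro h hh x hx
    have hm : g * h * g⁻¹ ∈ Cfsg.Geo.subspaceStabilizer (coordSub F n (n - k)) := he ▸ ⟨h, hh, rfl⟩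
    have := (hm ((g : Matrix (Fin n) (Fin n) F) *ᵥ x)).mp hx
    rw [Units.coeHom_apply, Matrix.mulVec_mulVec, ← Units.val_mul, inv_mul_cancel_right, Units.val_mul,
      ← Matrix.mulVec_mulVec] at this
    exact this
  have := invariant_eq (coordSub_ne_bot hk0 (by omega))
    (fun h => by rw [h, finrank_bot] at hUfr; omega)
    (fun h => by rw [h, finrank_top, Module.finrank_fin_fun] at hUfr; omega) hinv
  rw [this, finrank_coordSub k (by omega)] at hUfr
  omega

theorem card_parabolic [Fintype F] (k : ℕ) (hk : k ≤ n) :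
    Nat.card ↥(Cfsg.Geo.subspaceStabilizer (coordSub F n k)) =
      Nat.card (Matrix.GeneralLinearGroup (Fin k) F) * Nat.card (Matrix.GeneralLinearGroup (Fin (n - k)) F) *
        Fintype.card F ^ (k * (n - k)) := by
  classical
  let σ : Fin k ⊕ Fin (n - k) ≃ Fin n := finSumFinEquiv.trans (finCongr (by omega))
  have hl : ∀ i, ((σ (Sum.inl i) : Fin n) : ℕ) = i := fun i => by simp [σ]
  have hr : ∀ i, ((σ (Sum.inr i) : Fin n) : ℕ) = k + i := fun i => by simp [σ]
  let R := Matrix.reindexAlgEquiv F F σ.symm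
  let B : Matrix (Fin n) (Fin n) F → Matrix (Fin k) (Fin k) F × Matrix (Fin k) (Fin (n - k)) F × Matrix (Fin (n - k)) (Fin (n - k)) F :=
    fun M => ((R M).toBlocks₁₁, (R M).toBlocks₁₂, (R M).toBlocks₂₂)
  let T := {x : Matrix (Fin k) (Fin k) F × Matrix (Fin k) (Fin (n - k)) F × Matrix (Fin (n - k)) (Fin (n - k)) F //
    IsUnit x.1.det ∧ IsUnit x.2.2.det}
  let mat : Matrix (Fin k) (Fin k) F × Matrix (Fin k) (Fin (n - k)) F × Matrix (Fin (n - k)) (Fin (n - k)) F →
    Matrix (Fin n) (Fin n) F := fun x => R.symm (Matrix.fromBlocks x.1 x.2.1 0 x.2.2)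
  have hdet : ∀ x, (mat x).det = x.1.det * x.2.2.det := fun x => by
    simp only [mat, R, Matrix.reindexAlgEquiv_symm, Matrix.det_reindexAlgEquiv, Matrix.det_fromBlocks_zero₂₁]
  have h21 : ∀ g : Matrix.GeneralLinearGroup (Fin n) F, g ∈ Cfsg.Geo.subspaceStabilizer (coordSub F n k) →
      mat (B g) = g := by
    intro g hg
    have h0 : (R (g : Matrix (Fin n) (Fin n) F)).toBlocks₂₁ = 0 := by
      ext i j
      exact (stab_iff_zero g).mp hg (σ (Sum.inr i)) (σ (Sum.inl j)) (by rw [hr]; omega) (by rw [hl]; exact j.2)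
    change R.symm _ = _
    rw [AlgEquiv.symm_apply_eq]
    conv_rhs => rw [← Matrix.fromBlocks_toBlocks (R (g : Matrix (Fin n) (Fin n) F)), h0]
  let e : ↥(Cfsg.Geo.subspaceStabilizer (coordSub F n k)) ≃ T :=
    { toFun := fun g => ⟨B g.1, by
        have h := hdet (B g.1)
        rw [h21 g.1 g.2] at h
        exact IsUnit.mul_iff.mp (h ▸ (Matrix.isUnit_iff_isUnit_det _).mp g.1.isUnit)⟩
      invFun := fun x => ⟨Matrix.GeneralLinearGroup.mkOfDetNeZero (mat x.1)
        (by rw [hdet]; exact (x.2.1.mul x.2.2).ne_zero), by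
          rw [stab_iff_zero]
          intro i j hi hj
          change mat x.1 i j = 0
          obtain ⟨a, rfl⟩ := σ.surjective i
          obtain ⟨b, rfl⟩ := σ.surjective j
          rcases a with a | a
          · rw [hl] at hi; omega
          rcases b with b | b
          · simp [mat, R]
          · rw [hr] at hj; omega⟩
      left_inv := fun g => Subtype.ext (Units.ext (h21 g.1 g.2))
      right_inv := fun x => Subtype.ext (by
        change B (mat x.1) = x.1
        simp [B, mat]) }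
  have eT : T ≃ (Matrix.GeneralLinearGroup (Fin k) F × Matrix.GeneralLinearGroup (Fin (n - k)) F) ×
      Matrix (Fin k) (Fin (n - k)) F :=
    { toFun := fun x => ((Matrix.GeneralLinearGroup.mkOfDetNeZero x.1.1 x.2.1.ne_zero,
        Matrix.GeneralLinearGroup.mkOfDetNeZero x.1.2.2 x.2.2.ne_zero), x.1.2.1)
      invFun := fun y => ⟨(y.1.1, y.2, y.1.2),
        ⟨(Matrix.isUnit_iff_isUnit_det _).mp y.1.1.isUnit, (Matrix.isUnit_iff_isUnit_det _).mp y.1.2.isUnit⟩⟩
      left_inv := fun x => rfl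
      right_inv := fun y => Prod.ext (Prod.ext (Units.ext rfl) (Units.ext rfl)) rfl }
  rw [Nat.card_congr (e.trans eT), Nat.card_prod, Nat.card_prod]
  congr 1
  simp [Matrix, Nat.card_eq_fintype_card, ← pow_mul, mul_comm k]

end Cfsg.Lib.Classical
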