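import Mathlib
import Cfsg.Agent.Classical.Unitary.Matrix
import Cfsg.Agent.Known.UnitaryGU

/-! Elements of prime order in unitary groups commuting with a nontrivial unipotent element. -/

set_option autoImplicit false
set_option linter.unusedSectionVars false

namespace Cfsg.Lib.UnitaryCommUnipotent

open Matrix Polynomial

section Closed

variable {K : Type*} [Field K] [IsAlgClosed K] {m r p : ℕ}

theorem nilpotent_eq_zero_of_nodup (A N : Matrix (Fin m) (Fin m) K) (hA : A.charpoly.roots.Nodup)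
    (hc : Commute A N) (hN : IsNilpotent N) : N = 0 := by
  classical
  let f : Module.End K (Fin m → K) := Matrix.toLinAlgEquiv' A
  let g : Module.End K (Fin m → K) := Matrix.toLinAlgEquiv' N
  have hcard : A.charpoly.roots.card = m := by
    rw [IsAlgClosed.card_roots_eq_natDegree, Matrix.charpoly_natDegree_eq_dim, Fintype.card_fin]
  have hev : ∀ l ∈ A.charpoly.roots.toFinset, ∃ v : Fin m → K, f.HasEigenvector l v := by
    intro l hl
    rw [Multiset.mem_toFinset, Polynomial.mem_roots (A.charpoly_monic.ne_zero)] at hl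
    have h1 : f.HasEigenvalue l := by
      rw [Module.End.hasEigenvalue_iff_isRoot_charpoly]
      have h2 : LinearMap.charpoly f = A.charpoly := Matrix.charpoly_toLin' A
      rwa [h2]
    exact h1.exists_hasEigenvector
  choose v hv using hev
  let w : A.charpoly.roots.toFinset → (Fin m → K) := fun l => v l.1 l.2
  have hw : ∀ l : A.charpoly.roots.toFinset, f.HasEigenvector (l : K) (w l) := fun l => hv l.1 l.2
  have hind : LinearIndependent K w :=
    Module.End.eigenvectors_linearIndependent' f (fun l : A.charpoly.roots.toFinset => (l : K)) Subtype.val_injective w hw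
  have hfc : Fintype.card A.charpoly.roots.toFinset = Module.finrank K (Fin m → K) := by
    rw [Fintype.card_coe, Multiset.toFinset_card_of_nodup hA, hcard, Module.finrank_fin_fun]
  have hsp := hind.span_eq_top_of_card_eq_finrank' hfc
  have hfg : ∀ x, f (g x) = g (f x) := fun x => LinearMap.congr_fun (hc.map Matrix.toLinAlgEquiv').eq x
  obtain ⟨k, hk⟩ := hN
  have hz : ∀ l, g (w l) = 0 := by
    intro l
    obtain ⟨c, hc'⟩ : ∃ c : A.charpoly.roots.toFinset → K, ∑ i, c i • w i = g (w l) :=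
      (Submodule.mem_span_range_iff_exists_fun K).1 (hsp ▸ Submodule.mem_top)
    have h0 : ∑ i, (c i * ((i : K) - l)) • w i = 0 := by
      have h1 : f (g (w l)) = (l : K) • g (w l) := by rw [hfg, (hw l).apply_eq_smul, map_smul]
      rw [← hc', map_sum, Finset.smul_sum, ← sub_eq_zero, ← Finset.sum_sub_distrib] at h1
      rw [← h1]
      refine Finset.sum_congr rfl fun i _ => ?_
      rw [map_smul, (hw i).apply_eq_smul, smul_smul, smul_smul, ← sub_smul]
      ring_nf
    have hci : ∀ i, i ≠ l → c i = 0 := fun i hi => by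
      rcases mul_eq_zero.1 (Fintype.linearIndependent_iff.1 hind _ h0 i) with h | h
      · exact h
      · exact absurd (Subtype.ext (sub_eq_zero.1 h)) hi
    have hgl : g (w l) = c l • w l := by
      rw [← hc', Finset.sum_eq_single l (fun i _ hi => by rw [hci i hi, zero_smul]) (by simp)]
    have hpow : ∀ j : ℕ, (g ^ j) (w l) = (c l) ^ j • w l := by
      intro j
      induction j with
      | zero => simp
      | succ j ih => rw [pow_succ', Module.End.mul_apply, ih, map_smul, hgl, smul_smul, pow_succ]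
    have h2 := hpow k
    rw [show g ^ k = Matrix.toLinAlgEquiv' (N ^ k) from (map_pow _ N k).symm, hk, map_zero,
      LinearMap.zero_apply, eq_comm, smul_eq_zero] at h2
    rcases h2 with h2 | h2
    · rw [hgl, eq_zero_of_pow_eq_zero h2, zero_smul]
    · exact absurd h2 (hw l).2
  have hg : g = 0 := LinearMap.ext_on_range hsp fun l => by rw [hz l, LinearMap.zero_apply]
  exact Matrix.toLinAlgEquiv'.injective (by rw [map_zero]; exact hg)

theorem isRoot_iff_det (A : Matrix (Fin m) (Fin m) K) (l : K) :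
    A.charpoly.IsRoot l ↔ (Matrix.scalar (Fin m) l - A).det = 0 := by
  rw [Polynomial.IsRoot, Matrix.eval_charpoly]

/-- eigenvalues of a unitary matrix are permuted by `x ↦ x^{-q}` -/
theorem isRoot_conj_inv (σ : K →+* K) (A : Matrix (Fin m) (Fin m) K) (hU : (A.map σ)ᵀ * A = 1) (l : K)
    (hl0 : l ≠ 0) (hl : A.charpoly.IsRoot l) : A.charpoly.IsRoot (σ l)⁻¹ := by
  rw [isRoot_iff_det] at hl ⊢
  have h1 : ((Matrix.scalar (Fin m) (σ l) - A.map σ)).det = 0 := by
    have h2 := congrArg σ hl
    rw [RingHom.map_det, map_zero, map_sub] at h2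
    rw [← h2]
    congr 2
    rw [Matrix.scalar_apply, Matrix.scalar_apply, RingHom.mapMatrix_apply, Matrix.diagonal_map (map_zero σ)]
  have h3 : (Matrix.scalar (Fin m) (σ l) - (A.map σ)ᵀ).det = 0 := by
    rw [← h1, ← Matrix.det_transpose (Matrix.scalar (Fin m) (σ l) - A.map σ), Matrix.transpose_sub,
      Matrix.scalar_apply, Matrix.diagonal_transpose]
  have hs : σ l ≠ 0 := (map_ne_zero σ).2 hl0
  have h4 : Matrix.scalar (Fin m) (σ l)⁻¹ - A =
      (-(σ l)⁻¹) • ((Matrix.scalar (Fin m) (σ l) - (A.map σ)ᵀ) * A) := by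
    rw [sub_mul, hU, smul_sub]
    rw [show Matrix.scalar (Fin m) (σ l) * A = σ l • A by
      rw [Matrix.scalar_apply, Matrix.smul_eq_diagonal_mul], smul_smul, neg_mul, inv_mul_cancel₀ hs,
      neg_one_smul, neg_smul, sub_neg_eq_add, neg_add_eq_sub, Matrix.scalar_apply, Matrix.smul_one_eq_diagonal]
  rw [h4, Matrix.det_smul, Matrix.det_mul, h3, zero_mul, mul_zero]

variable [Fact p.Prime] [CharP K p] [hr : Fact r.Prime]

/-- the main spectral statement -/
theorem roots_nodup {j e : ℕ} (hm : 4 ≤ m) (hrp : r ≠ p) (σ : K →+* K) (hσ : ∀ x, σ x = x ^ p ^ j)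
    (A : Matrix (Fin m) (Fin m) K) (hU : (A.map σ)ᵀ * A = 1) (hd : A.det = 1) (hA : A ^ r = 1) (hA1 : A ≠ 1)
    (he : orderOf (-((p ^ j : ℕ) : ZMod r)) = e) (hem : m ≤ e + 1) : A.charpoly.roots.Nodup := by
  classical
  have hcard : A.charpoly.roots.card = m := by
    rw [IsAlgClosed.card_roots_eq_natDegree, Matrix.charpoly_natDegree_eq_dim, Fintype.card_fin]
  have hne : A.charpoly ≠ 0 := A.charpoly_monic.ne_zero
  have hroot : ∀ l, A.charpoly.IsRoot l → l ^ r = 1 := by
    intro l hl
    let f : Module.End K (Fin m → K) := Matrix.toLinAlgEquiv' A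
    have h1 : f.HasEigenvalue l := by
      rw [Module.End.hasEigenvalue_iff_isRoot_charpoly]
      have h2 : LinearMap.charpoly f = A.charpoly := Matrix.charpoly_toLin' A
      rwa [h2]
    obtain ⟨v, hv⟩ := h1.exists_hasEigenvector
    have h3 := hv.pow_apply r
    rw [show f ^ r = Matrix.toLinAlgEquiv' (A ^ r) from (map_pow _ A r).symm, hA, map_one,
      Module.End.one_apply] at h3
    have h4 : (l ^ r - 1) • v = 0 := by rw [sub_smul, one_smul, ← h3, sub_self]
    rcases smul_eq_zero.1 h4 with h | h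
    · exact sub_eq_zero.1 h
    · exact absurd h hv.2
  -- a nontrivial eigenvalue
  obtain ⟨z, hz, hz1⟩ : ∃ z, z ∈ A.charpoly.roots ∧ z ≠ 1 := by
    by_contra hno
    push_neg at hno
    have h1 : A.charpoly = (X - C (1 : K)) ^ m := by
      rw [(IsAlgClosed.splits A.charpoly).eq_prod_roots_of_monic A.charpoly_monic,
        Multiset.eq_replicate_card.2 hno, hcard, Multiset.map_replicate, Multiset.prod_replicate]
    have h2 := Matrix.aeval_self_charpoly A
    rw [h1, map_pow, map_sub, aeval_X, aeval_C, map_one] at h2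
    haveI : Nonempty (Fin m) := ⟨⟨0, by omega⟩⟩
    haveI : CharP (Matrix (Fin m) (Fin m) K) p := inferInstance
    have h5 := pow_eq_zero_of_le (Nat.lt_pow_self (Fact.out : p.Prime).one_lt).le h2 (n := p ^ m)
    rw [sub_pow_char_pow_of_commute p m (Commute.one_right _), one_pow, sub_eq_zero] at h5
    have h6 : Nat.gcd r (p ^ m) = 1 :=
      Nat.Coprime.pow_right _ ((Nat.coprime_primes hr.out Fact.out).2 hrp)
    have h7 : A ^ 1 = 1 := h6 ▸ (pow_gcd_eq_one.2 ⟨hA, h5⟩)
    exact hA1 (by rwa [pow_one] at h7)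
  have hzr : orderOf z = r := orderOf_eq_prime (hroot z ((Polynomial.mem_roots hne).1 hz)) hz1
  let f : ZMod r → K := fun a => z ^ a.val
  have hfr : ∀ a b : ℕ, (a : ZMod r) = b → z ^ a = z ^ b := fun a b h => by
    rw [← pow_mod_orderOf z a, ← pow_mod_orderOf z b, hzr, (ZMod.natCast_eq_natCast_iff' a b r).1 h]
  have hfinj : Function.Injective f := fun a b h => by
    refine ZMod.val_injective r ?_
    have := pow_injOn_Iio_orderOf (x := z) (by rw [Set.mem_Iio, hzr]; exact ZMod.val_lt a)
      (by rw [Set.mem_Iio, hzr]; exact ZMod.val_lt b) h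
    exact this
  have hz0 : z ≠ 0 := fun h => by
    have := hroot z ((Polynomial.mem_roots hne).1 hz)
    rw [h, zero_pow hr.out.ne_zero] at this
    exact zero_ne_one this
  have hstep : ∀ a : ZMod r, f a ∈ A.charpoly.roots → f (-((p ^ j : ℕ) : ZMod r) * a) ∈ A.charpoly.roots := by
    intro a ha
    rw [Polynomial.mem_roots hne] at ha ⊢
    convert isRoot_conj_inv σ A hU (f a) (pow_ne_zero _ hz0) ha using 1
    rw [hσ]
    apply eq_inv_of_mul_eq_one_left
    change z ^ _ * (z ^ _) ^ _ = 1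
    rw [← pow_mul, ← pow_add, hfr _ 0 (by push_cast [ZMod.natCast_zmod_val]; ring), pow_zero]
  have horb : ∀ i : ℕ, f ((-((p ^ j : ℕ) : ZMod r)) ^ i) ∈ A.charpoly.roots := by
    intro i
    induction i with
    | zero =>
      rw [pow_zero]
      change z ^ ((1 : ZMod r)).val ∈ _
      rw [ZMod.val_one, pow_one]
      exact hz
    | succ i ih => rw [pow_succ']; exact hstep _ ih
  have he0 : 0 < e := by omega
  have hd0 : (-((p ^ j : ℕ) : ZMod r)) ≠ 0 := fun h => by
    rw [h, orderOf_zero] at he; omega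
  let S : Finset K := (Finset.range e).image fun i => f ((-((p ^ j : ℕ) : ZMod r)) ^ i)
  have hSinj : Set.InjOn (fun i => f ((-((p ^ j : ℕ) : ZMod r)) ^ i)) (Finset.range e : Set ℕ) := by
    intro a ha b hb h
    rw [Finset.coe_range, Set.mem_Iio] at ha hb
    exact pow_injOn_Iio_orderOf (by rw [Set.mem_Iio, he]; exact ha) (by rw [Set.mem_Iio, he]; exact hb) (hfinj h)
  have hScard : S.card = e := by rw [Finset.card_image_of_injOn hSinj, Finset.card_range]
  have hSle : S.val ≤ A.charpoly.roots := by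
    rw [Multiset.le_iff_subset S.nodup]
    intro x hx
    have hx' : x ∈ S := Finset.mem_val.mp hx
    obtain ⟨i, -, rfl⟩ := Finset.mem_image.1 hx'
    exact horb i
  obtain ⟨T, hT⟩ := Multiset.le_iff_exists_add.1 hSle
  have hTcard : T.card ≤ 1 := by
    have h := congrArg Multiset.card hT
    rw [Multiset.card_add, hcard, Finset.card_val, hScard] at h
    omega
  have hS1 : ∀ x ∈ S, x ≠ 1 := by
    intro x hx h1
    obtain ⟨i, -, rfl⟩ := Finset.mem_image.1 hx
    have h2 : f ((-((p ^ j : ℕ) : ZMod r)) ^ i) = f 0 := by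
      rw [h1]; change 1 = z ^ (0 : ZMod r).val; rw [ZMod.val_zero, pow_zero]
    exact pow_ne_zero i hd0 (hfinj h2)
  have hprod : S.val.prod = 1 := by
    rw [Finset.prod_val, Finset.prod_image hSinj]
    change ∏ i ∈ Finset.range e, z ^ _ = 1
    rw [Finset.prod_pow_eq_pow_sum, hfr _ 0 ?_, pow_zero]
    rw [Nat.cast_sum, Nat.cast_zero]
    simp only [ZMod.natCast_zmod_val]
    have h1 := geom_sum_mul (-((p ^ j : ℕ) : ZMod r)) e
    rw [show (-((p ^ j : ℕ) : ZMod r)) ^ e = 1 by rw [← he, pow_orderOf_eq_one], sub_self, mul_eq_zero] at h1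
    refine h1.resolve_right fun h2 => ?_
    rw [sub_eq_zero.1 h2, orderOf_one] at he
    omega
  rw [hT]
  rcases Nat.eq_zero_or_pos T.card with h | h
  · rw [Multiset.card_eq_zero.1 h, add_zero]; exact S.nodup
  · obtain ⟨t, rfl⟩ := Multiset.card_eq_one.1 (by omega : T.card = 1)
    refine Multiset.nodup_add.2 ⟨S.nodup, Multiset.nodup_singleton t, ?_⟩
    rw [Multiset.disjoint_singleton]
    intro ht
    have h1 := congrArg Multiset.prod hT
    rw [Multiset.prod_add, Multiset.prod_singleton, hprod, one_mul,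
      ← Matrix.det_eq_prod_roots_charpoly A, hd] at h1
    exact hS1 t ht h1.symm

end Closed

section Finite

variable {F : Type*} [Field F] [Fintype F] {p q m r : ℕ}

theorem exists_q_eq_pow [Fact p.Prime] [CharP F p] (hF : Fintype.card F = q ^ 2) :
    ∃ j, 1 ≤ j ∧ q = p ^ j := by
  obtain ⟨k, hp, hk⟩ := FiniteField.card F p
  obtain ⟨j, -, hj⟩ := (Nat.dvd_prime_pow hp).1 (show q ∣ p ^ (k : ℕ) by rw [← hk, hF]; exact dvd_pow_self q two_ne_zero)
  refine ⟨j, Nat.pos_of_ne_zero fun h => ?_, hj⟩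
  rw [h, pow_zero] at hj
  have := Fintype.one_lt_card (α := F)
  rw [hF, hj] at this
  simp at this

theorem facts_of_not_dvd_card_SU [Fact p.Prime] [CharP F p] (hF : Fintype.card F = q ^ 2) (hm : 2 ≤ m)
    (hr : r.Prime) (h : ¬ r ∣ Nat.card ↥(Cfsg.SU m F q)) :
    r ≠ p ∧ ∀ i, 1 ≤ i → i ≤ m → (-(q : ZMod r)) ^ i ≠ 1 := by
  have hsm := Cfsg.Lib.Classical.card_SU_mul hF (by omega : 1 ≤ m)
  unfold Cfsg.Lib.Classical.cardGUFormula at hsm
  obtain ⟨j, hj0, hj⟩ := exists_q_eq_pow (p := p) hF
  have hq1 : ¬ r ∣ q + 1 := by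
    intro hd
    have h4 := Finset.prod_dvd_prod_of_subset ({0, 1} : Finset ℕ) (Finset.range m)
      (fun i => if Even i then q ^ (i + 1) + 1 else q ^ (i + 1) - 1)
      (by intro x hx; simp only [Finset.mem_insert, Finset.mem_singleton] at hx; rw [Finset.mem_range]; omega)
    rw [Finset.prod_pair zero_ne_one, if_pos (by decide), if_neg (by decide), zero_add, pow_one,
      show q ^ (1 + 1) - 1 = (q + 1) * (q - 1) by rw [← Nat.sq_sub_sq, one_pow]] at h4
    have h5 : (q + 1) * (q + 1) ∣ (q + 1) * Nat.card ↥(Cfsg.SU m F q) := by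
      rw [hsm]
      exact (mul_dvd_mul_left _ (dvd_mul_right _ _)).trans (h4.trans (dvd_mul_left _ _))
    exact h (hd.trans (Nat.dvd_of_mul_dvd_mul_left (Nat.succ_pos q) h5))
  have hout : ∀ d, r ∣ d → d ∣ q ^ (m * (m - 1) / 2) *
      ∏ i ∈ Finset.range m, (if Even i then q ^ (i + 1) + 1 else q ^ (i + 1) - 1) → False := by
    intro d hd hdd
    rw [← hsm] at hdd
    exact (hr.dvd_mul.1 (hd.trans hdd)).elim hq1 h
  refine ⟨fun e => ?_, fun i hi him he => ?_⟩
  · have h2 : 1 ≤ m * (m - 1) / 2 := by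
      rw [Nat.le_div_iff_mul_le two_pos, one_mul]
      exact le_trans (by omega : 2 ≤ m * 1) (Nat.mul_le_mul_left m (by omega))
    exact hout (q ^ (m * (m - 1) / 2))
      (e.symm ▸ (dvd_pow (hj.symm ▸ dvd_pow_self p (by omega)) (by omega))) (dvd_mul_right _ _)
  · refine hout _ ?_ ((Finset.dvd_prod_of_mem _ (Finset.mem_range.2 (by omega : i - 1 < m))).trans
      (dvd_mul_left _ _))
    by_cases hev : Even (i - 1)
    · rw [if_pos hev, Nat.sub_add_cancel hi, ← ZMod.natCast_eq_zero_iff, Nat.cast_add, Nat.cast_pow,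
        Nat.cast_one]
      have hodd : Odd i := by obtain ⟨c, hc⟩ := hev; exact ⟨c, by omega⟩
      rw [hodd.neg_pow] at he
      rw [← neg_neg ((q : ZMod r) ^ i), he, neg_add_cancel]
    · rw [if_neg hev, Nat.sub_add_cancel hi, ← ZMod.natCast_eq_zero_iff,
        Nat.cast_sub (Nat.one_le_pow _ _ (hj ▸ Nat.pos_of_ne_zero (pow_ne_zero _ (Fact.out : p.Prime).ne_zero))),
        Nat.cast_pow, Nat.cast_one]
      have hi2 : Even i := by
        obtain ⟨c, hc⟩ := Nat.not_even_iff_odd.1 hev
        exact ⟨c + 1, by omega⟩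
      rw [hi2.neg_pow] at he
      rw [he, sub_self]

/-- a prime order element commuting with a nontrivial element of `p`-power order in `SU` -/
theorem dvd_card_SU_of_commute [Fact p.Prime] [CharP F p] (hF : Fintype.card F = q ^ 2) (hm : 4 ≤ m)
    (A M : Cfsg.SU m F q) (hA1 : A ≠ 1) (hAp : A ^ p = 1) (hAM : Commute A M) (hr : r.Prime) (hM : orderOf M = r) :
    r ∣ Nat.card ↥(Cfsg.SU (m - 2) F q) := by
  classical
  by_contra hnd
  haveI := Fact.mk hr
  obtain ⟨hrp, hord⟩ := facts_of_not_dvd_card_SU (p := p) hF (by omega) hr hnd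
  obtain ⟨j, hj0, hj⟩ := exists_q_eq_pow (p := p) hF
  have hd0 : (-(q : ZMod r)) ≠ 0 := by
    rw [neg_ne_zero, Ne, ZMod.natCast_eq_zero_iff, hj]
    exact fun hd => hrp ((Nat.prime_dvd_prime_iff_eq hr Fact.out).1 (hr.dvd_of_dvd_pow hd))
  have hepos : 0 < orderOf (-(q : ZMod r)) :=
    orderOf_pos_iff.2 (isOfFinOrder_iff_pow_eq_one.2 ⟨r - 1, by have := hr.two_le; omega, ZMod.pow_card_sub_one_eq_one hd0⟩)
  have hem : m ≤ orderOf (-(q : ZMod r)) + 1 := by
    by_contra hlt
    exact hord _ hepos (by omega) (pow_orderOf_eq_one _)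
  haveI : CharP (AlgebraicClosure F) p :=
    charP_of_injective_algebraMap (algebraMap F (AlgebraicClosure F)).injective p
  let φ : Cfsg.SU m F q →* Matrix (Fin m) (Fin m) (AlgebraicClosure F) :=
    ((algebraMap F (AlgebraicClosure F)).mapMatrix (m := Fin m)).toMonoidHom.comp
      ((Cfsg.slToMat m F).comp (Cfsg.SU m F q).subtype)
  have hφ : Function.Injective φ := by
    intro x y h
    exact Subtype.ext (Subtype.ext (Matrix.map_injective (algebraMap F (AlgebraicClosure F)).injective h))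
  let σ : AlgebraicClosure F →+* AlgebraicClosure F := iterateFrobenius (AlgebraicClosure F) p j
  have hσ : ∀ x, σ x = x ^ p ^ j := fun x => iterateFrobenius_def p j x
  have hU : ((φ M).map σ)ᵀ * φ M = 1 := by
    have h1 := (Cfsg.Lib.UnitaryConj.mem_SU hF M.1).1 M.2
    have h2 := congrArg ((algebraMap F (AlgebraicClosure F)).mapMatrix (m := Fin m)) h1
    rw [map_mul, map_one] at h2
    rw [← h2]
    congr 1
    apply Matrix.ext
    intro a b
    change σ (algebraMap F _ _) = algebraMap F _ (Cfsg.Lib.Classical.powConj hF _)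
    rw [Cfsg.Lib.Classical.powConj_apply, map_pow, hσ, ← hj]
    rfl
  have hdet : (φ M).det = 1 := by
    change ((algebraMap F (AlgebraicClosure F)).mapMatrix (M.1 : Matrix (Fin m) (Fin m) F)).det = 1
    rw [← RingHom.map_det, M.1.2, map_one]
  have hMr : φ M ^ r = 1 := by rw [← map_pow, ← hM, pow_orderOf_eq_one, map_one]
  have hM1 : φ M ≠ 1 := by
    intro h
    rw [hφ (h.trans (map_one φ).symm), orderOf_one] at hM
    exact hr.one_lt.ne hM
  have hnd' := roots_nodup (p := p) hm hrp σ hσ (φ M) hU hdet hMr hM1 (by rw [← hj]) hem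
  haveI : Nonempty (Fin m) := ⟨⟨0, by omega⟩⟩
  haveI : CharP (Matrix (Fin m) (Fin m) (AlgebraicClosure F)) p := inferInstance
  have hN : IsNilpotent (φ A - 1) := ⟨p, by
    rw [sub_pow_char_of_commute p (Commute.one_right _), ← map_pow, hAp, map_one, one_pow, sub_self]⟩
  have h0 := nilpotent_eq_zero_of_nodup (φ M) (φ A - 1) hnd'
    ((hAM.symm.map φ).sub_right (Commute.one_right _)) hN
  exact hA1 (hφ ((sub_eq_zero.1 h0).trans (map_one φ).symm))

end Finite

end Cfsg.Lib.UnitaryCommUnipotent
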