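import Mathlib
import Cfsg.Agent.Classical.Misc.CommutingUnipotent
import Cfsg.Agent.Classical.Misc.UnitaryCommutingUnipotent

/-! Elements of order `r * p` in small projective special linear groups. -/

set_option autoImplicit false
set_option linter.unusedSectionVars false

namespace Cfsg.Lib.PrimeGraphChar

open Matrix Polynomial

variable {F : Type*} [Field F] [Fintype F] {n : ℕ}

local notation "SLn" => Matrix.SpecialLinearGroup (Fin n) F
local notation "Kc" => AlgebraicClosure F

theorem coprime_center [Nonempty (Fin n)] {p : ℕ} [Fact p.Prime] [CharP F p] :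
    ¬ p ∣ Nat.card (Subgroup.center SLn) := by
  intro hd
  rw [Cfsg.Lib.Classical.card_center_SL] at hd
  have h1 := hd.trans (Nat.gcd_dvd_right _ _)
  obtain ⟨k, hp, hq⟩ := FiniteField.card F p
  rw [Nat.card_eq_fintype_card] at h1
  have h2 : p ∣ Fintype.card F := hq ▸ dvd_pow_self p k.ne_zero
  have h3 := Nat.dvd_sub h2 h1
  rw [Nat.sub_sub_self Fintype.one_lt_card.le, Nat.dvd_one] at h3
  exact hp.ne_one h3

/-- lifting an element of prime order prime to the centre -/
theorem exists_lift {G : Type*} [Group G] [Finite G] {l : ℕ} (hl : l.Prime)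
    (hc : ¬ l ∣ Nat.card (Subgroup.center G)) (x : G ⧸ Subgroup.center G) (hx : orderOf x = l) :
    ∃ X : G, (X : G ⧸ Subgroup.center G) = x ∧ orderOf X = l := by
  obtain ⟨X₀, hX₀⟩ := QuotientGroup.mk'_surjective (Subgroup.center G) x
  obtain ⟨c, hcdef⟩ : ∃ c, c = Nat.card (Subgroup.center G) := ⟨_, rfl⟩
  rw [← hcdef] at hc
  have hco : c.Coprime l := Nat.coprime_comm.1 (hl.coprime_iff_not_dvd.2 hc)
  obtain ⟨k, hk⟩ := Nat.exists_mul_mod_eq_one_of_coprime hco hl.one_lt
  have hp : X₀ ^ l ∈ Subgroup.center G := by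
    rw [← QuotientGroup.eq_one_iff]
    change QuotientGroup.mk' (Subgroup.center G) (X₀ ^ l) = 1
    rw [map_pow, hX₀, ← hx, pow_orderOf_eq_one]
  have hz : (X₀ ^ l) ^ c = 1 := by
    subst hcdef
    exact congrArg Subtype.val (pow_card_eq_one' (x := (⟨_, hp⟩ : Subgroup.center G)))
  have himg : QuotientGroup.mk' (Subgroup.center G) (X₀ ^ (c * k)) = x := by
    rw [map_pow, hX₀, ← pow_mod_orderOf, hx, hk.2, pow_one]
  refine ⟨X₀ ^ (c * k), himg, ?_⟩
  haveI := Fact.mk hl
  refine orderOf_eq_prime (by rw [← pow_mul, mul_comm, pow_mul, pow_mul, hz, one_pow]) fun h => ?_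
  rw [h, map_one] at himg
  rw [← himg, orderOf_one] at hx
  exact hl.one_lt.ne hx

theorem commute_of_mk {A B : SLn} [Nonempty (Fin n)] {p : ℕ} [Fact p.Prime] [CharP F p]
    (hA : A ^ p = 1) (hab : Commute (A : SLn ⧸ Subgroup.center SLn) (B : SLn ⧸ Subgroup.center SLn)) :
    Commute A B := by
  obtain ⟨ζ, hζ⟩ : ∃ ζ, ζ = A⁻¹ * (B * A * B⁻¹) := ⟨_, rfl⟩
  have hζc : ζ ∈ Subgroup.center SLn := by
    rw [← QuotientGroup.eq_one_iff, hζ, QuotientGroup.mk_mul, QuotientGroup.mk_mul, QuotientGroup.mk_mul,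
      QuotientGroup.mk_inv, QuotientGroup.mk_inv, ← hab.eq, mul_inv_cancel_right, inv_mul_cancel]
  have h1 : B * A * B⁻¹ = A * ζ := by rw [hζ, mul_inv_cancel_left]
  have h2 : (A * ζ) ^ p = 1 := by rw [← h1, conj_pow, hA, mul_one, mul_inv_cancel]
  have h3 : Commute A ζ := Subgroup.mem_center_iff.1 hζc A
  rw [h3.mul_pow, hA, one_mul] at h2
  have hz : ζ ^ Nat.card (Subgroup.center SLn) = 1 :=
    congrArg Subtype.val (pow_card_eq_one' (x := (⟨ζ, hζc⟩ : Subgroup.center SLn)))
  have h4 := pow_gcd_eq_one.2 ⟨hz, h2⟩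
  rw [show Nat.gcd (Nat.card (Subgroup.center SLn)) p = 1 from
    Nat.coprime_comm.1 ((Fact.out : p.Prime).coprime_iff_not_dvd.2 (coprime_center (p := p))), pow_one] at h4
  rw [h4, mul_one, mul_inv_eq_iff_eq_mul] at h1
  exact h1.symm

theorem roots_pow (B : Matrix (Fin n) (Fin n) Kc) (r : ℕ) (z : Kc) (hB : B ^ r = z • 1) (a : Kc)
    (ha : a ∈ B.charpoly.roots) : a ^ r = z := by
  rw [Polynomial.mem_roots B.charpoly_monic.ne_zero] at ha
  let f : Module.End Kc (Fin n → Kc) := Matrix.toLinAlgEquiv' B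
  have h1 : f.HasEigenvalue a := by
    rw [Module.End.hasEigenvalue_iff_isRoot_charpoly]
    have h2 : LinearMap.charpoly f = B.charpoly := Matrix.charpoly_toLin' B
    rwa [h2]
  obtain ⟨v, hv⟩ := h1.exists_hasEigenvector
  have h3 := hv.pow_apply r
  rw [show f ^ r = Matrix.toLinAlgEquiv' (B ^ r) from (map_pow _ B r).symm, hB, map_smul, map_one,
    LinearMap.smul_apply, Module.End.one_apply] at h3
  have h4 : (z - a ^ r) • v = 0 := by rw [sub_smul, ← h3, sub_self]
  rcases smul_eq_zero.1 h4 with h | h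
  · exact (sub_eq_zero.1 h).symm
  · exact absurd h hv.2

/-- a single eigenvalue forces a central `p`-power -/
theorem central_pow {p : ℕ} [Fact p.Prime] [CharP F p] [Nonempty (Fin n)] (hn : n ≤ p ^ 2) (B : SLn) (a : Kc)
    (h : ((B : Matrix (Fin n) (Fin n) F).map (algebraMap F Kc) - a • 1) ^ n = 0) :
    B ^ p ^ 2 ∈ Subgroup.center SLn := by
  haveI : CharP Kc p := charP_of_injective_algebraMap (algebraMap F Kc).injective p
  haveI : CharP (Matrix (Fin n) (Fin n) Kc) p := inferInstance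
  have h1 := pow_eq_zero_of_le hn h
  rw [sub_pow_char_pow_of_commute p 2 ((Commute.one_right _).smul_right a), _root_.smul_pow, one_pow, sub_eq_zero] at h1
  rw [Subgroup.mem_center_iff]
  intro X
  apply Subtype.ext
  apply Matrix.map_injective (algebraMap F Kc).injective
  simp only [Matrix.SpecialLinearGroup.coe_mul, Matrix.SpecialLinearGroup.coe_pow]
  rw [Matrix.map_mul, Matrix.map_mul]
  rw [show ((B : Matrix (Fin n) (Fin n) F) ^ p ^ 2).map (algebraMap F Kc) =
      (B : Matrix (Fin n) (Fin n) F).map (algebraMap F Kc) ^ p ^ 2 from map_pow ((algebraMap F Kc).mapMatrix) _ _, h1]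
  rw [Matrix.mul_smul, Matrix.smul_mul, mul_one, one_mul]

theorem map_facts (B N : Matrix (Fin n) (Fin n) F) (hc : Commute B N) (hN : N ≠ 0) (hnil : IsNilpotent N) :
    ¬ ((B.map (algebraMap F Kc)).charpoly.roots.Nodup) := by
  intro hnd
  have h := Cfsg.Lib.UnitaryCommUnipotent.nilpotent_eq_zero_of_nodup _ (N.map (algebraMap F Kc)) hnd
    (hc.map (algebraMap F Kc).mapMatrix) (hnil.map (algebraMap F Kc).mapMatrix)
  exact hN (Matrix.map_injective (algebraMap F Kc).injective (h.trans (Matrix.map_zero _ (map_zero _)).symm))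

theorem charpoly_eq_pow (B : Matrix (Fin n) (Fin n) Kc) (a : Kc) (h : ∀ x ∈ B.charpoly.roots, x = a) :
    (B - a • 1) ^ n = 0 := by
  have hcard : B.charpoly.roots.card = n := by
    rw [IsAlgClosed.card_roots_eq_natDegree, Matrix.charpoly_natDegree_eq_dim, Fintype.card_fin]
  have h1 : B.charpoly = (X - C a) ^ n := by
    rw [(IsAlgClosed.splits B.charpoly).eq_prod_roots_of_monic B.charpoly_monic,
      Multiset.eq_replicate_card.2 h, hcard, Multiset.map_replicate, Multiset.prod_replicate]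
  have h2 := Matrix.aeval_self_charpoly B
  rw [h1, map_pow, map_sub, aeval_X, aeval_C, Algebra.algebraMap_eq_smul_one] at h2
  exact h2

/-- dimension two -/
theorem dim_two {r : ℕ} (hr : Odd r) (B : Matrix.SpecialLinearGroup (Fin 2) F) (hB : B ^ r = 1)
    (N : Matrix (Fin 2) (Fin 2) F) (hc : Commute (B : Matrix (Fin 2) (Fin 2) F) N) (hN : N ≠ 0)
    (hnil : IsNilpotent N) : ((B : Matrix (Fin 2) (Fin 2) F).map (algebraMap F Kc) - (1 : Kc) • 1) ^ 2 = 0 := by
  classical
  set B0 := (B : Matrix (Fin 2) (Fin 2) F).map (algebraMap F Kc) with hB0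
  have hpow : B0 ^ r = (1 : Kc) • 1 := by
    rw [one_smul, hB0]
    change ((algebraMap F Kc).mapMatrix (B : Matrix (Fin 2) (Fin 2) F)) ^ r = 1
    rw [← map_pow, ← Matrix.SpecialLinearGroup.coe_pow, hB, Matrix.SpecialLinearGroup.coe_one, map_one]
  have hcard : B0.charpoly.roots.card = 2 := by
    rw [IsAlgClosed.card_roots_eq_natDegree, Matrix.charpoly_natDegree_eq_dim, Fintype.card_fin]
  have hdet : B0.charpoly.roots.prod = 1 := by
    rw [← Matrix.det_eq_prod_roots_charpoly, hB0]
    change ((algebraMap F Kc).mapMatrix (B : Matrix (Fin 2) (Fin 2) F)).det = 1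
    rw [← RingHom.map_det, B.2, map_one]
  refine charpoly_eq_pow B0 1 fun x hx => ?_
  obtain ⟨a, b, hab⟩ := Multiset.card_eq_two.1 hcard
  have hnd := map_facts (B : Matrix (Fin 2) (Fin 2) F) N hc hN hnil
  rw [← hB0] at hnd
  rw [hab] at hdet hnd hx
  have hab' : a = b := by
    by_contra hne
    exact hnd (by simp [hne])
  subst hab'
  have ha2 : a * a = 1 := by simpa using hdet
  have har := roots_pow B0 r 1 hpow a (by rw [hab]; simp)
  obtain ⟨j, rfl⟩ := hr
  rw [pow_succ, pow_mul, pow_two, ha2, one_pow, one_mul] at har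
  simp at hx
  exact hx.trans har

/-- dimension three with cube roots -/
theorem dim_three [Fact (3 : ℕ).Prime] (h3 : (3 : F) ≠ 0) (B : Matrix.SpecialLinearGroup (Fin 3) F) (z : F)
    (hB : (B : Matrix (Fin 3) (Fin 3) F) ^ 3 = z • 1) (hz : z = 1 ∨ ∀ b : F, b ^ 3 ≠ z)
    (N : Matrix (Fin 3) (Fin 3) F) (hc : Commute (B : Matrix (Fin 3) (Fin 3) F) N) (hN : N ≠ 0)
    (hnil : IsNilpotent N) : ∃ a : Kc, ((B : Matrix (Fin 3) (Fin 3) F).map (algebraMap F Kc) - a • 1) ^ 3 = 0 := by
  classical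
  have hnd := map_facts (B : Matrix (Fin 3) (Fin 3) F) N hc hN hnil
  rcases hz with rfl | hz
  · set B0 := (B : Matrix (Fin 3) (Fin 3) F).map (algebraMap F Kc) with hB0
    have hpow : B0 ^ 3 = (1 : Kc) • 1 := by
      rw [one_smul, hB0]
      change ((algebraMap F Kc).mapMatrix (B : Matrix (Fin 3) (Fin 3) F)) ^ 3 = 1
      rw [← map_pow, hB, one_smul, map_one]
    have hcard : B0.charpoly.roots.card = 3 := by
      rw [IsAlgClosed.card_roots_eq_natDegree, Matrix.charpoly_natDegree_eq_dim, Fintype.card_fin]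
    have hdet : B0.charpoly.roots.prod = 1 := by
      rw [← Matrix.det_eq_prod_roots_charpoly, hB0]
      change ((algebraMap F Kc).mapMatrix (B : Matrix (Fin 3) (Fin 3) F)).det = 1
      rw [← RingHom.map_det, B.2, map_one]
    obtain ⟨a, b, c, habc⟩ := Multiset.card_eq_three.1 hcard
    have hroot : ∀ x ∈ B0.charpoly.roots, x ^ 3 = 1 := roots_pow B0 3 1 hpow
    rw [habc] at hnd hdet hroot
    have hp : a * b * c = 1 := by simpa [mul_assoc] using hdet
    have key : ∀ x y : Kc, x ^ 3 = 1 → x * x * y = 1 → y = x := fun x y hx hxy => by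
      have h0 : x ≠ 0 := fun h => by simp [h] at hx
      apply mul_left_cancel₀ (mul_ne_zero h0 h0)
      rw [hxy, ← hx]; ring
    refine ⟨a, charpoly_eq_pow B0 a fun x hx => ?_⟩
    rw [habc] at hx
    have ha3 := hroot a (by simp)
    have hb3 := hroot b (by simp)
    have heq : b = a ∧ c = a := by
      by_cases hab : a = b
      · exact ⟨hab.symm, key a c ha3 (by rw [← hp, hab])⟩
      by_cases hac : a = c
      · have := key a b ha3 (by rw [← hp, hac]; ring)
        exact ⟨this, hac.symm⟩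
      by_cases hbc : b = c
      · have := key b a hb3 (by rw [← hp, hbc]; ring)
        exact absurd this hab
      exact absurd (by simp [hab, hac, hbc]) hnd
    simp at hx
    rcases hx with rfl | rfl | rfl
    exacts [rfl, heq.1, heq.2]
  · exfalso
    have hirr : Irreducible (X ^ 3 - C z : F[X]) := X_pow_sub_C_irreducible_of_prime Nat.prime_three hz
    have hmon : (X ^ 3 - C z : F[X]).Monic := monic_X_pow_sub_C z (by norm_num)
    have hae : Polynomial.aeval (B : Matrix (Fin 3) (Fin 3) F) (X ^ 3 - C z : F[X]) = 0 := by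
      rw [map_sub, map_pow, aeval_X, aeval_C, Algebra.algebraMap_eq_smul_one, hB, sub_self]
    have hmin := minpoly.eq_of_irreducible_of_monic hirr hae hmon
    have hchar : (B : Matrix (Fin 3) (Fin 3) F).charpoly = X ^ 3 - C z := by
      refine (Polynomial.eq_of_monic_of_dvd_of_natDegree_le hmon (Matrix.charpoly_monic (B : Matrix (Fin 3) (Fin 3) F)) ?_ ?_)
      · rw [hmin]; exact Matrix.minpoly_dvd_charpoly (B : Matrix (Fin 3) (Fin 3) F)
      · rw [Matrix.charpoly_natDegree_eq_dim, natDegree_X_pow_sub_C, Fintype.card_fin]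
    apply hnd
    rw [Matrix.charpoly_map, hchar]
    refine Polynomial.nodup_roots ?_
    refine Polynomial.Separable.map ?_
    refine Polynomial.separable_X_pow_sub_C z (by exact_mod_cast h3) fun h0 => hz 0 (by rw [h0]; norm_num)

theorem mk_ne_one {x : SLn} (hx : x ≠ 1) (i : Fin n) (hi : (x : Matrix (Fin n) (Fin n) F) i i = 1) :
    (x : SLn ⧸ Subgroup.center SLn) ≠ 1 := by
  rw [Ne, QuotientGroup.eq_one_iff, Matrix.SpecialLinearGroup.mem_center_iff]
  rintro ⟨c, -, hc⟩
  apply hx
  have h1 : c = 1 := by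
    rw [← hi, ← hc, Matrix.scalar_apply, Matrix.diagonal_apply_eq]
  apply Subtype.ext
  rw [← hc, h1, map_one, Matrix.SpecialLinearGroup.coe_one]

/-- block diagonal inclusion -/
noncomputable def blockHom (F : Type*) [Field F] (m l : ℕ) :
    Matrix.SpecialLinearGroup (Fin m) F × Matrix.SpecialLinearGroup (Fin l) F →*
      Matrix.SpecialLinearGroup (Fin (m + l)) F where
  toFun x := ⟨(Matrix.fromBlocks x.1.1 0 0 x.2.1).submatrix finSumFinEquiv.symm finSumFinEquiv.symm, by
    rw [Matrix.det_submatrix_equiv_self, Matrix.det_fromBlocks_zero₁₂, x.1.2, x.2.2, one_mul]⟩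
  map_one' := Subtype.ext (by
    change (Matrix.fromBlocks (1 : Matrix (Fin m) (Fin m) F) 0 0 1).submatrix _ _ = 1
    rw [Matrix.fromBlocks_one, Matrix.submatrix_one_equiv])
  map_mul' x y := Subtype.ext (by
    change (Matrix.fromBlocks (x.1.1 * y.1.1) 0 0 (x.2.1 * y.2.1)).submatrix _ _ = _ * _
    rw [Matrix.submatrix_mul_equiv, Matrix.fromBlocks_multiply]
    simp)

theorem blockHom_injective (F : Type*) [Field F] (m l : ℕ) : Function.Injective (blockHom F m l) := by
  intro x y h
  have h2 : Matrix.fromBlocks x.1.1 0 0 x.2.1 = Matrix.fromBlocks y.1.1 0 0 y.2.1 := by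
    ext a b
    have := congrFun (congrFun (congrArg Subtype.val h) (finSumFinEquiv a)) (finSumFinEquiv b)
    change (Matrix.fromBlocks x.1.1 0 0 x.2.1).submatrix finSumFinEquiv.symm finSumFinEquiv.symm _ _ =
      (Matrix.fromBlocks y.1.1 0 0 y.2.1).submatrix finSumFinEquiv.symm finSumFinEquiv.symm _ _ at this
    simpa only [Matrix.submatrix_apply, Equiv.symm_apply_apply] using this
  obtain ⟨h3, -, -, h4⟩ := Matrix.fromBlocks_inj.1 h2
  exact Prod.ext (Subtype.ext h3) (Subtype.ext h4)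

end Cfsg.Lib.PrimeGraphChar
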