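import Mathlib
import Cfsg.Agent.Classical.Misc.PrimeGraphChar

/-! Frobenius orbits on the eigenvalues of a matrix of order `r * s`. -/

set_option autoImplicit false
set_option linter.unusedSectionVars false

namespace Cfsg.Lib.PrimeOrbit

open Matrix Polynomial

variable {F : Type*} [Field F] [Fintype F]

local notation "Kc" => AlgebraicClosure F

/-- roots of a polynomial over `F` are closed under `x ↦ x^q` -/
theorem isRoot_pow_card (f : F[X]) (x : Kc) (hx : (f.map (algebraMap F Kc)).IsRoot x) :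
    (f.map (algebraMap F Kc)).IsRoot (x ^ Fintype.card F) := by
  rw [Polynomial.IsRoot, Polynomial.eval_map_algebraMap] at hx ⊢
  have h := Polynomial.aeval_algHom_apply (FiniteField.frobeniusAlgHom F Kc) x f
  rw [hx, map_zero] at h
  exact h

theorem isRoot_pow_card_pow (f : F[X]) (x : Kc) (hx : (f.map (algebraMap F Kc)).IsRoot x) (i : ℕ) :
    (f.map (algebraMap F Kc)).IsRoot (x ^ Fintype.card F ^ i) := by
  induction i with
  | zero => rwa [pow_zero, pow_one]
  | succ i ih => rw [pow_succ, pow_mul]; exact isRoot_pow_card f _ ih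

/-- the orbit of `x` meets at least `orderOf (q mod r)` points -/
theorem orbit_inj {r : ℕ} (y : Kc) (hy : orderOf y = r) {i j : ℕ}
    (h : y ^ Fintype.card F ^ i = y ^ Fintype.card F ^ j)
    (hfin : IsOfFinOrder y) (hu : IsUnit ((Fintype.card F : ℕ) : ZMod r)) :
    i ≡ j [MOD orderOf ((Fintype.card F : ℕ) : ZMod r)] := by
  have h1 := hfin.pow_eq_pow_iff_modEq.1 h
  rw [hy, ← ZMod.natCast_eq_natCast_iff, Nat.cast_pow, Nat.cast_pow] at h1
  obtain ⟨u, hu'⟩ := hu
  rw [← hu', ← Units.val_pow_eq_pow_val, ← Units.val_pow_eq_pow_val] at h1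
  rw [← hu', orderOf_units]
  exact pow_eq_pow_iff_modEq.1 (Units.ext h1)

theorem sub_one_pow_eq_zero {n : ℕ} (A : Matrix (Fin n) (Fin n) Kc) (h : ∀ x ∈ A.charpoly.roots, x = 1) :
    (A - 1) ^ n = 0 := by
  have := Cfsg.Lib.PrimeGraphChar.charpoly_eq_pow A 1 h
  rwa [one_smul] at this

variable {n r s : ℕ}

/-- an element of order `r * s` needs room for two orbits or one long one -/
theorem orbit_bound {p : ℕ} [Fact p.Prime] [CharP F p] (hr : r.Prime) (hs : s.Prime) (hrp : r ≠ p) (hsp : s ≠ p)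
    (hrs : r ≠ s) (M : Matrix (Fin n) (Fin n) F) (hM : orderOf M = r * s)
    {k l : ℕ} (hk : k = orderOf ((Fintype.card F : ℕ) : ZMod r)) (hl : l = orderOf ((Fintype.card F : ℕ) : ZMod s)) :
    k + l ≤ n ∨ Nat.lcm k l ≤ n := by
  classical
  haveI := Fact.mk hr
  haveI := Fact.mk hs
  haveI : CharP Kc p := charP_of_injective_algebraMap (algebraMap F Kc).injective p
  have hn : 0 < n := by
    rcases Nat.eq_zero_or_pos n with rfl | h
    · rw [Subsingleton.elim M 1, orderOf_one] at hM
      have := hr.two_le; have := hs.two_le; nlinarith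
    · exact h
  haveI : Nonempty (Fin n) := ⟨⟨0, hn⟩⟩
  obtain ⟨e, hp, hq⟩ := FiniteField.card F p
  have hunit : ∀ t : ℕ, t.Prime → t ≠ p → IsUnit ((Fintype.card F : ℕ) : ZMod t) := fun t ht htp => by
    haveI := Fact.mk ht
    rw [isUnit_iff_ne_zero, Ne, ZMod.natCast_eq_zero_iff, hq]
    exact fun hd => htp ((Nat.prime_dvd_prime_iff_eq ht hp).1 (ht.dvd_of_dvd_pow hd))
  obtain ⟨A, hA⟩ : ∃ A, A = M.map (algebraMap F Kc) := ⟨_, rfl⟩
  have hinj : Function.Injective ((algebraMap F Kc).mapMatrix (m := Fin n)) :=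
    Matrix.map_injective (algebraMap F Kc).injective
  have hAo : orderOf A = r * s := by
    rw [hA, ← hM]
    exact orderOf_injective ((algebraMap F Kc).mapMatrix (m := Fin n)).toMonoidHom hinj M
  have hchar : A.charpoly = M.charpoly.map (algebraMap F Kc) := by rw [hA, Matrix.charpoly_map]
  have hcard : A.charpoly.roots.card = n := by
    rw [IsAlgClosed.card_roots_eq_natDegree, Matrix.charpoly_natDegree_eq_dim, Fintype.card_fin]
  have hne : A.charpoly ≠ 0 := A.charpoly_monic.ne_zero
  have hrs' : ∀ x ∈ A.charpoly.roots, (x ^ r) ^ s = 1 := fun x hx => by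
    rw [← pow_mul]
    refine Cfsg.Lib.PrimeGraphChar.roots_pow A (r * s) 1 ?_ x hx
    rw [one_smul, ← hAo, pow_orderOf_eq_one]
  -- a root with nontrivial `s`-part
  have key : ∀ a b : ℕ, a.Prime → b.Prime → b ≠ p → a ≠ b → a * b = r * s →
      ∃ x ∈ A.charpoly.roots, x ^ a ≠ 1 := by
    intro a b ha hb hbp hab hprod
    by_contra hno
    push Not at hno
    obtain ⟨d, hd⟩ : ∃ d, d = p ^ n := ⟨_, rfl⟩
    haveI : CharP (Matrix (Fin n) (Fin n) Kc) p := inferInstance
    have hz : ((A ^ a) - 1) ^ n = 0 := by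
      have h1 : A.charpoly = ((A.charpoly.roots).map fun x => X - C x).prod :=
        (IsAlgClosed.splits A.charpoly).eq_prod_roots_of_monic A.charpoly_monic
      have h2 : A.charpoly ∣ (X ^ a - 1 : Kc[X]) ^ n := by
        rw [h1]
        refine (Multiset.prod_dvd_prod_of_dvd _ (fun _ => (X ^ a - 1 : Kc[X])) fun x hx => ?_).trans ?_
        · rw [dvd_iff_isRoot, IsRoot, eval_sub, eval_pow, eval_X, eval_one, hno x hx, sub_self]
        · rw [Multiset.map_const', Multiset.prod_replicate, hcard]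
      obtain ⟨c, hc⟩ := h2
      have h3 := congrArg (Polynomial.aeval A) hc
      rw [map_pow, map_sub, map_pow, aeval_X, map_one, map_mul, Matrix.aeval_self_charpoly, zero_mul] at h3
      exact h3
    have h5 := pow_eq_zero_of_le (hd ▸ (Nat.lt_pow_self hp.one_lt).le : n ≤ d) hz
    rw [hd, sub_pow_char_pow_of_commute p n (Commute.one_right _), one_pow, sub_eq_zero, ← pow_mul] at h5
    have h6 := orderOf_dvd_of_pow_eq_one h5
    rw [hAo, ← hprod] at h6
    have h7 := Nat.dvd_of_mul_dvd_mul_left ha.pos h6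
    exact hbp ((Nat.prime_dvd_prime_iff_eq hb hp).1 (hb.dvd_of_dvd_pow h7))
  obtain ⟨x, hx, hxr⟩ := key r s hr hs hsp hrs rfl
  obtain ⟨y, hy, hys⟩ := key s r hs hr hrp hrs.symm (mul_comm _ _)
  have root : ∀ z ∈ A.charpoly.roots, ∀ i, z ^ Fintype.card F ^ i ∈ A.charpoly.roots := fun z hz i => by
    rw [Polynomial.mem_roots hne] at hz ⊢
    rw [hchar] at hz ⊢
    exact isRoot_pow_card_pow _ _ hz i
  -- injectivity along an orbit
  have inj : ∀ (t u : ℕ), t.Prime → t ≠ p → ∀ z : Kc, (z ^ u) ^ t = 1 → z ^ u ≠ 1 → ∀ i j,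
      z ^ Fintype.card F ^ i = z ^ Fintype.card F ^ j → i ≡ j [MOD orderOf ((Fintype.card F : ℕ) : ZMod t)] := by
    intro t u ht htp z h1 h2 i j h
    haveI := Fact.mk ht
    refine orbit_inj (z ^ u) (orderOf_eq_prime h1 h2) ?_
      (isOfFinOrder_iff_pow_eq_one.2 ⟨t, ht.pos, h1⟩) (hunit t ht htp)
    rw [← pow_mul, ← pow_mul, mul_comm u, mul_comm u, pow_mul, pow_mul, h]
  have hcomm : ∀ z ∈ A.charpoly.roots, (z ^ s) ^ r = 1 := fun z hz => by
    rw [← pow_mul, mul_comm, pow_mul]; exact hrs' z hz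
  by_cases hboth : ∃ z ∈ A.charpoly.roots, z ^ r ≠ 1 ∧ z ^ s ≠ 1
  · right
    obtain ⟨z, hz, hzr, hzs⟩ := hboth
    have hij : Set.InjOn (fun i => z ^ Fintype.card F ^ i) (Finset.range (Nat.lcm k l) : Set ℕ) := by
      intro i hi j hj h
      rw [Finset.coe_range, Set.mem_Iio] at hi hj
      have h1 := inj r s hr hrp z (hcomm z hz) hzs i j h
      have h2 := inj s r hs hsp z (hrs' z hz) hzr i j h
      rw [← hk] at h1
      rw [← hl] at h2
      have h3 : i ≡ j [MOD Nat.lcm k l] := Nat.mod_lcm h1 h2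
      exact Nat.ModEq.eq_of_lt_of_lt h3 hi hj
    calc Nat.lcm k l = ((Finset.range (Nat.lcm k l)).image fun i => z ^ Fintype.card F ^ i).card := by
          rw [Finset.card_image_of_injOn hij, Finset.card_range]
      _ ≤ A.charpoly.roots.toFinset.card := Finset.card_le_card fun w hw => by
          obtain ⟨i, -, rfl⟩ := Finset.mem_image.1 hw
          rw [Multiset.mem_toFinset]
          exact root z hz i
      _ ≤ n := (Multiset.toFinset_card_le _).trans hcard.le
  · left
    push Not at hboth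
    have hys' : y ^ r = 1 := by
      by_contra h
      exact hys (hboth y hy h)
    have hij1 : Set.InjOn (fun i => y ^ Fintype.card F ^ i) (Finset.range k : Set ℕ) := by
      intro i hi j hj h
      rw [Finset.coe_range, Set.mem_Iio] at hi hj
      have h1 := inj r s hr hrp y (hcomm y hy) hys i j h
      rw [← hk] at h1
      exact Nat.ModEq.eq_of_lt_of_lt h1 hi hj
    have hij2 : Set.InjOn (fun i => x ^ Fintype.card F ^ i) (Finset.range l : Set ℕ) := by
      intro i hi j hj h
      rw [Finset.coe_range, Set.mem_Iio] at hi hj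
      have h2 := inj s r hs hsp x (hrs' x hx) hxr i j h
      rw [← hl] at h2
      exact Nat.ModEq.eq_of_lt_of_lt h2 hi hj
    have hdisj : Disjoint ((Finset.range k).image fun i => y ^ Fintype.card F ^ i)
        ((Finset.range l).image fun i => x ^ Fintype.card F ^ i) := by
      rw [Finset.disjoint_left]
      intro w hw hw'
      obtain ⟨i, -, rfl⟩ := Finset.mem_image.1 hw
      obtain ⟨j, -, hj⟩ := Finset.mem_image.1 hw'
      have e1 : (y ^ Fintype.card F ^ i) ^ r = 1 := by rw [← pow_mul, mul_comm, pow_mul, hys', one_pow]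
      rw [← hj] at e1
      apply hxr
      have hco : Nat.Coprime s (Fintype.card F ^ j) := by
        apply Nat.Coprime.pow_right
        rw [hs.coprime_iff_not_dvd, hq]
        exact fun hd => hsp ((Nat.prime_dvd_prime_iff_eq hs hp).1 (hs.dvd_of_dvd_pow hd))
      have e2 : (x ^ r) ^ Fintype.card F ^ j = 1 := by rw [← pow_mul, mul_comm, pow_mul]; exact e1
      have e3 := pow_gcd_eq_one.2 ⟨hrs' x hx, e2⟩
      rwa [hco.gcd_eq_one, pow_one] at e3
    calc k + l = (((Finset.range k).image fun i => y ^ Fintype.card F ^ i) ∪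
          ((Finset.range l).image fun i => x ^ Fintype.card F ^ i)).card := by
          rw [Finset.card_union_of_disjoint hdisj, Finset.card_image_of_injOn hij1,
            Finset.card_image_of_injOn hij2, Finset.card_range, Finset.card_range]
      _ ≤ A.charpoly.roots.toFinset.card := Finset.card_le_card fun w hw => by
          rw [Multiset.mem_toFinset]
          rcases Finset.mem_union.1 hw with h | h
          all_goals obtain ⟨i, -, rfl⟩ := Finset.mem_image.1 h
          · exact root y hy i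
          · exact root x hx i
      _ ≤ n := (Multiset.toFinset_card_le _).trans hcard.le

/-- lifting an element whose order is prime to the centre -/
theorem exists_lift_coprime {G : Type*} [Group G] [Finite G] {m : ℕ} (hm : 1 < m)
    (hc : (Nat.card (Subgroup.center G)).Coprime m) (x : G ⧸ Subgroup.center G) (hx : orderOf x = m) :
    ∃ X : G, (X : G ⧸ Subgroup.center G) = x ∧ orderOf X = m := by
  obtain ⟨X₀, hX₀⟩ := QuotientGroup.mk'_surjective (Subgroup.center G) x
  obtain ⟨k, hk⟩ := Nat.exists_mul_mod_eq_one_of_coprime hc hm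
  have hp : X₀ ^ m ∈ Subgroup.center G := by
    rw [← QuotientGroup.eq_one_iff]
    change QuotientGroup.mk' (Subgroup.center G) (X₀ ^ m) = 1
    rw [map_pow, hX₀, ← hx, pow_orderOf_eq_one]
  have hz : (X₀ ^ m) ^ Nat.card (Subgroup.center G) = 1 :=
    congrArg Subtype.val (pow_card_eq_one' (x := (⟨_, hp⟩ : Subgroup.center G)))
  have himg : QuotientGroup.mk' (Subgroup.center G) (X₀ ^ (Nat.card (Subgroup.center G) * k)) = x := by
    rw [map_pow, hX₀, ← pow_mod_orderOf, hx, hk.2, pow_one]
  refine ⟨_, himg, Nat.dvd_antisymm (orderOf_dvd_of_pow_eq_one ?_) ?_⟩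
  · rw [← pow_mul, mul_comm, pow_mul, pow_mul, hz, one_pow]
  · rw [← hx]
    conv_lhs => rw [← himg]
    exact orderOf_map_dvd _ _

theorem orderOf_mk_of_coprime {G : Type*} [Group G] [Finite G] {m : ℕ}
    (hc : (Nat.card (Subgroup.center G)).Coprime m) (X : G) (hX : orderOf X = m) :
    orderOf (X : G ⧸ Subgroup.center G) = m := by
  refine Nat.dvd_antisymm (hX ▸ orderOf_map_dvd (QuotientGroup.mk' _) X) ?_
  rw [← hX]
  refine orderOf_dvd_of_pow_eq_one ?_
  have h1 : X ^ orderOf (X : G ⧸ Subgroup.center G) ∈ Subgroup.center G := by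
    rw [← QuotientGroup.eq_one_iff, QuotientGroup.mk_pow, pow_orderOf_eq_one]
  have h2 : (X ^ orderOf (X : G ⧸ Subgroup.center G)) ^ Nat.card (Subgroup.center G) = 1 :=
    congrArg Subtype.val (pow_card_eq_one' (x := (⟨_, h1⟩ : Subgroup.center G)))
  have h3 : (X ^ orderOf (X : G ⧸ Subgroup.center G)) ^ m = 1 := by
    rw [← pow_mul, mul_comm, pow_mul, ← hX, pow_orderOf_eq_one, one_pow]
  have h4 := pow_gcd_eq_one.2 ⟨h2, h3⟩
  rwa [hc.gcd_eq_one, pow_one] at h4

end Cfsg.Lib.PrimeOrbit
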