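import Mathlib
import Cfsg.Agent.Classical.Misc.PrimeOrbit
import Cfsg.Agent.Classical.Symp.Matrix

/-! Frobenius and inversion orbits on the eigenvalues of a symplectic matrix of order `r * s`. -/

set_option autoImplicit false
set_option linter.unusedSectionVars false

namespace Cfsg.Lib.PrimeOrbitSymp

open Matrix Polynomial Finset

variable {F : Type*} [Field F] [Fintype F]

local notation "Kc" => AlgebraicClosure F

/-- eigenvalues of a symplectic matrix are closed under inversion -/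
theorem isRoot_inv {K : Type*} [Field K] {m : ℕ} (A : Matrix (Fin m ⊕ Fin m) (Fin m ⊕ Fin m) K)
    (hA : A * Matrix.J (Fin m) K * Aᵀ = Matrix.J (Fin m) K) (l : K) (hl0 : l ≠ 0) (hl : A.charpoly.IsRoot l) :
    A.charpoly.IsRoot l⁻¹ := by
  rw [Polynomial.IsRoot, Matrix.eval_charpoly] at hl ⊢
  have h1 : (Matrix.scalar (Fin m ⊕ Fin m) l - Aᵀ).det = 0 := by
    rw [← hl, ← Matrix.det_transpose (Matrix.scalar (Fin m ⊕ Fin m) l - A), Matrix.transpose_sub,
      Matrix.scalar_apply, Matrix.diagonal_transpose]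
  have hJ : IsUnit (Matrix.J (Fin m) K).det := Matrix.isUnit_det_J (Fin m) K
  have h2 : A * Matrix.J (Fin m) K * (Matrix.scalar (Fin m ⊕ Fin m) l - Aᵀ) =
      (-l) • ((Matrix.scalar (Fin m ⊕ Fin m) l⁻¹ - A) * Matrix.J (Fin m) K) := by
    rw [Matrix.scalar_apply, Matrix.scalar_apply, ← Matrix.smul_one_eq_diagonal, ← Matrix.smul_one_eq_diagonal,
      Matrix.mul_sub, hA, Matrix.mul_smul, mul_one, Matrix.sub_mul, Matrix.smul_mul, one_mul, smul_sub, smul_smul,
      neg_mul, mul_inv_cancel₀ hl0, neg_one_smul, neg_smul, sub_neg_eq_add, neg_add_eq_sub]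
  have h3 := congrArg Matrix.det h2
  rw [Matrix.det_mul, h1, mul_zero, Matrix.det_smul, Matrix.det_mul] at h3
  rcases mul_eq_zero.1 h3.symm with h | h
  · exact absurd h (pow_ne_zero _ (neg_ne_zero.2 hl0))
  · exact (mul_eq_zero.1 h).resolve_right hJ.ne_zero

/-- the orbit of `z` of length `L` under the Frobenius -/
noncomputable def orb (z : Kc) (L : ℕ) : Finset Kc :=
  letI := Classical.decEq Kc
  (Finset.range L).image fun i => z ^ Fintype.card F ^ i

theorem mem_orb {z w : Kc} {L : ℕ} (h : w ∈ orb z L) : ∃ i, i < L ∧ z ^ Fintype.card F ^ i = w := by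
  letI := Classical.decEq Kc
  obtain ⟨i, hi, h⟩ := Finset.mem_image.1 h
  exact ⟨i, Finset.mem_range.1 hi, h⟩

/-- `q^i = -q^j` forces a power of `q` to be `-1` -/
theorem exists_neg_one {R : Type*} [Ring R] (u : R) {L : ℕ} (hL : 0 < L) (hu : u ^ L = 1) {i j : ℕ}
    (h : u ^ i = -u ^ j) : u ^ (i + (L - 1) * j) = -1 := by
  rw [pow_add, h, neg_mul, ← pow_add, show j + (L - 1) * j = L * j by
    obtain ⟨c, rfl⟩ : ∃ c, L = c + 1 := ⟨L - 1, by omega⟩
    rw [Nat.add_sub_cancel]; ring, pow_mul, hu, one_pow]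

/-- counting the roots -/
theorem orbit_bound {p N r s : ℕ} [Fact p.Prime] [CharP F p] {ι : Type*} [Fintype ι] [DecidableEq ι]
    (hι : Fintype.card ι = N) (hr : r.Prime) (hs : s.Prime) (hr2 : r ≠ 2) (hs2 : s ≠ 2) (hrp : r ≠ p) (hsp : s ≠ p)
    (hrs : r ≠ s) (M : Matrix ι ι F) (hM : orderOf M = r * s)
    (hinv : ∀ z : Kc, z ≠ 0 → (M.map (algebraMap F Kc)).charpoly.IsRoot z → (M.map (algebraMap F Kc)).charpoly.IsRoot z⁻¹)
    {k l ηk ηl : ℕ} (hk : k = orderOf ((Fintype.card F : ℕ) : ZMod r)) (hl : l = orderOf ((Fintype.card F : ℕ) : ZMod s))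
    (hηk : (Odd k ∧ ηk = k) ∨ (Even k ∧ 2 * ηk = k)) (hηl : (Odd l ∧ ηl = l) ∨ (Even l ∧ 2 * ηl = l)) :
    2 * ηk + 2 * ηl ≤ N ∨
      (Nat.lcm k l ≤ N ∧ ((∀ i, ¬ (((Fintype.card F : ℕ) : ZMod r) ^ i = -1 ∧ ((Fintype.card F : ℕ) : ZMod s) ^ i = -1)) →
        2 * Nat.lcm k l ≤ N)) := by
  classical
  haveI := Fact.mk hr
  haveI := Fact.mk hs
  haveI : CharP Kc p := charP_of_injective_algebraMap (algebraMap F Kc).injective p
  obtain ⟨e, hp, hq⟩ := FiniteField.card F p
  have hnd : ∀ t : ℕ, t.Prime → t ≠ p → ¬ t ∣ Fintype.card F := fun t ht htp hd => by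
    rw [hq] at hd
    exact htp ((Nat.prime_dvd_prime_iff_eq ht hp).1 (ht.dvd_of_dvd_pow hd))
  have hunit : ∀ t : ℕ, t.Prime → t ≠ p → IsUnit ((Fintype.card F : ℕ) : ZMod t) := fun t ht htp => by
    haveI := Fact.mk ht
    rw [isUnit_iff_ne_zero, Ne, ZMod.natCast_eq_zero_iff]
    exact hnd t ht htp
  haveI : Nonempty ι := by
    by_contra hne
    rw [not_nonempty_iff] at hne
    rw [Subsingleton.elim M 1, orderOf_one] at hM
    have := hr.two_le; have := hs.two_le; nlinarith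
  obtain ⟨A, hA⟩ : ∃ A, A = M.map (algebraMap F Kc) := ⟨_, rfl⟩
  rw [← hA] at hinv
  have hAo : orderOf A = r * s := by
    rw [hA, ← hM]
    exact orderOf_injective ((algebraMap F Kc).mapMatrix (m := ι)).toMonoidHom
      (Matrix.map_injective (algebraMap F Kc).injective) M
  have hchar : A.charpoly = M.charpoly.map (algebraMap F Kc) := by rw [hA, Matrix.charpoly_map]
  have hcard : A.charpoly.roots.card = N := by
    rw [IsAlgClosed.card_roots_eq_natDegree, Matrix.charpoly_natDegree_eq_dim, hι]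
  have hne : A.charpoly ≠ 0 := A.charpoly_monic.ne_zero
  have hpowroot : ∀ x ∈ A.charpoly.roots, x ^ (r * s) = 1 := fun x hx => by
    rw [Polynomial.mem_roots hne] at hx
    let f : Module.End Kc (ι → Kc) := Matrix.toLinAlgEquiv' A
    have h1 : f.HasEigenvalue x := by
      rw [Module.End.hasEigenvalue_iff_isRoot_charpoly]
      have h2 : LinearMap.charpoly f = A.charpoly := Matrix.charpoly_toLin' A
      rwa [h2]
    obtain ⟨v, hv⟩ := h1.exists_hasEigenvector
    have h3 := hv.pow_apply (r * s)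
    rw [show f ^ (r * s) = Matrix.toLinAlgEquiv' (A ^ (r * s)) from (map_pow _ A _).symm, ← hAo, pow_orderOf_eq_one,
      map_one, Module.End.one_apply, hAo] at h3
    have h4 : (x ^ (r * s) - 1) • v = 0 := by rw [sub_smul, one_smul, ← h3, sub_self]
    exact sub_eq_zero.1 ((smul_eq_zero.1 h4).resolve_right hv.2)
  have key : ∀ a b : ℕ, a.Prime → b.Prime → b ≠ p → a * b = r * s → ∃ x ∈ A.charpoly.roots, x ^ a ≠ 1 := by
    intro a b ha hb hbp hprod
    by_contra hno
    push Not at hno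
    haveI : CharP (Matrix ι ι Kc) p := inferInstance
    have hz : ((A ^ a) - 1) ^ N = 0 := by
      have h1 : A.charpoly = ((A.charpoly.roots).map fun x => X - C x).prod :=
        (IsAlgClosed.splits A.charpoly).eq_prod_roots_of_monic A.charpoly_monic
      have h2 : A.charpoly ∣ (X ^ a - 1 : Kc[X]) ^ N := by
        rw [h1]
        refine (Multiset.prod_dvd_prod_of_dvd _ (fun _ => (X ^ a - 1 : Kc[X])) fun x hx => ?_).trans ?_
        · rw [dvd_iff_isRoot, IsRoot, eval_sub, eval_pow, eval_X, eval_one, hno x hx, sub_self]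
        · rw [Multiset.map_const', Multiset.prod_replicate, hcard]
      obtain ⟨c, hc⟩ := h2
      have h3 := congrArg (Polynomial.aeval A) hc
      rw [map_pow, map_sub, map_pow, aeval_X, map_one, map_mul, Matrix.aeval_self_charpoly, zero_mul] at h3
      exact h3
    have h5 := pow_eq_zero_of_le ((Nat.lt_pow_self hp.one_lt).le : N ≤ p ^ N) hz
    rw [sub_pow_char_pow_of_commute p N (Commute.one_right _), one_pow, sub_eq_zero, ← pow_mul] at h5
    have h6 := orderOf_dvd_of_pow_eq_one h5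
    rw [hAo, ← hprod] at h6
    exact hbp ((Nat.prime_dvd_prime_iff_eq hb hp).1 (hb.dvd_of_dvd_pow (Nat.dvd_of_mul_dvd_mul_left ha.pos h6)))
  have hz0 : ∀ z ∈ A.charpoly.roots, z ≠ 0 := fun z hz h => by
    have := hpowroot z hz
    rw [h, zero_pow (Nat.mul_ne_zero hr.ne_zero hs.ne_zero)] at this
    exact zero_ne_one this
  have root : ∀ z ∈ A.charpoly.roots, ∀ i, z ^ Fintype.card F ^ i ∈ A.charpoly.roots := fun z hz i => by
    rw [Polynomial.mem_roots hne] at hz ⊢
    rw [hchar] at hz ⊢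
    exact Cfsg.Lib.PrimeOrbit.isRoot_pow_card_pow _ _ hz i
  have rinv : ∀ z ∈ A.charpoly.roots, z⁻¹ ∈ A.charpoly.roots := fun z hz => by
    have hz' := hz0 z hz
    rw [Polynomial.mem_roots hne] at hz ⊢
    exact hinv z hz' hz
  have sub : ∀ z ∈ A.charpoly.roots, ∀ L, orb z L ⊆ A.charpoly.roots.toFinset := fun z hz L w hw => by
    obtain ⟨i, -, rfl⟩ := mem_orb hw
    rw [Multiset.mem_toFinset]
    exact root z hz i
  have hle : ∀ S : Finset Kc, S ⊆ A.charpoly.roots.toFinset → S.card ≤ N := fun S hS =>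
    ((Finset.card_le_card hS).trans (Multiset.toFinset_card_le _)).trans hcard.le
  -- congruences along an orbit
  have inj : ∀ (t u : ℕ), t.Prime → t ≠ p → ∀ z : Kc, (z ^ u) ^ t = 1 → z ^ u ≠ 1 → ∀ i j,
      z ^ Fintype.card F ^ i = z ^ Fintype.card F ^ j → i ≡ j [MOD orderOf ((Fintype.card F : ℕ) : ZMod t)] := by
    intro t u ht htp z h1 h2 i j h
    haveI := Fact.mk ht
    refine Cfsg.Lib.PrimeOrbit.orbit_inj (z ^ u) (orderOf_eq_prime h1 h2) ?_
      (isOfFinOrder_iff_pow_eq_one.2 ⟨t, ht.pos, h1⟩) (hunit t ht htp)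
    rw [← pow_mul, ← pow_mul, mul_comm u, mul_comm u, pow_mul, pow_mul, h]
  have neg : ∀ (t u : ℕ), t.Prime → ∀ z : Kc, z ≠ 0 → (z ^ u) ^ t = 1 → z ^ u ≠ 1 → ∀ i j,
      z ^ Fintype.card F ^ i = (z ^ Fintype.card F ^ j)⁻¹ →
        ((Fintype.card F : ℕ) : ZMod t) ^ i = -((Fintype.card F : ℕ) : ZMod t) ^ j := by
    intro t u ht z hz h1 h2 i j h
    haveI := Fact.mk ht
    rw [eq_neg_iff_add_eq_zero, ← Nat.cast_pow, ← Nat.cast_pow, ← Nat.cast_add, ZMod.natCast_eq_zero_iff,
      ← orderOf_eq_prime h1 h2]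
    refine orderOf_dvd_of_pow_eq_one ?_
    rw [← pow_mul, mul_comm, pow_mul, pow_add, h, inv_mul_cancel₀ (pow_ne_zero _ hz), one_pow]
  have hcard' : ∀ z : Kc, ∀ L : ℕ, (∀ i, i < L → ∀ j, j < L → z ^ Fintype.card F ^ i = z ^ Fintype.card F ^ j → i = j) →
      (orb z L).card = L := fun z L h => by
    rw [orb, Finset.card_image_of_injOn, Finset.card_range]
    intro i hi j hj
    exact h i (Finset.mem_range.1 hi) j (Finset.mem_range.1 hj)
  have hcard2 : ∀ z : Kc, ∀ L : ℕ, (∀ i, i < L → ∀ j, j < L → z ^ Fintype.card F ^ i = z ^ Fintype.card F ^ j → i = j) →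
      (∀ i j, z ^ Fintype.card F ^ i ≠ (z ^ Fintype.card F ^ j)⁻¹) → (orb z L ∪ orb z⁻¹ L).card = 2 * L := by
    intro z L h1 h2
    rw [Finset.card_union_of_disjoint, hcard' z L h1, hcard' z⁻¹ L (fun i hi j hj e => h1 i hi j hj (by
      rw [inv_pow, inv_pow] at e; exact inv_injective e)), two_mul]
    rw [Finset.disjoint_left]
    intro w hw hw'
    obtain ⟨i, -, rfl⟩ := mem_orb hw
    obtain ⟨j, -, hj⟩ := mem_orb hw'
    rw [inv_pow] at hj
    exact h2 i j hj.symm
  have hrs' : ∀ z ∈ A.charpoly.roots, (z ^ r) ^ s = 1 := fun z hz => by rw [← pow_mul]; exact hpowroot z hz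
  have hsr' : ∀ z ∈ A.charpoly.roots, (z ^ s) ^ r = 1 := fun z hz => by
    rw [← pow_mul, mul_comm]; exact hpowroot z hz
  -- orbit of a root with a nontrivial part at one prime
  have single : ∀ (t u : ℕ), t.Prime → t ≠ p → t ≠ 2 → ∀ z ∈ A.charpoly.roots, (z ^ u) ^ t = 1 → z ^ u ≠ 1 →
      ∀ d η : ℕ, d = orderOf ((Fintype.card F : ℕ) : ZMod t) → ((Odd d ∧ η = d) ∨ (Even d ∧ 2 * η = d)) →
      ∃ S : Finset Kc, S ⊆ A.charpoly.roots.toFinset ∧ S.card = 2 * η ∧
        ∀ w ∈ S, ∃ i, w = z ^ Fintype.card F ^ i ∨ w = (z ^ Fintype.card F ^ i)⁻¹ := by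
    intro t u ht htp ht2 z hz h1 h2 d η hd hη
    haveI := Fact.mk ht
    have hin : ∀ i, i < d → ∀ j, j < d → z ^ Fintype.card F ^ i = z ^ Fintype.card F ^ j → i = j := fun i hi j hj e => by
      have := inj t u ht htp z h1 h2 i j e
      rw [← hd] at this
      exact Nat.ModEq.eq_of_lt_of_lt this hi hj
    rcases hη with ⟨hodd, rfl⟩ | ⟨-, hη⟩
    · refine ⟨orb z η ∪ orb z⁻¹ η, Finset.union_subset (sub z hz η) (sub _ (rinv z hz) η),
        hcard2 z η hin (fun i j e => ?_), fun w hw => ?_⟩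
      · have h3 := neg t u ht z (hz0 z hz) h1 h2 i j e
        have hd0 : 0 < η := hodd.pos
        have hu : ((Fintype.card F : ℕ) : ZMod t) ^ η = 1 := by rw [hd, pow_orderOf_eq_one]
        have h4 := exists_neg_one _ hd0 hu h3
        have h5 : ((-1 : ZMod t)) ^ η = 1 := by rw [← h4, ← pow_mul, mul_comm, pow_mul, hu, one_pow]
        rw [hodd.neg_one_pow] at h5
        have h6 : ((2 : ℕ) : ZMod t) = 0 := by
          push_cast; linear_combination -h5
        rw [ZMod.natCast_eq_zero_iff] at h6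
        exact ht2 ((Nat.prime_dvd_prime_iff_eq ht Nat.prime_two).1 h6)
      · rcases Finset.mem_union.1 hw with h | h
        all_goals obtain ⟨i, -, rfl⟩ := mem_orb h
        · exact ⟨i, Or.inl rfl⟩
        · exact ⟨i, Or.inr (inv_pow _ _)⟩
    · refine ⟨orb z d, sub z hz d, (hcard' z d hin).trans hη.symm, fun w hw => ?_⟩
      obtain ⟨i, -, rfl⟩ := mem_orb hw
      exact ⟨i, Or.inl rfl⟩
  obtain ⟨x, hx, hxr⟩ := key r s hr hs hsp rfl
  obtain ⟨y, hy, hys⟩ := key s r hs hr hrp (mul_comm _ _)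
  by_cases hboth : ∃ z ∈ A.charpoly.roots, z ^ r ≠ 1 ∧ z ^ s ≠ 1
  · right
    obtain ⟨z, hz, hzr, hzs⟩ := hboth
    obtain ⟨L, hL⟩ : ∃ L, L = Nat.lcm k l := ⟨_, rfl⟩
    rw [← hL]
    have hin : ∀ i, i < L → ∀ j, j < L → z ^ Fintype.card F ^ i = z ^ Fintype.card F ^ j → i = j := fun i hi j hj e => by
      have h1 := inj r s hr hrp z (hsr' z hz) hzs i j e
      have h2 := inj s r hs hsp z (hrs' z hz) hzr i j e
      rw [← hk] at h1
      rw [← hl] at h2
      rw [hL] at hi hj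
      exact Nat.ModEq.eq_of_lt_of_lt (Nat.mod_lcm h1 h2) hi hj
    refine ⟨hcard' z L hin ▸ hle _ (sub z hz L), fun hno => ?_⟩
    rw [← hcard2 z L hin fun i j e => ?_]
    · exact hle _ (Finset.union_subset (sub z hz L) (sub _ (rinv z hz) L))
    · have hk0 : 0 < k := hk ▸ orderOf_pos_iff.2 (isOfFinOrder_iff_pow_eq_one.2
        ⟨r - 1, by have := hr.two_le; omega, ZMod.pow_card_sub_one_eq_one (hunit r hr hrp).ne_zero⟩)
      have hl0 : 0 < l := hl ▸ orderOf_pos_iff.2 (isOfFinOrder_iff_pow_eq_one.2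
        ⟨s - 1, by have := hs.two_le; omega, ZMod.pow_card_sub_one_eq_one (hunit s hs hsp).ne_zero⟩)
      have hL0 : 0 < L := hL ▸ Nat.lcm_pos hk0 hl0
      refine hno (i + (L - 1) * j) ⟨exists_neg_one _ hL0 ?_ (neg r s hr z (hz0 z hz) (hsr' z hz) hzs i j e),
        exists_neg_one _ hL0 ?_ (neg s r hs z (hz0 z hz) (hrs' z hz) hzr i j e)⟩
      · exact orderOf_dvd_iff_pow_eq_one.1 (hk ▸ hL ▸ Nat.dvd_lcm_left k l)
      · exact orderOf_dvd_iff_pow_eq_one.1 (hl ▸ hL ▸ Nat.dvd_lcm_right k l)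
  · left
    push Not at hboth
    have hyr : y ^ r = 1 := by
      by_contra h
      exact hys (hboth y hy h)
    obtain ⟨S, hS1, hS2, hS3⟩ := single r s hr hrp hr2 y hy (hsr' y hy) hys k ηk hk hηk
    obtain ⟨T, hT1, hT2, hT3⟩ := single s r hs hsp hs2 x hx (hrs' x hx) hxr l ηl hl hηl
    have hdisj : Disjoint S T := by
      rw [Finset.disjoint_left]
      intro w hw hw'
      obtain ⟨i, hi⟩ := hS3 w hw
      obtain ⟨j, hj⟩ := hT3 w hw'
      have e1 : w ^ r = 1 := by
        rcases hi with rfl | rfl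
        all_goals simp only [inv_pow, inv_eq_one, ← pow_mul]
        all_goals rw [mul_comm, pow_mul, hyr, one_pow]
      have e2 : (x ^ r) ^ Fintype.card F ^ j = 1 := by
        rw [← pow_mul, mul_comm, pow_mul]
        rcases hj with rfl | rfl
        · exact e1
        · rwa [inv_pow, inv_eq_one] at e1
      have hco : Nat.Coprime s (Fintype.card F ^ j) :=
        Nat.Coprime.pow_right _ (hs.coprime_iff_not_dvd.2 (hnd s hs hsp))
      have e3 := pow_gcd_eq_one.2 ⟨hrs' x hx, e2⟩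
      rw [hco.gcd_eq_one, pow_one] at e3
      exact hxr e3
    calc 2 * ηk + 2 * ηl = (S ∪ T).card := by rw [Finset.card_union_of_disjoint hdisj, hS2, hT2]
      _ ≤ N := hle _ (Finset.union_subset hS1 hT1)

/-- an element of prime order with a long orbit has distinct eigenvalues -/
theorem roots_nodup_of_long {p N r : ℕ} [Fact p.Prime] [CharP F p] {ι : Type*} [Fintype ι] [DecidableEq ι]
    (hι : Fintype.card ι = N) (hr : r.Prime) (hr2 : r ≠ 2) (hrp : r ≠ p) (M : Matrix ι ι F) (hM : M ^ r = 1)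
    (hM1 : M ≠ 1)
    (hinv : ∀ z : Kc, z ≠ 0 → (M.map (algebraMap F Kc)).charpoly.IsRoot z → (M.map (algebraMap F Kc)).charpoly.IsRoot z⁻¹)
    {k ηk : ℕ} (hk : k = orderOf ((Fintype.card F : ℕ) : ZMod r))
    (hηk : (Odd k ∧ ηk = k) ∨ (Even k ∧ 2 * ηk = k)) (hN : N ≤ 2 * ηk) :
    (M.map (algebraMap F Kc)).charpoly.roots.Nodup := by
  classical
  haveI := Fact.mk hr
  haveI : CharP Kc p := charP_of_injective_algebraMap (algebraMap F Kc).injective p
  obtain ⟨e, hp, hq⟩ := FiniteField.card F p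
  have hunit : IsUnit ((Fintype.card F : ℕ) : ZMod r) := by
    rw [isUnit_iff_ne_zero, Ne, ZMod.natCast_eq_zero_iff, hq]
    exact fun hd => hrp ((Nat.prime_dvd_prime_iff_eq hr hp).1 (hr.dvd_of_dvd_pow hd))
  haveI : Nonempty ι := by
    by_contra hne
    rw [not_nonempty_iff] at hne
    exact hM1 (Subsingleton.elim _ _)
  obtain ⟨A, hA⟩ : ∃ A, A = M.map (algebraMap F Kc) := ⟨_, rfl⟩
  rw [← hA] at hinv ⊢
  have hAr : A ^ r = 1 := by
    rw [hA]
    change ((algebraMap F Kc).mapMatrix M) ^ r = 1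
    rw [← map_pow, hM, map_one]
  have hA1 : A ≠ 1 := fun h => hM1 (Matrix.map_injective (algebraMap F Kc).injective
    (hA.symm.trans (h.trans (Matrix.map_one _ (map_zero _) (map_one _)).symm)))
  have hchar : A.charpoly = M.charpoly.map (algebraMap F Kc) := by rw [hA, Matrix.charpoly_map]
  have hcard : A.charpoly.roots.card = N := by
    rw [IsAlgClosed.card_roots_eq_natDegree, Matrix.charpoly_natDegree_eq_dim, hι]
  have hne : A.charpoly ≠ 0 := A.charpoly_monic.ne_zero
  have hroot : ∀ x ∈ A.charpoly.roots, x ^ r = 1 := fun x hx => by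
    rw [Polynomial.mem_roots hne] at hx
    let f : Module.End Kc (ι → Kc) := Matrix.toLinAlgEquiv' A
    have h1 : f.HasEigenvalue x := by
      rw [Module.End.hasEigenvalue_iff_isRoot_charpoly]
      have h2 : LinearMap.charpoly f = A.charpoly := Matrix.charpoly_toLin' A
      rwa [h2]
    obtain ⟨v, hv⟩ := h1.exists_hasEigenvector
    have h3 := hv.pow_apply r
    rw [show f ^ r = Matrix.toLinAlgEquiv' (A ^ r) from (map_pow _ A _).symm, hAr, map_one,
      Module.End.one_apply] at h3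
    have h4 : (x ^ r - 1) • v = 0 := by rw [sub_smul, one_smul, ← h3, sub_self]
    exact sub_eq_zero.1 ((smul_eq_zero.1 h4).resolve_right hv.2)
  obtain ⟨z, hz, hz1⟩ : ∃ z ∈ A.charpoly.roots, z ≠ 1 := by
    by_contra hno
    push Not at hno
    haveI : CharP (Matrix ι ι Kc) p := inferInstance
    have h1 : A.charpoly = (X - C (1 : Kc)) ^ N := by
      rw [(IsAlgClosed.splits A.charpoly).eq_prod_roots_of_monic A.charpoly_monic,
        Multiset.eq_replicate_card.2 hno, hcard, Multiset.map_replicate, Multiset.prod_replicate]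
    have h2 := Matrix.aeval_self_charpoly A
    rw [h1, map_pow, map_sub, aeval_X, aeval_C, map_one] at h2
    have h5 := pow_eq_zero_of_le ((Nat.lt_pow_self hp.one_lt).le : N ≤ p ^ N) h2
    rw [sub_pow_char_pow_of_commute p N (Commute.one_right _), one_pow, sub_eq_zero] at h5
    have h7 := pow_gcd_eq_one.2 ⟨hAr, h5⟩
    rw [show Nat.gcd r (p ^ N) = 1 from Nat.Coprime.pow_right _ ((Nat.coprime_primes hr hp).2 hrp), pow_one] at h7
    exact hA1 h7
  have hzr := hroot z hz
  have hz0 : z ≠ 0 := fun h => by rw [h, zero_pow hr.ne_zero] at hzr; exact zero_ne_one hzr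
  have hord : orderOf z = r := orderOf_eq_prime hzr hz1
  have hin : ∀ i, i < k → ∀ j, j < k → z ^ Fintype.card F ^ i = z ^ Fintype.card F ^ j → i = j := by
    intro i hi j hj e
    have := Cfsg.Lib.PrimeOrbit.orbit_inj z hord e (isOfFinOrder_iff_pow_eq_one.2 ⟨r, hr.pos, hzr⟩) hunit
    rw [← hk] at this
    exact Nat.ModEq.eq_of_lt_of_lt this hi hj
  have hroots : ∀ w ∈ orb z k, w ∈ A.charpoly.roots ∧ w⁻¹ ∈ A.charpoly.roots := by
    intro w hw
    obtain ⟨i, -, rfl⟩ := mem_orb hw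
    have h1 : z ^ Fintype.card F ^ i ∈ A.charpoly.roots := by
      rw [Polynomial.mem_roots hne] at hz ⊢
      rw [hchar] at hz ⊢
      exact Cfsg.Lib.PrimeOrbit.isRoot_pow_card_pow _ _ hz i
    refine ⟨h1, ?_⟩
    rw [Polynomial.mem_roots hne] at h1 ⊢
    exact hinv _ (pow_ne_zero _ hz0) h1
  have hck : (orb z k).card = k := by
    rw [orb, Finset.card_image_of_injOn, Finset.card_range]
    intro i hi j hj
    exact hin i (Finset.mem_range.1 hi) j (Finset.mem_range.1 hj)
  obtain ⟨S, hS, hSc⟩ : ∃ S : Finset Kc, (∀ w ∈ S, w ∈ A.charpoly.roots) ∧ S.card = 2 * ηk := by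
    rcases hηk with ⟨hodd, rfl⟩ | ⟨-, hη⟩
    · refine ⟨orb z ηk ∪ (orb z ηk).image (·⁻¹), fun w hw => ?_, ?_⟩
      · rcases Finset.mem_union.1 hw with h | h
        · exact (hroots w h).1
        · obtain ⟨v, hv, rfl⟩ := Finset.mem_image.1 h
          exact (hroots v hv).2
      · rw [Finset.card_union_of_disjoint, Finset.card_image_of_injective _ inv_injective, hck, two_mul]
        rw [Finset.disjoint_left]
        intro w hw hw'
        obtain ⟨v, hv, hvw⟩ := Finset.mem_image.1 hw'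
        obtain ⟨i, -, rfl⟩ := mem_orb hw
        obtain ⟨j, -, rfl⟩ := mem_orb hv
        have h3 : ((Fintype.card F : ℕ) : ZMod r) ^ i = -((Fintype.card F : ℕ) : ZMod r) ^ j := by
          rw [eq_neg_iff_add_eq_zero, ← Nat.cast_pow, ← Nat.cast_pow, ← Nat.cast_add, ZMod.natCast_eq_zero_iff,
            ← hord]
          refine orderOf_dvd_of_pow_eq_one ?_
          rw [pow_add, ← hvw, inv_mul_cancel₀ (pow_ne_zero _ hz0)]
        have hu : ((Fintype.card F : ℕ) : ZMod r) ^ ηk = 1 := by rw [hk, pow_orderOf_eq_one]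
        have h4 := exists_neg_one _ hodd.pos hu h3
        have h5 : ((-1 : ZMod r)) ^ ηk = 1 := by rw [← h4, ← pow_mul, mul_comm, pow_mul, hu, one_pow]
        rw [hodd.neg_one_pow] at h5
        have h6 : ((2 : ℕ) : ZMod r) = 0 := by push_cast; linear_combination -h5
        rw [ZMod.natCast_eq_zero_iff] at h6
        exact hr2 ((Nat.prime_dvd_prime_iff_eq hr Nat.prime_two).1 h6)
    · exact ⟨orb z k, fun w hw => (hroots w hw).1, hck.trans hη.symm⟩
  have hle : S.val ≤ A.charpoly.roots := (Multiset.le_iff_subset S.nodup).2 fun w hw => hS w (Finset.mem_val.mp hw)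
  have := Multiset.eq_of_le_of_card_le hle (by rw [hcard, Finset.card_val, hSc]; exact hN)
  rw [← this]
  exact S.nodup

/-- block inclusion of symplectic groups -/
noncomputable def blockSp {R : Type*} [CommRing R] (a b : ℕ) :
    Matrix.symplecticGroup (Fin a) R × Matrix.symplecticGroup (Fin b) R →* Matrix.symplecticGroup (Fin (a + b)) R :=
  let e : Fin (a + b) ⊕ Fin (a + b) ≃ (Fin a ⊕ Fin a) ⊕ (Fin b ⊕ Fin b) :=
    (Equiv.sumCongr finSumFinEquiv.symm finSumFinEquiv.symm).trans (Equiv.sumSumSumComm _ _ _ _)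
  MonoidHom.mk' (fun x => ⟨(Matrix.fromBlocks x.1.1 0 0 x.2.1).submatrix e e, by
      have hJ : (Matrix.fromBlocks (Matrix.J (Fin a) R) 0 0 (Matrix.J (Fin b) R)).submatrix e e =
          Matrix.J (Fin (a + b)) R := by
        ext (i | i) (j | j) <;> obtain ⟨i, rfl⟩ := finSumFinEquiv.surjective i <;>
          obtain ⟨j, rfl⟩ := finSumFinEquiv.surjective j <;> rcases i with i | i <;> rcases j with j | j <;>
          simp [e, Matrix.J, Matrix.one_apply, Fin.ext_iff] <;> omega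
      rw [SymplecticGroup.mem_iff, ← hJ, Matrix.transpose_submatrix, Matrix.submatrix_mul_equiv,
        Matrix.submatrix_mul_equiv, Matrix.fromBlocks_transpose, Matrix.fromBlocks_multiply, Matrix.fromBlocks_multiply]
      simp [SymplecticGroup.mem_iff.1 x.1.2, SymplecticGroup.mem_iff.1 x.2.2]⟩)
    (fun x y => Subtype.ext (by
      show (Matrix.fromBlocks (x.1.1 * y.1.1) 0 0 (x.2.1 * y.2.1)).submatrix e e = _ * _
      rw [Matrix.submatrix_mul_equiv, Matrix.fromBlocks_multiply]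
      simp))

theorem blockSp_injective {R : Type*} [CommRing R] (a b : ℕ) : Function.Injective (blockSp (R := R) a b) := by
  intro x y h
  have h2 : Matrix.fromBlocks x.1.1 0 0 x.2.1 = Matrix.fromBlocks y.1.1 0 0 y.2.1 := by
    ext i j
    have := congrFun (congrFun (congrArg Subtype.val h)
      (((Equiv.sumCongr finSumFinEquiv.symm finSumFinEquiv.symm).trans (Equiv.sumSumSumComm _ _ _ _)).symm i))
      (((Equiv.sumCongr finSumFinEquiv.symm finSumFinEquiv.symm).trans (Equiv.sumSumSumComm _ _ _ _)).symm j)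
    simpa only [blockSp, MonoidHom.mk'_apply, Matrix.submatrix_apply, Equiv.apply_symm_apply] using this
  obtain ⟨h3, -, -, h4⟩ := Matrix.fromBlocks_inj.1 h2
  exact Prod.ext (Subtype.ext h3) (Subtype.ext h4)

end Cfsg.Lib.PrimeOrbitSymp
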