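import Mathlib
import Cfsg.Prelude.Def_GeometricClasses
import Cfsg.Agent.Classical.Misc.PGLMaxBase

/-! Elements of prime order of `PSL₂(p)` normalising a quaternion group. -/

set_option autoImplicit false
set_option linter.unusedSimpArgs false
set_option linter.unusedSectionVars false
set_option linter.style.haveILetI false
set_option linter.flexible false
set_option maxRecDepth 20000

namespace Cfsg.Lib.Classical.QuatElusive

open Matrix
open scoped MatrixGroups
open Cfsg.Lib.Classical.PSLFour Cfsg.Lib.Classical.PSLFrame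
open Cfsg.Lib.Classical.PSLMaxExceptional (perm3 image_perm3 odd_card pa pb pa_facts alt_perm3)

universe u

local notation "PSL₂" k => Matrix.ProjectiveSpecialLinearGroup (Fin 2) k
local notation "PGL₂" k => Matrix.ProjGenLinGroup (Fin 2) k

variable {F : Type u} [Field F]

/-- Elements with a trace which are not scalar are conjugate. -/
theorem conj_of_trace [Fintype F] (hodd : Odd (Fintype.card F)) {t : F} (ht : t ^ 2 ≠ 4) (s w : SL(2, F))
    (hs : s.1.trace = t) (hw : w.1.trace = t) : ∃ x : SL(2, F), x * s * x⁻¹ = w := by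
  have h2 := two_ne (F := F) hodd
  have basis : ∀ s : SL(2, F), s.1.trace = t → ∃ B : Matrix (Fin 2) (Fin 2) F,
      B.det ≠ 0 ∧ s.1 * B = B * !![0, -1; 1, t] := by
    intro s hs
    have hd := det_eq_one s
    have key : ∀ v0 v1 : F, s.1 * !![v0, s.1 0 0 * v0 + s.1 0 1 * v1; v1, s.1 1 0 * v0 + s.1 1 1 * v1] =
        !![v0, s.1 0 0 * v0 + s.1 0 1 * v1; v1, s.1 1 0 * v0 + s.1 1 1 * v1] * !![0, -1; 1, t] := by
      intro v0 v1
      have ht' : t = s.1 0 0 + s.1 1 1 := by rw [← hs, Matrix.trace_fin_two]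
      ext r c
      fin_cases r <;> fin_cases c <;> simp [Matrix.mul_apply, Fin.sum_univ_two, ht'] <;>
        (first | ring1 | linear_combination v0 * hd | linear_combination -v0 * hd | linear_combination v1 * hd |
          linear_combination -v1 * hd)
    by_cases h10 : s.1 1 0 = 0
    · by_cases h01 : s.1 0 1 = 0
      · refine ⟨_, ?_, key 1 1⟩
        simp [Matrix.det_fin_two, h10, h01]
        intro e
        apply ht
        rw [← hs, Matrix.trace_fin_two]
        rw [h10, mul_zero, sub_zero] at hd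
        linear_combination 4 * hd + (s.1 1 1 - s.1 0 0) * e
      · refine ⟨_, ?_, key 0 1⟩
        simpa [Matrix.det_fin_two] using h01
    · refine ⟨_, ?_, key 1 0⟩
      simpa [Matrix.det_fin_two] using h10
  obtain ⟨A, hA, hsA⟩ := basis s hs
  obtain ⟨B, hB, hwB⟩ := basis w hw
  obtain ⟨α, β, hαβ⟩ : ∃ α β : F, α ^ 2 + t * α * β + β ^ 2 = A.det / B.det := by
    have h4 : (4 - t ^ 2) / 4 ≠ (0 : F) :=
      div_ne_zero (sub_ne_zero.mpr (Ne.symm ht)) (by rw [show (4 : F) = 2 * 2 by norm_num]; exact mul_ne_zero h2 h2)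
    obtain ⟨a, b, hab⟩ := FiniteField.exists_root_sum_quadratic (R := F) (f := Polynomial.X ^ 2)
      (g := Polynomial.C ((4 - t ^ 2) / 4) * Polynomial.X ^ 2 - Polynomial.C (A.det / B.det))
      (Polynomial.degree_X_pow 2)
      (by rw [Polynomial.degree_sub_C (by rw [Polynomial.degree_C_mul_X_pow 2 h4]; norm_num),
        Polynomial.degree_C_mul_X_pow 2 h4]; rfl)
      (Nat.odd_iff.mp hodd)
    simp only [Polynomial.eval_pow, Polynomial.eval_X, Polynomial.eval_sub, Polynomial.eval_mul, Polynomial.eval_C] at hab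
    obtain ⟨c, rfl⟩ : ∃ c, t = 2 * c := ⟨t / 2, by field_simp⟩
    rw [show (4 - (2 * c) ^ 2) / 4 = 1 - c ^ 2 by
      rw [div_eq_iff (show (4 : F) ≠ 0 by rw [show (4 : F) = 2 * 2 by norm_num]; exact mul_ne_zero h2 h2)]; ring] at hab
    exact ⟨a - c * b, b, by linear_combination hab⟩
  set E : Matrix (Fin 2) (Fin 2) F := !![α, -β; β, α + t * β] with hE
  have hEC : E * !![0, -1; 1, t] = !![0, -1; 1, t] * E := by
    ext r c; fin_cases r <;> fin_cases c <;> simp [hE, Matrix.mul_apply, Fin.sum_univ_two] <;> ring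
  have hEd : E.det = A.det / B.det := by rw [← hαβ, hE, Matrix.det_fin_two_of]; ring
  let X : Matrix (Fin 2) (Fin 2) F := B * E * A⁻¹
  have hXd : X.det = 1 := by
    simp only [X, Matrix.det_mul, Matrix.det_nonsing_inv, Ring.inverse_eq_inv', hEd]
    field_simp
  have hAi : A⁻¹ * A = 1 := Matrix.nonsing_inv_mul A (isUnit_iff_ne_zero.mpr hA)
  have hAi' : A * A⁻¹ = 1 := Matrix.mul_nonsing_inv A (isUnit_iff_ne_zero.mpr hA)
  have hA' : A⁻¹ * s.1 = !![0, -1; 1, t] * A⁻¹ := by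
    calc A⁻¹ * s.1 = A⁻¹ * s.1 * (A * A⁻¹) := by rw [hAi', Matrix.mul_one]
      _ = A⁻¹ * (s.1 * A) * A⁻¹ := by simp only [Matrix.mul_assoc]
      _ = _ := by rw [hsA, ← Matrix.mul_assoc, hAi, Matrix.one_mul]
  have hX : X * s.1 = w.1 * X := by
    show B * E * A⁻¹ * s.1 = w.1 * (B * E * A⁻¹)
    rw [Matrix.mul_assoc (B * E), hA', ← Matrix.mul_assoc, Matrix.mul_assoc B, hEC, ← Matrix.mul_assoc, ← hwB]
    simp only [Matrix.mul_assoc]
  refine ⟨⟨X, hXd⟩, mul_inv_eq_iff_eq_mul.mpr (Subtype.ext ?_)⟩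
  exact hX

theorem scalar_trace {s : SL(2, F)} (hns : ∀ z : F, s.1 ≠ z • (1 : Matrix (Fin 2) (Fin 2) F)) {α β : F}
    (h : α • s.1 = β • (1 : Matrix (Fin 2) (Fin 2) F)) : α = 0 := by
  by_contra hα
  exact hns (α⁻¹ * β) (by rw [mul_smul, ← h, inv_smul_smul₀ hα])

/-- The trace of a lift of an element of order two or three. -/
theorem trace_of_pow {r : ℕ} (hr : r = 2 ∨ r = 3) {s : SL(2, F)}
    (hns : ∀ z : F, s.1 ≠ z • (1 : Matrix (Fin 2) (Fin 2) F))
    (h : ∃ z : F, s.1 ^ r = z • (1 : Matrix (Fin 2) (Fin 2) F)) :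
    (r = 2 ∧ s.1.trace = 0) ∨ (r = 3 ∧ s.1.trace ^ 2 = 1) := by
  obtain ⟨z, hz⟩ := h
  have hsq := sq_val s
  set t := s.1.trace with ht
  rcases hr with rfl | rfl
  · refine Or.inl ⟨rfl, scalar_trace hns (β := z + 1) ?_⟩
    rw [add_smul, one_smul, ← hz, pow_two, hsq, sub_add_cancel]
  · refine Or.inr ⟨rfl, ?_⟩
    have h3 : s.1 ^ 3 = (t ^ 2 - 1) • s.1 - t • (1 : Matrix (Fin 2) (Fin 2) F) := by
      rw [pow_succ, pow_two, hsq, sub_mul, smul_mul_assoc, hsq, one_mul]; module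
    have := scalar_trace hns (α := t ^ 2 - 1) (β := z + t) (by rw [add_smul, ← hz, h3, sub_add_cancel])
    linear_combination this

/-- The squares of four-group centralisers are trivial. -/
theorem centralizer_sq [Fintype F] (p : ℕ) [Fact p.Prime] [CharP F p] (hp : p ≠ 2) {g h : SL(2, F)}
    (hpair : IsPair g h) {y : PSL₂ F} (hg : y * π g = π g * y) (hh : y * π h = π h * y) : y * y = 1 := by
  obtain ⟨hodd, h2⟩ := odd_card (F := F) p hp
  obtain ⟨a, b, hab⟩ := exists_sum_sq hodd (-1 : F)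
  obtain ⟨C, τ, hτ, -, hCg, hCh⟩ := PSLMaxField.frame_aut g h hpair h2 hab
  obtain ⟨s, rfl⟩ := QuotientGroup.mk'_surjective (Subgroup.center SL(2, F)) y
  change π s * π g = π g * π s at hg
  change π s * π h = π h * π s at hh
  have comm2 : ∀ v : SL(2, F), π s * π v = π v * π s → C (s * s) * C v = C v * C (s * s) := by
    intro v hv
    rw [← map_mul, ← map_mul] at hv
    rw [← map_mul, ← map_mul]
    congr 1
    rcases π_eq_iff.mp hv with e | e
    · rw [← mul_assoc v, e, mul_assoc s v s, e, mul_assoc]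
    · rw [← mul_assoc v, e, neg_mul, mul_assoc s v s, e, mul_neg, neg_neg, mul_assoc]
  have eJ := congrArg Subtype.val (comm2 g hg)
  have eB := congrArg Subtype.val (comm2 h hh)
  refine τ.injective ?_
  rw [map_one, ← map_mul, hτ, π_one_iff]
  generalize C (s * s) = W at eJ eB ⊢
  rw [Matrix.SpecialLinearGroup.coe_mul, Matrix.SpecialLinearGroup.coe_mul, hCg] at eJ
  rw [Matrix.SpecialLinearGroup.coe_mul, Matrix.SpecialLinearGroup.coe_mul, hCh] at eB
  have j00 := congrFun (congrFun eJ 0) 0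
  have j01 := congrFun (congrFun eJ 0) 1
  have b00 := congrFun (congrFun eB 0) 0
  have b01 := congrFun (congrFun eB 0) 1
  simp [JM, BM, Matrix.mul_apply, Fin.sum_univ_two] at j00 j01 b00 b01
  have hb : b * W.1 0 1 = 0 := mul_left_cancel₀ h2 (by rw [mul_zero]; linear_combination b00 - b * j00)
  have ha : a * W.1 0 1 = 0 := mul_left_cancel₀ h2 (by rw [mul_zero]; linear_combination -b01 + b * j01)
  have hW01 : W.1 0 1 = 0 := by linear_combination (W.1 0 1) * hab - a * ha - b * hb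
  have hd := det_eq_one W
  have h10 : W.1 1 0 = 0 := by linear_combination -j00 - hW01
  have h11 : W.1 1 1 = W.1 0 0 := by linear_combination -j01
  rw [hW01, h11, zero_mul, sub_zero] at hd
  rcases mul_self_eq_one_iff.mp hd with e | e
  · exact Or.inl (ext_four (by simp [e]) (by simp [hW01]) (by simp [h10]) (by simp [h11, e]))
  · exact Or.inr (ext_four (by simp [e, val_neg]) (by simp [hW01, val_neg]) (by simp [h10, val_neg])
      (by simp [h11, e, val_neg]))

/-- The quaternion group is the preimage of a four-group. -/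
theorem exists_pair [Fintype F] (hodd : Odd (Fintype.card F)) (R : Subgroup (GL (Fin 2) F))
    (hR : Nonempty (R ≃* QuaternionGroup 2)) :
    ∃ g h : SL(2, F), IsPair g h ∧ (∀ w : SL(2, F), Matrix.SpecialLinearGroup.toGL w ∈ R ↔
      (π w = 1 ∨ π w = π g ∨ π w = π h ∨ π w = π g * π h)) ∧
      ∀ x ∈ R, ∃ w : SL(2, F), Matrix.SpecialLinearGroup.toGL w = x := by
  obtain ⟨φ⟩ := hR
  set u₀ : QuaternionGroup 2 := QuaternionGroup.a 1 with hu₀
  set v₀ : QuaternionGroup 2 := QuaternionGroup.xa 0 with hv₀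
  set z₀ : QuaternionGroup 2 := QuaternionGroup.a 2 with hz₀
  have facts : u₀ * u₀ = z₀ ∧ v₀ * v₀ = z₀ ∧ v₀ * u₀ * v₀⁻¹ * u₀⁻¹ = z₀ ∧ u₀ * v₀ = z₀ * (v₀ * u₀) ∧
      z₀ * z₀ = 1 ∧ z₀ ≠ 1 := by
    refine ⟨?_, ?_, ?_, ?_, ?_, ?_⟩ <;> decide +kernel
  have hall : ∀ x : QuaternionGroup 2, x = 1 ∨ x = z₀ ∨ x = u₀ ∨ x = z₀ * u₀ ∨ x = v₀ ∨ x = z₀ * v₀ ∨
      x = u₀ * v₀ ∨ x = z₀ * (u₀ * v₀) := by decide +kernel
  let f : QuaternionGroup 2 →* GL (Fin 2) F := R.subtype.comp φ.symm.toMonoidHom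
  have hf : Function.Injective f := Subtype.val_injective.comp φ.symm.injective
  have hfR : ∀ y, f y ∈ R := fun y => (φ.symm y).2
  have hRf : ∀ x ∈ R, ∃ y, f y = x := fun x hx => ⟨φ ⟨x, hx⟩, by
    show ((φ.symm (φ ⟨x, hx⟩) : R) : GL (Fin 2) F) = x
    rw [MulEquiv.symm_apply_apply]⟩
  obtain ⟨e1, e2, e3, e4, e5, e6⟩ := facts
  have hdz : ((f z₀ : GL (Fin 2) F) : Matrix (Fin 2) (Fin 2) F).det = 1 := by
    have : Matrix.GeneralLinearGroup.det (f z₀) = 1 := by
      rw [← e3, map_mul, map_mul, map_mul, map_inv, map_inv, map_mul, map_mul, map_mul, map_inv, map_inv]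
      simp [mul_comm, mul_left_comm]
    simpa using congrArg Units.val this
  let Z : SL(2, F) := ⟨_, hdz⟩
  have hZ : Z = -1 := by
    refine (eq_or_neg hodd (g := Z) (Subtype.ext ?_)).resolve_left fun e => e6 (hf ?_)
    · show ((f z₀ : GL (Fin 2) F) : Matrix (Fin 2) (Fin 2) F) * (f z₀ : GL (Fin 2) F) = _
      rw [← Units.val_mul, ← map_mul, e5, map_one]; rfl
    · rw [map_one]; exact Units.ext (congrArg Subtype.val e)
  have hz : ((f z₀ : GL (Fin 2) F) : Matrix (Fin 2) (Fin 2) F) = -1 := by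
    show Z.1 = _
    rw [hZ]; ext i j; simp [val_neg]
  have hne : f u₀ * f v₀ ≠ f v₀ * f u₀ := fun e => by
    rw [← map_mul, ← map_mul] at e
    have := hf e
    rw [e4] at this
    exact e6 (mul_eq_right.mp this)
  have lift : ∀ y y' : QuaternionGroup 2, y * y = z₀ → f y * f y' ≠ f y' * f y →
      ∃ w : SL(2, F), Matrix.SpecialLinearGroup.toGL w = f y ∧ w * w = -1 := by
    intro y y' hy hne
    set U : Matrix (Fin 2) (Fin 2) F := ((f y : GL (Fin 2) F) : Matrix (Fin 2) (Fin 2) F) with hU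
    have hU2 : U * U = -1 := by rw [hU, ← Units.val_mul, ← map_mul, hy, hz]
    have h00 := congrFun (congrFun hU2 0) 0
    have h01 := congrFun (congrFun hU2 0) 1
    have h10 := congrFun (congrFun hU2 1) 0
    have h11 := congrFun (congrFun hU2 1) 1
    simp [Matrix.mul_apply, Fin.sum_univ_two] at h00 h01 h10 h11
    have htr : U 1 1 = -U 0 0 := by
      by_contra hcon
      have hs : U 0 0 + U 1 1 ≠ 0 := fun e => hcon (by linear_combination e)
      have c01 : U 0 1 = 0 := (mul_eq_zero.mp (show U 0 1 * (U 0 0 + U 1 1) = 0 by linear_combination h01)).resolve_right hs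
      have c10 : U 1 0 = 0 := (mul_eq_zero.mp (show U 1 0 * (U 0 0 + U 1 1) = 0 by linear_combination h10)).resolve_right hs
      rw [c01, zero_mul, add_zero] at h00
      rw [c10, zero_mul, zero_add] at h11
      have hdiag : U 1 1 = U 0 0 := by
        have : (U 1 1 - U 0 0) * (U 0 0 + U 1 1) = 0 := by linear_combination h11 - h00
        exact sub_eq_zero.mp ((mul_eq_zero.mp this).resolve_right hs)
      refine hne (Units.ext ?_)
      rw [Units.val_mul, Units.val_mul, ← hU]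
      ext r c
      fin_cases r <;> fin_cases c <;> simp [Matrix.mul_apply, Fin.sum_univ_two, c01, c10, hdiag] <;> ring
    have hd : U.det = 1 := by rw [Matrix.det_fin_two, htr]; linear_combination -h00
    refine ⟨⟨U, hd⟩, Units.ext rfl, (sq_iff _).mpr htr⟩
  obtain ⟨g, hg, hg2⟩ := lift u₀ v₀ e1 hne
  obtain ⟨h, hh, hh2⟩ := lift v₀ u₀ e2 (Ne.symm hne)
  have hinj : Function.Injective (Matrix.SpecialLinearGroup.toGL (n := Fin 2) (R := F)) := fun a b e =>
    Subtype.ext (congrArg Units.val e)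
  have hm1 : Matrix.SpecialLinearGroup.toGL (-1 : SL(2, F)) = f z₀ := Units.ext (by rw [hz]; ext i j; simp [val_neg])
  refine ⟨g, h, ⟨hg2, hh2, hinj ?_⟩, fun w => ⟨fun hw => ?_, fun hw => ?_⟩, fun x hx => ?_⟩
  · rw [map_mul, hg, hh, ← map_mul, e4, map_mul, map_mul, ← hm1, ← hg, ← hh, ← map_mul, ← map_mul, neg_one_mul]
  · obtain ⟨y, hy⟩ := hRf _ hw
    have hπ : π (-1 : SL(2, F)) = 1 := π_one_iff.mpr (Or.inr rfl)
    rcases hall y with e | e | e | e | e | e | e | e <;> subst e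
    · left; rw [hinj (hy.symm.trans (by rw [map_one, map_one]) : Matrix.SpecialLinearGroup.toGL w = Matrix.SpecialLinearGroup.toGL 1), map_one]
    · left; rw [hinj (hy.symm.trans hm1.symm), hπ]
    · right; left; rw [hinj (hy.symm.trans hg.symm)]
    · right; left; rw [hinj (hy.symm.trans (show _ = Matrix.SpecialLinearGroup.toGL (-1 * g) by rw [map_mul, map_mul, hm1, hg])),
        map_mul, hπ, one_mul]
    · right; right; left; rw [hinj (hy.symm.trans hh.symm)]
    · right; right; left; rw [hinj (hy.symm.trans (show _ = Matrix.SpecialLinearGroup.toGL (-1 * h) by rw [map_mul, map_mul, hm1, hh])),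
        map_mul, hπ, one_mul]
    · right; right; right; rw [hinj (hy.symm.trans (show _ = Matrix.SpecialLinearGroup.toGL (g * h) by rw [map_mul, map_mul, hg, hh])), map_mul]
    · right; right; right; rw [hinj (hy.symm.trans (show _ = Matrix.SpecialLinearGroup.toGL (-1 * (g * h)) by rw [map_mul, map_mul, map_mul, map_mul, hm1, hg, hh])),
        map_mul, hπ, one_mul, map_mul]
  · have hgen : ∀ v : SL(2, F), π w = π v → Matrix.SpecialLinearGroup.toGL v ∈ R → Matrix.SpecialLinearGroup.toGL w ∈ R := by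
      intro v hv hvR
      rcases π_eq_iff.mp hv with e | e
      · exact e ▸ hvR
      · rw [show w = -1 * v by rw [e, neg_one_mul, neg_neg], map_mul, hm1]
        exact mul_mem (hfR _) hvR
    rcases hw with e | e | e | e
    · exact hgen 1 (by rw [e, map_one]) (by rw [map_one]; exact one_mem R)
    · exact hgen g e (hg ▸ hfR _)
    · exact hgen h e (hh ▸ hfR _)
    · exact hgen (g * h) (by rw [e, map_mul]) (by rw [map_mul, hg, hh]; exact mul_mem (hfR _) (hfR _))
  · obtain ⟨y, rfl⟩ := hRf x hx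
    rcases hall y with e | e | e | e | e | e | e | e <;> subst e
    · exact ⟨1, by rw [map_one, map_one]⟩
    · exact ⟨-1, hm1⟩
    · exact ⟨g, hg⟩
    · exact ⟨-1 * g, by rw [map_mul, map_mul, hm1, hg]⟩
    · exact ⟨h, hh⟩
    · exact ⟨-1 * h, by rw [map_mul, map_mul, hm1, hh]⟩
    · exact ⟨g * h, by rw [map_mul, map_mul, hg, hh]⟩
    · exact ⟨-1 * (g * h), by rw [map_mul, map_mul, map_mul, map_mul, hm1, hg, hh]⟩

theorem pair_facts [Fintype F] (hodd : Odd (Fintype.card F)) {g h : SL(2, F)} (hp : IsPair g h) :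
    π g ≠ 1 ∧ π h ≠ 1 ∧ π g * π h ≠ 1 ∧ π g ≠ π h ∧ π g * π g = 1 ∧ π h * π h = 1 ∧ π g * π h = π h * π g := by
  have hn := neg_one_ne (F := F) hodd
  have one : ∀ v : SL(2, F), v * v = -1 → π v ≠ 1 := fun v hv e => by
    rcases π_one_iff.mp e with rfl | rfl
    · exact hn (by rw [← hv, one_mul])
    · exact hn (by rw [← hv]; simp)
  have sq : ∀ v : SL(2, F), v * v = -1 → π v * π v = 1 := fun v hv => by
    rw [← map_mul, hv]; exact π_one_iff.mpr (Or.inr rfl)
  refine ⟨one g hp.1, one h hp.2.1, ?_, fun e => ?_, sq g hp.1, sq h hp.2.1, ?_⟩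
  · rw [← map_mul]; exact one _ hp.next.2.1
  · refine one (g * h) hp.next.2.1 ?_
    rw [map_mul, ← e, sq g hp.1]
  · rw [← map_mul, ← map_mul]
    exact π_eq_iff.mpr (Or.inr (by rw [hp.2.2, neg_neg]))

/-- The normaliser. -/
theorem mem_normalizer [Fintype F] (hodd : Odd (Fintype.card F)) {R : Subgroup (GL (Fin 2) F)} {g h : SL(2, F)}
    (hp : IsPair g h) (hR : ∀ w : SL(2, F), Matrix.SpecialLinearGroup.toGL w ∈ R ↔
      (π w = 1 ∨ π w = π g ∨ π w = π h ∨ π w = π g * π h))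
    (hR' : ∀ x ∈ R, ∃ w : SL(2, F), Matrix.SpecialLinearGroup.toGL w = x) (s : SL(2, F)) :
    Matrix.SpecialLinearGroup.toGL s ∈ Cfsg.Geo.subgroupNormalizer R ↔ π s ∈ perm3 (π g) (π h) := by
  obtain ⟨f1, f2, f3, -, -, -, -⟩ := pair_facts hodd hp
  constructor
  · intro hs v hv
    obtain ⟨w, rfl⟩ := QuotientGroup.mk'_surjective (Subgroup.center SL(2, F)) v
    have hw := (Subgroup.mem_normalizer_iff.mp hs _).mp ((hR w).mpr (Or.inr hv))
    rw [← map_inv, ← map_mul, ← map_mul, hR, map_mul, map_mul, map_inv] at hw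
    refine hw.resolve_left fun e => ?_
    rw [conj_eq_one_iff] at e
    rcases hv with hv | hv | hv
    · exact f1 (hv.symm.trans e)
    · exact f2 (hv.symm.trans e)
    · exact f3 (hv.symm.trans e)
  · intro hs
    refine Subgroup.mem_normalizer_fintype fun x hx => ?_
    obtain ⟨w, rfl⟩ := hR' x hx
    rw [SetLike.mem_coe, ← map_inv, ← map_mul, ← map_mul, hR, map_mul, map_mul, map_inv]
    rcases (hR w).mp hx with e | e | e | e
    · left; rw [e, mul_one, mul_inv_cancel]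
    · exact Or.inr (hs _ (Or.inl e))
    · exact Or.inr (hs _ (Or.inr (Or.inl e)))
    · exact Or.inr (hs _ (Or.inr (Or.inr e)))

/-- Prime orders in the normaliser of a four-group. -/
theorem perm3_prime [Fintype F] (p : ℕ) [Fact p.Prime] [CharP F p] (hp : p ≠ 2) {g h : SL(2, F)}
    (hpair : IsPair g h) {y : PSL₂ F} (hy : y ∈ perm3 (π g) (π h)) {r : ℕ} (hr : r.Prime) (ho : orderOf y = r) :
    r = 2 ∨ r = 3 := by
  classical
  haveI : Finite (PSL₂ F) := Finite.of_surjective _ (QuotientGroup.mk'_surjective (Subgroup.center SL(2, F)))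
  let T : Finset (PSL₂ F) := {π g, π h, π g * π h}
  have hT : ∀ x ∈ perm3 (π g) (π h), ∀ v ∈ T, x * v * x⁻¹ ∈ T := by
    intro x hx v hv
    simp only [T, Finset.mem_insert, Finset.mem_singleton] at hv ⊢
    exact hx v hv
  let θ : perm3 (π g) (π h) →* Equiv.Perm T :=
    { toFun := fun x =>
        { toFun := fun v => ⟨x * v * (x : PSL₂ F)⁻¹, hT x x.2 v v.2⟩
          invFun := fun v => ⟨(x : PSL₂ F)⁻¹ * v * x, by simpa using hT _ (inv_mem x.2) v v.2⟩
          left_inv := fun v => Subtype.ext (by simp [mul_assoc])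
          right_inv := fun v => Subtype.ext (by simp [mul_assoc]) }
      map_one' := Equiv.ext fun v => Subtype.ext (by simp)
      map_mul' := fun a b => Equiv.ext fun v => Subtype.ext (by
        show ((a : PSL₂ F) * b) * v * ((a : PSL₂ F) * b)⁻¹ = _
        simp [mul_assoc]) }
  have h6 : (θ ⟨y, hy⟩) ^ 6 = 1 := by
    have hdvd : Nat.card (Equiv.Perm T) ∣ 6 := by
      rw [Nat.card_perm, Nat.card_eq_fintype_card, Fintype.card_coe,
        show (6 : ℕ) = Nat.factorial 3 from rfl]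
      exact Nat.factorial_dvd_factorial Finset.card_le_three
    obtain ⟨t, ht⟩ := hdvd
    rw [ht, pow_mul, pow_card_eq_one', one_pow]
  rw [← map_pow] at h6
  have hfix : ∀ v ∈ T, y ^ 6 * v = v * y ^ 6 := fun v hv => by
    have h : y ^ 6 * v * (y ^ 6)⁻¹ = v :=
      congrArg Subtype.val (congrArg (fun σ : Equiv.Perm T => σ ⟨v, hv⟩) h6)
    exact mul_inv_eq_iff_eq_mul.mp h
  have h12 := centralizer_sq p hp hpair (hfix _ (by simp [T])) (hfix _ (by simp [T]))
  rw [← pow_add, ← orderOf_dvd_iff_pow_eq_one, ho] at h12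
  rcases hr.dvd_mul.mp (show r ∣ 4 * 3 from h12) with h | h
  · exact Or.inl ((Nat.prime_dvd_prime_iff_eq hr Nat.prime_two).mp (hr.dvd_of_dvd_pow (show r ∣ 2 ^ 2 from h)))
  · exact Or.inr ((Nat.prime_dvd_prime_iff_eq hr Nat.prime_three).mp h)

set_option maxHeartbeats 1000000 in
/-- The elements of order three exist in the normaliser. -/
theorem exists_three [Fintype F] (p : ℕ) [Fact p.Prime] [CharP F p] (hp : p ≠ 2) {g h : SL(2, F)}
    (hpair : IsPair g h) :
    ∃ w : SL(2, F), π w ∈ perm3 (π g) (π h) ∧ π w ^ 3 = 1 ∧ π w ≠ 1 := by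
  haveI : Finite (PSL₂ F) := Finite.of_surjective _ (QuotientGroup.mk'_surjective (Subgroup.center SL(2, F)))
  obtain ⟨hodd, h2⟩ := odd_card (F := F) p hp
  obtain ⟨⟨n, hn0⟩, -, hn⟩ := FiniteField.card F p
  simp only [PNat.mk_coe] at hn
  obtain ⟨A, ⟨φ⟩⟩ := (PSLSolvable.iff_A4 p n hn).mpr (fun h => hp h.1)
  let ι : (PSL₂ F) →* PGL₂ F := Matrix.ProjectiveSpecialLinearGroup.toPGL
  have hι : Function.Injective ι := Matrix.ProjectiveSpecialLinearGroup.toPGL_injective
  let f : alternatingGroup (Fin 4) →* PGL₂ F := ι.comp (A.subtype.comp φ.symm.toMonoidHom)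
  have hf : Function.Injective f := hι.comp (Subtype.val_injective.comp φ.symm.injective)
  have hfL : ∀ σ, f σ ∈ PGLMax.Lg F := fun σ => ⟨_, rfl⟩
  obtain ⟨a1, a2, a3, a4, a5, a6⟩ := pa_facts
  obtain ⟨a, b, hab⟩ := exists_sum_sq hodd (-1 : F)
  obtain ⟨y₁, hy₁a, hy₁b⟩ := PGLMax.exists_framed p hp (f pa) (f pb) (hfL _) (hfL _)
    (by rw [← map_mul, a1, map_one]) (by rw [← map_mul, a2, map_one]) (by rw [← map_mul, a3, map_mul])
    (fun e => a4 (hf (e.trans (map_one f).symm))) (fun e => a5 (hf (e.trans (map_one f).symm)))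
    (fun e => a6 (hf e)) a b hab
  obtain ⟨f1, f2, -, f4, f5, f6, f7⟩ := pair_facts hodd hpair
  obtain ⟨y₂, hy₂a, hy₂b⟩ := PGLMax.exists_framed p hp (ι (π g)) (ι (π h)) ⟨_, rfl⟩ ⟨_, rfl⟩
    (by rw [← map_mul, f5, map_one]) (by rw [← map_mul, f6, map_one]) (by rw [← map_mul, f7, map_mul])
    (fun e => f1 (hι (e.trans (map_one ι).symm))) (fun e => f2 (hι (e.trans (map_one ι).symm)))
    (fun e => f4 (hι e)) a b hab
  obtain ⟨σ, hσ3, hσ1⟩ : ∃ σ : alternatingGroup (Fin 4), σ ^ 3 = 1 ∧ σ ≠ 1 := by decide +kernel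
  let d : PGL₂ F := y₂⁻¹ * y₁
  let f' : alternatingGroup (Fin 4) →* PGL₂ F := (MulAut.conj d).toMonoidHom.comp f
  have hmemL : f' σ ∈ PGLMax.Lg F := PGLMax.conj_mem d (hfL σ)
  obtain ⟨y, hy⟩ := hmemL
  change ι y = f' σ at hy
  obtain ⟨w, rfl⟩ := QuotientGroup.mk'_surjective (Subgroup.center SL(2, F)) y
  have hconj : f' pa = ι (π g) ∧ f' pb = ι (π h) := by
    constructor
    · show y₂⁻¹ * y₁ * f pa * (y₂⁻¹ * y₁)⁻¹ = _
      rw [show y₂⁻¹ * y₁ * f pa * (y₂⁻¹ * y₁)⁻¹ = y₂⁻¹ * (y₁ * f pa * y₁⁻¹) * y₂ by group, hy₁a, ← hy₂a]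
      group
    · show y₂⁻¹ * y₁ * f pb * (y₂⁻¹ * y₁)⁻¹ = _
      rw [show y₂⁻¹ * y₁ * f pb * (y₂⁻¹ * y₁)⁻¹ = y₂⁻¹ * (y₁ * f pb * y₁⁻¹) * y₂ by group, hy₁b, ← hy₂b]
      group
  have hmem := image_perm3 f' pa pb σ (alt_perm3 σ)
  rw [hconj.1, hconj.2] at hmem
  refine ⟨w, fun v hv => ?_, hι ?_, fun e => hσ1 ?_⟩
  · have h1 : ι (π w) * ι v * (ι (π w))⁻¹ = ι (π g) ∨ ι (π w) * ι v * (ι (π w))⁻¹ = ι (π h) ∨
        ι (π w) * ι v * (ι (π w))⁻¹ = ι (π g) * ι (π h) := by
      rw [hy]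
      refine hmem (ι v) ?_
      rcases hv with rfl | rfl | rfl
      · exact Or.inl rfl
      · exact Or.inr (Or.inl rfl)
      · exact Or.inr (Or.inr (map_mul ι _ _))
    rw [← map_inv, ← map_mul, ← map_mul, ← map_mul] at h1
    exact h1.imp (fun e => hι e) (Or.imp (fun e => hι e) (fun e => hι e))
  · rw [map_pow, map_one, hy, ← map_pow, hσ3, map_one]
  · have h1 : f' σ = 1 := hy.symm.trans (by rw [show (QuotientGroup.mk' _ w : PSL₂ F) = 1 from e, map_one])
    exact hf ((MulEquiv.map_eq_one_iff (MulAut.conj d)).mp h1 |>.trans (map_one f).symm)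

theorem π_pow {r : ℕ} (s : SL(2, F)) : (∃ z : F, s.1 ^ r = z • (1 : Matrix (Fin 2) (Fin 2) F)) ↔ π s ^ r = 1 := by
  rw [← map_pow, π_one_iff]
  constructor
  · rintro ⟨z, hz⟩
    rw [← Matrix.SpecialLinearGroup.coe_pow] at hz
    have hd := det_eq_one (s ^ r)
    rw [hz] at hd
    simp at hd
    rcases mul_self_eq_one_iff.mp hd with e | e <;> subst e
    · exact Or.inl (Subtype.ext (by rw [hz]; simp))
    · exact Or.inr (Subtype.ext (by rw [hz]; ext i j; simp [val_neg]))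
  · rintro (e | e)
    · exact ⟨1, by rw [← Matrix.SpecialLinearGroup.coe_pow, e]; simp⟩
    · exact ⟨-1, by rw [← Matrix.SpecialLinearGroup.coe_pow, e]; ext i j; simp [val_neg]⟩

theorem π_ne_one {s : SL(2, F)} : (∀ z : F, s.1 ≠ z • (1 : Matrix (Fin 2) (Fin 2) F)) → π s ≠ 1 := by
  intro h e
  rcases π_one_iff.mp e with rfl | rfl
  · exact h 1 (by simp)
  · exact h (-1) (by ext i j; simp [val_neg])

theorem nonscalar_of {s : SL(2, F)} (h : π s ≠ 1) (z : F) : s.1 ≠ z • (1 : Matrix (Fin 2) (Fin 2) F) := fun e => by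
  refine h ?_
  have := (π_pow (r := 1) s).mp ⟨z, by rw [pow_one, e]⟩
  rwa [pow_one] at this

/-- Elusive primes. -/
theorem iff_two_three [Fintype F] (p : ℕ) [Fact p.Prime] [CharP F p] (hF : Fintype.card F = p) (hp : 5 ≤ p)
    (R : Subgroup (GL (Fin 2) F)) (hR : Nonempty (R ≃* QuaternionGroup 2)) (r : ℕ) [Fact r.Prime]
    (hΩ : r ∣ (Cfsg.Geo.subgroupNormalizer R).relIndex (Cfsg.Geo.specialLinear (Fin 2) F)) :
    (∀ x ∈ Cfsg.Geo.specialLinear (Fin 2) F,
      (∃ z : F, ((x ^ r : GL (Fin 2) F) : Matrix (Fin 2) (Fin 2) F) = z • (1 : Matrix (Fin 2) (Fin 2) F)) →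
      (∀ z : F, (x : Matrix (Fin 2) (Fin 2) F) ≠ z • (1 : Matrix (Fin 2) (Fin 2) F)) →
      ∃ g ∈ Cfsg.Geo.specialLinear (Fin 2) F, g⁻¹ * x * g ∈ Cfsg.Geo.subgroupNormalizer R) ↔ (r = 2 ∨ r = 3) := by
  have hp2 : p ≠ 2 := by omega
  obtain ⟨hodd, h2⟩ := odd_card (F := F) p hp2
  haveI : Finite (PSL₂ F) := Finite.of_surjective _ (QuotientGroup.mk'_surjective (Subgroup.center SL(2, F)))
  obtain ⟨g, h, hpair, hmemR, hR'⟩ := exists_pair hodd R hR
  have hrp : r.Prime := Fact.out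
  have hsl : ∀ x : GL (Fin 2) F, x ∈ Cfsg.Geo.specialLinear (Fin 2) F ↔
      ∃ s : SL(2, F), Matrix.SpecialLinearGroup.toGL s = x := by
    intro x
    constructor
    · intro hx
      exact ⟨⟨(x : Matrix (Fin 2) (Fin 2) F), by simpa using congrArg Units.val (MonoidHom.mem_ker.mp hx)⟩, Units.ext rfl⟩
    · rintro ⟨s, rfl⟩
      exact MonoidHom.mem_ker.mpr (Units.ext (by simp))
  have hcrit : ∀ s : SL(2, F),
      (∃ c ∈ Cfsg.Geo.specialLinear (Fin 2) F, c⁻¹ * Matrix.SpecialLinearGroup.toGL s * c ∈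
        Cfsg.Geo.subgroupNormalizer R) ↔ ∃ x : SL(2, F), π (x⁻¹ * s * x) ∈ perm3 (π g) (π h) := by
    intro s
    constructor
    · rintro ⟨c, hc, hm⟩
      obtain ⟨x, rfl⟩ := (hsl c).mp hc
      rw [← map_inv, ← map_mul, ← map_mul] at hm
      exact ⟨x, (mem_normalizer hodd hpair hmemR hR' _).mp hm⟩
    · rintro ⟨x, hx⟩
      refine ⟨_, (hsl _).mpr ⟨x, rfl⟩, ?_⟩
      rw [← map_inv, ← map_mul, ← map_mul]
      exact (mem_normalizer hodd hpair hmemR hR' _).mpr hx
  constructor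
  · intro hall
    have hdvd : r ∣ Nat.card (PSL₂ F) * 2 := by
      have h1 := hΩ.trans (Subgroup.relIndex_dvd_card _ _)
      have e : Nat.card (Cfsg.Geo.specialLinear (Fin 2) F) = Nat.card (SL(2, F)) := by
        refine (Nat.card_eq_of_bijective (fun s : SL(2, F) => (⟨_, (hsl _).mpr ⟨s, rfl⟩⟩ : Cfsg.Geo.specialLinear (Fin 2) F))
          ⟨fun a b e => Subtype.ext (congrArg Units.val (congrArg Subtype.val e)), fun x => ?_⟩).symm
        obtain ⟨s, hs⟩ := (hsl x.1).mp x.2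
        exact ⟨s, Subtype.ext hs⟩
      rw [e, SLTwoTori.card_SL2, hF] at h1
      rw [PGLMax.two_card hodd, PSLBounds.card_pgl_two, hF]
      exact h1
    rcases hrp.dvd_mul.mp hdvd with h | h
    · obtain ⟨y, hy⟩ := exists_prime_orderOf_dvd_card' r h
      obtain ⟨s, rfl⟩ := QuotientGroup.mk'_surjective (Subgroup.center SL(2, F)) y
      change orderOf (π s) = r at hy
      obtain ⟨c, hc, hm⟩ := hall (Matrix.SpecialLinearGroup.toGL s) ((hsl _).mpr ⟨s, rfl⟩)
        ((π_pow s).mpr (hy ▸ pow_orderOf_eq_one _))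
        (nonscalar_of fun e => by rw [e, orderOf_one] at hy; exact hrp.one_lt.ne hy)
      obtain ⟨x, hx⟩ := (hcrit s).mp ⟨c, hc, hm⟩
      refine perm3_prime p hp2 hpair hx hrp ?_
      rw [map_mul, map_mul, map_inv]
      exact (MulEquiv.orderOf_eq (MulAut.conj (π x)⁻¹) (π s) ▸ hy : orderOf ((MulAut.conj (π x)⁻¹) (π s)) = r) |>
        fun e => by simpa using e
    · exact Or.inl ((Nat.prime_dvd_prime_iff_eq hrp Nat.prime_two).mp h)
  · intro hr x hx hpow hns
    obtain ⟨s, rfl⟩ := (hsl x).mp hx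
    refine (hcrit s).mpr ?_
    have hpow' : ∃ z : F, s.1 ^ r = z • (1 : Matrix (Fin 2) (Fin 2) F) := hpow
    obtain ⟨f1, -, -, -, f5, f6, f7⟩ := pair_facts hodd hpair
    have hgmem : π g ∈ perm3 (π g) (π h) := by
      intro v hv
      have hc : π g * v = v * π g := by
        rcases hv with rfl | rfl | rfl
        · rfl
        · exact f7
        · rw [mul_assoc, f7]
      rw [hc, mul_inv_cancel_right]; exact hv
    have h4 : (4 : F) ≠ 0 := by rw [show (4 : F) = 2 * 2 by norm_num]; exact mul_ne_zero h2 h2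
    have finish : ∀ w : SL(2, F), π w ∈ perm3 (π g) (π h) → w.1.trace = s.1.trace → s.1.trace ^ 2 ≠ 4 →
        ∃ x : SL(2, F), π (x⁻¹ * s * x) ∈ perm3 (π g) (π h) := by
      intro w hw htr ht
      obtain ⟨x, hx⟩ := conj_of_trace hodd ht s w rfl htr
      exact ⟨x⁻¹, by rw [inv_inv, hx]; exact hw⟩
    rcases trace_of_pow hr hns hpow' with ⟨-, ht⟩ | ⟨-, ht⟩
    · exact finish g hgmem (by rw [ht, Matrix.trace_fin_two, (sq_iff g).mp hpair.1, add_neg_cancel])
        (by rw [ht, zero_pow two_ne_zero]; exact Ne.symm h4)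
    · obtain ⟨w, hw, hw3, hw1⟩ := exists_three p hp2 hpair
      have hns' := nonscalar_of hw1
      have h3F : (3 : F) ≠ 0 := by
        rw [show (3 : F) = ((3 : ℕ) : F) by norm_num, Ne, CharP.cast_eq_zero_iff F p]
        intro h
        have := Nat.le_of_dvd (by norm_num) h
        omega
      have ht4 : s.1.trace ^ 2 ≠ 4 := by rw [ht]; intro e; exact h3F (by linear_combination -e)
      rcases trace_of_pow (Or.inr rfl) hns' ((π_pow w).mpr hw3) with ⟨e, -⟩ | ⟨-, hw'⟩
      · omega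
      have : (w.1.trace - s.1.trace) * (w.1.trace + s.1.trace) = 0 := by linear_combination hw' - ht
      rcases mul_eq_zero.mp this with e | e
      · exact finish w hw (sub_eq_zero.mp e) ht4
      · refine finish (-w) ?_ ?_ ht4
        · rwa [show π (-w) = π w from π_eq_iff.mpr (Or.inr (neg_neg w).symm)]
        · rw [show (-w).1 = -w.1 by ext i j; simp [val_neg], Matrix.trace_neg]; linear_combination -e

end Cfsg.Lib.Classical.QuatElusive
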