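import Cfsg.Agent.Classical.PSLTwoDihedral
import Cfsg.Agent.Classical.Misc.SLTwoTori
import Cfsg.Agent.Transfer.Basic

/-! Redundant Sylow subgroups of `SL₂(q)` and `PSL₂(q)`. -/

set_option autoImplicit false
set_option linter.style.haveILetI false
set_option linter.unusedSectionVars false

namespace Cfsg.Lib.RedundantSylow

open Subgroup

section Generic

variable {G H : Type*} [Group G] [Finite G] [Group H] [Finite H] {p : ℕ} [hp : Fact p.Prime]

/-- Some Sylow subgroup is covered by the others on elements of `p`-power order. -/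
def Red (p : ℕ) (G : Type*) [Group G] : Prop :=
  ∃ Q : Sylow p G, ∀ x : G, (∃ k : ℕ, orderOf x = p ^ k) → ∃ P : Sylow p G, P ≠ Q ∧ x ∈ P

theorem not_red_of_unique (Q₀ : Sylow p G) {x₀ : G} (hx : x₀ ∈ (Q₀ : Subgroup G))
    (huniq : ∀ P : Sylow p G, x₀ ∈ (P : Subgroup G) → P = Q₀) : ¬ Red p G := by
  rintro ⟨Q, hQ⟩
  obtain ⟨g, rfl⟩ := MulAction.exists_smul_eq G Q₀ Q
  have hxg : g * x₀ * g⁻¹ ∈ ((g • Q₀ : Sylow p G) : Subgroup G) := by
    rw [Cfsg.Lib.Transfer.sylow_smul_coe]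
    exact ⟨x₀, hx, rfl⟩
  obtain ⟨i, hi⟩ := IsPGroup.iff_orderOf.1 (g • Q₀ : Sylow p G).2 ⟨_, hxg⟩
  rw [Subgroup.orderOf_mk] at hi
  obtain ⟨P, hPne, hPx⟩ := hQ _ ⟨i, hi⟩
  refine hPne ?_
  have h1 : x₀ ∈ ((g⁻¹ • P : Sylow p G) : Subgroup G) := by
    rw [Cfsg.Lib.Transfer.sylow_smul_coe]
    exact ⟨_, hPx, by simp [mul_assoc]⟩
  rw [← huniq _ h1, smul_inv_smul]

theorem not_red_of_isCyclic (Q₀ : Sylow p G) [IsCyclic (Q₀ : Subgroup G)] : ¬ Red p G := by
  obtain ⟨x, hx⟩ := (Subgroup.isCyclic_iff_exists_zpowers_eq_top (Q₀ : Subgroup G)).1 inferInstance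
  refine not_red_of_unique Q₀ (hx ▸ mem_zpowers x) fun P hP => Sylow.ext ?_
  refine (eq_of_le_of_card_ge (hx.symm.le.trans (zpowers_le.2 hP)) ?_).symm
  rw [Sylow.card_eq_multiplicity P, Sylow.card_eq_multiplicity Q₀]

theorem mem_sylow_of_normalizing (P : Sylow p G) {x : G} (hx : ∃ k, orderOf x = p ^ k)
    (hN : x ∈ normalizer ((P : Subgroup G) : Set G)) : x ∈ (P : Subgroup G) := by
  obtain ⟨k, hk⟩ := hx
  have h1 : IsPGroup p ↥((P : Subgroup G) ⊔ zpowers x) :=
    P.2.to_sup_of_normal_left' (IsPGroup.of_card ((Nat.card_zpowers x).trans hk)) (zpowers_le.2 hN)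
  rw [← P.3 h1 le_sup_left]
  exact mem_sup_right (mem_zpowers x)

/-- Redundancy is insensitive to central kernels. -/
theorem red_iff_of_central (f : G →* H) (hf : Function.Surjective f) (hk : f.ker ≤ center G) :
    Red p G ↔ Red p H := by
  have hpel : ∀ {L : Type _} [Group L] [Finite L] (P : Sylow p L) (x : L), x ∈ (P : Subgroup L) →
      ∃ k, orderOf x = p ^ k := fun P x hx => by
    obtain ⟨k, hk⟩ := IsPGroup.iff_orderOf.1 P.2 ⟨x, hx⟩
    exact ⟨k, by rwa [Subgroup.orderOf_mk] at hk⟩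
  have hnorm : ∀ (P : Sylow p G), f.ker ≤ normalizer ((P : Subgroup G) : Set G) := fun P z hz =>
    (center_le_centralizer _).trans (centralizer_le_normalizer _) (hk hz)
  have key : ∀ (P : Sylow p G) (x : G), (∃ k, orderOf x = p ^ k) → f x ∈ (P : Subgroup G).map f →
      x ∈ (P : Subgroup G) := by
    intro P x hx hfx
    refine mem_sylow_of_normalizing P hx ?_
    obtain ⟨y, hy, hxy⟩ := hfx
    have h1 : x * y⁻¹ ∈ f.ker := by rw [MonoidHom.mem_ker, map_mul, map_inv, hxy, mul_inv_cancel]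
    have := mul_mem (hnorm P h1) (le_normalizer (H := (P : Subgroup G)) hy)
    rwa [inv_mul_cancel_right] at this
  have hcoe : ∀ P : Sylow p G, ((P.mapSurjective hf : Sylow p H) : Subgroup H) = (P : Subgroup G).map f :=
    fun P => Sylow.coe_mapSurjective hf P
  have hinj : ∀ P P' : Sylow p G, P.mapSurjective hf = P'.mapSurjective hf → P = P' := fun P P' he =>
    Sylow.ext ((P'.3 P.2 fun x hx => key P x (hpel P' x hx) (by
      rw [← hcoe, he, hcoe]; exact ⟨x, hx, rfl⟩)))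
  have hlift : ∀ y : H, (∃ k, orderOf y = p ^ k) → ∃ x : G, (∃ k, orderOf x = p ^ k) ∧ f x = y := by
    intro y hy
    obtain ⟨k, hk⟩ := hy
    obtain ⟨T, hT⟩ := (IsPGroup.of_card (p := p) ((Nat.card_zpowers y).trans hk)).exists_le_sylow
    obtain ⟨P, rfl⟩ := Sylow.mapSurjective_surjective hf p T
    have h1 := hT (mem_zpowers y)
    rw [hcoe] at h1
    obtain ⟨x, hx, hxy⟩ := h1
    exact ⟨x, hpel P x hx, hxy⟩
  constructor
  · rintro ⟨Q, hQ⟩
    refine ⟨Q.mapSurjective hf, fun y hy => ?_⟩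
    obtain ⟨x, hx, rfl⟩ := hlift y hy
    obtain ⟨P, hne, hP⟩ := hQ x hx
    refine ⟨P.mapSurjective hf, fun he => hne (hinj _ _ he), ?_⟩
    show f x ∈ ((P.mapSurjective hf : Sylow p H) : Subgroup H)
    rw [hcoe]
    exact ⟨x, hP, rfl⟩
  · rintro ⟨T, hT⟩
    obtain ⟨Q, rfl⟩ := Sylow.mapSurjective_surjective hf p T
    refine ⟨Q, fun x hx => ?_⟩
    obtain ⟨k, hk'⟩ := hx
    obtain ⟨i, -, hi⟩ := (Nat.dvd_prime_pow hp.out).1 (hk' ▸ orderOf_map_dvd f x)
    obtain ⟨T', hne, hT'⟩ := hT (f x) ⟨i, hi⟩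
    obtain ⟨P, rfl⟩ := Sylow.mapSurjective_surjective hf p T'
    refine ⟨P, fun he => hne (by rw [he]), key P x ⟨k, hk'⟩ ?_⟩
    rw [← hcoe]
    exact hT'

end Generic

section SL

open Matrix
open Cfsg.Lib.PSLTwoDihedral
open Cfsg.Lib.Known.AutPSL2 (sl_ext cmul)
open scoped MatrixGroups

variable {F : Type*} [Field F] [Fintype F]

theorem mat_ext {g g' : SL(2, F)} (h00 : g.1 0 0 = g'.1 0 0) (h01 : g.1 0 1 = g'.1 0 1)
    (h10 : g.1 1 0 = g'.1 1 0) (h11 : g.1 1 1 = g'.1 1 1) : g = g' := by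
  refine sl_ext ?_
  ext i j
  fin_cases i <;> fin_cases j <;> assumption

/-- The centraliser of a non-scalar torus element is the torus. -/
theorem mem_torus_of_commute {δ : F} {a u : SL(2, F)} (ha : a ∈ torus δ) (hb : a.1 1 0 ≠ 0)
    (hu : u * a = a * u) : u ∈ torus δ := by
  have h := congrArg (fun x : SL(2, F) => x.1) hu
  simp only [cmul] at h
  have e00 := congrFun (congrFun h 0) 0
  have e10 := congrFun (congrFun h 1) 0
  simp only [Matrix.mul_apply, Fin.sum_univ_two] at e00 e10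
  rw [ha.2] at e00
  rw [ha.1] at e10
  exact ⟨mul_right_cancel₀ hb (by linear_combination e10), mul_right_cancel₀ hb (by linear_combination e00)⟩

theorem torus_comm {δ : F} {a b : SL(2, F)} (ha : a ∈ torus δ) (hb : b ∈ torus δ) : a * b = b * a := by
  refine sl_ext ?_
  rw [cmul, cmul]
  ext i j
  fin_cases i <;> fin_cases j <;> simp [Matrix.mul_apply, Fin.sum_univ_two, ha.1, ha.2, hb.1, hb.2] <;> ring

/-- The odd case of the theorem. -/
theorem red_two_iff (hodd : Fintype.card F % 2 = 1) :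
    Red 2 SL(2, F) ↔ ((¬ ∃ k : ℕ, Fintype.card F + 1 = 2 ^ k) ∧ ¬ ∃ k : ℕ, Fintype.card F = 2 ^ k + 1) := by
  classical
  haveI : Fact (Nat.Prime 2) := ⟨Nat.prime_two⟩
  set q := Fintype.card F with hq
  have h1q : 1 < q := Fintype.one_lt_card
  obtain ⟨δ, hδ, N, hN, k', hk', hsplit, hN4, hpow⟩ : ∃ δ : F, δ ≠ 0 ∧ ∃ N, Nat.card (torus δ) = N ∧
      ∃ k', Odd k' ∧ q ^ 2 - 1 = N * (2 * k') ∧ 4 ∣ N ∧
        ((∃ j : ℕ, N = 2 ^ j) ↔ ((∃ k : ℕ, q + 1 = 2 ^ k) ∨ ∃ k : ℕ, q = 2 ^ k + 1)) := by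
    have hfac : q ^ 2 - 1 = (q - 1) * (q + 1) := by
      rw [mul_comm, show (q + 1) * (q - 1) = (q + 1) * (q - 1) from rfl, ← Nat.sq_sub_sq, one_pow]
    rcases Nat.lt_or_ge (q % 4) 2 with h4 | h4
    · refine ⟨1, one_ne_zero, _, card_torus_one hodd, (q + 1) / 2, ?_, ?_, ?_, ?_⟩
      · rw [Nat.odd_iff]; omega
      · rw [hfac]; congr 1; omega
      · omega
      · constructor
        · rintro ⟨j, hj⟩
          exact Or.inr ⟨j, by omega⟩
        · rintro (⟨k, hk⟩ | ⟨k, hk⟩)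
          · exfalso
            rcases k with _ | _ | k
            · simp at hk; omega
            · simp at hk; omega
            · rw [pow_succ, pow_succ] at hk; omega
          · exact ⟨k, by omega⟩
    · obtain ⟨δ, hδ⟩ := FiniteField.exists_nonsquare (F := F) fun h => by
        have := FiniteField.even_card_of_char_two h
        omega
      refine ⟨δ, fun h => hδ (h ▸ IsSquare.zero), _, card_torus_nonsquare hodd hδ, (q - 1) / 2, ?_, ?_, ?_, ?_⟩
      · rw [Nat.odd_iff]; omega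
      · rw [hfac, mul_comm]; congr 1; omega
      · omega
      · constructor
        · rintro ⟨j, hj⟩
          exact Or.inl ⟨j, hj⟩
        · rintro (⟨k, hk⟩ | ⟨k, hk⟩)
          · exact ⟨k, hk⟩
          · rcases k with _ | _ | k
            · simp at hk; omega
            · exact ⟨2, show q + 1 = 2 ^ 2 by simp at hk; omega⟩
            · exfalso
              rw [pow_succ, pow_succ] at hk; omega
  rw [← not_or, ← hpow]
  obtain ⟨m, k, hk, hNk⟩ := Nat.exists_eq_two_pow_mul_odd (n := N) (by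
    rintro rfl
    have : q ^ 2 ≤ 1 := by omega
    have : q * q ≤ 1 := by rwa [sq] at this
    nlinarith)
  have hm2 : 2 ≤ m := by
    rw [hNk] at hN4
    have h1 : Nat.Coprime (2 ^ 2) k := Nat.Coprime.pow_left _ (Nat.coprime_two_left.mpr hk)
    exact (Nat.pow_dvd_pow_iff_le_right one_lt_two).1 (h1.dvd_of_dvd_mul_right hN4)
  have hkN : (∃ j : ℕ, N = 2 ^ j) ↔ k = 1 := by
    constructor
    · rintro ⟨j, hj⟩
      have hd : k ∣ 2 ^ j := hj ▸ hNk ▸ dvd_mul_left k _
      exact Nat.eq_one_of_dvd_coprimes ((Nat.coprime_two_left.mpr hk).pow_left j).symm dvd_rfl hd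
    · rintro rfl
      exact ⟨m, by rw [hNk, mul_one]⟩
  rw [hkN]
  -- generators
  haveI := torus_cyclic hodd hδ
  obtain ⟨g, hg⟩ := IsCyclic.exists_ofOrder_eq_natCard (α := torus δ)
  set a : SL(2, F) := ((g ^ k : torus δ) : SL(2, F)) with ha
  have haT : a ∈ torus δ := (g ^ k : torus δ).2
  have haord : orderOf a = 2 ^ m := by
    rw [ha, Subgroup.orderOf_coe, orderOf_pow' _ (by rintro rfl; simp at hk), hg, hN, hNk,
      Nat.gcd_mul_left_left, Nat.mul_div_cancel]
    exact hk.pos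
  have hab : a.1 1 0 ≠ 0 := fun h0 => by
    have hn := torus_norm haT
    rw [h0] at hn
    have h1 : a * a = 1 := mat_ext
      (by simp [cmul, Matrix.mul_apply, Fin.sum_univ_two, h0, haT.1, haT.2]; linear_combination hn)
      (by simp [cmul, Matrix.mul_apply, Fin.sum_univ_two, h0, haT.1, haT.2])
      (by simp [cmul, Matrix.mul_apply, Fin.sum_univ_two, h0, haT.1, haT.2])
      (by simp [cmul, Matrix.mul_apply, Fin.sum_univ_two, h0, haT.1, haT.2]; linear_combination hn)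
    have h2 := Nat.le_of_dvd two_pos (haord ▸ orderOf_dvd_of_pow_eq_one (show a ^ 2 = 1 by rw [sq, h1]))
    have : 2 ^ 2 ≤ 2 ^ m := Nat.pow_le_pow_right two_pos hm2
    omega
  obtain ⟨x, y, hxy⟩ := exists_norm_eq hodd hδ (-1)
  let τ : SL(2, F) := ⟨!![x, -(δ * y); y, -x], by rw [det_fin_two_of]; linear_combination -hxy⟩
  have h2F := two_ne_zero' hodd
  have hττ : τ * τ = -1 := by
    refine sl_ext ?_
    rw [cmul, Matrix.SpecialLinearGroup.coe_neg, Matrix.SpecialLinearGroup.coe_one]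
    ext i j
    fin_cases i <;> fin_cases j <;> simp [τ, Matrix.mul_apply, Fin.sum_univ_two] <;>
      first
        | ring1
        | linear_combination hxy
  have hconj : ∀ M ∈ torus δ, τ * M = M⁻¹ * τ := by
    intro M hM
    refine sl_ext ?_
    rw [cmul, cmul, Cfsg.Lib.Known.AutPSL2.cinv, adjugate_fin_two]
    ext i j
    fin_cases i <;> fin_cases j <;>
      simp [τ, Matrix.mul_apply, Fin.sum_univ_two, hM.1, hM.2] <;> ring
  have hτT : τ ∉ torus δ := fun h => by
    obtain ⟨h1, h2⟩ := h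
    simp [τ] at h1 h2
    have hx0 : x = 0 := (mul_eq_zero.mp (show 2 * x = 0 by linear_combination -h1)).resolve_left h2F
    have hy0 : δ * y = 0 := (mul_eq_zero.mp (show 2 * (δ * y) = 0 by linear_combination -h2)).resolve_left h2F
    have hy1 := (mul_eq_zero.mp hy0).resolve_left hδ
    rw [hx0, hy1] at hxy
    simp at hxy
  have hn1T : (-1 : SL(2, F)) ∈ torus δ := by constructor <;> simp
  -- the Sylow subgroup
  set A := zpowers a with hA
  have hAT : A ≤ torus δ := zpowers_le.2 haT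
  have hm1 : (-1 : SL(2, F)) ∈ A := by
    have hb : a ^ 2 ^ (m - 1) ≠ 1 := fun e => by
      have h1 := Nat.le_of_dvd (pow_pos two_pos _) (haord ▸ orderOf_dvd_of_pow_eq_one e)
      exact absurd ((Nat.pow_le_pow_iff_right one_lt_two).1 h1) (by omega)
    have hb2 : a ^ 2 ^ (m - 1) * a ^ 2 ^ (m - 1) = 1 := by
      rw [← pow_add, ← two_mul, ← pow_succ', show m - 1 + 1 = m by omega, ← haord, pow_orderOf_eq_one]
    obtain ⟨p, hp⟩ := CharP.exists F
    haveI := Fact.mk (CharP.char_is_prime F p)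
    have hp2 : p ≠ 2 := by
      rintro rfl
      obtain ⟨e, -, he⟩ := FiniteField.card F 2
      have : 2 ∣ q := by rw [hq, he]; exact dvd_pow_self 2 e.pos.ne'
      omega
    rw [← Cfsg.Lib.Classical.SLTwoTori.eq_neg_one p hp2 hb hb2]
    exact pow_mem (mem_zpowers a) _
  have hτA : zpowers τ ≤ normalizer (A : Set SL(2, F)) := by
    refine zpowers_le.2 (mem_normalizer_iff_map_conj_eq.2 ?_)
    refine eq_of_le_of_card_ge ?_ (card_map_of_injective (MulEquiv.injective _)).ge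
    rintro _ ⟨z, hz, rfl⟩
    show τ * z * τ⁻¹ ∈ A
    rw [hconj z (hAT hz), mul_inv_cancel_right]
    exact inv_mem hz
  have hτord : Nat.card (zpowers τ) = 4 := by
    rw [Nat.card_zpowers, show 4 = 2 ^ (1 + 1) from rfl]
    refine orderOf_eq_prime_pow (fun e => ?_) ?_
    · rw [pow_one, sq, hττ] at e
      have := congrArg (fun z : SL(2, F) => z.1 0 0) e
      simp at this
      exact h2F (by linear_combination -this)
    · rw [show 2 ^ (1 + 1) = 2 + 2 from rfl, pow_add, sq, hττ]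
      simp
  set D := A ⊔ zpowers τ with hD
  have hDc : Nat.card D = 2 ^ (m + 1) := by
    have h1 := Cfsg.Lib.Coprime.card_sup_mul_card_inf (N := A) (H := zpowers τ) hτA
    have hinf : Nat.card ↥(A ⊓ zpowers τ) = 2 := by
      have hd : Nat.card ↥(A ⊓ zpowers τ) ∣ 2 ^ 2 := by
        have h0 := card_dvd_of_le (inf_le_right : A ⊓ zpowers τ ≤ zpowers τ)
        rwa [hτord] at h0
      obtain ⟨i, hi, hie⟩ := (Nat.dvd_prime_pow Nat.prime_two).1 hd
      rcases (show i = 0 ∨ i = 1 ∨ i = 2 by omega) with rfl | rfl | rfl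
      · exfalso
        rw [pow_zero] at hie
        have h2 : (-1 : SL(2, F)) ∈ A ⊓ zpowers τ := ⟨hm1, hττ ▸ mul_mem (mem_zpowers τ) (mem_zpowers τ)⟩
        rw [Subgroup.card_eq_one.1 hie, mem_bot] at h2
        have h3 := congrArg (fun z : SL(2, F) => z.1 0 0) h2
        simp at h3
        exact h2F (by linear_combination -h3)
      · exact hie
      · exfalso
        have h2 : A ⊓ zpowers τ = zpowers τ := eq_of_le_of_card_ge inf_le_right (by rw [hie, hτord]; norm_num)
        exact hτT (hAT ((inf_eq_right.1 h2) (mem_zpowers τ)))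
    rw [hinf, hτord, show Nat.card A = 2 ^ m by rw [hA, Nat.card_zpowers, haord], ← hD] at h1
    rw [pow_succ]
    omega
  have hindex : ¬ 2 ∣ D.index := by
    intro hd
    have h1 := D.card_mul_index
    rw [hDc, Cfsg.Lib.Known.AutPSL2.card_S, ← hq, hsplit, hNk,
      show q * (2 ^ m * k * (2 * k')) = 2 ^ (m + 1) * (q * k * k') by ring] at h1
    rw [Nat.eq_of_mul_eq_mul_left (pow_pos two_pos _) h1] at hd
    exact (Nat.not_even_iff_odd.mpr (((Nat.odd_iff.mpr hodd).mul hk).mul hk')) (even_iff_two_dvd.mpr hd)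
  set S : Sylow 2 SL(2, F) := (IsPGroup.of_card hDc).toSylow hindex with hSdef
  have hScoe : (S : Subgroup SL(2, F)) = D := rfl
  have haS : a ∈ (S : Subgroup SL(2, F)) := mem_sup_left (mem_zpowers a)
  have hτS : τ ∈ (S : Subgroup SL(2, F)) := mem_sup_right (mem_zpowers τ)
  constructor
  · intro hred hk1
    subst hk1
    refine not_red_of_unique S haS (fun P hP => Sylow.ext ?_) hred
    have hPc : Nat.card P = 2 ^ (m + 1) := by
      rw [Sylow.card_eq_multiplicity P, ← Sylow.card_eq_multiplicity S]; exact hDc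
    have hrel : (A.subgroupOf (P : Subgroup SL(2, F))).index = 2 := by
      have h1 := (A.subgroupOf (P : Subgroup SL(2, F))).card_mul_index
      rw [Nat.card_congr (subgroupOfEquivOfLe (zpowers_le.2 hP)).toEquiv, hA, Nat.card_zpowers, haord, hPc,
        pow_succ] at h1
      exact Nat.eq_of_mul_eq_mul_left (pow_pos two_pos _) h1
    have hAtop : A = torus δ := eq_of_le_of_card_ge hAT (by
      rw [hN, hNk, mul_one, hA, Nat.card_zpowers, haord])
    refine eq_of_le_of_card_ge (fun z hz => ?_) (by rw [hPc]; exact hDc.le)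
    haveI := normal_of_index_eq_two hrel
    have hzA : z * a * z⁻¹ ∈ A :=
      (inferInstance : (A.subgroupOf (P : Subgroup SL(2, F))).Normal).conj_mem ⟨a, hP⟩ (mem_zpowers a) ⟨z, hz⟩
    have hbT : z * a * z⁻¹ ∈ torus δ := hAT hzA
    set b := z * a * z⁻¹ with hb
    have htr : b.1.trace = a.1.trace := by
      rw [hb, cmul, Matrix.trace_mul_comm, ← cmul, ← mul_assoc, inv_mul_cancel, one_mul]
    rw [Matrix.trace_fin_two, Matrix.trace_fin_two, hbT.1, haT.1] at htr
    have h00 : b.1 0 0 = a.1 0 0 := mul_left_cancel₀ h2F (by linear_combination htr)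
    have h10 : (b.1 1 0 - a.1 1 0) * (b.1 1 0 + a.1 1 0) = 0 := by
      refine (mul_eq_zero.mp (show δ * _ = 0 from ?_)).resolve_left hδ
      linear_combination (b.1 0 0 + a.1 0 0) * h00 - torus_norm hbT + torus_norm haT
    rcases mul_eq_zero.mp h10 with h | h
    · have e : b = a := congrArg Subtype.val (torus_ext (M := ⟨b, hbT⟩) (N := ⟨a, haT⟩) h00 (sub_eq_zero.mp h))
      have hzT := mem_torus_of_commute haT hab (u := z) (by rw [← mul_inv_eq_iff_eq_mul, ← hb, e])
      exact mem_sup_left (hAtop ▸ hzT)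
    · have e : b = a⁻¹ := by
        refine congrArg Subtype.val (torus_ext (M := ⟨b, hbT⟩) (N := ⟨a⁻¹, inv_mem haT⟩) ?_ ?_)
        · show b.1 0 0 = (a⁻¹).1 0 0
          rw [Cfsg.Lib.Known.AutPSL2.cinv, adjugate_fin_two, h00]
          simp [haT.1]
        · show b.1 1 0 = (a⁻¹).1 1 0
          rw [Cfsg.Lib.Known.AutPSL2.cinv, adjugate_fin_two]
          simp
          linear_combination h
      have hτz : τ * z ∈ torus δ := by
        refine mem_torus_of_commute haT hab ?_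
        have h1 : z * a = a⁻¹ * z := by rw [← e, hb, inv_mul_cancel_right]
        rw [mul_assoc, h1, ← mul_assoc, hconj a⁻¹ (inv_mem haT), inv_inv, mul_assoc]
      rw [← hAtop] at hτz
      have h2 : τ * z ∈ D := mem_sup_left hτz
      exact (mul_mem_cancel_left hτS).1 h2
  · intro hk1
    refine ⟨S, fun w hw => ?_⟩
    by_cases hwS : w ∈ (S : Subgroup SL(2, F))
    swap
    · obtain ⟨i, hi⟩ := hw
      obtain ⟨P, hP⟩ := (IsPGroup.of_card (p := 2) ((Nat.card_zpowers w).trans hi)).exists_le_sylow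
      exact ⟨P, fun e => hwS (e ▸ hP (mem_zpowers w)), hP (mem_zpowers w)⟩
    -- a second Sylow subgroup through `a`
    set yT : torus δ := g ^ 2 ^ m with hyT
    set y : SL(2, F) := (yT : SL(2, F)) with hy
    have hyord : orderOf y = k := by
      rw [hy, Subgroup.orderOf_coe, hyT, orderOf_pow' _ (pow_ne_zero _ two_ne_zero), hg, hN, hNk,
        Nat.gcd_mul_right_left, Nat.mul_div_cancel_left _ (pow_pos two_pos m)]
    have hS' : y • S ≠ S := fun he => by
      have h1 : y * τ * y⁻¹ ∈ (S : Subgroup SL(2, F)) := by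
        rw [← he, Cfsg.Lib.Transfer.sylow_smul_coe]
        exact ⟨τ, hτS, rfl⟩
      have h2 : y * τ * y⁻¹ = y * y * τ := by
        rw [mul_assoc, hconj y⁻¹ (inv_mem yT.2) |> fun e => e, inv_inv, ← mul_assoc]
      rw [h2, mul_mem_cancel_right hτS] at h1
      obtain ⟨i, hi⟩ := IsPGroup.iff_orderOf.1 S.2 ⟨_, h1⟩
      rw [Subgroup.orderOf_mk, ← sq, orderOf_pow' _ two_ne_zero, hyord,
        Nat.Coprime.gcd_eq_one (Nat.coprime_two_right.mpr hk), Nat.div_one] at hi
      exact hk1 (Nat.eq_one_of_dvd_coprimes ((Nat.coprime_two_left.mpr hk).pow_left i).symm dvd_rfl hi.dvd)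
    have haS' : ∀ z ∈ A, z ∈ ((y • S : Sylow 2 SL(2, F)) : Subgroup SL(2, F)) := fun z hz => by
      rw [Cfsg.Lib.Transfer.sylow_smul_coe]
      refine ⟨z, mem_sup_left hz, ?_⟩
      show y * z * y⁻¹ = z
      rw [torus_comm yT.2 (hAT hz), mul_inv_cancel_right]
    by_cases hwA : w ∈ A
    · exact ⟨y • S, hS', haS' w hwA⟩
    -- `w` squares to `-1`, as does an element of `A`
    have hwsq : w * w = -1 := by
      rw [hScoe, hD, ← SetLike.mem_coe, coe_mul_of_right_le_normalizer_left _ _ hτA] at hwS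
      obtain ⟨u, hu, v, hv, rfl⟩ := hwS
      obtain ⟨i, rfl⟩ := mem_zpowers_iff.1 hv
      rcases Int.even_or_odd i with ⟨j, rfl⟩ | ⟨j, rfl⟩
      · refine absurd (mul_mem hu ?_) hwA
        rw [← two_mul, _root_.zpow_mul, zpow_two, hττ]
        exact zpow_mem hm1 j
      · have hcen : ∀ z : SL(2, F), (-1 : SL(2, F)) * z = z * -1 := fun z => by simp
        have hvv : τ ^ (2 * j + 1) = (-1) ^ j * τ := by rw [_root_.zpow_add, _root_.zpow_mul, zpow_two, hττ, zpow_one]
        set c := u * (-1 : SL(2, F)) ^ j with hc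
        have hcA : c ∈ A := mul_mem hu (zpow_mem hm1 j)
        show u * τ ^ (2 * j + 1) * (u * τ ^ (2 * j + 1)) = -1
        rw [hvv, ← mul_assoc u, ← hc, mul_assoc c τ, ← mul_assoc τ c, hconj c (hAT hcA), ← mul_assoc, ← mul_assoc,
          mul_inv_cancel, one_mul, hττ]
    obtain ⟨r, hr⟩ : ∃ r ∈ A, r * r = -1 := by
      refine ⟨a ^ 2 ^ (m - 2), pow_mem (mem_zpowers a) _, ?_⟩
      rw [← pow_add, ← two_mul, ← pow_succ', show m - 2 + 1 = m - 1 by omega]
      have hb : a ^ 2 ^ (m - 1) ≠ 1 := fun e => by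
        have h1 := Nat.le_of_dvd (pow_pos two_pos _) (haord ▸ orderOf_dvd_of_pow_eq_one e)
        exact absurd ((Nat.pow_le_pow_iff_right one_lt_two).1 h1) (by omega)
      obtain ⟨p, hp⟩ := CharP.exists F
      haveI := Fact.mk (CharP.char_is_prime F p)
      refine Cfsg.Lib.Classical.SLTwoTori.eq_neg_one p ?_ hb ?_
      · rintro rfl
        obtain ⟨e, -, he⟩ := FiniteField.card F 2
        have : 2 ∣ q := by rw [hq, he]; exact dvd_pow_self 2 e.pos.ne'
        omega
      · rw [← pow_add, ← two_mul, ← pow_succ', show m - 1 + 1 = m by omega, ← haord, pow_orderOf_eq_one]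
    have hneg : ∀ z : SL(2, F), z * z = -1 → (z.1 * z.1 : Matrix (Fin 2) (Fin 2) F) = -1 := fun z hz => by
      rw [← cmul, hz]; simp
    obtain ⟨x1, hx1⟩ := exists_conj_wS hodd (hneg w hwsq)
    obtain ⟨x2, hx2⟩ := exists_conj_wS hodd (hneg r hr.2)
    set z := x1 * x2⁻¹ with hz
    have hwr : w = z * r * z⁻¹ := by
      rw [hz, _root_.mul_inv_rev, inv_inv, eq_comm]
      calc x1 * x2⁻¹ * r * (x2 * x1⁻¹) = x1 * x2⁻¹ * (r * x2) * x1⁻¹ := by group
        _ = x1 * wS * x1⁻¹ := by rw [hx2]; group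
        _ = w := by rw [← hx1]; group
    have hmem : ∀ P : Sylow 2 SL(2, F), r ∈ (P : Subgroup SL(2, F)) →
        w ∈ ((z • P : Sylow 2 SL(2, F)) : Subgroup SL(2, F)) := fun P hP => by
      rw [Cfsg.Lib.Transfer.sylow_smul_coe, hwr]
      exact ⟨r, hP, rfl⟩
    by_cases he : z • S = S
    · exact ⟨z • y • S, fun e => hS' (MulAction.injective z (e.trans he.symm)), hmem _ (haS' r hr.1)⟩
    · exact ⟨z • S, he, hmem _ (mem_sup_left hr.1)⟩

/-- In the defining characteristic. -/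
theorem not_red_char (p : ℕ) [Fact p.Prime] [CharP F p] : ¬ Red p SL(2, F) := by
  classical
  obtain ⟨e, hpp, hcard⟩ := FiniteField.card F p
  let φ : Multiplicative F →* SL(2, F) :=
    { toFun := fun b => ⟨!![1, b.toAdd; 0, 1], by rw [det_fin_two_of]; ring⟩
      map_one' := mat_ext (by simp) (by simp) (by simp) (by simp)
      map_mul' := fun b c => sl_ext (by
        show (!![1, (b * c).toAdd; 0, 1] : Matrix (Fin 2) (Fin 2) F) = !![1, b.toAdd; 0, 1] * !![1, c.toAdd; 0, 1]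
        rw [Matrix.mul_fin_two]
        simp [add_comm]) }
  have hφe : ∀ b, (φ b).1 = !![1, b.toAdd; 0, 1] := fun b => rfl
  have hφ : Function.Injective φ := fun b c h => by
    have := congrArg (fun z : SL(2, F) => z.1 0 1) h
    simpa [hφe] using this
  have hUc : Nat.card φ.range = p ^ (e : ℕ) := by
    rw [← Nat.card_congr (MonoidHom.ofInjective hφ).toEquiv, Nat.card_congr Multiplicative.toAdd,
      Nat.card_eq_fintype_card, hcard]
  have hidx : ¬ p ∣ φ.range.index := by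
    have h := φ.range.card_mul_index
    rw [hUc, Cfsg.Lib.Known.AutPSL2.card_S, hcard] at h
    rw [Nat.eq_of_mul_eq_mul_left (pow_pos hpp.pos _) h]
    intro hd
    have h1 : p ∣ (p ^ (e : ℕ)) ^ 2 := dvd_pow (dvd_pow_self p e.ne_zero) two_ne_zero
    have h2 : 0 < (p ^ (e : ℕ)) ^ 2 := pow_pos (pow_pos hpp.pos _) _
    exact hpp.not_dvd_one (by
      have := Nat.dvd_sub h1 hd
      rwa [Nat.sub_sub_self h2] at this)
  set U : Sylow p SL(2, F) := (IsPGroup.of_card hUc).toSylow hidx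
  refine not_red_of_unique U (x₀ := φ (Multiplicative.ofAdd 1)) ⟨_, rfl⟩ fun P hP => Sylow.ext ?_
  have hPc : IsMulCommutative (P : Subgroup SL(2, F)) := by
    obtain ⟨g, rfl⟩ := MulAction.exists_smul_eq SL(2, F) U P
    refine ⟨⟨fun s t => Subtype.ext ?_⟩⟩
    obtain ⟨s, hs⟩ := s
    obtain ⟨t, ht⟩ := t
    rw [Cfsg.Lib.Transfer.sylow_smul_coe] at hs ht
    obtain ⟨_, ⟨b, rfl⟩, rfl⟩ := hs
    obtain ⟨_, ⟨c, rfl⟩, rfl⟩ := ht
    show (MulAut.conj g) (φ b) * (MulAut.conj g) (φ c) = (MulAut.conj g) (φ c) * (MulAut.conj g) (φ b)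
    rw [← map_mul, ← map_mul, ← map_mul, ← map_mul, mul_comm b c]
  refine eq_of_le_of_card_ge (fun z hz => ?_) (by rw [Sylow.card_eq_multiplicity P, Sylow.card_eq_multiplicity U])
  have hcomm : z * φ (Multiplicative.ofAdd 1) = φ (Multiplicative.ofAdd 1) * z :=
    congrArg Subtype.val (hPc.is_comm.comm ⟨z, hz⟩ ⟨_, hP⟩)
  have h := congrArg (fun w : SL(2, F) => w.1) hcomm
  simp only [cmul] at h
  have e00 := congrFun (congrFun h 0) 0
  have e01 := congrFun (congrFun h 0) 1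
  simp [hφe, Matrix.mul_apply, Fin.sum_univ_two] at e00 e01
  have h10 : z.1 1 0 = 0 := e00
  have h11 : z.1 1 1 = z.1 0 0 := by linear_combination -e01
  have hd := z.2
  rw [det_fin_two, h10, h11] at hd
  obtain ⟨i, hi⟩ := IsPGroup.iff_orderOf.1 P.2 ⟨z, hz⟩
  rw [Subgroup.orderOf_mk] at hi
  have hpow : ∀ n : ℕ, (z ^ n).1 0 0 = z.1 0 0 ^ n := by
    intro n
    induction n with
    | zero => simp
    | succ n ih => rw [pow_succ, cmul, Matrix.mul_apply, Fin.sum_univ_two, ih, h10, mul_zero, add_zero, pow_succ]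
  have h00 : z.1 0 0 ^ p ^ i = 1 := by
    rw [← hpow, ← hi, pow_orderOf_eq_one]
    simp
  haveI : ExpChar F p := ExpChar.prime Fact.out
  have hone : z.1 0 0 = 1 := by
    have h1 : (z.1 0 0 - 1) ^ p ^ i = 0 := by rw [sub_pow_char_pow, h00, one_pow, sub_self]
    exact sub_eq_zero.mp (eq_zero_of_pow_eq_zero h1)
  refine ⟨Multiplicative.ofAdd (z.1 0 1), mat_ext ?_ ?_ ?_ ?_⟩ <;> simp [hφe, h10, h11, hone]

theorem main_SL (p : ℕ) [hp : Fact p.Prime] :
    Red p SL(2, F) ↔ (p = 2 ∧ (¬ ∃ k : ℕ, Fintype.card F + 1 = 2 ^ k) ∧ (¬ ∃ k : ℕ, Fintype.card F = 2 ^ k) ∧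
      ¬ ∃ k : ℕ, Fintype.card F = 2 ^ k + 1) := by
  obtain ⟨c, hc⟩ := CharP.exists F
  haveI := Fact.mk (CharP.char_is_prime F c)
  obtain ⟨e, hcp, hcard⟩ := FiniteField.card F c
  by_cases hpc : p = c
  · subst hpc
    refine iff_of_false (not_red_char p) ?_
    rintro ⟨rfl, -, h, -⟩
    exact h ⟨e, hcard⟩
  by_cases hp2 : p = 2
  · subst hp2
    have hodd : Fintype.card F % 2 = 1 := by
      rw [hcard, ← Nat.odd_iff]
      exact (hcp.odd_of_ne_two (Ne.symm hpc)).pow
    rw [red_two_iff hodd]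
    refine ⟨fun h => ⟨rfl, h.1, fun ⟨k, hk⟩ => ?_, h.2⟩, fun h => ⟨h.2.1, h.2.2.2⟩⟩
    rcases k with _ | k
    · have h1 : 1 < Fintype.card F := Fintype.one_lt_card
      rw [hk] at h1
      simp at h1
    · rw [hk, pow_succ] at hodd
      omega
  refine iff_of_false ?_ (fun h => hp2 h.1)
  obtain ⟨Q⟩ : Nonempty (Sylow p SL(2, F)) := inferInstance
  haveI : IsCyclic (Q : Subgroup SL(2, F)) :=
    (Cfsg.Lib.Classical.SLTwoTori.unique_sub c hpc _ Q.2).resolve_right fun h => hp2 h.1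
  exact not_red_of_isCyclic Q

theorem main_PSL (p : ℕ) [hp : Fact p.Prime] :
    Red p (Matrix.ProjectiveSpecialLinearGroup (Fin 2) F) ↔
      (p = 2 ∧ (¬ ∃ k : ℕ, Fintype.card F + 1 = 2 ^ k) ∧ (¬ ∃ k : ℕ, Fintype.card F = 2 ^ k) ∧
      ¬ ∃ k : ℕ, Fintype.card F = 2 ^ k + 1) := by
  rw [← main_SL (F := F) p]
  exact (red_iff_of_central (QuotientGroup.mk' (center SL(2, F))) (QuotientGroup.mk'_surjective _)
    (QuotientGroup.ker_mk' _).le).symm

end SL

end Cfsg.Lib.RedundantSylow
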