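import Mathlib
import Cfsg.Prelude.Def_SteinbergCover

/-! Homomorphisms from Steinberg's group into matrix groups, checked by comparing coefficients. -/

set_option autoImplicit false
set_option linter.unusedSectionVars false

namespace Cfsg.Lib.Classical.RootWords

open Cfsg.Lie

variable {ι : Type} [Fintype ι] [DecidableEq ι] {k : Type} [CommRing k] [DecidableEq k]

/-- A matrix with polynomial entries in two variables, as a list of monomials:
`(a, b, i, j, c)` stands for `c t^a u^b` in place `(i, j)`. -/
abbrev PM (ι k : Type) := List (ℕ × ℕ × ι × ι × k)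

/-- Product. -/
def pmul (L M : PM ι k) : PM ι k :=
  L.flatMap fun x => M.filterMap fun y =>
    if x.2.2.2.1 = y.2.2.1 then some (x.1 + y.1, x.2.1 + y.2.1, x.2.2.1, y.2.2.2.1, x.2.2.2.2 * y.2.2.2.2)
    else none

/-- Transpose. -/
def ptr (L : PM ι k) : PM ι k := L.map fun x => (x.1, x.2.1, x.2.2.2.1, x.2.2.1, x.2.2.2.2)

/-- The identity, from a list of all indices. -/
def pone (univ : List ι) : PM ι k := univ.map fun i => (0, 0, i, i, 1)

/-- Adds one monomial to a normalised list. -/
def pins (x : ℕ × ℕ × ι × ι × k) : PM ι k → PM ι k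
  | [] => if x.2.2.2.2 = 0 then [] else [x]
  | y :: L =>
    if y.1 = x.1 ∧ y.2.1 = x.2.1 ∧ y.2.2.1 = x.2.2.1 ∧ y.2.2.2.1 = x.2.2.2.1 then
      if y.2.2.2.2 + x.2.2.2.2 = 0 then L else (y.1, y.2.1, y.2.2.1, y.2.2.2.1, y.2.2.2.2 + x.2.2.2.2) :: L
    else y :: pins x L

/-- Collects equal monomials and drops those with coefficient zero. -/
def pnorm (L : PM ι k) : PM ι k := L.foldr pins []

/-- Negation. -/
def pneg (L : PM ι k) : PM ι k := L.map fun x => (x.1, x.2.1, x.2.2.1, x.2.2.2.1, -x.2.2.2.2)

/-- The difference of two lists normalises to nothing. -/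
def okEq (L M : PM ι k) : Bool := (pnorm (L ++ pneg M)).isEmpty

variable {F : Type*} [CommRing F]

/-- One term. -/
def term (φ : k →+* F) (t u : F) (x : ℕ × ℕ × ι × ι × k) : Matrix ι ι F :=
  Matrix.single x.2.2.1 x.2.2.2.1 (φ x.2.2.2.2 * t ^ x.1 * u ^ x.2.1)

/-- The value. -/
def ev (φ : k →+* F) (t u : F) (L : PM ι k) : Matrix ι ι F := (L.map (term φ t u)).sum

theorem ev_nil (φ : k →+* F) (t u : F) : ev φ t u ([] : PM ι k) = 0 := rfl

theorem ev_cons (φ : k →+* F) (t u : F) (x : ℕ × ℕ × ι × ι × k) (L : PM ι k) :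
    ev φ t u (x :: L) = term φ t u x + ev φ t u L := by
  rw [ev, List.map_cons, List.sum_cons]; rfl

theorem ev_append (φ : k →+* F) (t u : F) (L M : PM ι k) : ev φ t u (L ++ M) = ev φ t u L + ev φ t u M := by
  rw [ev, List.map_append, List.sum_append]; rfl

theorem ev_pmul (φ : k →+* F) (t u : F) (L M : PM ι k) : ev φ t u (pmul L M) = ev φ t u L * ev φ t u M := by
  induction L with
  | nil => rw [ev_nil, zero_mul]; rfl
  | cons x L ih =>
    rw [pmul, List.flatMap_cons, ev_append, ev_cons, add_mul, ← ih]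
    refine congrArg₂ (· + ·) ?_ rfl
    clear ih
    induction M with
    | nil => rw [List.filterMap_nil, ev_nil, mul_zero]
    | cons y M ih2 =>
      rw [List.filterMap_cons, ev_cons, mul_add, ← ih2]
      by_cases h : x.2.2.2.1 = y.2.2.1
      · rw [if_pos h]
        simp only
        rw [ev_cons]
        congr 1
        simp only [term]
        rw [← h, Matrix.single_mul_single_same, map_mul, pow_add, pow_add]
        congr 1
        ring
      · rw [if_neg h]
        simp only [term]
        rw [Matrix.single_mul_single_of_ne (h := h), zero_add]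

theorem ev_ptr (φ : k →+* F) (t u : F) (L : PM ι k) : ev φ t u (ptr L) = (ev φ t u L).transpose := by
  induction L with
  | nil => rw [ev_nil, Matrix.transpose_zero]; rfl
  | cons x L ih =>
    rw [ptr, List.map_cons, ev_cons, ev_cons, Matrix.transpose_add, ← ih, term, term, Matrix.transpose_single]
    rfl

theorem ev_pone (φ : k →+* F) (t u : F) {univ : List ι} (hnd : univ.Nodup) (hmem : ∀ i, i ∈ univ) :
    ev φ t u (pone univ : PM ι k) = 1 := by
  rw [ev, pone, List.map_map, ← List.sum_toFinset _ hnd,
    show univ.toFinset = Finset.univ from Finset.eq_univ_iff_forall.mpr fun i => List.mem_toFinset.mpr (hmem i)]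
  ext i j
  rw [Matrix.sum_apply]
  simp [term, Matrix.single_apply, Matrix.one_apply, Finset.filter_eq', ite_and]

theorem ev_pins (φ : k →+* F) (t u : F) (x : ℕ × ℕ × ι × ι × k) (L : PM ι k) :
    ev φ t u (pins x L) = term φ t u x + ev φ t u L := by
  induction L with
  | nil =>
    rw [pins]
    split_ifs with h
    · simp [term, h, ev_nil]
    · rw [ev_cons]
  | cons y L ih =>
    rw [pins]
    split_ifs with h h0
    · have : term φ t u x + term φ t u y = 0 := by
        rw [term, term, h.1, h.2.1, h.2.2.1, h.2.2.2, ← Matrix.single_add, ← add_mul, ← add_mul, ← map_add,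
          add_comm, h0, map_zero, zero_mul, zero_mul, Matrix.single_zero]
      rw [ev_cons, ← add_assoc, this, zero_add]
    · rw [ev_cons, ev_cons, ← add_assoc]
      congr 1
      simp only [term]
      rw [h.1, h.2.1, h.2.2.1, h.2.2.2, ← Matrix.single_add, map_add, add_mul, add_mul, add_comm]
    · rw [ev_cons, ih, ev_cons, add_left_comm]

theorem ev_pnorm (φ : k →+* F) (t u : F) (L : PM ι k) : ev φ t u (pnorm L) = ev φ t u L := by
  induction L with
  | nil => rfl
  | cons x L ih => rw [pnorm, List.foldr_cons, ev_pins, ← pnorm, ih, ev_cons]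

theorem ev_pneg (φ : k →+* F) (t u : F) (L : PM ι k) : ev φ t u (pneg L) = -ev φ t u L := by
  induction L with
  | nil => rw [ev_nil, neg_zero]; rfl
  | cons x L ih =>
    rw [pneg, List.map_cons, ev_cons, ev_cons, ← pneg, ih, neg_add]
    congr 1
    simp only [term]
    simp [Matrix.single_neg]

theorem ev_eq_of_okEq (φ : k →+* F) (t u : F) {L M : PM ι k} (h : okEq L M = true) : ev φ t u L = ev φ t u M := by
  have e := ev_pnorm φ t u (L ++ pneg M)
  rw [List.isEmpty_iff.mp h, ev_nil, ev_append, ev_pneg, ← sub_eq_add_neg] at e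
  exact sub_eq_zero.mp e.symm

/-- Root elements: `E r` lists the monomials `(d, i, j, c)` of `x_r(z) - 1`. -/
abbrev Roots (ι k : Type) := ℕ → List (ℕ × ι × ι × k)

/-- The root element. -/
def gen (φ : k →+* F) (E : Roots ι k) (r : ℕ) (z : F) : Matrix ι ι F :=
  1 + ((E r).map fun e => Matrix.single e.2.1 e.2.2.1 (φ e.2.2.2 * z ^ e.1)).sum

/-- A root element with a monomial as parameter. -/
def pgen (univ : List ι) (E : Roots ι k) (r : ℕ) (c : k) (a b : ℕ) : PM ι k :=
  pone univ ++ (E r).map fun e => (a * e.1, b * e.1, e.2.1, e.2.2.1, e.2.2.2 * c ^ e.1)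

theorem ev_pgen (φ : k →+* F) (t u : F) {univ : List ι} (hnd : univ.Nodup) (hmem : ∀ i, i ∈ univ) (E : Roots ι k)
    (r : ℕ) (c : k) (a b : ℕ) : ev φ t u (pgen univ E r c a b) = gen φ E r (φ c * t ^ a * u ^ b) := by
  rw [pgen, ev_append, ev_pone φ t u hnd hmem, gen, ev, List.map_map]
  congr 1
  refine congrArg List.sum (List.map_congr_left fun e _ => ?_)
  simp only [Function.comp_apply, term, map_mul, map_pow, mul_pow, pow_mul]
  congr 1
  ring

/-- The product of a word in root elements with monomial parameters. -/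
def pword (univ : List ι) (E : Roots ι k) (w : List (ℕ × k × ℕ × ℕ)) : PM ι k :=
  w.foldr (fun e acc => pnorm (pmul (pgen univ E e.1 e.2.1 e.2.2.1 e.2.2.2) acc)) (pone univ)

theorem ev_pword (φ : k →+* F) (t u : F) {univ : List ι} (hnd : univ.Nodup) (hmem : ∀ i, i ∈ univ) (E : Roots ι k)
    (w : List (ℕ × k × ℕ × ℕ)) :
    ev φ t u (pword univ E w) = (w.map fun e => gen φ E e.1 (φ e.2.1 * t ^ e.2.2.1 * u ^ e.2.2.2)).prod := by
  induction w with
  | nil => exact ev_pone φ t u hnd hmem
  | cons e w ih =>
    rw [List.map_cons, List.prod_cons, ← ih, ← ev_pgen φ t u hnd hmem]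
    exact (ev_pnorm φ t u _).trans (ev_pmul φ t u _ _)

/-- A root element with parameter `t + u`. -/
def padd (univ : List ι) (E : Roots ι k) (r : ℕ) : PM ι k :=
  pone univ ++ (E r).flatMap fun e =>
    (List.range (e.1 + 1)).map fun l => (l, e.1 - l, e.2.1, e.2.2.1, e.2.2.2 * (e.1.choose l : k))

theorem ev_padd (φ : k →+* F) (t u : F) {univ : List ι} (hnd : univ.Nodup) (hmem : ∀ i, i ∈ univ) (E : Roots ι k)
    (r : ℕ) : ev φ t u (padd univ E r) = gen φ E r (t + u) := by
  rw [padd, ev_append, ev_pone φ t u hnd hmem, gen]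
  congr 1
  induction E r with
  | nil => rfl
  | cons e l ih =>
    rw [List.flatMap_cons, ev_append, List.map_cons, List.sum_cons, ih]
    congr 1
    rw [ev, List.map_map, ← List.sum_toFinset _ List.nodup_range, List.toFinset_range]
    ext i j
    rw [Matrix.sum_apply]
    simp only [Function.comp_apply, term, Matrix.single_apply, map_mul, map_natCast]
    split_ifs with h
    · rw [add_pow, Finset.mul_sum]
      exact Finset.sum_congr rfl fun l _ => by ring
    · exact Finset.sum_const_zero

/-- The commutator relations and additivity. -/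
def okRoots (D : ChevalleyDatum) (univ : List ι) (E : Roots ι k) : Bool :=
  ((List.range D.nroots).all fun r =>
    ((E r).all fun e => decide (0 < e.1)) &&
      okEq (pword univ E [(r, 1, 1, 0), (r, 1, 0, 1)]) (padd univ E r) &&
      ((List.range D.nroots).all fun s => decide (s = r ∨ s = D.neg r) ||
        (((D.commTerms r s).all fun c => decide (c.1 < D.nroots)) &&
          okEq (pword univ E [(s, -1, 0, 1), (r, -1, 1, 0), (s, 1, 0, 1), (r, 1, 1, 0)])
            (pword univ E ((D.commTerms r s).map fun c =>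
              (c.1, (c.2.1 : k) * (-1) ^ c.2.2.1, c.2.2.1, c.2.2.2))))))

theorem gen_zero (φ : k →+* F) {E : Roots ι k} {r : ℕ} (h : ∀ e ∈ E r, 0 < e.1) : gen φ E r 0 = 1 := by
  rw [gen, List.sum_eq_zero, add_zero]
  intro x hx
  obtain ⟨e, he, rfl⟩ := List.mem_map.mp hx
  rw [zero_pow (h e he).ne', mul_zero, Matrix.single_zero]

theorem okRoots_add (φ : k →+* F) {D : ChevalleyDatum} {univ : List ι} (hnd : univ.Nodup) (hmem : ∀ i, i ∈ univ)
    {E : Roots ι k} (h : okRoots D univ E = true) {r : ℕ} (hr : r < D.nroots) (t u : F) :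
    gen φ E r t * gen φ E r u = gen φ E r (t + u) ∧ ∀ e ∈ E r, 0 < e.1 := by
  simp only [okRoots, List.all_eq_true, Bool.and_eq_true, decide_eq_true_eq] at h
  obtain ⟨⟨h0, h1⟩, -⟩ := h r (List.mem_range.mpr hr)
  have e := ev_eq_of_okEq φ t u h1
  rw [ev_pword φ t u hnd hmem, ev_padd φ t u hnd hmem] at e
  simp only [List.map_cons, List.map_nil, List.prod_cons, List.prod_nil, mul_one, map_one, one_mul, pow_one,
    pow_zero] at e
  exact ⟨e, h0⟩

/-- Checked root elements in a group of matrices give a homomorphism on Steinberg's group. -/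
theorem exists_hom {K : Type*} [Field K] (φ : k →+* K) {D : ChevalleyDatum} {univ : List ι} (hnd : univ.Nodup)
    (hmem : ∀ i, i ∈ univ) {E : Roots ι k} (h : okRoots D univ E = true) {H : Type*} [Group H]
    (c : H →* Matrix ι ι K) (hc : Function.Injective c) (g : ℕ → K → H)
    (hg : ∀ r < D.nroots, ∀ z, c (g r z) = gen φ E r z) :
    ∃ ψ : D.SteinbergCover K →* H, ∀ r < D.nroots, ∀ z, ψ (D.scGen K r z) = g r z := by
  let f : Fin D.nroots × K → H := fun p => g p.1.val p.2
  have hx : ∀ r, r < D.nroots → ∀ z, FreeGroup.lift f (D.stX r z) = g r z := fun r hr z => by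
    rw [ChevalleyDatum.stX, dif_pos hr, FreeGroup.lift_apply_of]
  have hadd : ∀ r, r < D.nroots → ∀ t u, g r t * g r u = g r (t + u) := fun r hr t u => hc (by
    rw [map_mul, hg r hr, hg r hr, hg r hr]; exact (okRoots_add φ hnd hmem h hr t u).1)
  have hinv : ∀ r, r < D.nroots → ∀ t, (g r t)⁻¹ = g r (-t) := fun r hr t => by
    refine inv_eq_of_mul_eq_one_right (hc ?_)
    rw [hadd r hr, add_neg_cancel, hg r hr, map_one, gen_zero φ (okRoots_add φ hnd hmem h hr t t).2]
  have hrel : ∀ w ∈ D.steinbergRelsAB K, FreeGroup.lift f w = 1 := by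
    rintro w (⟨r, t, u, hr, rfl⟩ | ⟨r, s, t, u, hr, hs, h1, h2, rfl⟩)
    · rw [map_mul, map_mul, map_inv, hx r hr, hx r hr, hx r hr, hadd r hr, mul_inv_cancel]
    · simp only [okRoots, List.all_eq_true, Bool.and_eq_true, Bool.or_eq_true, decide_eq_true_eq] at h
      obtain ⟨hlt, hcomm⟩ := ((h r (List.mem_range.mpr hr)).2 s (List.mem_range.mpr hs)).resolve_left
        (by rintro (e | e) <;> contradiction)
      have e := ev_eq_of_okEq φ t u hcomm
      rw [ev_pword φ t u hnd hmem, ev_pword φ t u hnd hmem] at e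
      simp only [List.map_cons, List.map_nil, List.prod_cons, List.prod_nil, mul_one, map_one, map_neg, one_mul,
        pow_one, pow_zero, neg_mul] at e
      have key : c (FreeGroup.lift f (D.stWord (D.commWord K r s t u))) =
          c ((g s u)⁻¹ * (g r t)⁻¹ * g s u * g r t) := by
        rw [hinv s hs, hinv r hr, map_mul, map_mul, map_mul, hg s hs, hg r hr, hg s hs, hg r hr, mul_assoc, mul_assoc,
          e, ChevalleyDatum.stWord, map_list_prod, map_list_prod, List.map_map, List.map_map]
        refine congrArg List.prod ?_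
        rw [ChevalleyDatum.commWord, List.map_map, List.map_map]
        refine List.map_congr_left fun q hq => ?_
        simp only [Function.comp_apply]
        rw [hx _ (hlt q hq), hg _ (hlt q hq)]
        congr 1
        rw [map_mul, map_pow, map_neg, map_one, map_intCast, neg_pow t]
        ring
      rw [map_mul, map_mul, map_mul, map_mul, map_inv, map_inv, map_inv, hx r hr, hx s hs, hc key, mul_inv_cancel]
  exact ⟨PresentedGroup.toGroup hrel, fun r hr z => hx r hr z⟩

end Cfsg.Lib.Classical.RootWords
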