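import Mathlib
import Cfsg.Agent.Classical.Misc.QuaternionElusive
import Cfsg.Agent.Classical.Misc.PSLMaxClass

/-! Two transvections generating `SL₂(q)` (Dickson). -/

set_option autoImplicit false
set_option linter.unusedSimpArgs false
set_option linter.unusedSectionVars false
set_option linter.style.haveILetI false
set_option linter.flexible false
set_option maxRecDepth 20000

namespace Cfsg.Lib.Classical.SLTwoGen

open Matrix MulAction
open scoped MatrixGroups LinearAlgebra.Projectivization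
open Cfsg.Lib.Classical.PSLFour Cfsg.Lib.Classical.PSLFrame
open Cfsg.Lib.Classical.PSLEmbed (pslMap slMap pslMap_π slMap_apply)
open Cfsg.Lib.Classical.PSLGeom (pinf pfin)

universe u

local notation "PSL₂" k => Matrix.ProjectiveSpecialLinearGroup (Fin 2) k

section model

/-- `ℤ[i]` modulo three. -/
abbrev E := ZMod 3 × ZMod 3

/-- Four entries. -/
abbrev M4 := E × E × E × E

/-- Multiplication. -/
def em (x y : E) : E := (x.1 * y.1 - x.2 * y.2, x.1 * y.2 + x.2 * y.1)

/-- The product of two matrices. -/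
def mm (A B : M4) : M4 :=
  (em A.1 B.1 + em A.2.1 B.2.2.1, em A.1 B.2.1 + em A.2.1 B.2.2.2,
    em A.2.2.1 B.1 + em A.2.2.2 B.2.2.1, em A.2.2.1 B.2.1 + em A.2.2.2 B.2.2.2)

/-- Decoding. -/
def dec (n : ℕ) : M4 :=
  let e : ℕ → E := fun j => ((((n / 9 ^ j) % 9 / 3 : ℕ) : ZMod 3), ((n / 9 ^ j % 3 : ℕ) : ZMod 3))
  (e 0, e 1, e 2, e 3)

/-- The hundred and twenty matrices. -/
def codes : List ℕ := [2190, 2433, 2199, 2676, 3171, 2443, 2208, 4143, 3496, 3909, 2687, 3235, 2453, 3820, 3423, 3092, 643, 4316, 4181, 3555, 3919, 2695, 3191, 3983, 6070, 3020, 5315, 639, 6430, 3748, 5783, 3859, 3461, 3158, 4327, 4189, 3518, 3956, 374, 6471, 1651, 3343, 842, 5641, 950, 647, 6109, 1597, 5381, 716, 4014, 6010, 3053, 5282, 3754, 5776, 3862, 3442, 3107, 4356, 376, 5486, 6155, 1573, 6295, 926, 5252, 5472, 4876, 785, 6416, 6022, 4642, 1513, 5953, 5213, 711, 369, 1681, 3383, 812, 5604, 1540, 5370, 718, 4030, 3041, 5321, 3796, 5814, 5443, 4634, 1486, 5938, 5968, 445, 758, 6379,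 872, 731, 6090, 1621, 4398, 5416, 6362, 6263, 893, 4866, 1459, 5210, 3357, 5651, 4389, 6342, 449, 4623, 4886, 6273, 4380, 441]

/-- The first generator. -/
def gL : M4 := ((1, 0), (0, 0), (1, 0), (1, 0))

/-- The second generator. -/
def gU : M4 := ((1, 0), (0, 1), (0, 0), (1, 0))

theorem codes_length : codes.length = 120 := by decide +kernel

theorem codes_one : ((1, 0), (0, 0), (0, 0), (1, 0)) ∈ codes.map dec := by decide +kernel

theorem codes_closed : ∀ n ∈ codes, mm (dec n) gL ∈ codes.map dec ∧ mm (dec n) gU ∈ codes.map dec := by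
  decide +kernel

end model

variable {F : Type u} [Field F]

/-- The lower generator. -/
def gl1 : SL(2, F) := sl 1 0 1 1 (by ring)

/-- The upper generator. -/
def gu (l : F) : SL(2, F) := sl 1 l 0 1 (by ring)

/-- The subgroup generated. -/
def gen (l : F) : Subgroup SL(2, F) := Subgroup.closure {gl1, gu l}

theorem set_eq (l : F) : {g : SL(2, F) | (g : Matrix (Fin 2) (Fin 2) F) = !![1, 0; 1, 1] ∨
    (g : Matrix (Fin 2) (Fin 2) F) = !![1, l; 0, 1]} = {gl1, gu l} := by
  ext g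
  constructor
  · rintro (h | h)
    · left; refine ext_four ?_ ?_ ?_ ?_ <;> rw [h] <;> simp [gl1, sl00, sl01, sl10, sl11]
    · right; refine ext_four ?_ ?_ ?_ ?_ <;> rw [h] <;> simp [gu, sl00, sl01, sl10, sl11]
  · rintro (rfl | rfl)
    · left; ext r c; fin_cases r <;> fin_cases c <;> simp [gl1, sl00, sl01, sl10, sl11]
    · right; ext r c; fin_cases r <;> fin_cases c <;> simp [gu, sl00, sl01, sl10, sl11]

theorem mem_of_squares (h2 : (2 : F) ≠ 0) {H : Subgroup SL(2, F)} (h : ∀ g : SL(2, F), g * g ∈ H) : H = ⊤ := by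
  rw [eq_top_iff]
  intro s _
  have hU : ∀ x : F, sl 1 x 0 1 (by ring) ∈ H := fun x => by
    have e : sl 1 x 0 1 (by ring) = sl 1 (x / 2) 0 1 (by ring) * sl 1 (x / 2) 0 1 (by ring) := by
      refine ext_four ?_ ?_ ?_ ?_ <;> simp [val_mul, sl00, sl01, sl10, sl11] <;> field_simp <;> ring
    rw [e]; exact h _
  have hL : ∀ x : F, sl 1 0 x 1 (by ring) ∈ H := fun x => by
    have e : sl 1 0 x 1 (by ring) = sl 1 0 (x / 2) 1 (by ring) * sl 1 0 (x / 2) 1 (by ring) := by
      refine ext_four ?_ ?_ ?_ ?_ <;> simp [val_mul, sl00, sl01, sl10, sl11] <;> field_simp <;> ring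
    rw [e]; exact h _
  have hne : ∀ t : SL(2, F), t.1 1 0 ≠ 0 → t ∈ H := fun t hc => by
    have e : t = sl 1 ((t.1 0 0 - 1) / t.1 1 0) 0 1 (by ring) * sl 1 0 (t.1 1 0) 1 (by ring) *
        sl 1 ((t.1 1 1 - 1) / t.1 1 0) 0 1 (by ring) := by
      have hd := det_eq_one t
      refine ext_four ?_ ?_ ?_ ?_ <;> simp [val_mul, sl00, sl01, sl10, sl11] <;> field_simp <;>
        first | ring1 | linear_combination hd | linear_combination -hd
    rw [e]
    exact mul_mem (mul_mem (hU _) (hL _)) (hU _)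
  by_cases hc : s.1 1 0 = 0
  · have hd := det_eq_one s
    rw [hc, mul_zero, sub_zero] at hd
    have h11 : s.1 1 1 ≠ 0 := right_ne_zero_of_mul_eq_one hd
    have := hne (s * sl 1 0 1 1 (by ring)) (by rw [val_mul]; simp [hc, sl10, sl00, h11])
    exact (Subgroup.mul_mem_cancel_right H (hL 1)).mp this
  · exact hne s hc

theorem top_of_image (h2 : (2 : F) ≠ 0) {H : Subgroup SL(2, F)} (h : H.map π = ⊤) : H = ⊤ := by
  refine mem_of_squares h2 fun g => ?_
  obtain ⟨w, hw, e⟩ : π g ∈ H.map π := h ▸ Subgroup.mem_top _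
  rcases π_eq_iff.mp e with e | e
  · rw [e]; exact mul_mem hw hw
  · rw [e, neg_mul_neg]; exact mul_mem hw hw

section nine

variable [Fintype F]

/-- Representing in the model. -/
def rep (l : F) (x : E) : F := ((x.1.val : ℕ) : F) + ((x.2.val : ℕ) : F) * l

theorem card_gen_le [CharP F 3] (l : F) (hl : l ^ 2 = -1) : Nat.card (gen l) ≤ 120 := by
  let ψ : ZMod 3 →+* F := ZMod.castHom dvd_rfl F
  let R : E → F := fun x => ψ x.1 + ψ x.2 * l
  have hadd : ∀ x y, R (x + y) = R x + R y := fun x y => by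
    simp only [R, Prod.fst_add, Prod.snd_add, map_add]; ring
  have hmul : ∀ x y, R (em x y) = R x * R y := fun x y => by
    simp only [R, em, map_add, map_sub, map_mul]
    linear_combination -(ψ x.2 * ψ y.2) * hl
  let P : SL(2, F) → Prop := fun s => ∃ m ∈ codes.map dec,
    s.1 0 0 = R m.1 ∧ s.1 0 1 = R m.2.1 ∧ s.1 1 0 = R m.2.2.1 ∧ s.1 1 1 = R m.2.2.2
  have hstep : ∀ (s g : SL(2, F)) (n : M4), (n = gL ∨ n = gU) → g.1 0 0 = R n.1 → g.1 0 1 = R n.2.1 →
      g.1 1 0 = R n.2.2.1 → g.1 1 1 = R n.2.2.2 → P s → P (s * g) := by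
    rintro s g n hn a b c d ⟨m, hm, e1, e2, e3, e4⟩
    obtain ⟨i, hi, rfl⟩ := List.mem_map.mp hm
    refine ⟨mm (dec i) n, ?_, ?_⟩
    · rcases hn with rfl | rfl
      · exact (codes_closed i hi).1
      · exact (codes_closed i hi).2
    · simp only [val_mul, mm, hadd, hmul, a, b, c, d, e1, e2, e3, e4, and_self]
  have hall : ∀ s ∈ gen l, P s := by
    intro s hs
    rw [gen, ← Subgroup.mem_toSubmonoid, Subgroup.closure_toSubmonoid_of_finite] at hs
    induction hs using Submonoid.closure_induction_right with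
    | one => exact ⟨_, codes_one, by simp [R], by simp [R], by simp [R], by simp [R]⟩
    | mul_right x hx y hy ih =>
      rcases hy with rfl | rfl
      · exact hstep x _ gL (Or.inl rfl) (by simp [gl1, sl00, R, gL]) (by simp [gl1, sl01, R, gL])
          (by simp [gl1, sl10, R, gL]) (by simp [gl1, sl11, R, gL]) ih
      · exact hstep x _ gU (Or.inr rfl) (by simp [gu, sl00, R, gU]) (by simp [gu, sl01, R, gU])
          (by simp [gu, sl10, R, gU]) (by simp [gu, sl11, R, gU]) ih
  choose f hf e1 e2 e3 e4 using fun s : gen l => hall s s.2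
  have hlen : Fintype.card (Fin (codes.map dec).length) = 120 := by rw [Fintype.card_fin, List.length_map, codes_length]
  choose ix hix using fun s : gen l => List.mem_iff_get.mp (hf s)
  refine (Nat.card_le_card_of_injective ix fun s t e => Subtype.ext ?_).trans (by rw [Nat.card_eq_fintype_card, hlen])
  have hfe : f s = f t := by rw [← hix s, ← hix t, e]
  refine ext_four ?_ ?_ ?_ ?_
  · rw [e1, e1, hfe]
  · rw [e2, e2, hfe]
  · rw [e3, e3, hfe]
  · rw [e4, e4, hfe]

theorem card_nine [CharP F 3] (l : F) (hl : l ^ 2 = -1) (hgen : Subfield.closure ({l} : Set F) = ⊤) :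
    Fintype.card F = 9 := by
  haveI : Fact (Nat.Prime 3) := ⟨Nat.prime_three⟩
  let S : Subfield F :=
    { carrier := {x | x ^ 9 = x}
      mul_mem' := fun {x y} hx hy => by simp only [Set.mem_setOf_eq] at *; rw [mul_pow, hx, hy]
      one_mem' := one_pow 9
      add_mem' := fun {x y} hx hy => by
        simp only [Set.mem_setOf_eq] at *
        rw [show (9 : ℕ) = 3 ^ 2 by norm_num, add_pow_char_pow]; norm_num [hx, hy]
      zero_mem' := zero_pow (by norm_num)
      neg_mem' := fun {x} hx => by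
        simp only [Set.mem_setOf_eq] at *
        rw [show (9 : ℕ) = 2 * 4 + 1 by norm_num, Odd.neg_pow ⟨4, rfl⟩]; norm_num [hx]
      inv_mem' := fun x hx => by simp only [Set.mem_setOf_eq] at *; rw [inv_pow, hx] }
  have htop : S = ⊤ := by
    rw [eq_top_iff, ← hgen, Subfield.closure_le]
    intro x hx
    rw [Set.mem_singleton_iff.mp hx]
    show l ^ 9 = l
    rw [show (9 : ℕ) = 2 * 4 + 1 by norm_num, pow_succ, pow_mul, hl]; norm_num
  have hle : Fintype.card F ≤ 9 := by
    have hP : (Polynomial.X ^ 9 - Polynomial.X : Polynomial F) ≠ 0 := FiniteField.X_pow_card_sub_X_ne_zero F (by norm_num)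
    classical
    have hsub : (Finset.univ : Finset F) ⊆ (Polynomial.X ^ 9 - Polynomial.X : Polynomial F).roots.toFinset := fun x _ => by
      have hx : x ∈ S := htop ▸ Subfield.mem_top x
      rw [Multiset.mem_toFinset, Polynomial.mem_roots hP]
      simp [sub_eq_zero, show x ^ 9 = x from hx]
    exact (Finset.card_le_card hsub).trans ((Multiset.toFinset_card_le _).trans
      ((Polynomial.card_roots' _).trans (FiniteField.X_pow_card_sub_X_natDegree_eq F (by norm_num)).le))
  obtain ⟨⟨n, hn0⟩, -, hn⟩ := FiniteField.card F 3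
  simp only [PNat.mk_coe] at hn
  have : n ≤ 2 := by
    by_contra hn3
    have : 3 ^ 3 ≤ 3 ^ n := Nat.pow_le_pow_right (by norm_num) (by omega)
    omega
  rcases (show n = 1 ∨ n = 2 by omega) with rfl | rfl
  · exfalso
    have h3 : l ^ 3 = l := by
      have := FiniteField.pow_card l
      rwa [hn, pow_one] at this
    rw [pow_succ, hl] at h3
    have h2 : (2 : F) * l = 0 := by linear_combination -h3
    have hl0 : l = 0 := (mul_eq_zero.mp h2).resolve_left (by
      intro e
      have : ((2 : ℕ) : F) = 0 := by exact_mod_cast e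
      rw [CharP.cast_eq_zero_iff F 3] at this
      omega)
    rw [hl0] at hl; simp at hl
  · simpa using hn

end nine

theorem small_trace [Fintype F] [CharP F 3] (s : SL(2, F)) (h : π s ^ 2 = 1 ∨ π s ^ 3 = 1) :
    s.1.trace ^ 3 = s.1.trace := by
  have h3 : (3 : F) = 0 := by exact_mod_cast CharP.cast_eq_zero F 3
  by_cases h1 : π s = 1
  · rcases π_one_iff.mp h1 with rfl | rfl <;> simp [Matrix.trace_fin_two, val_neg, -Matrix.SpecialLinearGroup.coe_neg] <;>
      first | linear_combination 2 * h3 | linear_combination -2 * h3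
  · have hns := QuatElusive.nonscalar_of h1
    rcases h with h | h
    · rcases QuatElusive.trace_of_pow (Or.inl rfl) hns ((QuatElusive.π_pow s).mpr h) with ⟨-, e⟩ | ⟨e, -⟩
      · rw [e]; ring
      · omega
    · rcases QuatElusive.trace_of_pow (Or.inr rfl) hns ((QuatElusive.π_pow s).mpr h) with ⟨e, -⟩ | ⟨-, e⟩
      · omega
      · linear_combination s.1.trace * e

theorem trace_four [Fintype F] [CharP F 3] (s : SL(2, F)) (h : π s ^ 4 = 1) :
    s.1.trace ^ 3 = s.1.trace ∨ s.1.trace ^ 2 = -1 := by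
  have h3 : (3 : F) = 0 := by exact_mod_cast CharP.cast_eq_zero F 3
  by_cases h1 : π s = 1
  · exact Or.inl (small_trace s (Or.inl (by rw [h1, one_pow])))
  have hns := QuatElusive.nonscalar_of h1
  obtain ⟨z, hz⟩ := (QuatElusive.π_pow s).mpr h
  have hsq := sq_val s
  set t := s.1.trace with ht
  have h4 : s.1 ^ 4 = (t ^ 3 - 2 * t) • s.1 - (t ^ 2 - 1) • (1 : Matrix (Fin 2) (Fin 2) F) := by
    rw [pow_succ, pow_succ, pow_two, hsq, sub_mul, smul_mul_assoc, hsq, one_mul, sub_mul, smul_mul_assoc, sub_mul,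
      smul_mul_assoc, hsq, one_mul]; module
  have h0 := QuatElusive.scalar_trace hns (α := t ^ 3 - 2 * t) (β := z + (t ^ 2 - 1))
    (by rw [add_smul, ← hz, h4, sub_add_cancel])
  have : t * (t ^ 2 + 1) = 0 := by linear_combination h0 + t * h3
  rcases mul_eq_zero.mp this with e | e
  · left; rw [e]; ring
  · right; linear_combination e

theorem trace_five [Fintype F] [CharP F 3] (s : SL(2, F)) (h : π s ^ 2 = 1 ∨ π s ^ 3 = 1 ∨ π s ^ 5 = 1) :
    s.1.trace ^ 3 = s.1.trace ∨ s.1.trace ^ 2 = s.1.trace + 1 ∨ s.1.trace ^ 2 = -s.1.trace + 1 := by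
  have h3 : (3 : F) = 0 := by exact_mod_cast CharP.cast_eq_zero F 3
  rcases trace_cases s h with e | e | e | e
  · left; rw [e]; ring
  · left; linear_combination s.1.trace * e + s.1.trace * h3
  · left; linear_combination s.1.trace * e
  · rcases mul_eq_zero.mp e with e | e
    · right; left; linear_combination e
    · right; right; linear_combination e

section main

variable [Fintype F]

theorem trans_fix {k : Type u} [Field k] (i : F →+* k) {l : F} (hl : l ≠ 0) {z : ℙ k (Fin 2 → k)}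
    (hu : pslMap i (π (gu l)) • z = z) (hlow : pslMap i (π (gl1 : SL(2, F))) • z = z) : False := by
  rw [pslMap_π] at hu hlow
  obtain ⟨v, hv, rfl⟩ : ∃ (v : Fin 2 → k) (hv : v ≠ 0), Projectivization.mk k v hv = z :=
    ⟨z.rep, z.rep_nonzero, z.mk_rep⟩
  obtain ⟨h1, e1⟩ := PSLGeom.smul_mk_π (slMap i (gu l)) hv
  obtain ⟨h2, e2⟩ := PSLGeom.smul_mk_π (slMap i (gl1 : SL(2, F))) hv
  rw [e1, Projectivization.mk_eq_mk_iff'] at hu
  rw [e2, Projectivization.mk_eq_mk_iff'] at hlow
  obtain ⟨a, ha⟩ := hu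
  obtain ⟨b, hb⟩ := hlow
  have a0 := congrFun ha 0
  have a1 := congrFun ha 1
  have b0 := congrFun hb 0
  have b1 := congrFun hb 1
  simp [Matrix.mulVec, dotProduct, Fin.sum_univ_two, slMap_apply, gu, gl1, sl00, sl01, sl10, sl11] at a0 a1 b0 b1
  by_cases hv1 : v 1 = 0
  · by_cases hv0 : v 0 = 0
    · exact hv (funext fun j => by fin_cases j <;> simp [hv0, hv1])
    · rw [hv1] at b1; simp at b1; exact hv0 b1.symm
  · have : a = 1 := mul_right_cancel₀ hv1 (by rw [one_mul]; exact a1)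
    rw [this, one_mul] at a0
    have h0 : i l * v 1 = 0 := by linear_combination -a0
    exact mul_ne_zero ((map_ne_zero i).mpr hl) hv1 h0

theorem trace_mem {K : Type} [Field K] (φ : K →+* F) {s : SL(2, F)} {ρ : F} (hρ : ρ ≠ 0)
    (hs : ∀ r c, ∃ y, s.1 r c * ρ = φ y) {ε : F} (hε : ε = 1 ∨ ε = -1) (ht : s.1.trace = 2 * ε) (h2 : (2 : F) ≠ 0) :
    ∃ y, ρ = φ y := by
  obtain ⟨y0, h0⟩ := hs 0 0
  obtain ⟨y1, h1⟩ := hs 1 1
  rw [Matrix.trace_fin_two] at ht
  have e : 2 * ε * ρ = φ (y0 + y1) := by rw [map_add, ← h0, ← h1, ← ht]; ring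
  have hK2 : φ 2 = 2 := map_ofNat φ 2
  rcases hε with rfl | rfl
  · exact ⟨(y0 + y1) / 2, by rw [map_div₀, hK2, ← e]; field_simp⟩
  · exact ⟨-((y0 + y1) / 2), by rw [map_neg, map_div₀, hK2, ← e]; field_simp⟩

/-- The image when it is a subfield group. -/
theorem rat_top {q : ℕ} (hF : Fintype.card F = q) (hodd : Odd q) {l : F}
    (hgen : Subfield.closure ({l} : Set F) = ⊤) (h : PSLDickson.RatSub q ((gen l).map π)) : (gen l).map π = ⊤ := by
  haveI : Finite (PSL₂ F) := Finite.of_surjective _ (QuotientGroup.mk'_surjective (Subgroup.center SL(2, F)))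
  obtain ⟨K, _, _, φ, m, h3, hm, ⟨τ, hτ, c, hc⟩, hiso⟩ := h
  have h2 : (2 : F) ≠ 0 := two_ne (hF ▸ hodd)
  have rep : ∀ v : SL(2, F), v ∈ gen l → v.1.trace = 2 → ∃ (s : SL(2, F)) (ε : F), (ε = 1 ∨ ε = -1) ∧
      (∀ r d, ∃ y, s.1 r d = φ y) ∧
      (c : Matrix (Fin 2) (Fin 2) F) * v.1 * (↑(c⁻¹) : Matrix (Fin 2) (Fin 2) F) = ε • s.1 := by
    intro v hv ht
    obtain ⟨s, ρ, hρ, hs, hse⟩ := PSLRat.mem_rat.mp (hτ _ ⟨v, hv, rfl⟩)
    have e := hc (π v)
    rw [← hs] at e
    rw [PGLMax.toPGL_π, PGLMax.toPGL_π, ← map_inv, ← map_mul, ← map_mul] at e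
    obtain ⟨u, hu0, hu⟩ := PGLMax.mk_eq_scalar e
    have hd : ((c : Matrix (Fin 2) (Fin 2) F) * v.1 * (↑(c⁻¹) : Matrix (Fin 2) (Fin 2) F)).det = 1 := by
      rw [Matrix.det_units_conj, v.2]
    have hu' : (c : Matrix (Fin 2) (Fin 2) F) * v.1 * (↑(c⁻¹) : Matrix (Fin 2) (Fin 2) F) = u • s.1 := by
      ext r d; rw [Matrix.smul_apply, smul_eq_mul, mul_comm]; exact (hu r d).symm
    have h1 : u * u = 1 := by
      rw [hu', Matrix.det_smul, Fintype.card_fin, s.2, mul_one, pow_two] at hd; exact hd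
    have hε := mul_self_eq_one_iff.mp h1
    have htr : s.1.trace = 2 * u := by
      have := congrArg Matrix.trace hu'
      rw [Matrix.trace_units_conj, Matrix.trace_smul, smul_eq_mul, ht] at this
      linear_combination u * -this - s.1.trace * h1
    obtain ⟨y, hy⟩ := trace_mem φ hρ hse hε htr h2
    refine ⟨s, u, hε, fun r d => ?_, hu'⟩
    obtain ⟨z, hz⟩ := hse r d
    exact ⟨z / y, by rw [map_div₀, ← hy, ← hz, mul_div_cancel_right₀ _ hρ]⟩
  have hlow : (gl1 : SL(2, F)) ∈ gen l := Subgroup.subset_closure (Or.inl rfl)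
  have hup : gu l ∈ gen l := Subgroup.subset_closure (Or.inr rfl)
  obtain ⟨s, ε, hε, hs, es⟩ := rep gl1 hlow (by simp [gl1, Matrix.trace_fin_two, sl00, sl11]; norm_num)
  obtain ⟨w, δ, hδ, hw, ew⟩ := rep (gu l) hup (by simp [gu, Matrix.trace_fin_two, sl00, sl11]; norm_num)
  obtain ⟨y, hy⟩ : ∃ y, l = φ y := by
    have hprod : ((gl1 : SL(2, F)).1 * (gu l).1).trace = 2 + l := by
      simp [gl1, gu, Matrix.trace_fin_two, Matrix.mul_apply, Fin.sum_univ_two, sl00, sl01, sl10, sl11]; ring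
    have e : (ε * δ) * (s.1 * w.1).trace = 2 + l := by
      rw [← hprod, ← Matrix.trace_units_conj c ((gl1 : SL(2, F)).1 * (gu l).1), show (c : Matrix (Fin 2) (Fin 2) F) * ((gl1 : SL(2, F)).1 * (gu l).1) *
          (↑(c⁻¹) : Matrix (Fin 2) (Fin 2) F) = ((c : Matrix (Fin 2) (Fin 2) F) * (gl1 : SL(2, F)).1 *
          (↑(c⁻¹) : Matrix (Fin 2) (Fin 2) F)) * ((c : Matrix (Fin 2) (Fin 2) F) * (gu l).1 *
          (↑(c⁻¹) : Matrix (Fin 2) (Fin 2) F)) by simp [Matrix.mul_assoc], es, ew, Matrix.smul_mul, Matrix.mul_smul,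
        smul_smul, Matrix.trace_smul, smul_eq_mul]
    choose S hS using hs
    choose W hW using hw
    obtain ⟨z, hz⟩ : ∃ z, (s.1 * w.1).trace = φ z := ⟨S 0 0 * W 0 0 + S 0 1 * W 1 0 + (S 1 0 * W 0 1 + S 1 1 * W 1 1), by
      simp [Matrix.trace_fin_two, Matrix.mul_apply, Fin.sum_univ_two, ← hS, ← hW]⟩
    obtain ⟨k, hk⟩ : ∃ k, ε * δ = φ k := by
      rcases hε with rfl | rfl <;> rcases hδ with rfl | rfl
      · exact ⟨1, by simp⟩
      · exact ⟨-1, by simp⟩
      · exact ⟨-1, by simp⟩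
      · exact ⟨1, by simp⟩
    exact ⟨k * z - 2, by rw [map_sub, map_mul, map_ofNat, ← hk, ← hz, e]; ring⟩
  have hsurj : Function.Surjective φ := by
    have : Subfield.closure ({l} : Set F) ≤ φ.fieldRange :=
      Subfield.closure_le.mpr (Set.singleton_subset_iff.mpr ⟨y, hy.symm⟩)
    rw [hgen, top_le_iff] at this
    intro x
    exact (this ▸ Subfield.mem_top x : x ∈ φ.fieldRange)
  have hP : Fintype.card K = q := by rw [← hF]; exact Fintype.card_of_bijective ⟨φ.injective, hsurj⟩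
  have hG := SmallPSL.card_psl hF
  rw [Nat.gcd_eq_left (show 2 ∣ q - 1 by obtain ⟨t, ht⟩ := hodd; omega)] at hG
  have hle : Nat.card ((gen l).map π) ≤ Nat.card (PSL₂ F) := Subgroup.card_le_card_group _
  refine Subgroup.eq_top_of_card_eq _ ?_
  rcases hiso with ⟨-, ⟨ψ⟩⟩ | ⟨⟨ψ⟩⟩
  · have h1 := SmallPSL.card_psl (F := K) hP
    rw [Nat.gcd_eq_left (show 2 ∣ q - 1 by obtain ⟨t, ht⟩ := hodd; omega)] at h1
    rw [Nat.card_congr ψ.toEquiv]; omega
  · rw [Nat.card_congr ψ.toEquiv, PSLBounds.card_pgl_two, hP] at hle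
    have := Nat.card_pos (α := PSL₂ F)
    omega

/-- Dickson's generation theorem. -/
theorem dickson_gen (h2 : (2 : F) ≠ 0) (l : F) (hl : l ≠ 0) (hgen : Subfield.closure ({l} : Set F) = ⊤) :
    (gen l = ⊤ ∧ ¬ (Fintype.card F = 9 ∧ l ^ 2 = -1)) ∨
      (Fintype.card F = 9 ∧ l ^ 2 = -1 ∧ Nat.card (gen l) = 120) := by
  classical
  haveI : Finite (PSL₂ F) := Finite.of_surjective _ (QuotientGroup.mk'_surjective (Subgroup.center SL(2, F)))
  obtain ⟨p, hp⟩ := CharP.exists F
  haveI : Fact p.Prime := ⟨CharP.char_is_prime F p⟩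
  have hp2 : p ≠ 2 := fun e => h2 (by subst e; exact_mod_cast CharP.cast_eq_zero F 2)
  obtain ⟨hodd, -⟩ := PSLMaxExceptional.odd_card (F := F) p hp2
  have hneg : (-1 : SL(2, F)) ≠ 1 := neg_one_ne hodd
  by_cases htop : (gen l).map π = ⊤
  · refine Or.inl ⟨top_of_image h2 htop, fun ⟨h9, hl2⟩ => ?_⟩
    have hp3 : p = 3 := by
      obtain ⟨n, hpp, hn⟩ := FiniteField.card F p
      have : p ∣ 3 ^ 2 := by rw [show (3 : ℕ) ^ 2 = 9 by norm_num, ← h9, hn]; exact dvd_pow_self p n.pos.ne'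
      exact (Nat.prime_dvd_prime_iff_eq hpp Nat.prime_three).mp (hpp.dvd_of_dvd_pow this)
    subst hp3
    have := card_gen_le l hl2
    rw [top_of_image h2 htop, Subgroup.card_top, SLTwoTori.card_SL2, h9] at this
    norm_num at this
  right
  have hlow : π (gl1 : SL(2, F)) ∈ (gen l).map π := ⟨_, Subgroup.subset_closure (Or.inl rfl), rfl⟩
  have hup : π (gu l) ∈ (gen l).map π := ⟨_, Subgroup.subset_closure (Or.inr rfl), rfl⟩
  set H := (gen l).map π with hH
  have hne : π (gl1 : SL(2, F)) * π (gu l) ≠ π (gu l) * π gl1 := by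
    rw [← map_mul, ← map_mul]
    intro e
    rcases π_eq_iff.mp e with e | e
    · have := congrArg (fun v : SL(2, F) => v.1 0 0) e
      simp [val_mul, gl1, gu, sl00, sl01, sl10, sl11] at this
      exact hl (by first | exact this | exact this.symm | linear_combination this | linear_combination -this)
    · have := congrArg (fun v : SL(2, F) => v.1 0 1) e
      simp [val_mul, val_neg, gl1, gu, sl00, sl01, sl10, sl11] at this
      have : 2 * l = 0 := by first | linear_combination this | linear_combination -this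
      exact hl ((mul_eq_zero.mp this).resolve_left h2)
  have hpow : ∀ (v : SL(2, F)) (x : F), (v = gl1 ∧ x = 1 ∨ v = gu l ∧ x = l) → π v ^ p = 1 := by
    intro v x hv
    have hu : ∀ (n : ℕ), (gl1 : SL(2, F)) ^ n = sl 1 0 (n : F) 1 (by ring) ∧ gu l ^ n = sl 1 ((n : F) * l) 0 1 (by ring) := by
      intro n
      induction n with
      | zero => constructor <;> refine ext_four ?_ ?_ ?_ ?_ <;> simp [sl00, sl01, sl10, sl11]
      | succ n ih =>
        rw [pow_succ, pow_succ, ih.1, ih.2]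
        constructor <;> refine ext_four ?_ ?_ ?_ ?_ <;> simp [val_mul, gl1, gu, sl00, sl01, sl10, sl11] <;> ring
    obtain ⟨h1', h2'⟩ := hu p
    rw [← map_pow]
    refine π_one_iff.mpr (Or.inl ?_)
    rcases hv with ⟨rfl, -⟩ | ⟨rfl, -⟩
    · rw [h1']; refine ext_four ?_ ?_ ?_ ?_ <;> simp [sl00, sl01, sl10, sl11]
    · rw [h2']; refine ext_four ?_ ?_ ?_ ?_ <;> simp [sl00, sl01, sl10, sl11]
  have hpl : (⟨_, hlow⟩ : H) ^ p = 1 := Subtype.ext (hpow _ 1 (Or.inl ⟨rfl, rfl⟩))
  have hpu : (⟨_, hup⟩ : H) ^ p = 1 := Subtype.ext (hpow _ l (Or.inr ⟨rfl, rfl⟩))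
  have hneH : (⟨_, hlow⟩ : H) * ⟨_, hup⟩ ≠ ⟨_, hup⟩ * ⟨_, hlow⟩ := fun e => hne (congrArg Subtype.val e)
  have hsub : PSLDickson.RatSub (Fintype.card F) H → False := fun h => htop (rat_top rfl hodd hgen h)
  have hkind : (p = 3 ∧ (Nonempty (H ≃* alternatingGroup (Fin 4)) ∨ Nonempty (H ≃* Equiv.Perm (Fin 4)) ∨
      Nonempty (H ≃* alternatingGroup (Fin 5)))) := by
    have small : ∀ {A : Type} [Group A] [Fintype A], (H ≃* A) → (Fintype.card A ∣ 60 ∨ Fintype.card A ∣ 24) →
        p = 3 ∨ p = 5 := fun {A} _ _ ψ hA => by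
      have hord : orderOf (⟨_, hlow⟩ : H) = p := orderOf_eq_prime hpl (fun e => hne (by
        have h' : π (gl1 : SL(2, F)) = 1 := congrArg Subtype.val e
        rw [h', one_mul, mul_one]))
      have h1 : p ∣ Fintype.card A := by rw [← hord, ← ψ.orderOf_eq]; exact orderOf_dvd_card
      have h120 : p ∣ 120 := by
        rcases hA with h | h
        · exact h1.trans (h.trans (by norm_num))
        · exact h1.trans (h.trans (by norm_num))
      have hpp : p.Prime := Fact.out
      rcases hpp.dvd_mul.mp (show p ∣ 2 ^ 3 * 15 from h120) with h | h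
      · exact absurd ((Nat.prime_dvd_prime_iff_eq hpp Nat.prime_two).mp (hpp.dvd_of_dvd_pow h)) hp2
      · rcases hpp.dvd_mul.mp (show p ∣ 3 * 5 from h) with h | h
        · exact Or.inl ((Nat.prime_dvd_prime_iff_eq hpp Nat.prime_three).mp h)
        · exact Or.inr ((Nat.prime_dvd_prime_iff_eq hpp Nat.prime_five).mp h)
    rcases PSLDickson.dickson_rat p rfl H with h | h
    swap
    · exact (hsub h).elim
    rcases h with ⟨h, -⟩ | ⟨n, hn, ⟨ψ⟩, -⟩ | ⟨P, h⟩ | ⟨⟨ψ⟩⟩ | ⟨⟨ψ⟩⟩ | ⟨⟨ψ⟩⟩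
    · haveI := h
      exact absurd (mul_comm' _ _) hneH
    · have hrot : ∀ z : DihedralGroup n, z ^ p = 1 → ∃ j, z = DihedralGroup.r j := by
        rintro (j | j) hz
        · exact ⟨j, rfl⟩
        · exfalso
          obtain ⟨m, hm⟩ := (Fact.out : p.Prime).odd_of_ne_two hp2
          rw [hm, pow_succ, pow_mul, pow_two, DihedralGroup.sr_mul_self, one_pow, one_mul] at hz
          cases hz
      obtain ⟨u, hu⟩ := hrot (ψ ⟨_, hlow⟩) (by rw [← map_pow, hpl, map_one])
      obtain ⟨v, hv⟩ := hrot (ψ ⟨_, hup⟩) (by rw [← map_pow, hpu, map_one])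
      exact absurd (ψ.injective (by rw [map_mul, map_mul, hu, hv, DihedralGroup.r_mul_r, DihedralGroup.r_mul_r,
        add_comm])) hneH
    · exfalso
      let k := AlgebraicClosure F
      let i : F →+* k := algebraMap F k
      haveI : CharP k p := charP_of_injective_ringHom i.injective p
      obtain ⟨z, -, hz⟩ := PSLFull.borel_fix i p rfl P
      exact trans_fix i hl (hz _ (h hup)) (hz _ (h hlow))
    · rcases small ψ (Or.inr (by decide +kernel)) with e | e
      · exact ⟨e, Or.inl ⟨ψ⟩⟩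
      · exfalso
        have := orderOf_eq_prime hpl (fun e' => hneH (by rw [e', one_mul, mul_one]))
        rw [← ψ.orderOf_eq] at this
        have hd : p ∣ Fintype.card (alternatingGroup (Fin 4)) := this ▸ orderOf_dvd_card
        rw [e, ← Nat.card_eq_fintype_card, nat_card_alternatingGroup, Nat.card_fin] at hd
        norm_num [Nat.factorial] at hd
    · rcases small ψ (Or.inr (by decide +kernel)) with e | e
      · exact ⟨e, Or.inr (Or.inl ⟨ψ⟩)⟩
      · exfalso
        have := orderOf_eq_prime hpl (fun e' => hneH (by rw [e', one_mul, mul_one]))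
        rw [← ψ.orderOf_eq] at this
        have hd : p ∣ Fintype.card (Equiv.Perm (Fin 4)) := this ▸ orderOf_dvd_card
        rw [e, Fintype.card_perm, Fintype.card_fin] at hd
        norm_num [Nat.factorial] at hd
    · rcases small ψ (Or.inl (by decide +kernel)) with e | e
      · exact ⟨e, Or.inr (Or.inr ⟨ψ⟩)⟩
      · exact (hsub (PSLDickson.altFive_rat p rfl H ψ (Or.inr e))).elim
  obtain ⟨rfl, hkind⟩ := hkind
  have h3 : (3 : F) = 0 := by exact_mod_cast CharP.cast_eq_zero F 3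
  have hl3 : l ^ 3 ≠ l := by
    intro e
    refine htop ?_
    have hmem : ∀ x : F, x ^ 3 = x := by
      let S : Subfield F :=
        { carrier := {x | x ^ 3 = x}
          mul_mem' := fun {x y} hx hy => by simp only [Set.mem_setOf_eq] at *; rw [mul_pow, hx, hy]
          one_mem' := one_pow 3
          add_mem' := fun {x y} hx hy => by simp only [Set.mem_setOf_eq] at *; rw [add_pow_char, hx, hy]
          zero_mem' := zero_pow (by norm_num)
          neg_mem' := fun {x} hx => by simp only [Set.mem_setOf_eq] at *; rw [Odd.neg_pow (by decide), hx]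
          inv_mem' := fun x hx => by simp only [Set.mem_setOf_eq] at *; rw [inv_pow, hx] }
      have : S = ⊤ := by rw [eq_top_iff, ← hgen, Subfield.closure_le]; intro x hx; rw [Set.mem_singleton_iff.mp hx]; exact e
      exact fun x => (this ▸ Subfield.mem_top x : x ∈ S)
    have hle : Fintype.card F ≤ 3 := by
      have hP : (Polynomial.X ^ 3 - Polynomial.X : Polynomial F) ≠ 0 := FiniteField.X_pow_card_sub_X_ne_zero F (by norm_num)
      have hsub : (Finset.univ : Finset F) ⊆ (Polynomial.X ^ 3 - Polynomial.X : Polynomial F).roots.toFinset := fun x _ => by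
        rw [Multiset.mem_toFinset, Polynomial.mem_roots hP]; simp [sub_eq_zero, hmem x]
      exact (Finset.card_le_card hsub).trans ((Multiset.toFinset_card_le _).trans
        ((Polynomial.card_roots' _).trans (FiniteField.X_pow_card_sub_X_natDegree_eq F (by norm_num)).le))
    refine Subgroup.eq_top_of_card_eq H (le_antisymm (Subgroup.card_le_card_group H) ?_)
    have h12 : Nat.card (PSL₂ F) = 12 := by
      have := SmallPSL.card_psl (F := F) rfl
      obtain ⟨n, -, hn⟩ := FiniteField.card F 3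
      have h3' : Fintype.card F = 3 := le_antisymm hle (hn ▸ Nat.le_self_pow n.pos.ne' 3)
      rw [h3', show Nat.gcd 2 (3 - 1) = 2 from rfl] at this
      have h24 : 3 * (3 ^ 2 - 1) = 24 := by norm_num
      omega
    rw [h12]
    rcases hkind with ⟨⟨ψ⟩⟩ | ⟨⟨ψ⟩⟩ | ⟨⟨ψ⟩⟩
    · rw [PSLSmallMax.card_A4 ψ]
    · rw [PSLSmallMax.card_S4 ψ]; norm_num
    · rw [PSLSmallMax.card_A5 ψ]; norm_num
  have hg1 : π (gl1 * gu l) ∈ H := by rw [map_mul]; exact mul_mem hlow hup
  have hg2 : π (gl1 * gl1 * gu l) ∈ H := by rw [map_mul, map_mul]; exact mul_mem (mul_mem hlow hlow) hup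
  have ht1 : (gl1 * gu l).1.trace = 2 + l := by
    simp [gl1, gu, Matrix.trace_fin_two, val_mul, sl00, sl01, sl10, sl11, -Matrix.SpecialLinearGroup.coe_mul]; ring
  have ht2 : (gl1 * gl1 * gu l).1.trace = 2 + 2 * l := by
    simp [gl1, gu, Matrix.trace_fin_two, val_mul, sl00, sl01, sl10, sl11, -Matrix.SpecialLinearGroup.coe_mul]; ring
  have tpow : ∀ {A : Type} [Group A], (H ≃* A) → ∀ (v : SL(2, F)) (hv : π v ∈ H) (n : ℕ),
      (∀ σ : A, σ ^ 2 = 1 ∨ σ ^ 3 = 1 ∨ σ ^ n = 1) → π v ^ 2 = 1 ∨ π v ^ 3 = 1 ∨ π v ^ n = 1 := by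
    intro A _ ψ v hv n hA
    have key : ∀ j : ℕ, (ψ ⟨π v, hv⟩) ^ j = 1 → π v ^ j = 1 := fun j hj => by
      rw [← map_pow, ψ.map_eq_one_iff] at hj
      simpa using congrArg Subtype.val hj
    exact (hA _).imp (key 2) (Or.imp (key 3) (key n))
  have hF3 : ∀ x : F, x ^ 3 = x → ∀ a b : F, a ^ 3 = a → b ^ 3 = b → (a + b * x) ^ 3 = a + b * x := fun x hx a b ha hb => by
    rw [add_pow_char, mul_pow, ha, hb, hx]
  have h2pow : (2 : F) ^ 3 = 2 := by linear_combination (2 : F) * h3
  have bad1 : (2 + l) ^ 3 ≠ 2 + l := fun e => hl3 (by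
    have := hF3 (2 + l) e (-2) 1 (by linear_combination -(2 : F) * h3) (one_pow 3)
    rwa [one_mul, neg_add_cancel_left] at this)
  have bad2 : (2 + 2 * l) ^ 3 ≠ 2 + 2 * l := fun e => hl3 (by
    have := hF3 (2 + 2 * l) e (-4) 2 (by linear_combination -(20 : F) * h3) h2pow
    rwa [show (-4 : F) + 2 * (2 + 2 * l) = l by linear_combination l * h3] at this)
  have four : (∀ v : SL(2, F), π v ∈ H → π v ^ 2 = 1 ∨ π v ^ 3 = 1 ∨ π v ^ 4 = 1) → False := by
    intro h
    have step : ∀ v : SL(2, F), π v ∈ H → v.1.trace ^ 3 ≠ v.1.trace → v.1.trace ^ 2 = -1 := fun v hv hb => by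
      rcases h v hv with e | e | e
      · exact absurd (small_trace v (Or.inl e)) hb
      · exact absurd (small_trace v (Or.inr e)) hb
      · exact (trace_four v e).resolve_left hb
    have e1 := step _ hg1 (by rw [ht1]; exact bad1)
    have e2 := step _ hg2 (by rw [ht2]; exact bad2)
    rw [ht1] at e1
    rw [ht2] at e2
    -- the two traces
    have : (l : F) = 0 := by linear_combination e2 - e1 - (l ^ 2 + l) * h3
    exact hl this
  rcases hkind with ⟨⟨ψ⟩⟩ | ⟨⟨ψ⟩⟩ | ⟨⟨ψ⟩⟩
  · exact (four fun v hv => tpow ψ v hv 4 (by decide +kernel)).elim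
  · exact (four fun v hv => tpow ψ v hv 4 (by decide +kernel)).elim
  have h5 : ∀ v : SL(2, F), π v ∈ H → π v ^ 2 = 1 ∨ π v ^ 3 = 1 ∨ π v ^ 5 = 1 := fun v hv => tpow ψ v hv 5 (by decide +kernel)
  have e1 := (trace_five _ (h5 _ hg1)).resolve_left (by rw [ht1]; exact bad1)
  have e2 := (trace_five _ (h5 _ hg2)).resolve_left (by rw [ht2]; exact bad2)
  rw [ht1] at e1
  rw [ht2] at e2
  have hl2 : l ^ 2 = -1 := by
    rcases e1 with e1 | e1
    · linear_combination e1 - l * h3
    · exfalso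
      have el : l ^ 2 + 2 * l + 2 = 0 := by linear_combination e1 - (l + 1) * h3
      rcases e2 with e2 | e2
      · refine hl3 ?_
        have hl1 : l = 1 := by linear_combination e2 - el - (l ^ 2 + l) * h3
        rw [hl1, one_pow]
      · have h2l : 2 * l = 0 := by linear_combination e2 - el - (l ^ 2 + 2 * l + 1) * h3
        exact hl ((mul_eq_zero.mp h2l).resolve_left h2)
  refine ⟨card_nine l hl2 hgen, hl2, le_antisymm (card_gen_le l hl2) ?_⟩
  have hinv : (-1 : SL(2, F)) ∈ gen l := by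
    obtain ⟨σ, hσ2, hσ1⟩ : ∃ σ : alternatingGroup (Fin 5), σ ^ 2 = 1 ∧ σ ≠ 1 := by decide +kernel
    obtain ⟨w, hw, ew⟩ : ((ψ.symm σ : H) : PSL₂ F) ∈ (gen l).map π := (ψ.symm σ).2
    have h1 : π (w * w) = 1 := by
      rw [map_mul, ← pow_two]
      show π w ^ 2 = 1
      rw [show π w = ((ψ.symm σ : H) : PSL₂ F) from ew, ← Subgroup.coe_pow, ← map_pow, hσ2, map_one, Subgroup.coe_one]
    rcases π_one_iff.mp h1 with e | e
    · exfalso
      apply hσ1
      have hw1 : π w = 1 := π_one_iff.mpr (eq_or_neg hodd e)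
      exact ψ.symm.injective (Subtype.ext (by rw [map_one]; exact ew.symm.trans hw1))
    · exact e ▸ mul_mem hw hw
  let f : gen l →* PSL₂ F := π.comp (gen l).subtype
  have hker : 2 ≤ Nat.card f.ker := by
    haveI : Nontrivial f.ker := ⟨⟨1, ⟨⟨-1, hinv⟩, π_one_iff.mpr (Or.inr rfl)⟩,
      fun e => hneg (congrArg (fun v : f.ker => ((v : gen l) : SL(2, F))) e).symm⟩⟩
    exact Finite.one_lt_card
  have hrange : Nat.card f.range = 60 := by
    rw [show f.range = H by rw [MonoidHom.range_comp, Subgroup.range_subtype], PSLSmallMax.card_A5 ψ]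
  have := f.ker.card_mul_index
  rw [Subgroup.index_ker, hrange] at this
  omega

end main

end Cfsg.Lib.Classical.SLTwoGen
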