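import Cfsg.Agent.Classical.SL

/-! The elementary transvection and the monomial cycle generate `SL_{n+1}`. -/

set_option autoImplicit false
set_option linter.unusedSectionVars false

namespace Cfsg.Lib.SLTwoGen

open Matrix
open scoped commutatorElement
open Fin.NatCast Fin.CommRing

variable {K : Type*} [Field K] {n : ℕ}

/-- the entry of the monomial matrix in a row -/
def cc (n : ℕ) (K : Type*) [Field K] (i : Fin (n + 1)) : K := if i.val = n then (-1) ^ n else 1

theorem cc_ne (i : Fin (n + 1)) : cc n K i ≠ 0 := by
  unfold cc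
  split_ifs
  · exact pow_ne_zero _ (neg_ne_zero.2 one_ne_zero)
  · exact one_ne_zero

theorem w_apply {w : Matrix (Fin (n + 1)) (Fin (n + 1)) K} (hw : w =
    Matrix.of (fun i j => if j.val = i.val + 1 then 1 else if i.val = n ∧ j.val = 0 then (-1) ^ n else 0))
    (i j : Fin (n + 1)) : w i j = if j = i + 1 then cc n K i else 0 := by
  subst hw
  simp only [Matrix.of_apply, cc, Fin.ext_iff, Fin.val_add_one, Fin.last]
  by_cases h : i.val = n
  · have hj : ¬ j.val = i.val + 1 := by have := j.isLt; omega
    simp [h]
    intro h'; exact absurd h' (by omega)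
  · simp [h]

theorem w_mul {w : Matrix (Fin (n + 1)) (Fin (n + 1)) K} (hw : ∀ i j, w i j = if j = i + 1 then cc n K i else 0)
    (M : Matrix (Fin (n + 1)) (Fin (n + 1)) K) (r s : Fin (n + 1)) : (w * M) r s = cc n K r * M (r + 1) s := by
  rw [Matrix.mul_apply, Finset.sum_eq_single (r + 1)]
  · rw [hw, if_pos rfl]
  · intro b _ hb; rw [hw, if_neg hb, zero_mul]
  · intro h; exact absurd (Finset.mem_univ _) h

theorem mul_w {w : Matrix (Fin (n + 1)) (Fin (n + 1)) K} (hw : ∀ i j, w i j = if j = i + 1 then cc n K i else 0)
    (M : Matrix (Fin (n + 1)) (Fin (n + 1)) K) (r s : Fin (n + 1)) :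
    (M * w) r (s + 1) = M r s * cc n K s := by
  rw [Matrix.mul_apply, Finset.sum_eq_single s]
  · rw [hw, if_pos rfl]
  · intro b _ hb; rw [hw, if_neg (fun h => hb (add_right_cancel h).symm), mul_zero]
  · intro h; exact absurd (Finset.mem_univ _) h

theorem shift {w : Matrix (Fin (n + 1)) (Fin (n + 1)) K} (hw : ∀ i j, w i j = if j = i + 1 then cc n K i else 0)
    (i j : Fin (n + 1)) (t : K) :
    w * Matrix.transvection (i + 1) (j + 1) t = Matrix.transvection i j (t * cc n K i / cc n K j) * w := by
  ext r s
  obtain ⟨s, rfl⟩ : ∃ s', s = s' + 1 := ⟨s - 1, by simp⟩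
  rw [w_mul hw, mul_w hw, Matrix.transvection, Matrix.transvection]
  simp only [Matrix.add_apply, Matrix.one_apply, Matrix.single_apply, add_left_inj]
  by_cases h : i = r ∧ j = s
  · rw [if_pos h, if_pos h]
    obtain ⟨rfl, rfl⟩ := h
    have := cc_ne (K := K) j
    by_cases hij : i = j
    · subst hij; simp; field_simp
    · simp [hij]; field_simp
  · rw [if_neg h, if_neg h]
    by_cases hrs : r = s
    · subst hrs; simp
    · simp [hrs]

theorem transvection_mul {i j : Fin (n + 1)} (h : i ≠ j) (a b : K) :
    SpecialLinearGroup.transvection h a * SpecialLinearGroup.transvection h b =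
      SpecialLinearGroup.transvection h (a + b) :=
  Subtype.ext (Matrix.transvection_mul_transvection_same i j h a b)

theorem eq_top {H : Subgroup (SpecialLinearGroup (Fin (n + 1)) K)} (hn : 1 ≤ n)
    {w : SpecialLinearGroup (Fin (n + 1)) K} (hwH : w ∈ H)
    (hw : (w : Matrix (Fin (n + 1)) (Fin (n + 1)) K) =
      Matrix.of (fun i j => if j.val = i.val + 1 then 1 else if i.val = n ∧ j.val = 0 then (-1) ^ n else 0))
    (h01 : ∀ (h : (0 : Fin (n + 1)) ≠ 1) (t : K), SpecialLinearGroup.transvection h t ∈ H) : H = ⊤ := by
  have hw' := w_apply hw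
  have hne : ∀ i : Fin (n + 1), i ≠ i + 1 := fun i h => by
    have h0 : (1 : Fin (n + 1)) = 0 := by
      have := congrArg (fun x => -i + x) h
      simpa using this.symm
    have := congrArg Fin.val h0
    rw [Fin.val_one', Fin.val_zero, Nat.mod_eq_of_lt (by omega)] at this
    omega
  have hdown : ∀ i : Fin (n + 1), (∀ t, SpecialLinearGroup.transvection (hne (i + 1)) t ∈ H) →
      ∀ t, SpecialLinearGroup.transvection (hne i) t ∈ H := by
    intro i hi t
    have e := shift hw' i (i + 1) (t * cc n K (i + 1) / cc n K i)
    have hc1 := cc_ne (K := K) i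
    have hc2 := cc_ne (K := K) (i + 1)
    have et : t * cc n K (i + 1) / cc n K i * cc n K i / cc n K (i + 1) = t := by field_simp
    rw [et] at e
    have h2 : w * SpecialLinearGroup.transvection (hne (i + 1)) (t * cc n K (i + 1) / cc n K i) * w⁻¹ =
        SpecialLinearGroup.transvection (hne i) t := by
      rw [mul_inv_eq_iff_eq_mul]
      exact Subtype.ext e
    rw [← h2]
    exact mul_mem (mul_mem hwH (hi _)) (inv_mem hwH)
  have hall : ∀ k : ℕ, ∀ i : Fin (n + 1), i = -(k : Fin (n + 1)) →
      ∀ t, SpecialLinearGroup.transvection (hne i) t ∈ H := by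
    intro k
    induction k with
    | zero =>
      intro i hi t
      simp only [Nat.cast_zero, neg_zero] at hi
      subst hi
      have e : ∀ (j : Fin (n + 1)) (h : (0 : Fin (n + 1)) ≠ j), j = 1 → SpecialLinearGroup.transvection h t ∈ H := by
        rintro j h rfl; exact h01 h t
      exact e _ _ (zero_add 1)
    | succ k ih =>
      intro i hi t
      exact hdown i (ih (i + 1) (by rw [hi]; push_cast; ring)) t
  have hstep : ∀ m : ℕ, 1 ≤ m → m ≤ n → ∀ (i j : Fin (n + 1)) (h : i ≠ j), j = i + (m : Fin (n + 1)) →
      ∀ t, SpecialLinearGroup.transvection h t ∈ H := by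
    intro m
    induction m with
    | zero => intro h; omega
    | succ m ih =>
      intro _ hm i j h hj t
      rcases Nat.eq_zero_or_pos m with rfl | hm0
      · simp only [zero_add, Nat.cast_one] at hj
        subst hj
        exact hall (-i).val i (by rw [Fin.cast_val_eq_self, neg_neg]) t
      · set k : Fin (n + 1) := i + (m : Fin (n + 1)) with hk
        have hik : i ≠ k := fun e => by
          have h0 : (m : Fin (n + 1)) = 0 := by
            have := congrArg (fun x => -i + x) e
            simpa [hk] using this.symm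
          have := congrArg Fin.val h0
          rw [Fin.val_natCast, Fin.val_zero, Nat.mod_eq_of_lt (by omega)] at this
          omega
        have hkj : k ≠ j := by
          rw [hj, hk, Nat.cast_add, Nat.cast_one, ← add_assoc]
          exact hne _
        rw [← Cfsg.Lib.Classical.transvection_commutator hik hkj h t]
        have h1 := ih hm0 (by omega) i k hik hk t
        have h2 : SpecialLinearGroup.transvection hkj (1 : K) ∈ H := by
          have hj' : j = k + 1 := by rw [hj, hk, Nat.cast_add, Nat.cast_one, ← add_assoc]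
          subst hj'
          exact hall (-k).val k (by rw [Fin.cast_val_eq_self, neg_neg]) 1
        rw [commutatorElement_def]
        exact mul_mem (mul_mem (mul_mem h1 h2) (inv_mem h1)) (inv_mem h2)
  refine Cfsg.Lib.Classical.eq_top_of_transvection_mem H fun i j hij c => ?_
  refine hstep (j - i).val ?_ (Nat.le_of_lt_succ (j - i).isLt) i j hij ?_ c
  · rcases Nat.eq_zero_or_pos (j - i).val with h | h
    · exact absurd (sub_eq_zero.1 (Fin.ext h : j - i = 0)).symm hij
    · exact h
  · rw [Fin.cast_val_eq_self]; abel

/-- a scaled family of squares spans the field additively -/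
theorem eq_univ_of_squares [Finite K] {A : AddSubgroup K} {s : K} (hs : s ≠ 0)
    (h : ∀ a : K, s * a ^ 2 ∈ A) (t : K) : t ∈ A := by
  by_cases h2 : ringChar K = 2
  · haveI := Fintype.ofFinite K
    obtain ⟨a, ha⟩ := FiniteField.isSquare_of_char_two h2 (t / s)
    have := h a
    rwa [pow_two, ← ha, mul_div_cancel₀ _ hs] at this
  · -- a difference of two squares
    have h2' : (2 : K) ≠ 0 := Ring.two_ne_zero h2
    have h4 : (4 : K) ≠ 0 := by rw [show (4 : K) = 2 * 2 by norm_num]; exact mul_ne_zero h2' h2'
    have := A.sub_mem (h ((t / s + 1) / 2)) (h ((t / s - 1) / 2))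
    convert this using 1
    field_simp
    ring

end Cfsg.Lib.SLTwoGen
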