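import Mathlib
import Cfsg.Agent.Classical.Misc.SLTwoTori
import Cfsg.Agent.Quadratic.SLTwoDickson

/-! Sylow 2-subgroups of subgroups of `SL₂` with several Sylow `p`-subgroups. -/

set_option autoImplicit false
set_option linter.unusedSectionVars false
set_option linter.style.haveILetI false

namespace Cfsg.Lib.Classical.SLTwoQuaternion

open scoped MatrixGroups

universe u

variable {F : Type u} [Field F]

theorem sylow_two_of_multi [Fintype F] (p : ℕ) [Fact p.Prime] [CharP F p] (hp : p ≠ 2) (H : Subgroup SL(2, F))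
    (hH : 1 < Nat.card (Sylow p H)) (S : Sylow 2 H) :
    ∃ k : ℕ, 1 ≤ k ∧ Nonempty ((S : Subgroup H) ≃* QuaternionGroup (2 ^ k)) := by
  classical
  haveI := Fact.mk Nat.prime_two
  obtain ⟨φ, hφ, hle⟩ := Cfsg.Lib.SLTwoSub.exists_copy hp (Nat.card H) H rfl hH
  have h2 : (2 : ZMod p) ≠ 0 := fun h => hp ((Nat.prime_dvd_prime_iff_eq Fact.out Nat.prime_two).mp
    ((ZMod.natCast_eq_zero_iff 2 p).mp (by exact_mod_cast h)))
  haveI : NeZero p := ⟨(Fact.out : p.Prime).ne_zero⟩
  obtain ⟨i, j, hne, hQ⟩ := SLTwoTori.exists_quaternion_pair (F := ZMod p) h2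
  let ψ : SL(2, ZMod p) →* H := φ.codRestrict H fun g => hle ⟨g, rfl⟩
  obtain ⟨Q, hQ'⟩ := (hQ.map ψ).exists_le_sylow
  obtain ⟨g, hg⟩ := MulAction.exists_smul_eq H Q S
  have hnc : ¬ ∀ a b : (S : Subgroup H), a * b = b * a := by
    intro hcomm
    have hm : ∀ x ∈ ({i, j} : Set SL(2, ZMod p)), g * ψ x * g⁻¹ ∈ (S : Subgroup H) := by
      intro x hx
      rw [← hg, Sylow.coe_subgroup_smul]
      exact ⟨ψ x, hQ' (Subgroup.mem_map_of_mem ψ (Subgroup.subset_closure hx)), rfl⟩
    have e := congrArg Subtype.val (hcomm ⟨_, hm i (by simp)⟩ ⟨_, hm j (by simp)⟩)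
    simp only [MulMemClass.coe_mul] at e
    have e' : ψ i * ψ j = ψ j * ψ i := by
      have := congrArg (fun z => g⁻¹ * z * g) e
      group at this
      simpa using this
    rw [← map_mul, ← map_mul] at e'
    exact hne (hφ (congrArg Subtype.val e'))
  let R : Subgroup SL(2, F) := (S : Subgroup H).map H.subtype
  let e := (S : Subgroup H).equivMapOfInjective H.subtype H.subtype_injective
  rcases SLTwoTori.unique_sub p (Ne.symm hp) R (S.isPGroup'.map _) with h | ⟨-, n, ⟨f⟩⟩
  · exact absurd (fun a b => e.injective (by rw [map_mul, map_mul]; exact mul_comm' _ _)) hnc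
  · refine ⟨n, Nat.one_le_iff_ne_zero.mpr fun hn => hnc fun a b => (e.trans f).injective ?_, ⟨e.trans f⟩⟩
    subst hn
    rw [map_mul, map_mul]
    generalize (e.trans f) a = x
    generalize (e.trans f) b = y
    revert x y
    decide

end Cfsg.Lib.Classical.SLTwoQuaternion
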