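import Mathlib

/-! `SL₂(ℤ/5^k)`: perfect, with a soluble maximal subgroup of large derived length. -/

set_option autoImplicit false
set_option linter.style.haveILetI false
set_option linter.unusedSimpArgs false

namespace Cfsg.Lib.Classical.SLTwoZModPow

open Matrix
open scoped MatrixGroups commutatorElement

section general

variable {R : Type} [CommRing R]

/-- Upper elementary matrix. -/
def e12 (t : R) : SL(2, R) := ⟨!![1, t; 0, 1], by simp [Matrix.det_fin_two]⟩

/-- Lower elementary matrix. -/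
def e21 (t : R) : SL(2, R) := ⟨!![1, 0; t, 1], by simp [Matrix.det_fin_two]⟩

/-- Diagonal matrix. -/
def dia (u : Rˣ) : SL(2, R) := ⟨!![(u : R), 0; 0, ↑u⁻¹], by simp [Matrix.det_fin_two]⟩

theorem e12_coe (t : R) : (e12 t : Matrix (Fin 2) (Fin 2) R) = !![1, t; 0, 1] := rfl

theorem e21_coe (t : R) : (e21 t : Matrix (Fin 2) (Fin 2) R) = !![1, 0; t, 1] := rfl

theorem dia_coe (u : Rˣ) : (dia u : Matrix (Fin 2) (Fin 2) R) = !![(u : R), 0; 0, ↑u⁻¹] := rfl

theorem e12_inv (t : R) : (e12 t)⁻¹ = e12 (-t) := by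
  refine Subtype.ext (Matrix.ext fun i j => ?_)
  fin_cases i <;> fin_cases j <;> simp [e12_coe, Matrix.SpecialLinearGroup.coe_inv, Matrix.adjugate_fin_two]

theorem e21_inv (t : R) : (e21 t)⁻¹ = e21 (-t) := by
  refine Subtype.ext (Matrix.ext fun i j => ?_)
  fin_cases i <;> fin_cases j <;> simp [e21_coe, Matrix.SpecialLinearGroup.coe_inv, Matrix.adjugate_fin_two]

theorem dia_inv (u : Rˣ) : (dia u)⁻¹ = dia u⁻¹ := by
  refine Subtype.ext (Matrix.ext fun i j => ?_)
  fin_cases i <;> fin_cases j <;> simp [dia_coe, Matrix.SpecialLinearGroup.coe_inv, Matrix.adjugate_fin_two]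

theorem comm_dia_e12 (u : Rˣ) (t : R) : ⁅dia u, e12 t⁆ = e12 (((u : R) ^ 2 - 1) * t) := by
  rw [commutatorElement_def, dia_inv, e12_inv]
  refine Subtype.ext (Matrix.ext fun i j => ?_)
  fin_cases i <;> fin_cases j <;> simp [e12_coe, dia_coe, Matrix.mul_apply, Fin.sum_univ_two]
  ring

theorem comm_dia_e21 (u : Rˣ) (t : R) : ⁅dia u, e21 t⁆ = e21 ((((u⁻¹ : Rˣ) : R) ^ 2 - 1) * t) := by
  rw [commutatorElement_def, dia_inv, e21_inv]
  refine Subtype.ext (Matrix.ext fun i j => ?_)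
  fin_cases i <;> fin_cases j <;> simp [e21_coe, dia_coe, Matrix.mul_apply, Fin.sum_univ_two]
  ring

theorem comm_e12_e21 (s t : R) :
    ((⁅e12 s, e21 t⁆ : SL(2, R)) : Matrix (Fin 2) (Fin 2) R) =
      !![1 + s * t + (s * t) ^ 2, -(s ^ 2 * t); s * t ^ 2, 1 - s * t] := by
  rw [commutatorElement_def, e12_inv, e21_inv]
  ext i j
  fin_cases i <;> fin_cases j <;> simp [e12_coe, e21_coe, Matrix.mul_apply, Fin.sum_univ_two] <;> ring

theorem ldu (M : SL(2, R)) (A : Rˣ) (hA : (A : R) = (M : Matrix (Fin 2) (Fin 2) R) 0 0) :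
    dia A = (e21 ((M : Matrix (Fin 2) (Fin 2) R) 1 0 * ↑A⁻¹))⁻¹ * M *
      (e12 (↑A⁻¹ * (M : Matrix (Fin 2) (Fin 2) R) 0 1))⁻¹ := by
  rw [eq_mul_inv_iff_mul_eq, eq_inv_mul_iff_mul_eq]
  have hd : (M : Matrix (Fin 2) (Fin 2) R).det = 1 := M.2
  rw [Matrix.det_fin_two] at hd
  refine Subtype.ext (Matrix.ext fun i j => ?_)
  fin_cases i <;> fin_cases j <;> simp [e12_coe, e21_coe, dia_coe, Matrix.mul_apply, Fin.sum_univ_two, hA] <;>
    rw [← hA] <;> rw [← hA] at hd
  · linear_combination (M : Matrix (Fin 2) (Fin 2) R) 0 1 * A.mul_inv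
  · linear_combination (M : Matrix (Fin 2) (Fin 2) R) 1 0 * A.inv_mul
  · linear_combination (M : Matrix (Fin 2) (Fin 2) R) 1 0 * (↑A⁻¹ : R) * (M : Matrix (Fin 2) (Fin 2) R) 0 1 * A.mul_inv
      - (↑A⁻¹ : R) * hd + (M : Matrix (Fin 2) (Fin 2) R) 1 1 * A.inv_mul

end general

variable (p k : ℕ) [Fact p.Prime]

/-- Reduction modulo `p`. -/
noncomputable def red (hk : k ≠ 0) : ZMod (p ^ k) →+* ZMod p := ZMod.castHom (dvd_pow_self p hk) (ZMod p)

theorem red_zero_iff (hk : k ≠ 0) (x : ZMod (p ^ k)) : red p k hk x = 0 ↔ ∃ y, x = (p : ZMod (p ^ k)) * y := by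
  haveI : NeZero (p ^ k) := ⟨pow_ne_zero k (Fact.out : p.Prime).ne_zero⟩
  constructor
  · intro h
    rw [← ZMod.natCast_zmod_val x, map_natCast, ZMod.natCast_eq_zero_iff] at h
    obtain ⟨c, hc⟩ := h
    exact ⟨c, by rw [← ZMod.natCast_zmod_val x, hc, Nat.cast_mul]⟩
  · rintro ⟨y, rfl⟩
    rw [map_mul, map_natCast, ZMod.natCast_self, zero_mul]

theorem isUnit_of_red (hk : k ≠ 0) (x : ZMod (p ^ k)) (h : red p k hk x ≠ 0) : IsUnit x := by
  haveI : NeZero (p ^ k) := ⟨pow_ne_zero k (Fact.out : p.Prime).ne_zero⟩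
  rw [← ZMod.natCast_zmod_val x, map_natCast, Ne, ZMod.natCast_eq_zero_iff] at h
  rw [← ZMod.natCast_zmod_val x, ZMod.isUnit_iff_coprime]
  exact (((Fact.out : p.Prime).coprime_iff_not_dvd).mpr h).symm.pow_right k

/-- Reduction of `SL₂`. -/
noncomputable def redSL (hk : k ≠ 0) : SL(2, ZMod (p ^ k)) →* SL(2, ZMod p) :=
  Matrix.SpecialLinearGroup.map (red p k hk)

theorem redSL_apply (hk : k ≠ 0) (M : SL(2, ZMod (p ^ k))) (i j : Fin 2) :
    (redSL p k hk M : Matrix (Fin 2) (Fin 2) (ZMod p)) i j = red p k hk ((M : Matrix _ _ _) i j) := rfl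

theorem closure_eq_top (hk : k ≠ 0) (N : Subgroup SL(2, ZMod (p ^ k))) (h12 : ∀ t, e12 t ∈ N)
    (h21 : ∀ t, e21 t ∈ N) : N = ⊤ := by
  have key : ∀ M : SL(2, ZMod (p ^ k)), IsUnit ((M : Matrix (Fin 2) (Fin 2) (ZMod (p ^ k))) 1 0) → M ∈ N := by
    intro M hc
    obtain ⟨c, hc⟩ := hc
    have hd : (M : Matrix (Fin 2) (Fin 2) (ZMod (p ^ k))).det = 1 := M.2
    rw [Matrix.det_fin_two] at hd
    have e : M = e12 ((M.1 0 0 - 1) * ↑c⁻¹) * e21 (c : ZMod (p ^ k)) *
        e12 ((M.1 1 1 - 1) * ↑c⁻¹) := by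
      refine Subtype.ext (Matrix.ext fun i j => ?_)
      fin_cases i <;> fin_cases j <;> simp [e12_coe, e21_coe, Matrix.mul_apply, Fin.sum_univ_two, hc] <;>
        rw [← hc] <;> rw [← hc] at hd
      · linear_combination -(M.1 0 0 - 1) * c.inv_mul
      · linear_combination -(↑c⁻¹ : ZMod (p ^ k)) * hd
          - (M.1 0 1 + (M.1 0 0 - 1) * (M.1 1 1 - 1) * (↑c⁻¹ : ZMod (p ^ k))) * c.inv_mul
      · linear_combination -(M.1 1 1 - 1) * c.mul_inv
    rw [e]
    exact N.mul_mem (N.mul_mem (h12 _) (h21 _)) (h12 _)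
  rw [eq_top_iff]
  intro M _
  by_cases hc : red p k hk (M.1 1 0) = 0
  · have ha : red p k hk (M.1 0 0) ≠ 0 := by
      intro ha
      have hd : (M : Matrix (Fin 2) (Fin 2) (ZMod (p ^ k))).det = 1 := M.2
      rw [Matrix.det_fin_two] at hd
      have := congrArg (red p k hk) hd
      rw [map_sub, map_mul, map_mul, ha, hc, map_one] at this
      simp at this
    have h1 : e21 1 * M ∈ N := key _ (isUnit_of_red p k hk _ (by
      have : (e21 1 * M : SL(2, ZMod (p ^ k))).1 1 0 = M.1 0 0 + M.1 1 0 := by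
        simp [e21_coe, Matrix.mul_apply, Fin.sum_univ_two]
      rw [this, map_add, hc, add_zero]
      exact ha))
    exact (N.mul_mem_cancel_left (h21 1)).mp h1
  · exact key M (isUnit_of_red p k hk _ hc)

theorem isPGroup_ker (hk : k ≠ 0) : IsPGroup p (redSL p k hk).ker := by
  intro x
  refine ⟨k, ?_⟩
  have hmem : redSL p k hk x.1 = 1 := x.2
  have hN : ∀ i j, ∃ y, (x.1 : Matrix (Fin 2) (Fin 2) (ZMod (p ^ k))) i j -
      (1 : Matrix (Fin 2) (Fin 2) (ZMod (p ^ k))) i j = (p : ZMod (p ^ k)) * y := fun i j => by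
    rw [← red_zero_iff p k hk, map_sub, ← redSL_apply, hmem]
    by_cases h : i = j <;> simp [h, Matrix.one_apply]
  choose N hN using hN
  have hx : (x.1 : Matrix (Fin 2) (Fin 2) (ZMod (p ^ k))) = 1 + (p : ZMod (p ^ k)) • Matrix.of N := by
    ext i j
    simp only [Matrix.add_apply, Matrix.smul_apply, Matrix.of_apply, smul_eq_mul, ← hN i j]
    ring
  obtain ⟨R, hR⟩ := dvd_sub_pow_of_dvd_sub (R := Polynomial (ZMod (p ^ k))) (p := p)
    (a := 1 + (p : Polynomial (ZMod (p ^ k))) * Polynomial.X) (b := 1) (by simp) k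
  have h0 : ((p : Polynomial (ZMod (p ^ k)))) ^ (k + 1) = 0 := by
    rw [← Nat.cast_pow, pow_succ, Nat.cast_mul, ← Polynomial.C_eq_natCast, ZMod.natCast_self, map_zero, zero_mul]
  rw [h0, zero_mul, one_pow, sub_eq_zero] at hR
  have h1 := congrArg (Polynomial.aeval (Matrix.of N)) hR
  simp only [map_pow, map_add, map_one, map_mul, map_natCast, Polynomial.aeval_X] at h1
  refine Subtype.ext (Subtype.ext ?_)
  rw [SubgroupClass.coe_pow, Matrix.SpecialLinearGroup.coe_pow, hx]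
  rw [show (p : ZMod (p ^ k)) • Matrix.of N = (p : Matrix (Fin 2) (Fin 2) (ZMod (p ^ k))) * Matrix.of N by
    rw [Nat.cast_smul_eq_nsmul, nsmul_eq_mul]]
  exact h1

/-- Congruent to one modulo `p ^ a`. -/
def Cong (a : ℕ) (x : ZMod (p ^ k)) : Prop := ∃ y, x = (p : ZMod (p ^ k)) ^ a * y

theorem exists_example (d : ℕ) :
    ∃ (G : Type) (_ : Group G) (_ : Finite G) (H : Subgroup G), commutator G = ⊤ ∧ IsCoatom H ∧ Group.IsSolvable H ∧
      derivedSeries H d ≠ ⊥ := by
  classical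
  haveI : Fact (Nat.Prime 5) := ⟨by norm_num⟩
  set k := 2 ^ d + 1 with hkdef
  have hk : k ≠ 0 := Nat.succ_ne_zero _
  haveI : NeZero (5 ^ k) := ⟨pow_ne_zero k (by norm_num)⟩
  have nz : ∀ a : ℕ, ¬ 5 ∣ a → red 5 k hk ((a : ℕ) : ZMod (5 ^ k)) ≠ 0 := fun a ha => by
    rw [map_natCast, Ne, ZMod.natCast_eq_zero_iff]
    exact ha
  set π := redSL 5 k hk
  have hperf : commutator SL(2, ZMod (5 ^ k)) = ⊤ := by
    obtain ⟨u, hu'⟩ := isUnit_of_red 5 k hk ((2 : ℕ) : ZMod (5 ^ k)) (nz 2 (by decide))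
    have hu : (u : ZMod (5 ^ k)) = 2 := hu'.trans Nat.cast_ofNat
    have h3 : IsUnit ((3 : ZMod (5 ^ k))) := (Nat.cast_ofNat (R := ZMod (5 ^ k)) (n := 3)) ▸ isUnit_of_red 5 k hk ((3 : ℕ) : ZMod (5 ^ k)) (nz 3 (by decide))
    have h3' : IsUnit ((((u⁻¹ : (ZMod (5 ^ k))ˣ) : ZMod (5 ^ k))) ^ 2 - 1) := by
      have e : ((((u⁻¹ : (ZMod (5 ^ k))ˣ) : ZMod (5 ^ k))) ^ 2 - 1) =
          -((u⁻¹ : (ZMod (5 ^ k))ˣ) : ZMod (5 ^ k)) ^ 2 * 3 := by
        have := u.inv_mul
        rw [hu] at this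
        linear_combination (-(1 : ZMod (5 ^ k)) - 2 * ((u⁻¹ : (ZMod (5 ^ k))ˣ) : ZMod (5 ^ k))) * 0 +
          (1 + 2 * ((u⁻¹ : (ZMod (5 ^ k))ˣ) : ZMod (5 ^ k))) * this
      rw [e]
      exact ((Units.isUnit _).pow 2).neg.mul h3
    have h3u : IsUnit ((u : ZMod (5 ^ k)) ^ 2 - 1) := by rw [hu]; norm_num; exact h3
    refine closure_eq_top 5 k hk _ (fun t => ?_) (fun t => ?_)
    · obtain ⟨w, hw⟩ := h3u
      have h := Subgroup.commutator_mem_commutator (Subgroup.mem_top (dia u)) (Subgroup.mem_top (e12 (↑w⁻¹ * t)))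
      rwa [comm_dia_e12, ← hw, ← mul_assoc, Units.mul_inv, one_mul] at h
    · obtain ⟨w, hw⟩ := h3'
      have h := Subgroup.commutator_mem_commutator (Subgroup.mem_top (dia u)) (Subgroup.mem_top (e21 (↑w⁻¹ * t)))
      rwa [comm_dia_e21, ← hw, ← mul_assoc, Units.mul_inv, one_mul] at h
  have hsurj : Function.Surjective π := by
    intro M
    have key : ∀ t : ZMod 5, red 5 k hk ((t.val : ℕ) : ZMod (5 ^ k)) = t := fun t => by
      rw [map_natCast, ZMod.natCast_zmod_val]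
    have hgen : Subgroup.comap (Matrix.SpecialLinearGroup.map (ZMod.castHom (dvd_refl _) (ZMod 5)) :
        SL(2, ZMod (5 ^ 1)) →* SL(2, ZMod 5)) π.range = ⊤ := by
      refine closure_eq_top 5 1 one_ne_zero _ (fun t => ?_) (fun t => ?_)
      · refine ⟨e12 ((ZMod.castHom (dvd_refl _) (ZMod 5) t).val : ZMod (5 ^ k)), Subtype.ext (Matrix.ext fun i j => ?_)⟩
        fin_cases i <;> fin_cases j <;> simp [π, redSL, e12_coe, key]
      · refine ⟨e21 ((ZMod.castHom (dvd_refl _) (ZMod 5) t).val : ZMod (5 ^ k)), Subtype.ext (Matrix.ext fun i j => ?_)⟩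
        fin_cases i <;> fin_cases j <;> simp [π, redSL, e21_coe, key]
    have hM : (M : SL(2, ZMod (5 ^ 1))) ∈ Subgroup.comap (Matrix.SpecialLinearGroup.map (ZMod.castHom (dvd_refl _) (ZMod 5)) :
        SL(2, ZMod (5 ^ 1)) →* SL(2, ZMod 5)) π.range := hgen ▸ Subgroup.mem_top _
    obtain ⟨g, hg⟩ := hM
    refine ⟨g, hg.trans (Subtype.ext (Matrix.ext fun i j => ?_))⟩
    simp [ZMod.castHom_apply]
  let L : Projectivization (ZMod 5) (Fin 2 → ZMod 5) := Projectivization.mk _ ![1, 0] (fun h => by simpa using congrFun h 0)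
  haveI : Nontrivial (Projectivization (ZMod 5) (Fin 2 → ZMod 5)) :=
    ⟨⟨L, Projectivization.mk _ ![0, 1] (fun h => by simpa using congrFun h 1), fun h => by
      obtain ⟨a, ha⟩ := (Projectivization.mk_eq_mk_iff' _ _ _ _ _).mp h
      simpa using congrFun ha 0⟩⟩
  set S : Subgroup SL(2, ZMod 5) := MulAction.stabilizer SL(2, ZMod 5) L
  have hS : IsCoatom S := MulAction.IsPreprimitive.isCoatom_stabilizer_of_isPreprimitive SL(2, ZMod 5) L
  set H := S.comap π
  have hker : π.ker ≤ H := fun x hx => by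
    show π x ∈ S
    rw [show π x = 1 from hx]
    exact S.one_mem
  have hH : IsCoatom H := by
    refine ⟨fun h => hS.1 ?_, fun N hN => ?_⟩
    · rw [← Subgroup.map_comap_eq_self_of_surjective hsurj S]
      show H.map π = ⊤
      rw [h, Subgroup.map_top_of_surjective _ hsurj]
    obtain ⟨g, hgN, hgH⟩ := SetLike.exists_of_lt hN
    have htop : N.map π = ⊤ := hS.2 _ (SetLike.lt_iff_le_and_exists.mpr
      ⟨by rw [← Subgroup.map_comap_eq_self_of_surjective hsurj S]; exact Subgroup.map_mono hN.le,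
        π g, Subgroup.mem_map_of_mem _ hgN, hgH⟩)
    rw [← Subgroup.comap_map_eq_self (hker.trans hN.le), htop, Subgroup.comap_top]
  have hSsolv : Group.IsSolvable S := by
    let f : S →* ZMod 5 :=
      { toFun := fun g => g.1.1 0 0
        map_one' := by simp
        map_mul' := fun g h => by
          have h10 : h.1.1 1 0 = 0 := by
            have hm : h.1 • L = L := h.2
            obtain ⟨a, ha⟩ := (Projectivization.mk_eq_mk_iff' _ _ _ _ (fun h => by simpa using congrFun h 0)).mp hm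
            have := congrFun ha 1
            simpa [Matrix.SpecialLinearGroup.smul_def, Matrix.mulVec, dotProduct, Fin.sum_univ_two] using this.symm
          simp [Matrix.mul_apply, Fin.sum_univ_two, h10] }
    haveI : Group.IsSolvable f.ker := by
      have hcomm : ∀ a b : f.ker, a * b = b * a := by
        intro a b
        have form : ∀ c : f.ker, c.1.1.1 0 0 = 1 ∧
            c.1.1.1 1 0 = 0 ∧ c.1.1.1 1 1 = 1 := by
          intro c
          have h00 : c.1.1.1 0 0 = 1 := c.2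
          have hm : c.1.1 • L = L := c.1.2
          obtain ⟨r, hr⟩ := (Projectivization.mk_eq_mk_iff' _ _ _ _ (fun h => by simpa using congrFun h 0)).mp hm
          have h10 : c.1.1.1 1 0 = 0 := by
            have := congrFun hr 1
            simpa [Matrix.SpecialLinearGroup.smul_def, Matrix.mulVec, dotProduct, Fin.sum_univ_two] using this.symm
          have hd : c.1.1.1.det = 1 := c.1.1.2
          rw [Matrix.det_fin_two, h00, h10] at hd
          exact ⟨h00, h10, by simpa using hd⟩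
        obtain ⟨a1, a2, a3⟩ := form a
        obtain ⟨b1, b2, b3⟩ := form b
        refine Subtype.ext (Subtype.ext (Subtype.ext (Matrix.ext fun i j => ?_)))
        fin_cases i <;> fin_cases j <;>
          simp [Matrix.mul_apply, Fin.sum_univ_two, a1, a2, a3, b1, b2, b3, add_comm]
      exact Group.isSolvable_of_comm hcomm
    haveI : Group.IsSolvable (ZMod 5)ˣ := Group.isSolvable_of_comm mul_comm
    refine Group.isSolvable_of_ker_le_range f.ker.subtype f.toHomUnits ?_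
    intro x hx
    exact ⟨⟨x, by simpa using congrArg Units.val hx⟩, rfl⟩
  haveI := hSsolv
  have hHsolv : Group.IsSolvable H := by
    haveI := (isPGroup_ker 5 k hk).isNilpotent
    refine Group.isSolvable_of_ker_le_range (Subgroup.inclusion hker)
      ((π.comp H.subtype).codRestrict S fun x => x.2) ?_
    intro x hx
    exact ⟨⟨x.1, congrArg Subtype.val hx⟩, rfl⟩
  refine ⟨SL(2, ZMod (5 ^ k)), inferInstance, inferInstance, H, hperf, hH, hHsolv, fun hbot => ?_⟩
  have main : ∀ n : ℕ, (∀ x, Cong 5 k (2 ^ n) x → e12 x ∈ (derivedSeries H n).map H.subtype ∧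
      e21 x ∈ (derivedSeries H n).map H.subtype) ∧
      ∀ u : (ZMod (5 ^ k))ˣ, Cong 5 k (2 ^ n) ((u : ZMod (5 ^ k)) - 1) → dia u ∈ (derivedSeries H n).map H.subtype := by
    intro n
    induction n with
    | zero =>
      have hz : ∀ x, Cong 5 k (2 ^ 0) x → red 5 k hk x = 0 := fun x ⟨y, hy⟩ =>
        (red_zero_iff 5 k hk x).mpr ⟨y, by rw [hy]; simp⟩
      rw [derivedSeries_zero, ← MonoidHom.range_eq_map, Subgroup.range_subtype]
      refine ⟨fun x hx => ⟨hker ?_, hker ?_⟩, fun u hu => hker ?_⟩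
      · refine Subtype.ext (Matrix.ext fun i j => ?_)
        fin_cases i <;> fin_cases j <;> simp [π, redSL, e12_coe, hz x hx]
      · refine Subtype.ext (Matrix.ext fun i j => ?_)
        fin_cases i <;> fin_cases j <;> simp [π, redSL, e21_coe, hz x hx]
      · have h1 : red 5 k hk (u : ZMod (5 ^ k)) = 1 := by
          have := hz _ hu
          rwa [map_sub, map_one, sub_eq_zero] at this
        have h2 : red 5 k hk ((u⁻¹ : (ZMod (5 ^ k))ˣ) : ZMod (5 ^ k)) = 1 := by
          have := congrArg (red 5 k hk) u.inv_mul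
          rwa [map_mul, map_one, h1, mul_one] at this
        refine Subtype.ext (Matrix.ext fun i j => ?_)
        fin_cases i <;> fin_cases j <;> simp [π, redSL, dia_coe, h1, h2]
    | succ n ih =>
      set D := (derivedSeries H n).map H.subtype
      have hD : (derivedSeries H (n + 1)).map H.subtype = ⁅D, D⁆ := by
        rw [derivedSeries_succ, Subgroup.map_commutator]
      rw [hD]
      set P : ZMod (5 ^ k) := (5 : ℕ) ^ (2 ^ n) with hP
      have hP5 : red 5 k hk P = 0 := by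
        rw [hP, map_pow, map_natCast, ZMod.natCast_self, zero_pow (by positivity)]
      have hPP : ((5 : ℕ) : ZMod (5 ^ k)) ^ (2 ^ (n + 1)) = P * P := by
        rw [hP, ← pow_add]
        congr 1
        ring
      obtain ⟨u, hu⟩ := isUnit_of_red 5 k hk (1 + P) (by rw [map_add, map_one, hP5, add_zero]; exact one_ne_zero)
      have hdu : dia u ∈ D := ih.2 u ⟨1, by rw [hu]; ring⟩
      have hdu' : dia u⁻¹ ∈ D := by rw [← dia_inv]; exact D.inv_mem hdu
      obtain ⟨w, hw⟩ := isUnit_of_red 5 k hk (2 + P) (by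
        rw [map_add, hP5, add_zero, ← Nat.cast_ofNat (R := ZMod (5 ^ k)) (n := 2)]
        exact nz 2 (by decide))
      have h12 : ∀ x, Cong 5 k (2 ^ (n + 1)) x → e12 x ∈ ⁅D, D⁆ ∧ e21 x ∈ ⁅D, D⁆ := by
        rintro x ⟨y, rfl⟩
        rw [hPP]
        have hmem := ih.1 (P * (↑w⁻¹ * y)) ⟨↑w⁻¹ * y, rfl⟩
        constructor
        · have h := Subgroup.commutator_mem_commutator hdu hmem.1
          rw [comm_dia_e12, hu, show ((1 + P) ^ 2 - 1) * (P * (↑w⁻¹ * y)) = P * P * y by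
            rw [show (1 + P) ^ 2 - 1 = P * (2 + P) by ring, ← hw]
            linear_combination P * P * y * w.mul_inv] at h
          exact h
        · have h := Subgroup.commutator_mem_commutator hdu' hmem.2
          rw [comm_dia_e21, inv_inv, hu, show ((1 + P) ^ 2 - 1) * (P * (↑w⁻¹ * y)) = P * P * y by
            rw [show (1 + P) ^ 2 - 1 = P * (2 + P) by ring, ← hw]
            linear_combination P * P * y * w.mul_inv] at h
          exact h
      refine ⟨h12, ?_⟩
      intro A hA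
      obtain ⟨⟨z, hz⟩, hz'⟩ : ∃ w : {x // Cong 5 k (2 ^ (n + 1)) x}, (w.1 + w.1 ^ 2) = (A : ZMod (5 ^ k)) - 1 := by
        let f : {x // Cong 5 k (2 ^ (n + 1)) x} → {x // Cong 5 k (2 ^ (n + 1)) x} := fun w => ⟨w.1 + w.1 ^ 2, by
          obtain ⟨y, hy⟩ := w.2
          exact ⟨y + y * w.1, by rw [mul_add, ← mul_assoc, ← hy]; ring⟩⟩
        have hinj : Function.Injective f := by
          rintro ⟨a, ya, ha⟩ ⟨b, yb, hb⟩ h
          have h' : a + a ^ 2 = b + b ^ 2 := congrArg Subtype.val h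
          obtain ⟨v, hv⟩ := isUnit_of_red 5 k hk (1 + a + b) (by
            simp only [map_add, map_one, ha, hb, hPP, map_mul, hP5]
            simp)
          refine Subtype.ext (sub_eq_zero.mp (v.mul_left_eq_zero.mp ?_))
          show (a - b) * (v : ZMod (5 ^ k)) = 0
          rw [hv]
          linear_combination h'
        obtain ⟨w, hw'⟩ := (Finite.injective_iff_surjective.mp hinj) ⟨(A : ZMod (5 ^ k)) - 1, hA⟩
        exact ⟨w, congrArg Subtype.val hw'⟩
      obtain ⟨y, hy⟩ := hz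
      rw [hPP] at hy
      subst hy
      have hc : ⁅e12 P, e21 (P * y)⁆ ∈ ⁅D, D⁆ :=
        Subgroup.commutator_mem_commutator (ih.1 P ⟨1, by rw [mul_one]⟩).1 (ih.1 (P * y) ⟨y, rfl⟩).2
      have e00 : (A : ZMod (5 ^ k)) = (⁅e12 P, e21 (P * y)⁆ : SL(2, ZMod (5 ^ k))).1 0 0 := by
        rw [comm_e12_e21]
        simp
        linear_combination -hz'
      rw [ldu _ A e00, comm_e12_e21]
      refine mul_mem (mul_mem (inv_mem (h12 _ ⟨P * y ^ 2 * ↑A⁻¹, ?_⟩).2) hc)
        (inv_mem (h12 _ ⟨-(↑A⁻¹ * P * y), ?_⟩).1)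
      · rw [hPP]
        simp
        ring
      · rw [hPP]
        simp
        ring
  have h := (main d).1 (((5 : ℕ) : ZMod (5 ^ k)) ^ (2 ^ d)) ⟨1, (mul_one _).symm⟩
  rw [hbot, Subgroup.map_bot, Subgroup.mem_bot] at h
  have h' := congrArg (fun M : SL(2, ZMod (5 ^ k)) => (M : Matrix (Fin 2) (Fin 2) (ZMod (5 ^ k))) 0 1) h.1
  simp [e12_coe] at h'
  have h5 : ((5 ^ (2 ^ d) : ℕ) : ZMod (5 ^ k)) = 0 := by rw [← h']; push_cast; rfl
  rw [ZMod.natCast_eq_zero_iff] at h5
  have := (Nat.pow_dvd_pow_iff_le_right (by norm_num : 1 < 5)).mp h5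
  omega

end Cfsg.Lib.Classical.SLTwoZModPow
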