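import Mathlib

set_option autoImplicit false
set_option linter.unusedVariables false
set_option linter.unusedSimpArgs false
set_option linter.style.haveILetI false

/-! Second maximal subgroups under a maximal subgroup whose primitive degree is only alternating or symmetric. -/

namespace Cfsg.Lib.Classical

open MulAction Equiv
open scoped Pointwise

theorem isCoatom_subgroupOf_of_degree {G : Type*} [Group G] [Finite G] (n : ℕ) (hodd : Odd n)
    (hA : ∀ P : Subgroup (Equiv.Perm (Fin n)), MulAction.IsPreprimitive P (Fin n) → alternatingGroup (Fin n) ≤ P)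
    (M : Subgroup G) (hM : IsCoatom M) (hn : M.index = n) (H : Subgroup G) (hHM : H ≤ M)
    (hmax : IsCoatom (H.subgroupOf M)) (K : Subgroup G) (hK : IsCoatom K) (hHK : H ≤ K) :
    IsCoatom (H.subgroupOf K) := by
  classical
  rcases eq_or_ne K M with rfl | hKM
  · exact hmax
  -- `H` is the intersection, and anything strictly above `H` inside `M` is `M`
  have hbetween : ∀ J : Subgroup G, H ≤ J → J ≤ M → J = H ∨ J = M := by
    intro J hJ1 hJ2
    rcases hmax.le_iff.mp (show H.subgroupOf M ≤ J.subgroupOf M from fun z hz => hJ1 hz) with h | h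
    · exact Or.inr (le_antisymm hJ2 (Subgroup.subgroupOf_eq_top.mp h))
    · exact Or.inl (le_antisymm (fun z hz => (SetLike.ext_iff.mp h ⟨z, hJ2 hz⟩).mp hz) hJ1)
  have hinf : K ⊓ M = H := by
    rcases hbetween (K ⊓ M) (le_inf hHK hHM) inf_le_right with h | h
    · exact h
    · rcases hM.le_iff.mp (inf_eq_right.mp h) with h' | h'
      · exact absurd h' hK.1
      · exact absurd h' hKM
  -- the action on the cosets of `M`
  haveI : Fintype (G ⧸ M) := Fintype.ofFinite _
  have hcard : Fintype.card (G ⧸ M) = n := by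
    rw [← Nat.card_eq_fintype_card]; exact hn
  haveI : Nontrivial (G ⧸ M) := by
    rw [← Fintype.one_lt_card_iff_nontrivial, hcard]
    rcases Nat.lt_or_ge 1 n with h | h
    · exact h
    · have hpos := Subgroup.index_ne_zero_of_finite (H := M)
      exact absurd (Subgroup.index_eq_one.mp (show M.index = 1 by omega)) hM.1
  set x₀ : G ⧸ M := ((1 : G) : G ⧸ M) with hx₀
  have hstab : stabilizer G x₀ = M := MulAction.stabilizer_quotient M
  haveI hGprim : IsPreprimitive G (G ⧸ M) :=
    (isCoatom_stabilizer_iff_preprimitive G x₀).mp (by rw [hstab]; exact hM)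
  have halt : ∀ p : Perm (G ⧸ M), p ∈ alternatingGroup (G ⧸ M) → ∃ g : G, ∀ x, g • x = p x := by
    intro p hp
    let e := Fintype.equivFinOfCardEq hcard
    let φ : G →* Perm (Fin n) := e.permCongrHom.toMonoidHom.comp (MulAction.toPermHom G (G ⧸ M))
    let f : (G ⧸ M) →ₑ[φ.rangeRestrict] Fin n :=
      { toFun := e
        map_smul' := fun g x => by
          change e (g • x) = (φ g) (e x)
          simp [φ] }
    have hP := hA φ.range (IsPreprimitive.of_surjective (f := f) e.surjective)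
    have hp' : e.permCongr p ∈ alternatingGroup (Fin n) := by
      rw [Equiv.Perm.mem_alternatingGroup, Equiv.Perm.sign_permCongr]
      exact Equiv.Perm.mem_alternatingGroup.mp hp
    obtain ⟨g, hg⟩ := hP hp'
    refine ⟨g, fun x => e.injective ?_⟩
    have := Equiv.ext_iff.mp hg (e x)
    simpa [φ] using this
  -- a three cycle `a ↦ b ↦ c ↦ a`
  have hthree : ∀ a b c : G ⧸ M, a ≠ b → a ≠ c → b ≠ c →
      ∃ g : G, g • a = b ∧ g • b = c ∧ g • c = a ∧ ∀ x, x ≠ a → x ≠ b → x ≠ c → g • x = x := by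
    intro a b c hab hac hbc
    obtain ⟨g, hg⟩ := halt (swap a c * swap a b)
      (Equiv.Perm.mem_alternatingGroup.mpr (by
        rw [map_mul, Equiv.Perm.sign_swap hac, Equiv.Perm.sign_swap hab, neg_mul, one_mul, neg_neg]))
    refine ⟨g, ?_, ?_, ?_, fun x hxa hxb hxc => ?_⟩
    · rw [hg, Perm.mul_apply, swap_apply_left, swap_apply_of_ne_of_ne hab.symm hbc]
    · rw [hg, Perm.mul_apply, swap_apply_right, swap_apply_left]
    · rw [hg, Perm.mul_apply, swap_apply_of_ne_of_ne hac.symm hbc.symm, swap_apply_right]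
    · rw [hg, Perm.mul_apply, swap_apply_of_ne_of_ne hxa hxb, swap_apply_of_ne_of_ne hxa hxc]
  have hMfix : ∀ g ∈ M, g • x₀ = x₀ := fun g hg => mem_stabilizer_iff.mp (by rw [hstab]; exact hg)
  have hfixM : ∀ g : G, g • x₀ = x₀ → g ∈ M := fun g hg => by rw [← hstab]; exact mem_stabilizer_iff.mpr hg
  -- it is enough that `K` acts primitively on the orbit of `x₀`
  have hfin : IsPreprimitive K (orbit K x₀) → IsCoatom (H.subgroupOf K) := by
    intro hp
    haveI : Nontrivial (orbit K x₀) := by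
      by_contra h
      rw [not_nontrivial_iff_subsingleton] at h
      have hle : K ≤ M := fun k hk => hfixM k (congrArg Subtype.val
        (Subsingleton.elim (⟨(⟨k, hk⟩ : K) • x₀, mem_orbit _ _⟩ : orbit K x₀) ⟨x₀, mem_orbit_self _⟩))
      exact hKM (hK.le_iff_eq hM.1 |>.mp hle).symm
    have h := (isCoatom_stabilizer_iff_preprimitive K (⟨x₀, mem_orbit_self _⟩ : orbit K x₀)).mpr hp
    convert h using 1
    ext k
    rw [Subgroup.mem_subgroupOf, mem_stabilizer_iff, Subtype.ext_iff]
    change (k : G) ∈ H ↔ (k : G) • x₀ = x₀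
    rw [← hinf]
    exact ⟨fun h' => hMfix _ h'.2, fun h' => ⟨k.2, hfixM _ h'⟩⟩
  apply hfin
  refine IsPreprimitive.of_isTrivialBlock_base (⟨x₀, mem_orbit_self _⟩ : orbit K x₀) fun {B} hxB hB => ?_
  rw [IsTrivialBlock, or_iff_not_imp_left]
  intro hns
  by_contra hne
  obtain ⟨⟨b, hbO⟩, hb, hb0⟩ : ∃ b ∈ B, b ≠ ⟨x₀, mem_orbit_self _⟩ := by
    by_contra h
    push Not at h
    exact hns fun p hp q hq => (h p hp).trans (h q hq).symm
  have hb0' : b ≠ x₀ := fun h => hb0 (Subtype.ext h)
  obtain ⟨⟨c, hcO⟩, hc⟩ := (Set.ne_univ_iff_exists_notMem B).mp hne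
  have hcx : c ≠ x₀ := fun h => hc (by convert hxB)
  have hcb : c ≠ b := fun h => hc (by convert hb)
  by_cases hO : orbit K x₀ = Set.univ
  · -- transitive and imprimitive
    have hmem : ∀ x, x ∈ orbit K x₀ := fun x => hO ▸ Set.mem_univ x
    set S : Set (G ⧸ M) := Subtype.val '' B with hSdef
    have hxS : x₀ ∈ S := ⟨_, hxB, rfl⟩
    have hblock : ∀ k ∈ K, ∀ x ∈ S, k • x ∈ S → ∀ y ∈ S, k • y ∈ S := by
      rintro k hk _ ⟨x, hx, rfl⟩ ⟨x', hx', he⟩ _ ⟨y, hy, rfl⟩
      have he' : (⟨k, hk⟩ : K) • x = x' := Subtype.ext he.symm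
      have heq := hB.smul_eq_of_mem hx (he'.symm ▸ hx' : (⟨k, hk⟩ : K) • x ∈ B)
      exact ⟨(⟨k, hk⟩ : K) • y, heq ▸ Set.smul_mem_smul_set hy, rfl⟩
    let J : Subgroup G :=
      { carrier := {g | g • x₀ = x₀ ∧ ∀ x, x ∈ S ↔ g • x ∈ S}
        one_mem' := ⟨one_smul _ _, fun x => by rw [one_smul]⟩
        mul_mem' := fun {g g'} hg hg' => ⟨by rw [mul_smul, hg'.1, hg.1],
          fun x => by rw [mul_smul]; exact (hg'.2 x).trans (hg.2 _)⟩
        inv_mem' := fun {g} hg => ⟨by rw [inv_smul_eq_iff, hg.1],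
          fun x => by
            have := hg.2 (g⁻¹ • x)
            rw [smul_inv_smul] at this
            exact this.symm⟩ }
    have hHJ : H ≤ J := fun h hh => ⟨hMfix h (hHM hh), fun x => ⟨fun hx =>
      hblock h (hHK hh) x₀ hxS (by rw [hMfix h (hHM hh)]; exact hxS) x hx, fun hx => by
        have hfix : h⁻¹ • x₀ = x₀ := by rw [inv_smul_eq_iff, hMfix h (hHM hh)]
        have := hblock h⁻¹ (K.inv_mem (hHK hh)) x₀ hxS (by rw [hfix]; exact hxS) _ hx
        rwa [inv_smul_smul] at this⟩⟩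
    have hJM : J ≤ M := fun g hg => hfixM g hg.1
    have hbS : b ∈ S := ⟨_, hb, rfl⟩
    have hcS : c ∉ S := fun ⟨y, hy, e⟩ => hc (by convert hy using 1; exact Subtype.ext e.symm)
    -- a third point, in the block of `c`
    obtain ⟨k, hk⟩ : ∃ k : K, (k : G) • x₀ = c := hcO
    set c' := (k : G) • b with hc'
    have hcc : c' ≠ c := fun h => hb0' (smul_left_cancel (k : G) (h.trans hk.symm))
    have hc'S : c' ∉ S := fun h => hcS (hk ▸ hblock k k.2 b hbS h x₀ hxS)
    have hJ : J = H := by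
      rcases hbetween J hHJ hJM with h | h
      · exact h
      exfalso
      obtain ⟨g, hg1, -, -, hg4⟩ := hthree b c c' hcb.symm (fun h => hc'S (h ▸ hbS)) hcc.symm
      have : g ∈ J := h ▸ hfixM g (hg4 x₀ hb0'.symm hcx.symm (fun h => hc'S (h ▸ hxS)))
      exact hcS (hg1 ▸ (this.2 b).mp hbS)
    -- a point outside both blocks
    obtain ⟨d, hdS, hdk⟩ : ∃ d, d ∉ S ∧ d ∉ ((fun x => (k : G) • x) '' S) := by
      by_contra hd
      push Not at hd
      have hdisj : Disjoint S.toFinset (S.toFinset.image fun x => (k : G) • x) := by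
        rw [Finset.disjoint_left]
        intro y hy hy'
        rw [Finset.mem_image] at hy'
        obtain ⟨x, hx, rfl⟩ := hy'
        rw [Set.mem_toFinset] at hx hy
        exact hcS (hk ▸ hblock k k.2 x hx hy x₀ hxS)
      have huniv : S.toFinset ∪ S.toFinset.image (fun x => (k : G) • x) = Finset.univ := by
        refine Finset.eq_univ_of_forall fun y => ?_
        rw [Finset.mem_union, Finset.mem_image]
        by_cases hy : y ∈ S
        · exact Or.inl (Set.mem_toFinset.mpr hy)
        · obtain ⟨x, hx, e⟩ := hd y hy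
          exact Or.inr ⟨x, Set.mem_toFinset.mpr hx, e⟩
      have hn2 := congrArg Finset.card huniv
      rw [Finset.card_union_of_disjoint hdisj, Finset.card_image_of_injective _ (MulAction.injective _),
        Finset.card_univ, hcard] at hn2
      exact (Nat.not_odd_iff_even.mpr ⟨_, hn2.symm⟩) hodd
    obtain ⟨g, hg1, hg2, hg3, hg4⟩ := hthree c c' d hcc.symm
      (fun h => hdk ⟨x₀, hxS, hk.trans h⟩) (fun h => hdk ⟨b, hbS, h⟩)
    have hout : ∀ x ∈ S, g • x = x := fun x hx =>
      hg4 x (fun h => hcS (h ▸ hx)) (fun h => hc'S (h ▸ hx)) (fun h => hdS (h ▸ hx))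
    have hgJ : g ∈ J := ⟨hout x₀ hxS, fun x => ⟨fun hx => by rw [hout x hx]; exact hx, fun hx => by
      have := smul_left_cancel g (hout _ hx)
      rw [this] at hx; exact hx⟩⟩
    rw [hJ] at hgJ
    have hg' : (k : G)⁻¹ * g * k ∈ K := K.mul_mem (K.mul_mem (K.inv_mem k.2) (hHK hgJ)) k.2
    have e1 : ((k : G)⁻¹ * g * k) • x₀ = b := by
      rw [mul_smul, mul_smul, hk, hg1, hc', inv_smul_smul]
    have h' := hblock _ hg' x₀ hxS (by rw [e1]; exact hbS) b hbS
    rw [mul_smul, mul_smul, ← hc', hg2] at h'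
    exact hdk ⟨_, h', smul_inv_smul _ _⟩
  · -- intransitive: `K` is the stabiliser of the orbit
    let KO : Subgroup G := stabilizer G (orbit K x₀)
    have hKS : K ≤ KO := fun k hk => by
      rw [mem_stabilizer_iff]
      exact MulAction.smul_orbit (⟨k, hk⟩ : K) x₀
    have hS : KO ≠ ⊤ := by
      intro htop
      apply hO
      refine Set.eq_univ_of_forall fun y => ?_
      obtain ⟨g, rfl⟩ := MulAction.exists_smul_eq G x₀ y
      have hg : g • orbit K x₀ = orbit K x₀ := mem_stabilizer_iff.mp (show g ∈ KO from htop ▸ Subgroup.mem_top g)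
      exact hg ▸ Set.smul_mem_smul_set (mem_orbit_self x₀)
    have hKeq : KO = K := hK.le_iff_eq hS |>.mp hKS
    obtain ⟨g, hg1, hg2, hg3, hg4⟩ := hthree x₀ b c hb0'.symm hcx.symm hcb.symm
    have hgmem : ∀ x ∈ orbit K x₀, g • x ∈ orbit K x₀ := by
      intro x hx
      by_cases h1 : x = x₀
      · rw [h1, hg1]; exact hbO
      by_cases h2 : x = b
      · rw [h2, hg2]; exact hcO
      by_cases h3 : x = c
      · rw [h3, hg3]; exact mem_orbit_self _
      rw [hg4 x h1 h2 h3]; exact hx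
    have hgK : g ∈ K := hKeq ▸ mem_stabilizer_iff.mpr (Set.eq_of_subset_of_ncard_le
      (by rintro _ ⟨x, hx, rfl⟩; exact hgmem x hx)
      (le_of_eq (Set.ncard_image_of_injective _ (MulAction.injective g)).symm) (Set.toFinite _))
    have e1 : (⟨g, hgK⟩ : K) • (⟨x₀, mem_orbit_self _⟩ : orbit K x₀) = ⟨b, hbO⟩ := Subtype.ext hg1
    have e2 : (⟨g, hgK⟩ : K) • (⟨b, hbO⟩ : orbit K x₀) = ⟨c, hcO⟩ := Subtype.ext hg2
    have heq := hB.smul_eq_of_mem hxB (e1 ▸ hb : (⟨g, hgK⟩ : K) • _ ∈ B)
    exact hc (e2 ▸ heq ▸ Set.smul_mem_smul_set hb)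

end Cfsg.Lib.Classical
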