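import Mathlib

/-! Singer subgroups of general linear groups. -/

set_option autoImplicit false
set_option linter.unusedVariables false

namespace Cfsg.Lib.Classical.Singer

universe u v w

variable {F : Type u} [Field F] {K : Type v} [Field K] [Algebra F K]

variable (F K) in
/-- The Singer subgroup: multiplications by nonzero elements of the extension field. -/
abbrev torus : Subgroup (Module.End F K)ˣ :=
  (Units.map ((Algebra.lmul F K : K →ₐ[F] Module.End F K) : K →* Module.End F K)).range

theorem lmul_inj : Function.Injective (Algebra.lmul F K : K → Module.End F K) := fun a b h => by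
  simpa using congrArg (fun f : Module.End F K => f 1) h

theorem mem_torus {u : (Module.End F K)ˣ} :
    u ∈ torus F K ↔ ∃ k : K, (u : Module.End F K) = Algebra.lmul F K k := by
  constructor
  · rintro ⟨x, rfl⟩; exact ⟨x, rfl⟩
  · rintro ⟨k, hk⟩
    have hk0 : k ≠ 0 := by
      rintro rfl
      rw [map_zero] at hk
      exact u.ne_zero hk
    exact ⟨Units.mk0 k hk0, Units.ext hk.symm⟩

theorem card_torus [Fintype K] : Nat.card (torus F K) = Fintype.card K - 1 := by
  refine (Nat.card_congr (MonoidHom.ofInjective (Units.map_injective (lmul_inj (F := F) (K := K)))).toEquiv).symm.trans ?_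
  rw [Nat.card_units, Nat.card_eq_fintype_card]

theorem centralizer_torus :
    Subgroup.centralizer ((torus F K : Subgroup _) : Set (Module.End F K)ˣ) = torus F K := by
  ext u
  constructor
  · intro hu
    refine mem_torus.mpr ⟨(u : Module.End F K) 1, LinearMap.ext fun x => ?_⟩
    by_cases hx : x = 0
    · subst hx; simp
    have h := congrArg (fun w : (Module.End F K)ˣ => (w : Module.End F K) 1)
      (Subgroup.mem_centralizer_iff.mp hu _ ⟨Units.mk0 x hx, rfl⟩)
    simp at h
    rw [← h]
    simp [mul_comm]
  · intro hu w hw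
    obtain ⟨a, ha⟩ := mem_torus.mp hu
    obtain ⟨b, hb⟩ := mem_torus.mp hw
    apply Units.ext
    rw [Units.val_mul, Units.val_mul, ha, hb, ← map_mul, ← map_mul, mul_comm]

/-- The semilinear action `x ↦ k * σ x`. -/
noncomputable def semi (k : Kˣ) (σ : K ≃ₐ[F] K) : (Module.End F K)ˣ where
  val := Algebra.lmul F K k * σ.toLinearEquiv.toLinearMap
  inv := σ.symm.toLinearEquiv.toLinearMap * Algebra.lmul F K (k⁻¹ : Kˣ)
  val_inv := by ext x; simp
  inv_val := by ext x; simp

theorem semi_injective : Function.Injective (fun p : Kˣ × (K ≃ₐ[F] K) => semi p.1 p.2) := by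
  rintro ⟨k, σ⟩ ⟨k', σ'⟩ h
  have h1 : ∀ x : K, (k : K) * σ x = k' * σ' x := fun x => by
    simpa [semi] using congrArg (fun w : (Module.End F K)ˣ => (w : Module.End F K) x) h
  have hk : k = k' := Units.ext (by simpa using h1 1)
  subst hk
  exact Prod.ext rfl (AlgEquiv.ext fun x => mul_left_cancel₀ k.ne_zero (h1 x))

theorem mem_normalizer_iff [Finite K] {u : (Module.End F K)ˣ} :
    u ∈ Subgroup.normalizer ((torus F K : Subgroup _) : Set (Module.End F K)ˣ) ↔
      ∃ k σ, u = semi k σ := by
  haveI : Finite (Module.End F K) := Finite.of_injective _ DFunLike.coe_injective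
  haveI : Finite (Module.End F K)ˣ := inferInstance
  constructor
  · intro hu
    have hu1 : (u : Module.End F K) 1 ≠ 0 := fun h => by
      have := congrArg (fun w : Module.End F K => w 1) u.inv_mul
      simp only [Module.End.mul_apply, Module.End.one_apply, h, map_zero] at this
      exact zero_ne_one this
    have key : ∀ a x : K, (u : Module.End F K) (a * x) =
        ((u : Module.End F K) a / (u : Module.End F K) 1) * (u : Module.End F K) x := by
      intro a x
      by_cases ha : a = 0
      · subst ha; simp
      obtain ⟨b, hb⟩ := mem_torus.mp ((Subgroup.mem_normalizer_iff.mp hu (Units.map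
        ((Algebra.lmul F K : K →ₐ[F] Module.End F K) : K →* Module.End F K) (Units.mk0 a ha))).mp ⟨_, rfl⟩)
      have hb' : ∀ y, (u : Module.End F K) (a * y) = b * (u : Module.End F K) y := by
        intro y
        have h := congrArg (fun w : Module.End F K => w ((u : Module.End F K) y)) hb
        have hi : ((u⁻¹ : (Module.End F K)ˣ) : Module.End F K) ((u : Module.End F K) y) = y :=
          congrArg (fun w : Module.End F K => w y) u.inv_mul
        simp only [Units.val_mul, Module.End.mul_apply, hi] at h
        simpa using h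
      have h1 := hb' 1
      rw [mul_one] at h1
      rw [hb', h1, mul_div_assoc, div_self hu1, mul_one]
    let f : K →ₐ[F] K :=
      { toFun := fun a => (u : Module.End F K) a / (u : Module.End F K) 1
        map_one' := div_self hu1
        map_mul' := fun a b => by
          rw [key a b, mul_div_assoc]
        map_zero' := by simp
        map_add' := fun a b => by rw [map_add, add_div]
        commutes' := fun r => by
          rw [Algebra.algebraMap_eq_smul_one, map_smul, Algebra.smul_def, Algebra.smul_def, mul_one,
            mul_div_assoc, div_self hu1, mul_one] }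
    refine ⟨Units.mk0 _ hu1, AlgEquiv.ofBijective f
      (Finite.injective_iff_bijective.mp f.toRingHom.injective), Units.ext (LinearMap.ext fun x => ?_)⟩
    simp [semi, f, mul_div_cancel₀ _ hu1]
  · rintro ⟨k, σ, rfl⟩
    refine Subgroup.mem_normalizer_fintype ?_
    intro w hw
    obtain ⟨a, ha⟩ := mem_torus.mp hw
    refine mem_torus.mpr ⟨σ a, LinearMap.ext fun x => ?_⟩
    rw [Units.val_mul, Units.val_mul, ha]
    simp [semi]
    field_simp

theorem card_normalizer [Fintype F] [Fintype K] :
    Nat.card (Subgroup.normalizer ((torus F K : Subgroup _) : Set (Module.End F K)ˣ)) =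
      Module.finrank F K * (Fintype.card K - 1) := by
  haveI : FiniteDimensional F K := Module.Finite.of_finite
  let f : Kˣ × (K ≃ₐ[F] K) → Subgroup.normalizer ((torus F K : Subgroup _) : Set (Module.End F K)ˣ) :=
    fun p => ⟨semi p.1 p.2, mem_normalizer_iff.mpr ⟨_, _, rfl⟩⟩
  have hf : Function.Bijective f := by
    refine ⟨fun a b h => semi_injective (congrArg Subtype.val h), fun u => ?_⟩
    obtain ⟨k, σ, h⟩ := mem_normalizer_iff.mp u.2
    exact ⟨(k, σ), Subtype.ext h.symm⟩
  rw [← Nat.card_congr (Equiv.ofBijective f hf), Nat.card_prod, Nat.card_units, Nat.card_eq_fintype_card,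
    IsGalois.card_aut_eq_finrank, mul_comm]

theorem card_inf_conj [Fintype F] [Fintype K] (g : (Module.End F K)ˣ)
    (hg : (torus F K).map (MulAut.conj g).toMonoidHom ≠ torus F K) :
    ∃ r : ℕ, 1 ≤ r ∧ r ∣ Module.finrank F K ∧ r < Module.finrank F K ∧
      Nat.card ↥((torus F K).map (MulAut.conj g).toMonoidHom ⊓ torus F K) ∣ Fintype.card F ^ r - 1 := by
  haveI : FiniteDimensional F K := Module.Finite.of_finite
  haveI : Finite (Module.End F K) := Finite.of_injective _ DFunLike.coe_injective
  let c : K →ₐ[F] Module.End F K :=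
    { toFun := fun k => (g : Module.End F K) * Algebra.lmul F K k * ((g⁻¹ : (Module.End F K)ˣ) : Module.End F K)
      map_one' := by rw [map_one, mul_one, Units.mul_inv]
      map_mul' := fun a b => by
        simp only [map_mul, mul_assoc]
        simp
      map_zero' := by simp
      map_add' := fun a b => by simp [map_add, mul_add, add_mul]
      commutes' := fun r => by
        rw [AlgHom.commutes, ← Algebra.commutes, mul_assoc, Units.mul_inv, mul_one] }
  let L : Subalgebra F K := c.range.comap (Algebra.lmul F K)
  have hgmem : ∀ u, u ∈ (torus F K).map (MulAut.conj g).toMonoidHom ↔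
      ∃ k, (u : Module.End F K) = c k := by
    intro u
    constructor
    · rintro ⟨t, ht, rfl⟩
      obtain ⟨k, hk⟩ := mem_torus.mp ht
      exact ⟨k, by simp [c, hk]⟩
    · rintro ⟨k, hk⟩
      refine ⟨g⁻¹ * u * g, mem_torus.mpr ⟨k, ?_⟩, by simp [mul_assoc]⟩
      simp [hk, c, mul_assoc]
  have htop : L ≠ ⊤ := by
    intro h
    apply hg
    refine (Subgroup.eq_of_le_of_card_ge ?_ ?_).symm
    · intro u hu
      obtain ⟨k, hk⟩ := mem_torus.mp hu
      obtain ⟨k', hk'⟩ : k ∈ L := h ▸ Algebra.mem_top
      exact (hgmem u).mpr ⟨k', hk.trans hk'.symm⟩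
    · rw [Subgroup.card_map_of_injective (MulAut.conj g).injective]
  have hLf : IsField L := Subalgebra.isField_of_algebraic L
  letI := hLf.toField
  have hdvd : Module.finrank F L ∣ Module.finrank F K := ⟨_, (Module.finrank_mul_finrank F L K).symm⟩
  refine ⟨Module.finrank F L, Module.finrank_pos, hdvd, ?_, ?_⟩
  · refine lt_of_le_of_ne (Submodule.finrank_le (Subalgebra.toSubmodule L)) fun h => htop ?_
    exact Algebra.toSubmodule_eq_top.mp (Submodule.eq_top_of_finrank_eq h)
  · haveI : Finite L := Finite.of_injective _ Subtype.val_injective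
    have e : Lˣ → ↥((torus F K).map (MulAut.conj g).toMonoidHom ⊓ torus F K) := fun x =>
      ⟨Units.map ((Algebra.lmul F K : K →ₐ[F] Module.End F K) : K →* Module.End F K)
        (Units.map (L.val : L →* K) x), by
        refine ⟨?_, ⟨_, rfl⟩⟩
        obtain ⟨k', hk'⟩ := (x : L).2
        exact (hgmem _).mpr ⟨k', hk'.symm⟩⟩
    have hcard : Nat.card ↥((torus F K).map (MulAut.conj g).toMonoidHom ⊓ torus F K) = Nat.card {k : L // k ≠ 0} := by
      refine (Nat.card_congr (Equiv.ofBijective (fun k : {k : L // k ≠ 0} =>
        (⟨Units.map ((Algebra.lmul F K : K →ₐ[F] Module.End F K) : K →* Module.End F K)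
          (Units.mk0 (k.1 : K) (fun h => k.2 (Subtype.ext h))), by
          obtain ⟨k', hk'⟩ := k.1.2
          exact ⟨(hgmem _).mpr ⟨k', hk'.symm⟩, ⟨_, rfl⟩⟩⟩ :
          ↥((torus F K).map (MulAut.conj g).toMonoidHom ⊓ torus F K))) ⟨?_, ?_⟩)).symm
      · intro a b h
        exact Subtype.ext (Subtype.ext (lmul_inj (congrArg Units.val (congrArg Subtype.val h))))
      · rintro ⟨u, hu1, hu2⟩
        obtain ⟨k, hk⟩ := mem_torus.mp hu2
        obtain ⟨k', hk'⟩ := (hgmem u).mp hu1
        have hk0 : k ≠ 0 := fun h => u.ne_zero (by rw [hk, h, map_zero])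
        exact ⟨⟨⟨k, ⟨k', hk'.symm.trans hk⟩⟩, fun h => hk0 (congrArg Subtype.val h)⟩,
          Subtype.ext (Units.ext hk.symm)⟩
    rw [hcard, ← Nat.card_congr (unitsEquivNeZero (G₀ := L)), Nat.card_units, Module.natCard_eq_pow_finrank (K := F),
      Nat.card_eq_fintype_card]

section Abelian

variable {V : Type w} [AddCommGroup V] [Module F V] [FiniteDimensional F V]

/-- A commutative algebra of endomorphisms with `x ^ Q = x` has a separating vector. -/
theorem exists_separating (A : Subalgebra F (Module.End F V)) [Finite A] (hcomm : ∀ a b : A, a * b = b * a)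
    {Q : ℕ} (hQ : 2 ≤ Q) (hpow : ∀ a : A, a ^ Q = a) :
    ∃ v : V, ∀ a : A, (a : Module.End F V) v = 0 → a = 0 := by
  classical
  let I : V → Set A := fun v => {a | (a : Module.End F V) v = 0}
  have key : ∀ n, ∀ v : V, (I v).ncard ≤ n → ∃ w : V, ∀ a : A, (a : Module.End F V) w = 0 → a = 0 := by
    intro n
    induction n with
    | zero =>
      intro v hv
      have h0 : (0 : A) ∈ I v := by simp [I]
      have := Set.ncard_pos (Set.toFinite _) |>.mpr ⟨0, h0⟩
      omega
    | succ n ih =>
      intro v hv
      by_cases hz : ∀ a : A, (a : Module.End F V) v = 0 → a = 0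
      · exact ⟨v, hz⟩
      push Not at hz
      obtain ⟨x, hxv, hx0⟩ := hz
      set e : A := x ^ (Q - 1) with he
      have hex : e * x = x := by rw [he, ← pow_succ, Nat.sub_add_cancel (by omega), hpow]
      have hee : e * e = e := by
        calc e * e = e * (x * x ^ (Q - 2)) := by rw [← pow_succ', show Q - 2 + 1 = Q - 1 by omega]
          _ = e := by rw [← mul_assoc, hex, ← pow_succ', show Q - 2 + 1 = Q - 1 by omega]
      have hev : (e : Module.End F V) v = 0 := by
        rw [he, show Q - 1 = (Q - 2) + 1 by omega, pow_succ]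
        simp [hxv]
      have he0 : e ≠ 0 := fun h => hx0 (by rw [← hex, h, zero_mul])
      obtain ⟨w, hw⟩ : ∃ w, (e : Module.End F V) w ≠ 0 := by
        by_contra hh
        push Not at hh
        exact he0 (Subtype.ext (LinearMap.ext hh))
      have hsub : I (v + (e : Module.End F V) w) ⊆ I v := by
        intro a ha
        simp only [I, Set.mem_ofPred_eq, map_add] at ha ⊢
        have h1 := congrArg (fun y => y - (e : Module.End F V) y) ha
        simp only [map_add, map_zero, sub_zero] at h1
        have c1 : (e : Module.End F V) ((a : Module.End F V) v) = 0 := by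
          change ((e * a : A) : Module.End F V) v = 0
          rw [hcomm e a]
          simp [hev]
        have c2 : (e : Module.End F V) ((a : Module.End F V) ((e : Module.End F V) w)) =
            (a : Module.End F V) ((e : Module.End F V) w) := by
          change ((e * (a * e) : A) : Module.End F V) w = ((a * e : A) : Module.End F V) w
          rw [← mul_assoc, hcomm e a, mul_assoc, hee]
        rw [c1, c2] at h1
        simpa using h1
      have hne : e ∉ I (v + (e : Module.End F V) w) := by
        intro h
        simp only [I, Set.mem_ofPred_eq, map_add, hev, zero_add] at h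
        change ((e * e : A) : Module.End F V) w = 0 at h
        rw [hee] at h
        exact hw h
      have hlt : (I (v + (e : Module.End F V) w)).ncard < (I v).ncard :=
        Set.ncard_lt_ncard ⟨hsub, fun h => hne (h hev)⟩ (Set.toFinite _)
      exact ih (v + (e : Module.End F V) w) (by omega)
  exact key _ 0 le_rfl

/-- An abelian subgroup of order `q ^ n - 1` spans a field acting regularly. -/
theorem exists_field_of_abelian [Fintype F] [Finite V] (U : Subgroup (Module.End F V)ˣ)
    (hU : ∀ a ∈ U, ∀ b ∈ U, a * b = b * a) (hn : 1 ≤ Module.finrank F V)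
    (hcard : Nat.card U = Fintype.card F ^ Module.finrank F V - 1) :
    ∃ (A : Subalgebra F (Module.End F V)) (v : V), IsField A ∧ Module.finrank F A = Module.finrank F V ∧
      (∀ a : A, (a : Module.End F V) v = 0 → a = 0) ∧
      (∀ u ∈ U, (u : Module.End F V) ∈ A) ∧
      ∀ x : A, x ≠ 0 → ∃ u ∈ U, (u : Module.End F V) = x := by
  classical
  haveI : Finite (Module.End F V) := Finite.of_injective _ DFunLike.coe_injective
  set q := Fintype.card F with hq
  have hq1 : 1 < q := Fintype.one_lt_card
  set A := Algebra.adjoin F ((fun u : (Module.End F V)ˣ => (u : Module.End F V)) '' (U : Set (Module.End F V)ˣ))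
    with hA
  have hcomm : ∀ a b : A, a * b = b * a := by
    intro a b
    apply Subtype.ext
    refine Algebra.adjoin_induction₂ (p := fun x y _ _ => x * y = y * x) ?_ ?_ ?_ ?_ ?_ ?_ ?_ ?_ a.2 b.2
    · rintro _ _ ⟨u, hu, rfl⟩ ⟨w, hw, rfl⟩
      exact congrArg Units.val (hU u hu w hw)
    · intro r s; exact (Algebra.commutes r _)
    · intro r x _; exact Algebra.commutes r x
    · intro r x _; exact (Algebra.commutes r x).symm
    · intro x y z _ _ _ h1 h2; rw [add_mul, mul_add, h1, h2]
    · intro x y z _ _ _ h1 h2; rw [add_mul, mul_add, h1, h2]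
    · intro x y z _ _ _ h1 h2; exact (Commute.mul_left h1 h2).eq
    · intro x y z _ _ _ h1 h2; exact (Commute.mul_right h1 h2).eq
  have hdvd : ∀ k, q ^ (Module.finrank F V) ≠ 0 := fun _ => pow_ne_zero _ (by omega)
  set Q := q ^ Module.finrank F V with hQdef
  have hQ : 2 ≤ Q := le_trans hq1 (Nat.le_self_pow (by omega) q)
  have hpow : ∀ a : A, a ^ Q = a := by
    intro a
    apply Subtype.ext
    rw [SubmonoidClass.coe_pow]
    have hmem : ∀ x, x ∈ A → x ∈ A ∧ x ^ Q = x := by
      intro x hx
      induction hx using Algebra.adjoin_induction with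
      | mem y hy =>
        obtain ⟨u, hu, rfl⟩ := hy
        refine ⟨Algebra.subset_adjoin ⟨u, hu, rfl⟩, ?_⟩
        have h := pow_card_eq_one' (G := U) (x := ⟨u, hu⟩)
        rw [hcard] at h
        have h' : u ^ (Q - 1) = 1 := congrArg Subtype.val h
        rw [← Units.val_pow_eq_pow_val, ← Nat.sub_add_cancel (show 1 ≤ Q by omega), pow_succ, h', one_mul]
      | algebraMap r =>
        refine ⟨Subalgebra.algebraMap_mem _ _, ?_⟩
        rw [← map_pow, hQdef, hq, FiniteField.pow_card_pow]
      | add x y _ _ hx hy =>
        refine ⟨add_mem hx.1 hy.1, ?_⟩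
        obtain ⟨p, hp⟩ := CharP.exists F
        obtain ⟨e, hpp, he⟩ := FiniteField.card F p
        haveI := Fact.mk hpp
        haveI : Nontrivial (Module.End F V) := by
          haveI : Nontrivial V := Module.nontrivial_of_finrank_pos (R := F) (by omega)
          infer_instance
        haveI : CharP (Module.End F V) p :=
          charP_of_injective_algebraMap (FaithfulSMul.algebraMap_injective F _) p
        have hc : Commute x y := congrArg Subtype.val (hcomm ⟨x, hx.1⟩ ⟨y, hy.1⟩)
        rw [hQdef, hq, he, ← pow_mul, add_pow_char_pow_of_commute p _ hc, pow_mul, ← he, ← hq, ← hQdef, hx.2, hy.2]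
      | mul x y _ _ hx hy =>
        refine ⟨mul_mem hx.1 hy.1, ?_⟩
        have hc : Commute x y := congrArg Subtype.val (hcomm ⟨x, hx.1⟩ ⟨y, hy.1⟩)
        rw [hc.mul_pow, hx.2, hy.2]
    exact (hmem a a.2).2
  obtain ⟨v, hv⟩ := exists_separating A hcomm hQ hpow
  let f : A →ₗ[F] V := (LinearMap.applyₗ v).comp A.val.toLinearMap
  have hf : Function.Injective f := by
    rw [injective_iff_map_eq_zero]
    exact hv
  have hle := LinearMap.finrank_le_finrank_of_injective hf
  haveI : Fintype A := Fintype.ofFinite A
  let j : U → {x : A // x ≠ 0} := fun u => ⟨⟨(u.1 : Module.End F V), Algebra.subset_adjoin ⟨u.1, u.2, rfl⟩⟩,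
    fun h => by
      haveI : Nontrivial V := Module.nontrivial_of_finrank_pos (R := F) (by omega)
      exact u.1.ne_zero (congrArg Subtype.val h)⟩
  have hj : Function.Injective j := fun a b h =>
    Subtype.ext (Units.ext (congrArg (fun z => ((z.1 : A) : Module.End F V)) h))
  have hn0 : Nat.card {x : A // x ≠ 0} = q ^ Module.finrank F A - 1 := by
    rw [Nat.card_eq_fintype_card, Fintype.card_subtype_compl, Fintype.card_subtype_eq,
      Module.card_eq_pow_finrank (K := F)]
  have h1 := Nat.card_le_card_of_injective j hj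
  rw [hcard, hn0] at h1
  have hAV : Module.finrank F A = Module.finrank F V := by
    refine le_antisymm hle ?_
    by_contra hlt
    push Not at hlt
    have := Nat.pow_lt_pow_right hq1 hlt
    have := Nat.one_le_pow (Module.finrank F A) q (by omega)
    omega
  have hsurj : Function.Surjective j :=
    ((Nat.bijective_iff_injective_and_card j).mpr ⟨hj, by rw [hcard, hn0, hAV]⟩).2
  refine ⟨A, v, ⟨⟨0, 1, fun h => ?_⟩, hcomm, fun {a} ha => ?_⟩, hAV, hv,
    fun u hu => Algebra.subset_adjoin ⟨u, hu, rfl⟩, fun x hx => ?_⟩
  · haveI : Nontrivial V := Module.nontrivial_of_finrank_pos (R := F) (by omega)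
    exact zero_ne_one (α := Module.End F V) (congrArg Subtype.val h)
  · obtain ⟨u, hu⟩ := hsurj ⟨a, ha⟩
    refine ⟨⟨((u.1⁻¹ : (Module.End F V)ˣ) : Module.End F V), Algebra.subset_adjoin ⟨_, inv_mem u.2, rfl⟩⟩, ?_⟩
    apply Subtype.ext
    have : (u.1 : Module.End F V) = a := congrArg (fun z => ((z.1 : A) : Module.End F V)) hu
    rw [MulMemClass.coe_mul, OneMemClass.coe_one, ← this, Units.mul_inv]
  · obtain ⟨u, hu⟩ := hsurj ⟨x, hx⟩
    exact ⟨u.1, u.2, congrArg (fun z => ((z.1 : A) : Module.End F V)) hu⟩

theorem conj_torus_of_abelian [Fintype F] [Fintype K] (U : Subgroup (Module.End F K)ˣ)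
    (hU : ∀ a ∈ U, ∀ b ∈ U, a * b = b * a) (hcard : Nat.card U = Fintype.card K - 1) :
    ∃ g : (Module.End F K)ˣ, U.map (MulAut.conj g).toMonoidHom = torus F K := by
  haveI : FiniteDimensional F K := Module.Finite.of_finite
  haveI : Finite (Module.End F K) := Finite.of_injective _ DFunLike.coe_injective
  obtain ⟨A, v, hA, hdim, hv, hUA, hAU⟩ := exists_field_of_abelian U hU Module.finrank_pos
    (by rw [hcard, Module.card_eq_pow_finrank (K := F)])
  letI : Field A := @IsField.toField A inferInstance hA
  haveI : Finite A := Finite.of_injective _ Subtype.val_injective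
  obtain ⟨ψ⟩ := FiniteField.nonempty_algHom_of_finrank_dvd (F := F) (K := K) (L := A) (by rw [hdim])
  let T : Module.End F K := (LinearMap.applyₗ v).comp (A.val.toLinearMap.comp ψ.toLinearMap)
  have hT : Function.Injective T := by
    rw [injective_iff_map_eq_zero]
    intro k hk
    exact (map_eq_zero_iff _ ψ.toRingHom.injective).mp (hv _ hk)
  let T' : (Module.End F K)ˣ := (LinearMap.GeneralLinearGroup.generalLinearEquiv F K).symm
    (LinearEquiv.ofBijective T ⟨hT, LinearMap.injective_iff_surjective.mp hT⟩)
  have hval : ∀ k x, (T' : Module.End F K) (k * x) = (ψ k : Module.End F K) ((T' : Module.End F K) x) := by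
    intro k x
    change ((ψ (k * x) : A) : Module.End F K) v = _
    rw [map_mul]; rfl
  refine ⟨T'⁻¹, Subgroup.eq_of_le_of_card_ge ?_ ?_⟩
  · rintro _ ⟨u, hu, rfl⟩
    have hs : Function.Surjective ψ :=
      (LinearMap.injective_iff_surjective_of_finrank_eq_finrank (f := ψ.toLinearMap) hdim.symm).mp
        ψ.toRingHom.injective
    obtain ⟨k, hk⟩ := hs ⟨_, hUA u hu⟩
    refine mem_torus.mpr ⟨k, LinearMap.ext fun x => ?_⟩
    simp only [MulEquiv.coe_toMonoidHom, MulAut.conj_apply, inv_inv, Units.val_mul, Module.End.mul_apply]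
    rw [show (u : Module.End F K) = ((ψ k : A) : Module.End F K) by rw [hk], ← hval]
    exact congrArg (fun w : Module.End F K => w (k * x)) T'.inv_mul
  · rw [Subgroup.card_map_of_injective (MulAut.conj T'⁻¹).injective, hcard, card_torus]

end Abelian

end Cfsg.Lib.Classical.Singer
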