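import Mathlib
import Cfsg.Prelude.Def_GeometricClasses
import Cfsg.Agent.Classical.SL
import Cfsg.Agent.Classical.Misc.PrimeOrderCriteria
import Cfsg.Agent.Classical.Misc.InvolutionForms
import Cfsg.Agent.Classical.Misc.SimilitudeDerangement

/-! Elements of order `n` of `SL_n`, `n` an odd prime, and the normaliser of a Singer cycle. -/

set_option autoImplicit false
set_option linter.unusedSimpArgs false
set_option linter.unusedSectionVars false
set_option linter.unusedVariables false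
set_option linter.style.haveILetI false
set_option linter.flexible false

namespace Cfsg.Lib.Classical.SingerDerange

open Submodule PrimeOrd

universe u

variable {F : Type u} [Field F] [Fintype F] {n : ℕ}

local notation "V" => (Fin n → F)
local notation "M" => Matrix (Fin n) (Fin n) F

/-- The normaliser inside `SL`. -/
abbrev H (K : Subalgebra F M) : Subgroup (Matrix.SpecialLinearGroup (Fin n) F) :=
  (Cfsg.Geo.subalgebraNormalizer K).comap
    (Matrix.SpecialLinearGroup.toGL : Matrix.SpecialLinearGroup (Fin n) F →* GL (Fin n) F)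

/-- A field structure of full degree. -/
structure Sing (K : Subalgebra F M) : Prop where
  pr : n.Prime
  field : Cfsg.Geo.IsFieldSubalgebra n K

theorem Sing.pos {K : Subalgebra F M} (S : Sing K) : 0 < n := S.pr.pos

theorem Sing.inj {K : Subalgebra F M} (S : Sing K) {k : M} (hk : k ∈ K) {v : V} (hv : v ≠ 0)
    (h : k.mulVec v = 0) : k = 0 := by
  by_contra hk0
  obtain ⟨y, hy, hky⟩ := S.field.inv k hk hk0
  have hyk : y * k = 1 := by rw [S.field.comm y hy k hk, hky]
  have := congrArg y.mulVec h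
  rw [Matrix.mulVec_mulVec, hyk, Matrix.one_mulVec, Matrix.mulVec_zero] at this
  exact hv this

theorem Sing.surj {K : Subalgebra F M} (S : Sing K) {v : V} (hv : v ≠ 0) (w : V) : ∃ k ∈ K, k.mulVec v = w := by
  let ev : K →ₗ[F] V := (Matrix.mulVecBilin F F).flip v ∘ₗ K.val.toLinearMap
  have hev : Function.Injective ev := by
    rw [injective_iff_map_eq_zero]
    exact fun k hk => Subtype.ext (S.inj k.2 hv hk)
  have hd : Module.finrank F K = Module.finrank F V := by
    rw [Module.finrank_fintype_fun_eq_card, Fintype.card_fin]; exact S.field.finrank_eq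
  obtain ⟨k, hk⟩ := (LinearMap.injective_iff_surjective_of_finrank_eq_finrank hd).mp hev w
  exact ⟨k.1, k.2, hk⟩

theorem Sing.simple {K : Subalgebra F M} (S : Sing K) (C : Subalgebra F K) : C = ⊥ ∨ C = ⊤ := by
  letI : CommRing K := { (inferInstance : Ring K) with mul_comm := fun a b => Subtype.ext (S.field.comm a a.2 b b.2) }
  haveI : Nonempty (Fin n) := ⟨⟨0, S.pos⟩⟩
  have hF : IsField K :=
    { exists_pair_ne := ⟨0, 1, zero_ne_one⟩
      mul_comm := mul_comm
      mul_inv_cancel := fun {a} ha => by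
        obtain ⟨y, hy, h⟩ := S.field.inv a a.2 (fun h => ha (Subtype.ext h))
        exact ⟨⟨y, hy⟩, Subtype.ext h⟩ }
  letI : Field K := hF.toField
  have hd : (Module.finrank F K).Prime := by rw [S.field.finrank_eq]; exact S.pr
  exact (Subalgebra.isSimpleOrder_of_finrank_prime F K hd).eq_bot_or_eq_top C

/-- An element of the normaliser fixing two independent vectors is trivial. -/
theorem fix_two {K : Subalgebra F M} (S : Sing K) {g : GL (Fin n) F} (hg : g ∈ Cfsg.Geo.subalgebraNormalizer K)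
    {v w : V} (hv : (g : M).mulVec v = v) (hw : (g : M).mulVec w = w) (hv0 : v ≠ 0)
    (hind : ∀ a : F, w ≠ a • v) : g = 1 := by
  obtain ⟨k, hk, hkv⟩ := S.surj hv0 w
  have hcanR : ∀ Y : M, Y * ((g⁻¹ : GL (Fin n) F) : M) * (g : M) = Y := fun Y => by
    rw [mul_assoc, ← Units.val_mul, inv_mul_cancel, Units.val_one, mul_one]
  have hginv : ((g⁻¹ : GL (Fin n) F) : M).mulVec v = v := by
    have := congrArg ((g⁻¹ : GL (Fin n) F) : M).mulVec hv
    rw [Matrix.mulVec_mulVec, ← Units.val_mul, inv_mul_cancel, Units.val_one, Matrix.one_mulVec] at this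
    exact this.symm
  have hcomm : (g : M) * k = k * (g : M) := by
    have h1 : (g : M) * k * ((g⁻¹ : GL (Fin n) F) : M) - k = 0 := S.inj (K.sub_mem ((hg k).mp hk) hk) hv0 (by
      rw [Matrix.sub_mulVec, ← Matrix.mulVec_mulVec, hginv, ← Matrix.mulVec_mulVec, hkv, hw, sub_self])
    rw [sub_eq_zero] at h1
    conv_rhs => rw [← h1]
    rw [hcanR]
  let C : Subalgebra F K := (Subalgebra.centralizer F ({(g : M)} : Set M)).comap K.val
  have hkC : (⟨k, hk⟩ : K) ∈ C := by
    show k ∈ Subalgebra.centralizer F ({(g : M)} : Set M)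
    rw [Subalgebra.mem_centralizer_iff]
    rintro a rfl
    exact hcomm
  rcases S.simple C with hC | hC
  · rw [hC, Algebra.mem_bot] at hkC
    obtain ⟨a, ha⟩ := hkC
    have hka : k = a • (1 : M) := by
      have := congrArg (fun z : K => (z : M)) ha
      simpa [Algebra.algebraMap_eq_smul_one] using this.symm
    exact absurd (by rw [← hkv, hka, Matrix.smul_mulVec, Matrix.one_mulVec]) (hind a)
  · have hall : ∀ k' ∈ K, (g : M) * k' = k' * (g : M) := fun k' hk' => by
      have : (⟨k', hk'⟩ : K) ∈ C := hC ▸ trivial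
      have h' : k' ∈ Subalgebra.centralizer F ({(g : M)} : Set M) := this
      rw [Subalgebra.mem_centralizer_iff] at h'
      exact h' _ rfl
    refine Units.ext (Matrix.ext_of_mulVec_single fun i => ?_)
    obtain ⟨k', hk', e⟩ := S.surj hv0 (Pi.single i 1)
    rw [← e, Matrix.mulVec_mulVec, hall k' hk', ← Matrix.mulVec_mulVec, hv, Units.val_one, Matrix.one_mulVec]

/-- An element of `SL` with a scaled fixed plane has no conjugate in the normaliser. -/
theorem not_conj {K : Subalgebra F M} (S : Sing K) (x : Matrix.SpecialLinearGroup (Fin n) F) {lam : F} (hlam : lam ≠ 0)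
    {v w : V} (hv : (x : M).mulVec v = lam • v) (hw : (x : M).mulVec w = lam • w) (hv0 : v ≠ 0)
    (hind : ∀ a : F, w ≠ a • v) (hns : ∀ z : F, (x : M) ≠ z • (1 : M))
    (P : Matrix.SpecialLinearGroup (Fin n) F) : P⁻¹ * x * P ∉ H K := by
  intro hP
  obtain ⟨Q, hQ⟩ : ∃ Q : M, Q = ((P⁻¹ : Matrix.SpecialLinearGroup (Fin n) F) : M) := ⟨_, rfl⟩
  have hPQ : (P : M) * Q = 1 := by
    rw [hQ, ← Matrix.SpecialLinearGroup.coe_mul, mul_inv_cancel, Matrix.SpecialLinearGroup.coe_one]
  have hQP : Q * (P : M) = 1 := by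
    rw [hQ, ← Matrix.SpecialLinearGroup.coe_mul, inv_mul_cancel, Matrix.SpecialLinearGroup.coe_one]
  set X : GL (Fin n) F := Matrix.SpecialLinearGroup.toGL (P⁻¹ * x * P)
  have hX : (X : M) = Q * (x : M) * (P : M) := by
    show ((P⁻¹ * x * P : Matrix.SpecialLinearGroup (Fin n) F) : M) = _
    rw [Matrix.SpecialLinearGroup.coe_mul, Matrix.SpecialLinearGroup.coe_mul, ← hQ]
  let G : GL (Fin n) F := ⟨lam⁻¹ • (X : M), lam • ((X⁻¹ : GL (Fin n) F) : M),
    by rw [smul_mul_smul_comm, inv_mul_cancel₀ hlam, one_smul, ← Units.val_mul, mul_inv_cancel, Units.val_one],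
    by rw [smul_mul_smul_comm, mul_inv_cancel₀ hlam, one_smul, ← Units.val_mul, inv_mul_cancel, Units.val_one]⟩
  have hG : G ∈ Cfsg.Geo.subalgebraNormalizer K := fun k => by
    show k ∈ K ↔ lam⁻¹ • (X : M) * k * (lam • ((X⁻¹ : GL (Fin n) F) : M)) ∈ K
    rw [smul_mul_assoc, smul_mul_smul_comm, inv_mul_cancel₀ hlam, one_smul]
    exact Subgroup.mem_comap.mp hP k
  have hfix : ∀ u : V, (x : M).mulVec u = lam • u → (G : M).mulVec (Q.mulVec u) = Q.mulVec u := fun u hu => by
    show (lam⁻¹ • (X : M)).mulVec (Q.mulVec u) = _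
    rw [hX, Matrix.smul_mulVec, Matrix.mulVec_mulVec, mul_assoc, hPQ, mul_one, ← Matrix.mulVec_mulVec, hu,
      Matrix.mulVec_smul, smul_smul, inv_mul_cancel₀ hlam, one_smul]
  have hcancel : ∀ u : V, (P : M).mulVec (Q.mulVec u) = u := fun u => by
    rw [Matrix.mulVec_mulVec, hPQ, Matrix.one_mulVec]
  have hG1 := fix_two S hG (hfix v hv) (hfix w hw)
    (fun h => hv0 (by rw [← hcancel v, h, Matrix.mulVec_zero]))
    (fun a h => hind a (by rw [← hcancel w, h, Matrix.mulVec_smul, hcancel]))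
  have h1 : lam⁻¹ • (X : M) = 1 := congrArg Units.val hG1
  apply hns lam
  have h2 : (X : M) = lam • 1 := by rw [← h1, smul_smul, mul_inv_cancel₀ hlam, one_smul]
  calc (x : M) = (P : M) * (Q * (x : M) * (P : M)) * Q := by
        simp only [← mul_assoc, hPQ, one_mul]; rw [mul_assoc, hPQ, mul_one]
    _ = lam • 1 := by rw [← hX, h2, mul_smul_comm, mul_one, smul_mul_assoc, hPQ]

/-- The cyclic permutation matrix. -/
def shift [NeZero n] : M := Matrix.of fun i j => if i = j + 1 then 1 else 0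

theorem shift_det [NeZero n] (hodd : Odd n) (h : (shift : M) ^ n = 1) : (shift : M).det = 1 := by
  have h1 : (shift : M).det * (shift : M).det = 1 := by
    have : (shift : M).transpose * shift = 1 := by
      ext i k
      simp [shift, Matrix.mul_apply, Matrix.one_apply, eq_comm]
    have := congrArg Matrix.det this
    rwa [Matrix.det_mul, Matrix.det_transpose, Matrix.det_one] at this
  have h2 := congrArg Matrix.det h
  rw [Matrix.det_pow, Matrix.det_one] at h2
  rcases mul_self_eq_one_iff.mp h1 with e | e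
  · exact e
  · rw [e, hodd.neg_one_pow] at h2
    rw [e, h2]

/-- A cyclic basis. -/
theorem cyclic_basis [NeZero n] (y : Module.End F V) (hy : y ^ n = 1) {v : V}
    (hv : ∀ U : Submodule F V, Inv y U → v ∈ U → U = ⊤) :
    ∃ w : Module.Basis (Fin n) F V, ∀ j, y (w j) = ∑ i, (shift : M) i j • w i := by
  let g : Fin n → V := fun j => (y ^ (j : ℕ)) v
  have hmod : ∀ j : ℕ, (y ^ j) v = g ⟨j % n, Nat.mod_lt _ (NeZero.pos n)⟩ := fun j => by
    show _ = (y ^ (j % n)) v
    rw [← pow_eq_pow_mod j hy]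
  have hnext : ∀ j, y (g j) = g (j + 1) := fun j => by
    show y ((y ^ (j : ℕ)) v) = _
    rw [← Module.End.mul_apply, ← pow_succ', hmod]
    congr 1
    exact Fin.ext (by simp [Fin.val_add])
  have htop : span F (Set.range g) = ⊤ := by
    refine hv _ (fun u hu => ?_) (subset_span ⟨0, by simp [g]⟩)
    have := apply_mem_span_image_of_mem_span y hu
    refine span_mono ?_ this
    rintro _ ⟨_, ⟨j, rfl⟩, rfl⟩
    exact ⟨j + 1, (hnext j).symm⟩
  refine ⟨Module.Basis.mk (linearIndependent_of_top_le_span_of_card_eq_finrank htop.ge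
    (by simp)) htop.ge, fun j => ?_⟩
  simp only [Module.Basis.mk_apply, hnext, shift, Matrix.of_apply, ite_smul, one_smul, zero_smul,
    Finset.sum_ite_eq', Finset.mem_univ, if_true]

/-- The semilinear element. -/
theorem exists_semilinear [NeZero n] {K : Subalgebra F M} (S : Sing K) :
    ∃ (Y : GL (Fin n) F) (v : V), Y ∈ Cfsg.Geo.subalgebraNormalizer K ∧ (Y : M) ^ n = 1 ∧ Y ≠ 1 ∧
      v ≠ 0 ∧ (Y : M).mulVec v = v := by
  classical
  letI : CommRing K := { (inferInstance : Ring K) with mul_comm := fun a b => Subtype.ext (S.field.comm a a.2 b b.2) }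
  haveI : Nonempty (Fin n) := ⟨⟨0, S.pos⟩⟩
  have hF : IsField K :=
    { exists_pair_ne := ⟨0, 1, zero_ne_one⟩
      mul_comm := mul_comm
      mul_inv_cancel := fun {a} ha => by
        obtain ⟨y, hy, h⟩ := S.field.inv a a.2 (fun h => ha (Subtype.ext h))
        exact ⟨⟨y, hy⟩, Subtype.ext h⟩ }
  letI : Field K := hF.toField
  letI : Algebra F K := Subalgebra.algebra K
  haveI : Finite K := Subtype.finite
  have hcard : Nat.card (K ≃ₐ[F] K) = n := by rw [IsGalois.card_aut_eq_finrank]; exact S.field.finrank_eq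
  haveI : Nontrivial (K ≃ₐ[F] K) := Finite.one_lt_card_iff_nontrivial.mp (by rw [hcard]; exact S.pr.one_lt)
  obtain ⟨σ, hσ⟩ := exists_ne (1 : K ≃ₐ[F] K)
  let v0 : V := Pi.single ⟨0, S.pos⟩ 1
  have hv0 : v0 ≠ 0 := by simp [v0]
  let ev0 : K →ₗ[F] V := (Matrix.mulVecBilin F F).flip v0 ∘ₗ K.val.toLinearMap
  have hev : Function.Bijective ev0 := ⟨(injective_iff_map_eq_zero ev0).mpr fun k hk => Subtype.ext (S.inj k.2 hv0 hk),
    fun w => by obtain ⟨k, hk, e⟩ := S.surj hv0 w; exact ⟨⟨k, hk⟩, e⟩⟩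
  let ev : K ≃ₗ[F] V := LinearEquiv.ofBijective ev0 hev
  have hevk : ∀ k : K, ev k = (k : M).mulVec v0 := fun k => rfl
  let mk : (K ≃ₐ[F] K) → M := fun τ => LinearMap.toMatrix' ((ev : K →ₗ[F] V) ∘ₗ τ.toLinearMap ∘ₗ (ev.symm : V →ₗ[F] K))
  have hmk : ∀ τ k, (mk τ).mulVec (ev k) = ev (τ k) := fun τ k => by simp [mk]
  have hext : ∀ A A' : M, (∀ k : K, A.mulVec (ev k) = A'.mulVec (ev k)) → A = A' := fun A A' h =>
    Matrix.ext_of_mulVec_single fun i => by
      obtain ⟨k, e⟩ := ev.surjective (Pi.single i 1)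
      rw [← e, h k]
  have hmul : ∀ τ τ', mk (τ * τ') = mk τ * mk τ' := fun τ τ' => hext _ _ fun k => by
    rw [← Matrix.mulVec_mulVec, hmk, hmk, hmk]
    rfl
  have hone : mk 1 = 1 := hext _ _ fun k => by rw [hmk, Matrix.one_mulVec]; rfl
  let Φ : (K ≃ₐ[F] K) →* M := ⟨⟨mk, hone⟩, hmul⟩
  let Y : GL (Fin n) F := ⟨mk σ, mk σ⁻¹, by rw [← hmul, mul_inv_cancel, hone], by rw [← hmul, inv_mul_cancel, hone]⟩
  have hconj : ∀ k : K, mk σ * (k : M) * mk σ⁻¹ = (σ k : M) := fun k => hext _ _ fun k' => by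
    rw [← Matrix.mulVec_mulVec, ← Matrix.mulVec_mulVec, hmk,
      show (k : M).mulVec (ev (σ⁻¹ k')) = ev (k * σ⁻¹ k') by rw [hevk, hevk, Matrix.mulVec_mulVec]; rfl, hmk,
      map_mul, show σ (σ⁻¹ k') = k' from σ.apply_symm_apply k', hevk, hevk, Matrix.mulVec_mulVec]
    rfl
  refine ⟨Y, ev 1, fun k => ⟨fun hk => ?_, fun hk => ?_⟩, ?_, fun h => hσ ?_, fun h => ?_, ?_⟩
  · show mk σ * k * mk σ⁻¹ ∈ K
    rw [show k = ((⟨k, hk⟩ : K) : M) from rfl, hconj]
    exact (σ _).2
  · change mk σ * k * mk σ⁻¹ ∈ K at hk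
    have h1 : (σ (σ.symm ⟨_, hk⟩) : M) = mk σ * k * mk σ⁻¹ := by rw [σ.apply_symm_apply]
    rw [← hconj] at h1
    have h2 := congrArg (fun z => mk σ⁻¹ * z * mk σ) h1
    simp only [← mul_assoc, ← hmul, inv_mul_cancel, hone, one_mul] at h2
    simp only [mul_assoc, ← hmul, inv_mul_cancel, hone, mul_one] at h2
    rw [← h2]
    exact (σ.symm _).2
  · show Φ σ ^ n = 1
    rw [← map_pow, show σ ^ n = 1 by have h5 := pow_card_eq_one' (x := σ); rwa [hcard] at h5, map_one]
  · refine AlgEquiv.ext fun k => ev.injective ?_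
    have h1 : mk σ = 1 := congrArg Units.val h
    rw [← hmk, h1, Matrix.one_mulVec]
    rfl
  · rw [← map_zero ev] at h
    exact one_ne_zero (ev.injective h)
  · show (mk σ).mulVec (ev 1) = ev 1
    rw [hmk, map_one]

/-- An element with a cyclic vector has a conjugate in the normaliser. -/
theorem conj_in [NeZero n] (hodd : Odd n) (hnF : (n : F) ≠ 0) {K : Subalgebra F M}
    (Y : GL (Fin n) F) (hY : Y ∈ Cfsg.Geo.subalgebraNormalizer K) (hYn : (Y : M) ^ n = 1) {u : V}
    (hu : ∀ U : Submodule F V, Inv (Matrix.toLin' (Y : M)) U → u ∈ U → U = ⊤)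
    (x : Matrix.SpecialLinearGroup (Fin n) F) {b : F} (hb : b ≠ 0) {v : V}
    (hxn : (b⁻¹ • (x : M)) ^ n = 1)
    (hv : ∀ U : Submodule F V, Inv (Matrix.toLin' (b⁻¹ • (x : M))) U → v ∈ U → U = ⊤) :
    ∃ P : Matrix.SpecialLinearGroup (Fin n) F, P⁻¹ * x * P ∈ H K := by
  classical
  have hpow : ∀ A : M, A ^ n = 1 → Matrix.toLin' A ^ n = 1 := fun A h => by
    rw [← Matrix.toLin'_pow, h, Matrix.toLin'_one]; rfl
  obtain ⟨w, hw⟩ := cyclic_basis (Matrix.toLin' (Y : M)) (hpow _ hYn) hu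
  obtain ⟨w', hw'⟩ := cyclic_basis (Matrix.toLin' (b⁻¹ • (x : M))) (hpow _ hxn) hv
  have hD : ∀ δ : F, δ ≠ 0 → ∃ D : M, D.det = δ ∧ D * (shift : M) = shift * D := fun δ hδ => by
    let a : F := (δ - 1) / (n : F)
    refine ⟨1 + Matrix.replicateCol Unit (fun _ : Fin n => a) * Matrix.replicateRow Unit (fun _ : Fin n => (1 : F)), ?_, ?_⟩
    · rw [Matrix.det_one_add_replicateCol_mul_replicateRow]
      simp [dotProduct, a]
      field_simp
      ring
    · rw [add_mul, mul_add, one_mul, mul_one]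
      congr 1
      ext i j
      simp [shift, Matrix.mul_apply, Matrix.replicateCol, Matrix.replicateRow]
      rw [Finset.sum_eq_single (i - 1) (fun t _ ht => if_neg fun e => ht (by rw [e, add_sub_cancel_right])) (by simp)]
      simp
  have hYdet : (Y : M).det = 1 := by
    have hMY : LinearMap.toMatrix w w (Matrix.toLin' (Y : M)) = shift := by
      ext i j
      rw [LinearMap.toMatrix_apply, hw, map_sum]
      simp [Finsupp.single_apply]
    have h1 : (shift : M) ^ n = 1 := by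
      rw [← hMY, LinearMap.toMatrix_pow, hpow _ hYn, LinearMap.toMatrix_one]
    rw [← LinearMap.det_toLin', ← LinearMap.det_toMatrix w, hMY, shift_det hodd h1]
  let Y' : Matrix.SpecialLinearGroup (Fin n) F := ⟨(Y : M), hYdet⟩
  obtain ⟨P₂, hP₂⟩ := InvolForm.sl_conj Y' shift w (fun j => by rw [← Matrix.toLin'_apply]; exact hw j) hD
  obtain ⟨P₁, hP₁⟩ := InvolForm.sl_conj x (b • shift) w' (fun j => by
      have := hw' j
      rw [map_smul, LinearMap.smul_apply, inv_smul_eq_iff₀ hb, Matrix.toLin'_apply] at this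
      rw [this, Finset.smul_sum]
      simp [smul_smul])
    (fun δ hδ => by
      obtain ⟨D, h1, h2⟩ := hD δ hδ
      exact ⟨D, h1, by rw [mul_smul_comm, smul_mul_assoc, h2]⟩)
  refine ⟨P₁ * P₂⁻¹, Subgroup.mem_comap.mpr ?_⟩
  set X : GL (Fin n) F := Matrix.SpecialLinearGroup.toGL ((P₁ * P₂⁻¹)⁻¹ * x * (P₁ * P₂⁻¹))
  have hX : (X : M) = b • (Y : M) := by
    show (((P₁ * P₂⁻¹)⁻¹ * x * (P₁ * P₂⁻¹) : Matrix.SpecialLinearGroup (Fin n) F) : M) = _
    rw [show (P₁ * P₂⁻¹)⁻¹ * x * (P₁ * P₂⁻¹) = P₂ * (P₁⁻¹ * x * P₁) * P₂⁻¹ by group,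
      Matrix.SpecialLinearGroup.coe_mul, Matrix.SpecialLinearGroup.coe_mul, hP₁, ← hP₂,
      Matrix.SpecialLinearGroup.coe_mul, Matrix.SpecialLinearGroup.coe_mul, mul_smul_comm, smul_mul_assoc]
    congr 1
    rw [← Matrix.SpecialLinearGroup.coe_mul, ← Matrix.SpecialLinearGroup.coe_mul, ← Matrix.SpecialLinearGroup.coe_mul,
      ← Matrix.SpecialLinearGroup.coe_mul, show P₂ * (P₂⁻¹ * Y' * P₂) * P₂⁻¹ = Y' by group]
  have hXi : ((X⁻¹ : GL (Fin n) F) : M) = b⁻¹ • ((Y⁻¹ : GL (Fin n) F) : M) := by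
    refine Units.inv_eq_of_mul_eq_one_right ?_
    rw [hX, smul_mul_smul_comm, mul_inv_cancel₀ hb, one_smul, ← Units.val_mul, mul_inv_cancel, Units.val_one]
  intro k
  rw [hX, hXi, smul_mul_assoc, smul_mul_smul_comm, mul_inv_cancel₀ hb, one_smul]
  exact hY k

/-- The cyclic vector when the moved part is irreducible. -/
theorem exists_cyclic (hn : n.Prime) (h3 : 3 ≤ n) (hc : orderOf (Fintype.card F : ZMod n) = n - 1) (hnF : (n : F) ≠ 0)
    (y : Module.End F V) (hy : y ^ n = 1) (hy1 : y ≠ 1) :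
    ∃ v : V, ∀ U : Submodule F V, Inv y U → v ∈ U → U = ⊤ := by
  classical
  haveI := Fact.mk hn
  have hcm := isCompl_fix_mov (x := y) (r := n) hnF hy
  have hsum := finrank_add_eq_of_isCompl hcm
  rw [Module.finrank_fintype_fun_eq_card, Fintype.card_fin] at hsum
  have hmdvd := dvd_of_fpf (r := n) hy (inv_mov y) (disjoint_iff.mp hcm.symm.disjoint)
  rw [hc] at hmdvd
  have hmov0 : mov y ≠ ⊥ := fun h => hy1 (sub_eq_zero.mp (LinearMap.range_eq_bot.mp h))
  have hmp : 0 < Module.finrank F (mov y) :=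
    Nat.pos_of_ne_zero fun e => hmov0 (finrank_eq_zero.mp e)
  have hmle : n - 1 ≤ Module.finrank F (mov y) := Nat.le_of_dvd hmp hmdvd
  have hfix1 : Module.finrank F (fix y) ≤ 1 := by omega
  have hfixne : Module.finrank F (fix y) ≠ 0 := by
    intro e
    obtain ⟨a, ha⟩ := hmdvd
    rw [e, zero_add] at hsum
    rw [hsum] at ha
    have h1 : (n - 1) ∣ n := ⟨a, ha⟩
    have h2 : (n - 1) ∣ 1 := by
      have := Nat.dvd_sub h1 (dvd_refl (n - 1))
      rwa [show n - (n - 1) = 1 by have := hn.one_lt; omega] at this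
    have := Nat.le_of_dvd one_pos h2
    have := hn.two_le
    omega
  obtain ⟨f, hf, hf0⟩ := exists_mem_ne_zero_of_ne_bot (fun e => hfixne (finrank_eq_zero.mpr e))
  obtain ⟨m, hm, hm0⟩ := exists_mem_ne_zero_of_ne_bot hmov0
  refine ⟨f + m, fun U hU hv => ?_⟩
  have hd : y m - m ∈ U ⊓ mov y := by
    refine ⟨?_, sub_mem (inv_mov y m hm) hm⟩
    have := sub_mem (hU _ hv) hv
    rwa [map_add, mem_fix.mp hf, show f + y m - (f + m) = y m - m by abel] at this
  have hd0 : y m - m ≠ 0 := fun e => hm0 (disjoint_def.mp hcm.disjoint m (mem_fix.mpr (sub_eq_zero.mp e)) hm)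
  have hUm : U ⊓ mov y = mov y := by
    refine eq_of_le_of_finrank_le inf_le_right ?_
    have h1 := dvd_of_fpf (r := n) hy (hU.inf (inv_mov y)) (by
      rw [inf_assoc, disjoint_iff.mp hcm.symm.disjoint, inf_bot_eq])
    rw [hc] at h1
    have h2 : 0 < Module.finrank F ↥(U ⊓ mov y) := Nat.pos_of_ne_zero fun e => hd0 (by
      have := finrank_eq_zero.mp e
      rw [this] at hd
      exact hd)
    have := Nat.le_of_dvd h2 h1
    omega
  have hmle' : mov y ≤ U := hUm ▸ inf_le_left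
  have hfU : f ∈ U := by
    have := sub_mem hv (hmle' hm)
    rwa [add_sub_cancel_right] at this
  refine top_le_iff.mp (hcm.sup_eq_top ▸ sup_le ?_ hmle')
  rw [← eq_of_le_of_finrank_le (span_le.mpr (Set.singleton_subset_iff.mpr hf) : span F {f} ≤ fix y)
    (by rw [finrank_span_singleton hf0]; exact hfix1)]
  exact span_le.mpr (Set.singleton_subset_iff.mpr hfU)

theorem to_data (hn : 0 < n) (x : Matrix.SpecialLinearGroup (Fin n) F)
    (hx : ∃ z : F, ((x ^ n : Matrix.SpecialLinearGroup (Fin n) F) : M) = z • (1 : M)) :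
    ∃ z : F, z ≠ 0 ∧ (x : M) ^ n = z • (1 : M) ∧ z ^ n = 1 := by
  obtain ⟨z, hz⟩ := hx
  have h1 := congrArg Matrix.det hz
  rw [Matrix.det_smul, Matrix.det_one, mul_one, Fintype.card_fin, Matrix.SpecialLinearGroup.det_coe] at h1
  exact ⟨z, fun e => by rw [e, zero_pow hn.ne'] at h1; exact one_ne_zero h1, by
    rw [← Matrix.SpecialLinearGroup.coe_pow]; exact hz, h1.symm⟩

/-- When the order of `q` is `n - 1` every element of order `n` has a conjugate in the normaliser. -/
theorem good {K : Subalgebra F M} (S : Sing K) (h3 : 3 ≤ n) (hc : orderOf (Fintype.card F : ZMod n) = n - 1)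
    (hnF : (n : F) ≠ 0) (x : Matrix.SpecialLinearGroup (Fin n) F)
    (hx : ∃ z : F, ((x ^ n : Matrix.SpecialLinearGroup (Fin n) F) : M) = z • (1 : M))
    (hns : ∀ z : F, (x : M) ≠ z • (1 : M)) :
    ∃ P : Matrix.SpecialLinearGroup (Fin n) F, P⁻¹ * x * P ∈ H K := by
  classical
  haveI : NeZero n := ⟨S.pos.ne'⟩
  haveI := Fact.mk S.pr
  have hodd : Odd n := S.pr.odd_of_ne_two (by omega)
  have hnd : ¬ n ∣ Fintype.card F - 1 := fun h => by
    have := (PrimeOrd.dvd_pow_sub_one (F := F) (r := n) 1).mp (by rwa [pow_one])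
    rw [hc, Nat.dvd_one] at this
    omega
  obtain ⟨z, hz, hxz, hzn⟩ := to_data S.pos x hx
  obtain rfl : z = 1 := PrimeOrd.root_one S.pr hnd hzn
  rw [one_smul] at hxz
  obtain ⟨Y, v₀, hY, hYn, hY1, -, -⟩ := exists_semilinear S
  have hpow : ∀ A : M, A ^ n = 1 → Matrix.toLin' A ^ n = 1 := fun A h => by
    rw [← Matrix.toLin'_pow, h, Matrix.toLin'_one]; rfl
  have hne : ∀ A : M, A ≠ 1 → Matrix.toLin' A ≠ 1 := fun A h e => h (Matrix.toLin'.injective (by
    rw [Matrix.toLin'_one]; exact e))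
  obtain ⟨u, hu⟩ := exists_cyclic S.pr h3 hc hnF _ (hpow _ hYn) (hne _ fun e => hY1 (Units.ext e))
  obtain ⟨v, hv⟩ := exists_cyclic S.pr h3 hc hnF _ (hpow _ (show ((1 : F)⁻¹ • (x : M)) ^ n = 1 by rw [inv_one, one_smul, hxz]))
    (hne _ (by rw [inv_one, one_smul]; exact fun e => hns 1 (by rw [one_smul]; exact e)))
  exact conj_in hodd hnF Y hY hYn hu x one_ne_zero (by rw [inv_one, one_smul, hxz]) hv

/-- Otherwise some element of order `n` has none. -/
theorem bad {K : Subalgebra F M} (S : Sing K) (h3 : 3 < n) (hc : orderOf (Fintype.card F : ZMod n) ≠ n - 1)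
    (hnF : (n : F) ≠ 0) :
    ∃ x : Matrix.SpecialLinearGroup (Fin n) F,
      (∃ z : F, ((x ^ n : Matrix.SpecialLinearGroup (Fin n) F) : M) = z • (1 : M)) ∧
      (∀ z : F, (x : M) ≠ z • (1 : M)) ∧ ∀ P : Matrix.SpecialLinearGroup (Fin n) F, P⁻¹ * x * P ∉ H K := by
  classical
  haveI := Fact.mk S.pr
  obtain ⟨p, hp⟩ := CharP.exists F
  haveI : Fact p.Prime := ⟨CharP.char_is_prime F p⟩
  obtain ⟨e, -, he⟩ := FiniteField.card F p
  have hrF : ¬ n ∣ Fintype.card F := fun h => hnF ((CharP.cast_eq_zero_iff F p n).mpr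
    (by rw [(Nat.prime_dvd_prime_iff_eq S.pr (Fact.out : p.Prime)).mp (S.pr.dvd_of_dvd_pow (he ▸ h))]))
  set c := orderOf (Fintype.card F : ZMod n) with hcd
  have hcdvd : c ∣ n - 1 := orderOf_dvd_of_pow_eq_one (ZMod.pow_card_sub_one_eq_one fun e0 =>
    hrF ((ZMod.natCast_eq_zero_iff _ _).mp e0))
  have hc0 : 0 < c := PrimeOrd.ord_pos hrF
  have fin : ∀ x : Matrix.SpecialLinearGroup (Fin n) F, (x : M) ^ n = 1 →
      ∃ z : F, ((x ^ n : Matrix.SpecialLinearGroup (Fin n) F) : M) = z • (1 : M) := fun x h =>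
    ⟨1, by rw [Matrix.SpecialLinearGroup.coe_pow, h, one_smul]⟩
  have h2c : 2 * c ≤ n - 1 := by
    obtain ⟨a, ha⟩ := hcdvd
    rcases a with _ | _ | a
    · omega
    · omega
    · nlinarith
  by_cases hc1 : c = 1
  · have hdvd : n ∣ Fintype.card F - 1 := by
      have := (PrimeOrd.dvd_pow_sub_one (F := F) (r := n) 1).mpr (by rw [← hcd, hc1])
      rwa [pow_one] at this
    obtain ⟨w, hw⟩ := exists_prime_orderOf_dvd_card' (G := Fˣ) n (by
      rw [Nat.card_eq_fintype_card, Fintype.card_units]; exact hdvd)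
    have hwr : ((w : Fˣ) : F) ^ n = 1 := by
      rw [← Units.val_pow_eq_pow_val, ← hw, pow_orderOf_eq_one, Units.val_one]
    let i₀ : Fin n := ⟨0, by omega⟩
    let i₁ : Fin n := ⟨1, by omega⟩
    let i₂ : Fin n := ⟨2, by omega⟩
    let i₃ : Fin n := ⟨3, by omega⟩
    let d : Fin n → F := fun i => if i = i₂ then (w : F) else if i = i₃ then (w : F)⁻¹ else 1
    have hdet : (Matrix.diagonal d).det = 1 := by
      rw [Matrix.det_diagonal, ← Finset.prod_subset (Finset.subset_univ ({i₂, i₃} : Finset (Fin n)))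
        (fun i _ hi => by simp at hi; simp [d, hi]), Finset.prod_pair (by simp [i₂, i₃])]
      simp [d, i₂, i₃]
    refine ⟨⟨Matrix.diagonal d, hdet⟩, fin _ ?_, fun z hz => ?_, fun P =>
      not_conj S _ one_ne_zero (v := Pi.single i₀ 1) (w := Pi.single i₁ 1) ?_ ?_ (by simp) (fun a h => ?_) (fun z hz => ?_) P⟩
    · show Matrix.diagonal d ^ n = 1
      rw [Matrix.diagonal_pow, ← Matrix.diagonal_one]
      congr 1
      funext i
      simp only [d, Pi.pow_apply]
      split_ifs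
      · exact hwr
      · rw [inv_pow, hwr, inv_one]
      · exact one_pow n
    rotate_left 1
    · show (Matrix.diagonal d).mulVec (Pi.single i₀ 1) = (1 : F) • Pi.single i₀ 1
      rw [Matrix.diagonal_mulVec_single, show d i₀ = 1 by simp [d, i₀, i₂, i₃], one_mul, one_smul]
    · show (Matrix.diagonal d).mulVec (Pi.single i₁ 1) = (1 : F) • Pi.single i₁ 1
      rw [Matrix.diagonal_mulVec_single, show d i₁ = 1 by simp [d, i₁, i₂, i₃], one_mul, one_smul]
    · have := congrFun h i₁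
      simp [i₀, i₁] at this
    all_goals
      have e0 := congrFun (congrFun hz i₀) i₀
      have e2 := congrFun (congrFun hz i₂) i₂
      simp [d, i₀, i₂, i₃] at e0 e2
      rw [← e0] at e2
      exact S.pr.ne_one (by rw [← hw, orderOf_eq_one_iff]; exact Units.ext e2)
  · obtain ⟨x, hx1, hx2, hx3⟩ := SimDerange.exists_block (r := n) (n := n) hnF hrF hcd (by omega) (by omega)
    have hfe : 2 ≤ Module.finrank F (fix (Matrix.toLin' (x : M))) := by rw [hx3]; omega
    obtain ⟨v, hv, hv0⟩ := exists_mem_ne_zero_of_ne_bot (p := fix (Matrix.toLin' (x : M))) (fun e => by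
      rw [e, finrank_bot] at hfe; omega)
    obtain ⟨w, hw, hwv⟩ : ∃ w ∈ fix (Matrix.toLin' (x : M)), ∀ a : F, w ≠ a • v := by
      by_contra h
      push Not at h
      have := finrank_mono (s := fix (Matrix.toLin' (x : M))) (t := span F {v}) fun u hu => by
        obtain ⟨a, ha⟩ := h u hu
        rw [ha]
        exact smul_mem _ _ (subset_span rfl)
      rw [finrank_span_singleton hv0] at this
      omega
    refine ⟨x, fin x hx1, hx2, fun P => not_conj S x one_ne_zero ?_ ?_ hv0 hwv hx2 P⟩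
    · rw [one_smul, ← Matrix.toLin'_apply]; exact mem_fix.mp hv
    · rw [one_smul, ← Matrix.toLin'_apply]; exact mem_fix.mp hw

/-- The criterion for primes greater than three. -/
theorem main {K : Subalgebra F M} (S : Sing K) (h3 : 3 < n) (hnF : (n : F) ≠ 0) :
    (∀ x : Matrix.SpecialLinearGroup (Fin n) F,
      (∃ z : F, ((x ^ n : Matrix.SpecialLinearGroup (Fin n) F) : M) = z • (1 : M)) →
      (∀ z : F, (x : M) ≠ z • (1 : M)) →
      ∃ P : Matrix.SpecialLinearGroup (Fin n) F, P⁻¹ * x * P ∈ H K) ↔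
    orderOf (Fintype.card F : ZMod n) = n - 1 := by
  refine ⟨fun h => ?_, fun hc x hx hns => good S (by omega) hc hnF x hx hns⟩
  by_contra hc
  obtain ⟨x, hx, hns, hb⟩ := bad S h3 hc hnF
  obtain ⟨P, hP⟩ := h x hx hns
  exact hb P hP

end Cfsg.Lib.Classical.SingerDerange
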