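import Mathlib
import Cfsg.Agent.Components.Misc.Zsigmondy
import Cfsg.Agent.Classical.SL
import Cfsg.Agent.Classical.Misc.PrimeOrbit

/-! Elements of `PSL(n,q)` whose order is divisible by a primitive prime of `q^n - 1`. -/

set_option autoImplicit false
set_option linter.unusedSectionVars false

namespace Cfsg.Lib.SingerOrder

open Matrix Polynomial

variable {F : Type*} [Field F] [Fintype F]

local notation "Kc" => AlgebraicClosure F

/-- order bound for elements of order divisible by a primitive prime -/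
theorem scalar_pow {p n r T d : ℕ} [Fact p.Prime] [CharP F p] [Nonempty (Fin n)] (hr : r.Prime) (hrp : r ≠ p)
    (hprim : ∀ a, 0 < a → a < n → ¬ r ∣ Fintype.card F ^ a - 1) (hr1 : ¬ r ∣ Fintype.card F - 1)
    (hT : T * (Fintype.card F - 1) = Fintype.card F ^ n - 1) (hd : d ∣ Fintype.card F - 1) (hdT : d ∣ T)
    (X : Matrix.SpecialLinearGroup (Fin n) F) (g : Matrix.ProjectiveSpecialLinearGroup (Fin n) F)
    (hg : (X : Matrix.ProjectiveSpecialLinearGroup (Fin n) F) = g) (hrg : r ∣ orderOf g) :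
    orderOf g ∣ T / d := by
  classical
  haveI := Fact.mk hr
  haveI : CharP Kc p := charP_of_injective_algebraMap (algebraMap F Kc).injective p
  obtain ⟨q, hq⟩ : ∃ q, q = Fintype.card F := ⟨_, rfl⟩
  rw [← hq] at hprim hr1 hT hd
  have hq2 : 2 ≤ q := hq ▸ Fintype.one_lt_card
  have hp : p.Prime := Fact.out
  obtain ⟨A, hA⟩ : ∃ A, A = (X : Matrix (Fin n) (Fin n) F).map (algebraMap F Kc) := ⟨_, rfl⟩
  have hcard : A.charpoly.roots.card = n := by
    rw [IsAlgClosed.card_roots_eq_natDegree, Matrix.charpoly_natDegree_eq_dim, Fintype.card_fin]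
  have hne : A.charpoly ≠ 0 := A.charpoly_monic.ne_zero
  have hchar : A.charpoly = (X : Matrix (Fin n) (Fin n) F).charpoly.map (algebraMap F Kc) := by
    rw [hA, Matrix.charpoly_map]
  obtain ⟨e, he⟩ : ∃ e, e = orderOf g / r := ⟨_, rfl⟩
  have her : e * r = orderOf g := by rw [he, Nat.div_mul_cancel hrg]
  have hXo : X ^ orderOf g ∈ Subgroup.center (Matrix.SpecialLinearGroup (Fin n) F) := by
    rw [← QuotientGroup.eq_one_iff, QuotientGroup.mk_pow, hg, pow_orderOf_eq_one]
  obtain ⟨z, -, hz⟩ := Matrix.SpecialLinearGroup.mem_center_iff.1 hXo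
  have hzA : A ^ orderOf g = (algebraMap F Kc z) • (1 : Matrix (Fin n) (Fin n) Kc) := by
    rw [hA]
    change ((algebraMap F Kc).mapMatrix (X : Matrix (Fin n) (Fin n) F)) ^ orderOf g = _
    rw [← map_pow, ← Matrix.SpecialLinearGroup.coe_pow, ← hz, Matrix.scalar_apply, RingHom.mapMatrix_apply,
      Matrix.diagonal_map (map_zero _), Matrix.smul_one_eq_diagonal]
  have hroot : ∀ x ∈ A.charpoly.roots, x ^ orderOf g = algebraMap F Kc z :=
    Cfsg.Lib.PrimeGraphChar.roots_pow A (orderOf g) _ hzA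
  have hz0 : z ≠ 0 := fun h0 => by
    have h1 := congrArg Matrix.det hz
    rw [(X ^ orderOf g).2, h0, map_zero, Matrix.det_zero] at h1
    exact zero_ne_one h1
  have hzq : (algebraMap F Kc z) ^ (q - 1) = 1 := by
    rw [← map_pow, hq, FiniteField.pow_card_sub_one_eq_one z hz0, map_one]
  have hg1 : 0 < orderOf g := orderOf_pos g
  have hl0 : ∀ x ∈ A.charpoly.roots, x ≠ 0 := fun x hx h0 => by
    have := hroot x hx
    rw [h0, zero_pow hg1.ne'] at this
    exact hz0 ((map_eq_zero _).1 this.symm)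
  -- a root whose relevant power is not rational
  obtain ⟨l, hl, hlq⟩ : ∃ l ∈ A.charpoly.roots, (l ^ e) ^ (q - 1) ≠ 1 := by
    by_contra hno
    push Not at hno
    have heq : ∀ x ∈ A.charpoly.roots, ∀ y ∈ A.charpoly.roots, x ^ e = y ^ e := by
      intro x hx y hy
      have hy0 : y ^ e ≠ 0 := pow_ne_zero _ (hl0 y hy)
      have h1 : (x ^ e / y ^ e) ^ r = 1 := by
        rw [div_pow, ← pow_mul, ← pow_mul, her, hroot x hx, hroot y hy, div_self]
        exact fun h => hz0 ((map_eq_zero _).1 h)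
      have h2 : (x ^ e / y ^ e) ^ (q - 1) = 1 := by rw [div_pow, hno x hx, hno y hy, div_one]
      have h3 := pow_gcd_eq_one.2 ⟨h1, h2⟩
      rw [(hr.coprime_iff_not_dvd.2 hr1).gcd_eq_one, pow_one, div_eq_one_iff_eq hy0] at h3
      exact h3
    obtain ⟨y, hy⟩ : ∃ y, y ∈ A.charpoly.roots :=
      Multiset.card_pos_iff_exists_mem.1 (hcard.symm ▸ Fin.pos (Classical.arbitrary (Fin n)))
    have h2 : A.charpoly ∣ (Polynomial.X ^ e - C (y ^ e) : Kc[X]) ^ n := by
      conv_lhs => rw [(IsAlgClosed.splits A.charpoly).eq_prod_roots_of_monic A.charpoly_monic]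
      refine (Multiset.prod_dvd_prod_of_dvd _ (fun _ => (Polynomial.X ^ e - C (y ^ e) : Kc[X])) fun x hx => ?_).trans ?_
      · rw [dvd_iff_isRoot, IsRoot, eval_sub, eval_pow, eval_X, eval_C, heq x hx y hy, sub_self]
      · rw [Multiset.map_const', Multiset.prod_replicate, hcard]
    obtain ⟨c, hc⟩ := h2
    have h3 := congrArg (Polynomial.aeval A) hc
    rw [map_pow, map_sub, map_pow, aeval_X, aeval_C, map_mul, Matrix.aeval_self_charpoly, zero_mul,
      Algebra.algebraMap_eq_smul_one] at h3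
    haveI : CharP (Matrix (Fin n) (Fin n) Kc) p := inferInstance
    have h5 := pow_eq_zero_of_le ((Nat.lt_pow_self hp.one_lt).le : n ≤ p ^ n) h3
    rw [sub_pow_char_pow_of_commute p n ((Commute.one_right _).smul_right _), _root_.smul_pow, one_pow, sub_eq_zero,
      ← pow_mul] at h5
    have h6 : X ^ (e * p ^ n) ∈ Subgroup.center (Matrix.SpecialLinearGroup (Fin n) F) := by
      rw [Subgroup.mem_center_iff]
      intro Y
      apply Subtype.ext
      apply Matrix.map_injective (algebraMap F Kc).injective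
      simp only [Matrix.SpecialLinearGroup.coe_mul, Matrix.SpecialLinearGroup.coe_pow]
      rw [Matrix.map_mul, Matrix.map_mul]
      rw [show ((X : Matrix (Fin n) (Fin n) F) ^ (e * p ^ n)).map (algebraMap F Kc) = A ^ (e * p ^ n) from by
        rw [hA]; exact map_pow ((algebraMap F Kc).mapMatrix) _ _, h5]
      rw [Matrix.mul_smul, Matrix.smul_mul, mul_one, one_mul]
    rw [← QuotientGroup.eq_one_iff, QuotientGroup.mk_pow, hg] at h6
    have h7 := orderOf_dvd_of_pow_eq_one h6
    rw [← her] at h7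
    have he0 : 0 < e := Nat.pos_of_mul_pos_right (her.symm ▸ hg1)
    exact hrp ((Nat.prime_dvd_prime_iff_eq hr hp).1 (hr.dvd_of_dvd_pow (Nat.dvd_of_mul_dvd_mul_left he0 h7)))
  -- its orbit fills everything
  have hη : ((l ^ e) ^ (q - 1)) ^ r = 1 := by
    rw [← pow_mul, mul_comm, pow_mul, ← pow_mul l, her, hroot l hl, hzq]
  have hord := orderOf_eq_prime hη hlq
  have hrq : ¬ r ∣ q := by
    obtain ⟨k, hp', hk⟩ := FiniteField.card F p
    rw [hq, hk]
    exact fun hd => hrp ((Nat.prime_dvd_prime_iff_eq hr hp').1 (hr.dvd_of_dvd_pow hd))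
  have hunit : IsUnit ((Fintype.card F : ℕ) : ZMod r) := by
    rw [isUnit_iff_ne_zero, Ne, ZMod.natCast_eq_zero_iff, ← hq]
    exact hrq
  obtain ⟨k, hk⟩ : ∃ k, k = orderOf ((Fintype.card F : ℕ) : ZMod r) := ⟨_, rfl⟩
  have hk0 : 0 < k := hk ▸ orderOf_pos_iff.2 (isOfFinOrder_iff_pow_eq_one.2
    ⟨r - 1, by have := hr.two_le; omega, ZMod.pow_card_sub_one_eq_one hunit.ne_zero⟩)
  have hkn : n ≤ k := by
    by_contra hlt
    refine hprim k hk0 (by omega) ?_
    rw [hq, ← ZMod.natCast_eq_zero_iff, Nat.cast_sub (Nat.one_le_pow _ _ Fintype.card_pos), Nat.cast_pow,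
      Nat.cast_one, hk, pow_orderOf_eq_one, sub_self]
  have hmem : ∀ i, l ^ Fintype.card F ^ i ∈ A.charpoly.roots := fun i => by
    rw [Polynomial.mem_roots hne] at hl ⊢
    rw [hchar] at hl ⊢
    exact Cfsg.Lib.PrimeOrbit.isRoot_pow_card_pow _ _ hl i
  have hinj : ∀ i, i < k → ∀ j, j < k → l ^ Fintype.card F ^ i = l ^ Fintype.card F ^ j → i = j := by
    intro i hi j hj h
    have h2 : ((l ^ e) ^ (q - 1)) ^ Fintype.card F ^ i = ((l ^ e) ^ (q - 1)) ^ Fintype.card F ^ j := by
      have := congrArg (fun x => (x ^ e) ^ (q - 1)) h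
      simp only [← pow_mul] at this ⊢
      rw [show e * (q - 1) * Fintype.card F ^ i = Fintype.card F ^ i * (e * (q - 1)) by ring,
        show e * (q - 1) * Fintype.card F ^ j = Fintype.card F ^ j * (e * (q - 1)) by ring]
      convert this using 2 <;> ring
    have h3 := Cfsg.Lib.PrimeOrbit.orbit_inj _ hord h2 (isOfFinOrder_iff_pow_eq_one.2 ⟨r, hr.pos, hη⟩) hunit
    rw [← hk] at h3
    exact Nat.ModEq.eq_of_lt_of_lt h3 hi hj
  obtain ⟨S, hS⟩ : ∃ S : Finset Kc, S = (Finset.range n).image fun i => l ^ Fintype.card F ^ i := ⟨_, rfl⟩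
  have hSc : S.card = n := by
    rw [hS, Finset.card_image_of_injOn, Finset.card_range]
    intro i hi j hj
    exact hinj i (lt_of_lt_of_le (Finset.mem_range.1 hi) hkn) j (lt_of_lt_of_le (Finset.mem_range.1 hj) hkn)
  have hSle : S.val ≤ A.charpoly.roots := (Multiset.le_iff_subset S.nodup).2 fun w hw => by
    have hw' : w ∈ S := Finset.mem_val.mp hw
    rw [hS] at hw'
    obtain ⟨i, -, rfl⟩ := Finset.mem_image.1 hw'
    exact hmem i
  have hroots : A.charpoly.roots = S.val :=
    (Multiset.eq_of_le_of_card_le hSle (by rw [hcard, Finset.card_val, hSc])).symm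
  have hinjS : Set.InjOn (fun i => l ^ Fintype.card F ^ i) (Finset.range n : Set ℕ) := fun i hi j hj =>
    hinj i (lt_of_lt_of_le (Finset.mem_range.1 hi) hkn) j (lt_of_lt_of_le (Finset.mem_range.1 hj) hkn)
  have hlT : l ^ T = 1 := by
    have h1 := Matrix.det_eq_prod_roots_charpoly A
    rw [hroots, Finset.prod_val, hS, Finset.prod_image hinjS] at h1
    simp only [id_eq] at h1
    rw [Finset.prod_pow_eq_pow_sum] at h1
    have h2 : A.det = 1 := by
      rw [hA]
      change ((algebraMap F Kc).mapMatrix (X : Matrix (Fin n) (Fin n) F)).det = 1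
      rw [← RingHom.map_det, X.2, map_one]
    rw [h2] at h1
    have hsum : ∑ i ∈ Finset.range n, q ^ i = T := by
      have h3 := geom_sum_mul_of_one_le (by omega : 1 ≤ q) n
      rw [← hT] at h3
      exact Nat.eq_of_mul_eq_mul_right (by omega) h3
    rw [← hq, hsum] at h1
    exact h1.symm
  obtain ⟨j, hj⟩ : ∃ j, j = T / d := ⟨_, rfl⟩
  have hjq : (l ^ j) ^ (q - 1) = 1 := by
    rw [← pow_mul]
    obtain ⟨c, hc⟩ := hd
    rw [hc, ← mul_assoc, hj, Nat.div_mul_cancel hdT, pow_mul, hlT, one_pow]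
  have hfix : ∀ x ∈ A.charpoly.roots, x ^ j = l ^ j := by
    intro x hx
    rw [hroots, hS] at hx
    obtain ⟨i, -, rfl⟩ := Finset.mem_image.1 (Finset.mem_val.mp hx)
    rw [← pow_mul, mul_comm, pow_mul]
    have hone : (l ^ j) ^ q = l ^ j := by
      conv_lhs => rw [show q = (q - 1) + 1 by omega]
      rw [pow_succ, hjq, one_mul]
    clear hx hmem hinj hinjS
    induction i with
    | zero => rw [pow_zero, pow_one]
    | succ i ih => rw [pow_succ, pow_mul, ih, ← hq, hone]
  have hdvd : A.charpoly ∣ (Polynomial.X ^ j - C (l ^ j) : Kc[X]) := by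
    conv_lhs => rw [(IsAlgClosed.splits A.charpoly).eq_prod_roots_of_monic A.charpoly_monic]
    rw [hroots, ← Finset.prod_eq_multiset_prod]
    refine Finset.prod_dvd_of_coprime (fun x _ y _ hxy => isCoprime_X_sub_C_of_isUnit_sub
      (sub_ne_zero.2 hxy).isUnit) fun x hx => ?_
    rw [dvd_iff_isRoot, IsRoot, eval_sub, eval_pow, eval_X, eval_C,
      hfix x (by rw [hroots]; exact Finset.mem_val.mpr hx), sub_self]
  obtain ⟨c, hc⟩ := hdvd
  have h3 := congrArg (Polynomial.aeval A) hc
  rw [map_sub, map_pow, aeval_X, aeval_C, map_mul, Matrix.aeval_self_charpoly, zero_mul,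
    Algebra.algebraMap_eq_smul_one, sub_eq_zero] at h3
  have h6 : X ^ j ∈ Subgroup.center (Matrix.SpecialLinearGroup (Fin n) F) := by
    rw [Subgroup.mem_center_iff]
    intro Y
    apply Subtype.ext
    apply Matrix.map_injective (algebraMap F Kc).injective
    simp only [Matrix.SpecialLinearGroup.coe_mul, Matrix.SpecialLinearGroup.coe_pow]
    rw [Matrix.map_mul, Matrix.map_mul]
    rw [show ((X : Matrix (Fin n) (Fin n) F) ^ j).map (algebraMap F Kc) = A ^ j from by
      rw [hA]; exact map_pow ((algebraMap F Kc).mapMatrix) _ _, h3]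
    rw [Matrix.mul_smul, Matrix.smul_mul, mul_one, one_mul]
  rw [← QuotientGroup.eq_one_iff, QuotientGroup.mk_pow, hg] at h6
  rw [← hj]
  exact orderOf_dvd_of_pow_eq_one h6

/-- the Singer element of `PSL` -/
theorem exists_singer {p n T d : ℕ} [Fact p.Prime] [CharP F p] (hn : 1 ≤ n)
    (hT : T * (Fintype.card F - 1) = Fintype.card F ^ n - 1) (hdT : d ∣ T)
    (hd : Nat.gcd T (Fintype.card F - 1) = d) :
    ∃ g : Matrix.ProjectiveSpecialLinearGroup (Fin n) F, orderOf g = T / d := by
  classical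
  haveI : NeZero n := ⟨by omega⟩
  haveI : Nonempty (Fin n) := ⟨⟨0, by omega⟩⟩
  let K := FiniteField.Extension F p n
  have hcK : Nat.card K = Fintype.card F ^ n := by rw [FiniteField.natCard_extension, Nat.card_eq_fintype_card]
  haveI : Finite K := Nat.finite_of_card_ne_zero (by rw [hcK]; exact pow_ne_zero _ Fintype.card_pos.ne')
  haveI := Fintype.ofFinite K
  have hq2 : 2 ≤ Fintype.card F := Fintype.one_lt_card
  obtain ⟨w, hw⟩ := IsCyclic.exists_ofOrder_eq_natCard (α := Kˣ)
  rw [Nat.card_units, hcK] at hw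
  have hTd : T ∣ orderOf w := by rw [hw, ← hT]; exact dvd_mul_right _ _
  obtain ⟨l, hl⟩ : ∃ l : Kˣ, orderOf l = T := ⟨w ^ (orderOf w / T), orderOf_pow_orderOf_div (orderOf_pos w).ne' hTd⟩
  let b : Module.Basis (Fin n) F K := (Module.finBasis F K).reindex (finCongr (FiniteField.finrank_extension F p n))
  obtain ⟨L, hL⟩ : ∃ L : K →ₐ[F] Matrix (Fin n) (Fin n) F, L = Algebra.leftMulMatrix b := ⟨_, rfl⟩
  have hLinj : Function.Injective L := hL ▸ Algebra.leftMulMatrix_injective b
  have hdet : (L (l : K)).det = 1 := by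
    rw [hL, ← Algebra.norm_eq_matrix_det b]
    apply (algebraMap F K).injective
    rw [map_one, FiniteField.algebraMap_norm_eq_pow, hcK, Nat.card_eq_fintype_card]
    have hdiv : (Fintype.card F ^ n - 1) / (Fintype.card F - 1) = T := by
      rw [← hT, Nat.mul_div_cancel _ (by omega)]
    rw [hdiv, ← Units.val_pow_eq_pow_val, ← hl, pow_orderOf_eq_one, Units.val_one]
  let Y : Matrix.SpecialLinearGroup (Fin n) F := ⟨L (l : K), hdet⟩
  refine ⟨(Y : Matrix.ProjectiveSpecialLinearGroup (Fin n) F), ?_⟩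
  have key : ∀ j : ℕ, (Y : Matrix.ProjectiveSpecialLinearGroup (Fin n) F) ^ j = 1 ↔ T ∣ j * (Fintype.card F - 1) := by
    intro j
    rw [← QuotientGroup.mk_pow, QuotientGroup.eq_one_iff, Matrix.SpecialLinearGroup.mem_center_iff,
      Matrix.SpecialLinearGroup.coe_pow]
    have hY : (Y : Matrix (Fin n) (Fin n) F) ^ j = L ((l : K) ^ j) := (map_pow L _ _).symm
    rw [hY, ← hl, orderOf_dvd_iff_pow_eq_one, pow_mul]
    constructor
    · rintro ⟨c, -, hc⟩
      have h1 : (l : K) ^ j = algebraMap F K c := by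
        apply hLinj
        rw [← hc, AlgHom.commutes, Matrix.algebraMap_eq_diagonal]
        rfl
      apply Units.ext
      rw [Units.val_pow_eq_pow_val, Units.val_pow_eq_pow_val, h1, ← map_pow, FiniteField.pow_card_sub_one_eq_one c,
        map_one, Units.val_one]
      intro hc0
      rw [hc0, map_zero] at h1
      exact pow_ne_zero _ l.ne_zero h1
    · intro h
      have h1 : ((l : K) ^ j) ^ Fintype.card F = (l : K) ^ j := by
        conv_lhs => rw [show Fintype.card F = (Fintype.card F - 1) + 1 by omega]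
        rw [pow_succ, ← Units.val_pow_eq_pow_val, ← Units.val_pow_eq_pow_val, h, Units.val_one, one_mul]
      have hmem : (l : K) ^ j ∈ (⊥ : Subalgebra F K) := by
        have h0 : (l : K) ^ j ∈ ((Polynomial.X ^ Fintype.card F - Polynomial.X : F[X]).map (algebraMap F K)).roots := by
          rw [Polynomial.mem_roots_map (FiniteField.X_pow_card_sub_X_ne_zero F Fintype.one_lt_card)]
          rw [eval₂_sub, eval₂_pow, eval₂_X, h1, sub_self]
        have h2 := FiniteField.roots_X_pow_card_sub_X F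
        have hsp : (Polynomial.X ^ Fintype.card F - Polynomial.X : F[X]).Splits := by
          rw [Polynomial.splits_iff_card_roots, h2, FiniteField.X_pow_card_sub_X_natDegree_eq F Fintype.one_lt_card,
            Finset.card_val, Finset.card_univ]
        rw [hsp.roots_map, h2, Multiset.mem_map] at h0
        obtain ⟨c, -, hc⟩ := h0
        exact hc ▸ Subalgebra.algebraMap_mem _ c
      obtain ⟨c, hc⟩ := Algebra.mem_bot.1 hmem
      refine ⟨c, ?_, ?_⟩
      · have hd' : (L ((l : K) ^ j)).det = 1 := by rw [map_pow, Matrix.det_pow, hdet, one_pow]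
        rw [← hc, AlgHom.commutes, Matrix.algebraMap_eq_diagonal, Matrix.det_diagonal] at hd'
        simpa using hd'
      · rw [← hc, AlgHom.commutes, Matrix.algebraMap_eq_diagonal]
        rfl
  have hT0 : 0 < T := hl ▸ orderOf_pos l
  have hd0 : 0 < d := Nat.pos_of_dvd_of_pos hdT hT0
  refine Nat.dvd_antisymm (orderOf_dvd_of_pow_eq_one ((key _).2 ?_)) ?_
  · obtain ⟨c, hc⟩ := hd ▸ Nat.gcd_dvd_right T (Fintype.card F - 1)
    rw [hc, ← mul_assoc, Nat.div_mul_cancel hdT]
    exact dvd_mul_right _ _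
  · have h1 := (key _).1 (pow_orderOf_eq_one (Y : Matrix.ProjectiveSpecialLinearGroup (Fin n) F))
    obtain ⟨a, ha⟩ := hdT
    obtain ⟨c, hc⟩ := hd ▸ Nat.gcd_dvd_right T (Fintype.card F - 1)
    have hco : a.Coprime c := by
      rw [Nat.Coprime]
      have h2 := hd
      rw [ha, hc, Nat.gcd_mul_left] at h2
      exact (mul_right_eq_self₀.1 h2).resolve_right hd0.ne'
    rw [ha, hc, mul_left_comm] at h1
    rw [ha, Nat.mul_div_cancel_left _ hd0]
    exact hco.dvd_of_dvd_mul_right (Nat.dvd_of_mul_dvd_mul_left hd0 h1)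

end Cfsg.Lib.SingerOrder
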