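import Mathlib
import Cfsg.Prelude.Def_GeometricClasses
import Cfsg.Agent.Classical.Misc.SingerDerangement

/-! Elements of order three of `SL_3` and the normaliser of a Singer cycle. -/

set_option autoImplicit false
set_option linter.unusedSimpArgs false
set_option linter.unusedSectionVars false
set_option linter.unusedVariables false
set_option linter.style.haveILetI false
set_option linter.flexible false

namespace Cfsg.Lib.Classical.SingerThree

open Submodule PrimeOrd SingerDerange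

universe u

variable {F : Type u} [Field F] [Fintype F]

local notation "V" => (Fin 3 → F)
local notation "M" => Matrix (Fin 3) (Fin 3) F

theorem exists_cube_root (h : 3 ∣ Fintype.card F - 1) : ∃ w : F, w ^ 3 = 1 ∧ w ≠ 1 := by
  classical
  haveI := Fact.mk Nat.prime_three
  obtain ⟨w, hw⟩ := exists_prime_orderOf_dvd_card' (G := Fˣ) 3 (by
    rw [Nat.card_eq_fintype_card, Fintype.card_units]; exact h)
  refine ⟨(w : F), by rw [← Units.val_pow_eq_pow_val, ← hw, pow_orderOf_eq_one, Units.val_one], fun e => ?_⟩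
  have : w = 1 := Units.ext e
  rw [this, orderOf_one] at hw
  omega

/-- An eigenbasis. -/
theorem eigen (h : 3 ∣ Fintype.card F - 1) (h3 : (3 : F) ≠ 0) (y : Module.End F V) (hy : y ^ 3 = 1) :
    ∃ (b : Module.Basis (Fin 3) F V) (ε : Fin 3 → F), (∀ i, ε i ^ 3 = 1) ∧ ∀ i, y (b i) = ε i • b i := by
  classical
  obtain ⟨w, hw, hw1⟩ := exists_cube_root h
  have hw0 : 1 + w + w ^ 2 = 0 := by
    have h0 : (w - 1) * (1 + w + w ^ 2) = 0 := by linear_combination hw
    exact (mul_eq_zero.mp h0).resolve_left (sub_ne_zero.mpr hw1)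
  have hy3 : ∀ v, y (y (y v)) = v := fun v => by
    have : (y ^ 3) v = v := by rw [hy]; rfl
    simpa [pow_succ, Module.End.mul_apply] using this
  let E : Set V := {v | ∃ a : F, a ^ 3 = 1 ∧ y v = a • v}
  have hE : span F E = ⊤ := by
    rw [eq_top_iff]
    intro v _
    have hmem : ∀ a : F, a ^ 3 = 1 → v + a • y v + a ^ 2 • y (y v) ∈ span F E := fun a ha =>
      subset_span ⟨a ^ 2, by rw [← pow_mul, mul_comm, pow_mul, ha, one_pow], by
        rw [map_add, map_add, map_smul, map_smul, hy3, smul_add, smul_add, smul_smul, smul_smul,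
          show a ^ 2 * a = 1 by linear_combination ha, show a ^ 2 * a ^ 2 = a by linear_combination a * ha]
        module⟩
    have h1 := add_mem (add_mem (hmem 1 (one_pow 3)) (hmem w hw)) (hmem (w ^ 2) (by rw [← pow_mul, mul_comm, pow_mul, hw, one_pow]))
    have h4 : (w ^ 2) ^ 2 = w := by linear_combination w * hw
    rw [h4, show v + (1 : F) • y v + (1 : F) ^ 2 • y (y v) + (v + w • y v + w ^ 2 • y (y v)) +
      (v + w ^ 2 • y v + w • y (y v)) = (3 : F) • v + (1 + w + w ^ 2) • (y v + y (y v)) by module, hw0, zero_smul,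
      add_zero] at h1
    have := smul_mem _ (3 : F)⁻¹ h1
    rwa [inv_smul_smul₀ h3] at this
  obtain ⟨s, hsE, hss, hsli⟩ := exists_linearIndependent F E
  haveI : Fintype s := hsli.setFinite.fintype
  let b₀ : Module.Basis s F V := Module.Basis.mk hsli (by rw [Subtype.range_coe, hss, hE])
  let e : s ≃ Fin 3 := Fintype.equivFinOfCardEq (by
    rw [← Module.finrank_eq_card_basis b₀, Module.finrank_fintype_fun_eq_card, Fintype.card_fin])
  choose a ha using fun i : Fin 3 => hsE (e.symm i).2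
  exact ⟨b₀.reindex e, a, fun i => (ha i).1, fun i => by simpa [b₀] using (ha i).2⟩

/-- Three distinct eigenvalues give a cyclic vector. -/
theorem cyclic3 (y : Module.End F V) (b : Module.Basis (Fin 3) F V) (ε : Fin 3 → F) (hb : ∀ i, y (b i) = ε i • b i)
    (hinj : Function.Injective ε) : ∃ v : V, ∀ U : Submodule F V, Inv y U → v ∈ U → U = ⊤ := by
  refine ⟨b 0 + b 1 + b 2, fun U hU hv => ?_⟩
  have key : ∀ i j k : Fin 3, i ≠ j → i ≠ k → b i + b j + b k ∈ U → b i ∈ U := fun i j k hij hik hm => by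
    have h1 := hU _ hm
    have h2 := hU _ h1
    have h3 := add_mem (sub_mem h2 (smul_mem _ (ε j + ε k) h1)) (smul_mem _ (ε j * ε k) hm)
    simp only [map_add, map_smul, hb] at h3
    rw [show ε i • ε i • b i + ε j • ε j • b j + ε k • ε k • b k - (ε j + ε k) • (ε i • b i + ε j • b j + ε k • b k) +
      (ε j * ε k) • (b i + b j + b k) = ((ε i - ε j) * (ε i - ε k)) • b i by module] at h3
    exact (smul_mem_iff _ (mul_ne_zero (sub_ne_zero.mpr (hinj.ne hij)) (sub_ne_zero.mpr (hinj.ne hik)))).mp h3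
  refine top_le_iff.mp (b.span_eq ▸ span_le.mpr ?_)
  rintro _ ⟨i, rfl⟩
  fin_cases i
  · exact key 0 1 2 (by decide) (by decide) hv
  · exact key 1 0 2 (by decide) (by decide) (by rwa [add_comm (b 1) (b 0)])
  · exact key 2 0 1 (by decide) (by decide) (by rwa [add_assoc, add_comm (b 2)])

/-- Determinant one and not scalar: the eigenvalues differ. -/
theorem distinct (y : Module.End F V) (b : Module.Basis (Fin 3) F V) (ε : Fin 3 → F) (hε : ∀ i, ε i ^ 3 = 1)
    (hb : ∀ i, y (b i) = ε i • b i) (hdet : LinearMap.det y = 1) (hns : ∀ a : F, y ≠ a • 1) : Function.Injective ε := by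
  have hprod : ε 0 * ε 1 * ε 2 = 1 := by
    have hD : LinearMap.toMatrix b b y = Matrix.diagonal ε := by
      ext i j
      rw [LinearMap.toMatrix_apply, hb, map_smul, Module.Basis.repr_self, Matrix.diagonal_apply, Finsupp.smul_single,
        Finsupp.single_apply, smul_eq_mul, mul_one]
      by_cases h : i = j
      · subst h; simp
      · simp [h, Ne.symm h]
    rw [← LinearMap.det_toMatrix b, hD, Matrix.det_diagonal, Fin.prod_univ_three] at hdet
    exact hdet
  have h0 : ∀ i, ε i ≠ 0 := fun i e => by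
    have := hε i
    rw [e, zero_pow three_ne_zero] at this
    exact zero_ne_one this
  have key : ∀ i j k : Fin 3, (∀ l : Fin 3, l = i ∨ l = j ∨ l = k) → ε i * ε j * ε k = 1 → ε i = ε j → False := by
    intro i j k hall hp he
    have hk : ε k = ε i := mul_left_cancel₀ (mul_ne_zero (h0 i) (h0 i)) (by
      rw [← he] at hp
      linear_combination hp - hε i)
    exact hns (ε i) (b.ext fun l => by
      rcases hall l with rfl | rfl | rfl
      · simp [hb]
      · simp [hb, he]
      · simp [hb, hk])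
  intro i j he
  by_contra hne
  fin_cases i <;> fin_cases j <;> simp at hne he
  · exact key 0 1 2 (by decide) (by linear_combination hprod) he
  · exact key 0 2 1 (by decide) (by linear_combination hprod) he
  · exact key 1 0 2 (by decide) (by linear_combination hprod) he
  · exact key 1 2 0 (by decide) (by linear_combination hprod) he
  · exact key 2 0 1 (by decide) (by linear_combination hprod) he
  · exact key 2 1 0 (by decide) (by linear_combination hprod) he

theorem sing {K : Subalgebra F M} (hK : Cfsg.Geo.IsFieldSubalgebra 3 K) : Sing K := ⟨Nat.prime_three, hK⟩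

/-- The semilinear element has distinct eigenvalues. -/
theorem cyclicY (h : 3 ∣ Fintype.card F - 1) (h3 : (3 : F) ≠ 0) {K : Subalgebra F M} (hK : Cfsg.Geo.IsFieldSubalgebra 3 K) {Y : GL (Fin 3) F}
    (hY : Y ∈ Cfsg.Geo.subalgebraNormalizer K) (hY3 : (Y : M) ^ 3 = 1) (hY1 : Y ≠ 1) {v0 : V} (hv0 : v0 ≠ 0)
    (hfv : (Y : M).mulVec v0 = v0) :
    ∃ v : V, ∀ U : Submodule F V, Inv (Matrix.toLin' (Y : M)) U → v ∈ U → U = ⊤ := by
  classical
  obtain ⟨b, ε, hε, hb⟩ := eigen h h3 (Matrix.toLin' (Y : M)) (by rw [← Matrix.toLin'_pow, hY3, Matrix.toLin'_one]; rfl)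
  refine cyclic3 _ b ε hb fun i j hij => ?_
  by_contra hne
  have hl : ε i ≠ 0 := fun e => by
    have := hε i
    rw [e, zero_pow three_ne_zero] at this
    exact zero_ne_one this
  let G : GL (Fin 3) F := ⟨(ε i)⁻¹ • (Y : M), ε i • ((Y⁻¹ : GL (Fin 3) F) : M),
    by rw [smul_mul_smul_comm, inv_mul_cancel₀ hl, one_smul, ← Units.val_mul, mul_inv_cancel, Units.val_one],
    by rw [smul_mul_smul_comm, mul_inv_cancel₀ hl, one_smul, ← Units.val_mul, inv_mul_cancel, Units.val_one]⟩
  have hG : G ∈ Cfsg.Geo.subalgebraNormalizer K := fun k => by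
    show k ∈ K ↔ (ε i)⁻¹ • (Y : M) * k * (ε i • ((Y⁻¹ : GL (Fin 3) F) : M)) ∈ K
    rw [smul_mul_assoc, smul_mul_smul_comm, inv_mul_cancel₀ hl, one_smul]
    exact hY k
  have hfix : ∀ l, ε l = ε i → (G : M).mulVec (b l) = b l := fun l hl' => by
    show ((ε i)⁻¹ • (Y : M)).mulVec (b l) = b l
    rw [Matrix.smul_mulVec, ← Matrix.toLin'_apply, hb, hl', smul_smul, inv_mul_cancel₀ hl, one_smul]
  have h1 := fix_two (sing hK) hG (hfix i rfl) (hfix j hij.symm) (b.ne_zero i) fun a e => by
    have := congrArg (fun u => b.repr u j) e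
    simp [Finsupp.single_apply, hne] at this
  have h2 : (ε i)⁻¹ • (Y : M) = 1 := congrArg Units.val h1
  have h3 : (Y : M) = ε i • 1 := by rw [← h2, smul_smul, mul_inv_cancel₀ hl, one_smul]
  rw [h3, Matrix.smul_mulVec, Matrix.one_mulVec] at hfv
  have h4 : ε i = 1 := smul_left_injective F hv0 (by simpa using hfv)
  exact hY1 (Units.ext (by rw [h3, h4, one_smul]; rfl))

/-- The case of a cube root of unity and no ninth root. -/
theorem good_one (h : 3 ∣ Fintype.card F - 1) (h9 : ¬ 9 ∣ Fintype.card F - 1) (h3 : (3 : F) ≠ 0) {K : Subalgebra F M}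
    (hK : Cfsg.Geo.IsFieldSubalgebra 3 K) (x : Matrix.SpecialLinearGroup (Fin 3) F)
    (hx : ∃ z : F, ((x ^ 3 : Matrix.SpecialLinearGroup (Fin 3) F) : M) = z • (1 : M))
    (hns : ∀ z : F, (x : M) ≠ z • (1 : M)) :
    ∃ P : Matrix.SpecialLinearGroup (Fin 3) F, P⁻¹ * x * P ∈ SingerDerange.H K := by
  classical
  obtain ⟨z, hz, hxz, hz3⟩ := to_data (by norm_num) x hx
  have hT : Matrix.toLin' (x : M) ^ 3 = z • (1 : Module.End F V) := by
    rw [← Matrix.toLin'_pow, hxz, map_smul, Matrix.toLin'_one]; rfl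
  have hdx : LinearMap.det (Matrix.toLin' (x : M)) = 1 := by rw [LinearMap.det_toLin', x.2]
  obtain ⟨b, hb⟩ : ∃ b : F, b ^ 3 = z := by
    by_contra hnp
    push Not at hnp
    have := PrimeOrd.det_of_nonpower (s := 1) Nat.prime_three hT hnp (by simp)
    rw [hdx] at this
    exact hnp 1 (by rw [one_pow]; norm_num at this; exact this)
  have hb0 : b ≠ 0 := fun e => hz (by rw [← hb, e]; norm_num)
  have hb3 : b ^ 3 = 1 := by
    have h1 : b ^ Nat.gcd 9 (Fintype.card F - 1) = 1 :=
      pow_gcd_eq_one.mpr ⟨by rw [show 9 = 3 * 3 by rfl, pow_mul, hb, hz3], FiniteField.pow_card_sub_one_eq_one b hb0⟩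
    have h2 : Nat.gcd 9 (Fintype.card F - 1) = 3 := by
      have hd1 : Nat.gcd 9 (Fintype.card F - 1) ∣ 3 ^ 2 := Nat.gcd_dvd_left _ _
      obtain ⟨j, hj, he⟩ := (Nat.dvd_prime_pow Nat.prime_three).mp hd1
      have hd3 : 3 ∣ Nat.gcd 9 (Fintype.card F - 1) := Nat.dvd_gcd (by norm_num) h
      rw [he] at hd3 ⊢
      interval_cases j
      · norm_num at hd3
      · norm_num
      · exact absurd (by rw [show 9 = 3 ^ 2 by rfl, ← he]; exact Nat.gcd_dvd_right _ _) h9
    rwa [h2] at h1
  have hxb : (b⁻¹ • (x : M)) ^ 3 = 1 := by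
    rw [smul_pow, hxz, inv_pow, hb, smul_smul, inv_mul_cancel₀ hz, one_smul]
  obtain ⟨w, ε, hε, hw⟩ := eigen h h3 (Matrix.toLin' (b⁻¹ • (x : M))) (by
    rw [← Matrix.toLin'_pow, hxb, Matrix.toLin'_one]; rfl)
  have hinj := distinct _ w ε hε hw (by
      rw [map_smul, LinearMap.det_smul, hdx, Module.finrank_fintype_fun_eq_card, Fintype.card_fin, inv_pow, hb3]
      simp)
    fun a e => hns (b * a) (Matrix.toLin'.injective (by
      rw [map_smul, inv_smul_eq_iff₀ hb0] at e
      rw [e, map_smul, Matrix.toLin'_one, smul_smul]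
      rfl))
  obtain ⟨v, hv⟩ := cyclic3 _ w ε hw hinj
  obtain ⟨Y, v0, hY, hY3, hY1, hv0, hfv⟩ := exists_semilinear (sing hK)
  obtain ⟨u, hu⟩ := cyclicY h h3 hK hY hY3 hY1 hv0 hfv
  exact conj_in (by decide) (by exact_mod_cast h3) Y hY hY3 hu x hb0 hxb hv

/-- The bad element for a ninth root of unity. -/
theorem bad_nine (h : 9 ∣ Fintype.card F - 1) {K : Subalgebra F M} (hK : Cfsg.Geo.IsFieldSubalgebra 3 K) :
    ∃ x : Matrix.SpecialLinearGroup (Fin 3) F,
      (∃ z : F, ((x ^ 3 : Matrix.SpecialLinearGroup (Fin 3) F) : M) = z • (1 : M)) ∧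
      (∀ z : F, (x : M) ≠ z • (1 : M)) ∧
      ∀ P : Matrix.SpecialLinearGroup (Fin 3) F, P⁻¹ * x * P ∉ SingerDerange.H K := by
  classical
  obtain ⟨g, hg⟩ := IsCyclic.exists_ofOrder_eq_natCard (α := Fˣ)
  rw [Nat.card_eq_fintype_card, Fintype.card_units] at hg
  obtain ⟨k, hk⟩ := h
  have hQ : 0 < Fintype.card F - 1 := Nat.sub_pos_of_lt Fintype.one_lt_card
  set t : F := ((g ^ k : Fˣ) : F) with ht
  have ht0 : t ≠ 0 := Units.ne_zero _
  have ht9 : t ^ 9 = 1 := by
    rw [ht, ← Units.val_pow_eq_pow_val, ← pow_mul, mul_comm, ← hk, ← hg, pow_orderOf_eq_one, Units.val_one]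
  have ht3 : t ^ 3 ≠ 1 := fun e => by
    have : g ^ (k * 3) = 1 := Units.ext (by rw [pow_mul, Units.val_pow_eq_pow_val, ← ht, e]; rfl)
    have := orderOf_dvd_of_pow_eq_one this
    rw [hg, hk] at this
    have := Nat.le_of_dvd (by omega) this
    omega
  let d : Fin 3 → F := ![t, t, (t ^ 2)⁻¹]
  let x : Matrix.SpecialLinearGroup (Fin 3) F := ⟨Matrix.diagonal d, by
    rw [Matrix.det_diagonal, Fin.prod_univ_three]; simp [d]; field_simp⟩
  have hxe : ∀ i, (x : M).mulVec (Pi.single i 1) = d i • Pi.single i 1 := fun i => by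
    show (Matrix.diagonal d).mulVec (Pi.single i 1) = _
    rw [Matrix.diagonal_mulVec_single, ← Pi.single_smul', smul_eq_mul]
  have hns : ∀ z : F, (x : M) ≠ z • (1 : M) := fun z hz => by
    have e0 := congrFun (congrFun hz 0) 0
    have e2 := congrFun (congrFun hz 2) 2
    simp [x, d] at e0 e2
    rw [← e0] at e2
    exact ht3 (by field_simp at e2; linear_combination -e2)
  refine ⟨x, ⟨t ^ 3, ?_⟩, hns, fun P => not_conj (sing hK) x ht0 (v := Pi.single 0 1) (w := Pi.single 1 1)
    (by rw [hxe]; rfl) (by rw [hxe]; rfl) (by simp) (fun a e => ?_) hns P⟩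
  · rw [Matrix.SpecialLinearGroup.coe_pow, show (x : M) = Matrix.diagonal d from rfl, Matrix.diagonal_pow,
      Matrix.smul_one_eq_diagonal]
    congr 1
    funext i
    fin_cases i <;> simp [d]
    field_simp
    linear_combination -ht9
  · have := congrFun e 1
    simp at this

/-- The bad element in characteristic three. -/
theorem bad_char (h3 : (3 : F) = 0) {K : Subalgebra F M} (hK : Cfsg.Geo.IsFieldSubalgebra 3 K) :
    ∃ x : Matrix.SpecialLinearGroup (Fin 3) F,
      (∃ z : F, ((x ^ 3 : Matrix.SpecialLinearGroup (Fin 3) F) : M) = z • (1 : M)) ∧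
      (∀ z : F, (x : M) ≠ z • (1 : M)) ∧
      ∀ P : Matrix.SpecialLinearGroup (Fin 3) F, P⁻¹ * x * P ∉ SingerDerange.H K := by
  classical
  have h01 : (0 : Fin 3) ≠ 1 := by decide
  let x : Matrix.SpecialLinearGroup (Fin 3) F :=
    ⟨Matrix.transvection 0 1 1, Matrix.det_transvection_of_ne _ _ h01 1⟩
  have hns : ∀ z : F, (x : M) ≠ z • (1 : M) := fun z hz => by
    have := congrFun (congrFun hz 0) 1
    simp [x, Matrix.transvection, Matrix.one_apply] at this
  refine ⟨x, ⟨1, ?_⟩, hns, fun P => not_conj (sing hK) x one_ne_zero (v := Pi.single 0 1) (w := Pi.single 2 1)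
    ?_ ?_ (by simp) (fun a e => ?_) hns P⟩
  · rw [Matrix.SpecialLinearGroup.coe_pow, show (x : M) = Matrix.transvection 0 1 1 from rfl, pow_succ, sq,
      Matrix.transvection_mul_transvection_same _ _ h01, Matrix.transvection_mul_transvection_same _ _ h01,
      show (1 : F) + 1 + 1 = 0 by linear_combination h3, Matrix.transvection_zero, one_smul]
  · ext i; fin_cases i <;> simp [x, Matrix.transvection, Matrix.add_mulVec, Matrix.single_apply]
  · ext i; fin_cases i <;> simp [x, Matrix.transvection, Matrix.add_mulVec, Matrix.single_apply]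
  · have := congrFun e 2
    simp at this

/-- If three divides the index and `q ≡ 2 (mod 3)` then `q ≡ 8 (mod 9)`. -/
theorem mod_nine (hc : orderOf (Fintype.card F : ZMod 3) = 2) (h3 : (3 : F) ≠ 0) {K : Subalgebra F M}
    (hK : Cfsg.Geo.IsFieldSubalgebra 3 K) (hΩ : 3 ∣ (SingerDerange.H K).index) : 9 ∣ Fintype.card F + 1 := by
  classical
  haveI := Fact.mk Nat.prime_three
  have S := sing hK
  have hnd : ¬ 3 ∣ Fintype.card F - 1 := fun h => by
    have := (PrimeOrd.dvd_pow_sub_one (F := F) (r := 3) 1).mp (by rwa [pow_one])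
    rw [hc] at this
    norm_num at this
  obtain ⟨Y, v0, hY, hY3, hY1, hv0, hfv⟩ := exists_semilinear S
  have hYd : (Y : M).det = 1 := PrimeOrd.root_one Nat.prime_three hnd (by rw [← Matrix.det_pow, hY3, Matrix.det_one])
  let Kg : Subgroup (GL (Fin 3) F) :=
    { carrier := {g | (g : M) ∈ K}
      mul_mem' := fun {a b} ha hb => K.mul_mem ha hb
      one_mem' := K.one_mem
      inv_mem' := fun {a} ha => by
        obtain ⟨y, hy, hay⟩ := hK.inv _ ha a.ne_zero
        show ((a⁻¹ : GL (Fin 3) F) : M) ∈ K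
        rw [Units.inv_eq_of_mul_eq_one_right hay]
        exact hy }
  have hKN : Kg ≤ Cfsg.Geo.subalgebraNormalizer K := fun g hg k => by
    refine ⟨fun hk => K.mul_mem (K.mul_mem hg hk) (Kg.inv_mem hg), fun hk => ?_⟩
    have h' := K.mul_mem (K.mul_mem (Kg.inv_mem hg) hk) hg
    have e : ((g⁻¹ : GL (Fin 3) F) : M) * ((g : M) * k * ((g⁻¹ : GL (Fin 3) F) : M)) * (g : M) = k := by
      simp [mul_assoc, ← Units.val_mul]
    rwa [e] at h'
  have hcardKg : Nat.card Kg = Fintype.card F ^ 3 - 1 := by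
    haveI : Finite K := Subtype.finite
    have e : Kg ≃ {k : K // k ≠ 0} :=
      { toFun := fun g => ⟨⟨(g.1 : M), g.2⟩, fun h => g.1.ne_zero (congrArg Subtype.val h)⟩
        invFun := fun k => ⟨⟨k.1.1, (hK.inv _ k.1.2 fun h => k.2 (Subtype.ext h)).choose,
          (hK.inv _ k.1.2 fun h => k.2 (Subtype.ext h)).choose_spec.2,
          by rw [hK.comm _ (hK.inv _ k.1.2 fun h => k.2 (Subtype.ext h)).choose_spec.1 _ k.1.2]
             exact (hK.inv _ k.1.2 fun h => k.2 (Subtype.ext h)).choose_spec.2⟩, k.1.2⟩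
        left_inv := fun g => Subtype.ext (Units.ext rfl)
        right_inv := fun k => rfl }
    haveI := Fintype.ofFinite K
    rw [Nat.card_congr e, Nat.card_eq_fintype_card, Fintype.card_subtype_compl, Fintype.card_subtype_eq,
      Module.card_eq_pow_finrank (K := F), hK.finrank_eq]
  set S' := SingerDerange.H K
  let C : Subgroup (Matrix.SpecialLinearGroup (Fin 3) F) := Kg.comap Matrix.SpecialLinearGroup.toGL
  have hCle : C ≤ S' := Subgroup.comap_mono hKN
  have hcardC : Fintype.card F ^ 3 - 1 ∣ Nat.card C * (Fintype.card F - 1) := by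
    let δ : Kg →* Fˣ := Matrix.GeneralLinearGroup.det.comp Kg.subtype
    have h1 : Nat.card δ.ker ∣ Nat.card C := by
      let f : δ.ker →* C :=
        { toFun := fun g => ⟨⟨((g : Kg) : GL (Fin 3) F).val, by
            have := congrArg Units.val (MonoidHom.mem_ker.mp g.2)
            simpa [δ, Matrix.GeneralLinearGroup.val_det_apply] using this⟩, g.1.2⟩
          map_one' := rfl
          map_mul' := fun a b => rfl }
      refine Subgroup.card_dvd_of_injective f fun a b h => ?_
      exact Subtype.ext (Subtype.ext (Units.ext (congrArg (fun z : C => ((z : Matrix.SpecialLinearGroup (Fin 3) F) : M)) h)))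
    have h2 : Nat.card δ.range ∣ Fintype.card F - 1 := by
      have := Subgroup.card_subgroup_dvd_card δ.range
      rwa [Nat.card_eq_fintype_card (α := Fˣ), Fintype.card_units] at this
    have h3 := Subgroup.card_mul_index δ.ker
    rw [Subgroup.index_ker, hcardKg] at h3
    rw [← h3]
    exact mul_dvd_mul h1 h2
  have hnormal : (C.subgroupOf S').Normal := ⟨fun a ha g => by
    rw [Subgroup.mem_subgroupOf] at ha ⊢
    have hg := Subgroup.mem_comap.mp g.2
    show (((g : Matrix.SpecialLinearGroup (Fin 3) F) * a * (g : Matrix.SpecialLinearGroup (Fin 3) F)⁻¹ :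
      Matrix.SpecialLinearGroup (Fin 3) F) : M) ∈ K
    rw [Matrix.SpecialLinearGroup.coe_mul, Matrix.SpecialLinearGroup.coe_mul]
    exact (hg _).mp ha⟩
  have h3dvd : 3 ∣ (C.subgroupOf S').index := by
    let Y' : S' := ⟨⟨(Y : M), hYd⟩, by
      show Matrix.SpecialLinearGroup.toGL (⟨(Y : M), hYd⟩ : Matrix.SpecialLinearGroup (Fin 3) F) ∈
        Cfsg.Geo.subalgebraNormalizer K
      convert hY using 1
      exact Units.ext rfl⟩
    have hY'3 : Y' ^ 3 = 1 := Subtype.ext (Subtype.ext (by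
      rw [SubmonoidClass.coe_pow, Matrix.SpecialLinearGroup.coe_pow]; exact hY3))
    have hY'C : Y' ∉ C.subgroupOf S' := fun hm => by
      rw [Subgroup.mem_subgroupOf] at hm
      have hm' : (Y : M) ∈ K := hm
      exact hY1 (Units.ext (sub_eq_zero.mp (S.inj (K.sub_mem hm' K.one_mem) hv0 (by
        rw [Matrix.sub_mulVec, hfv]; simp))))
    have hord : orderOf (QuotientGroup.mk Y' : S' ⧸ C.subgroupOf S') = 3 := by
      refine orderOf_eq_prime ?_ fun h => hY'C ((QuotientGroup.eq_one_iff _).mp h)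
      rw [← QuotientGroup.mk_pow, hY'3, QuotientGroup.mk_one]
    rw [Subgroup.index_eq_card]
    exact hord.symm.dvd.trans (orderOf_dvd_natCard _)
  have hS' : 3 * Nat.card C ∣ Nat.card S' := by
    rw [← Subgroup.card_mul_index (C.subgroupOf S'), Nat.card_congr (Subgroup.subgroupOfEquivOfLe hCle).toEquiv,
      mul_comm 3]
    exact mul_dvd_mul_left _ h3dvd
  have hSL : 9 * Nat.card C ∣ Nat.card (Matrix.SpecialLinearGroup (Fin 3) F) := by
    rw [← Subgroup.card_mul_index S', show 9 * Nat.card C = 3 * Nat.card C * 3 by ring]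
    exact mul_dvd_mul hS' hΩ
  set q := Fintype.card F with hq
  have hF := Cfsg.Lib.Classical.card_SL_mul_eq_prod (F := F) (n := 3) (by norm_num)
  rw [Fin.prod_univ_three, ← hq] at hF
  have h4 : 9 * (q ^ 3 - 1) ∣ (q ^ 3 - 1) * ((q ^ 3 - q) * (q ^ 3 - q ^ 2)) := by
    have h6 := (mul_dvd_mul_left 9 hcardC).trans (dvd_of_eq (mul_assoc 9 (Nat.card C) (q - 1)).symm)
    refine (h6.trans (mul_dvd_mul_right hSL (q - 1))).trans ?_
    rw [mul_comm, hF]
    simp [mul_assoc]
  have hq1 : 1 < q := hq ▸ Fintype.one_lt_card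
  have hpos : 0 < q ^ 3 - 1 := Nat.sub_pos_of_lt (Nat.one_lt_pow three_ne_zero hq1)
  rw [mul_comm 9] at h4
  have h5 := Nat.dvd_of_mul_dvd_mul_left hpos h4
  have e : (q ^ 3 - q) * (q ^ 3 - q ^ 2) = q ^ 3 * ((q - 1) ^ 2 * (q + 1)) := by
    obtain ⟨m, hm⟩ := Nat.exists_eq_add_of_le hq1.le
    rw [hm]
    have e1 : (1 + m) ^ 3 - (1 + m) = (1 + m) * ((1 + m) ^ 2 - 1) := by rw [Nat.mul_sub_one]; ring_nf
    have e2 : (1 + m) ^ 3 - (1 + m) ^ 2 = (1 + m) ^ 2 * (1 + m - 1) := by rw [Nat.mul_sub_one]; ring_nf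
    have e3 : (1 + m) ^ 2 - 1 = m * (m + 2) := by
      rw [show (1 + m) ^ 2 = m * (m + 2) + 1 by ring, Nat.add_sub_cancel]
    rw [e1, e2, e3, Nat.add_sub_cancel_left]
    ring
  rw [e] at h5
  have hcop : ∀ a : ℕ, ¬ 3 ∣ a → Nat.Coprime 9 a := fun a ha =>
    ((Nat.prime_three.coprime_iff_not_dvd).mpr ha).pow_left 2
  have hq3 : ¬ 3 ∣ q := fun h => by
    obtain ⟨p, hp⟩ := CharP.exists F
    haveI : Fact p.Prime := ⟨CharP.char_is_prime F p⟩
    obtain ⟨e, -, he⟩ := FiniteField.card F p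
    have h6 := (Nat.prime_dvd_prime_iff_eq Nat.prime_three (Fact.out : p.Prime)).mp
      (Nat.prime_three.dvd_of_dvd_pow (he ▸ (hq ▸ h)))
    exact h3 (by exact_mod_cast (CharP.cast_eq_zero_iff F p 3).mpr (h6 ▸ dvd_rfl))
  have h7 := (hcop _ fun h => hq3 (Nat.prime_three.dvd_of_dvd_pow h)).dvd_of_dvd_mul_left h5
  exact (hcop _ fun h => hnd (Nat.prime_three.dvd_of_dvd_pow h)).dvd_of_dvd_mul_left h7

theorem two_zmod : orderOf ((2 : ℕ) : ZMod 3) = 2 :=
  orderOf_eq_prime (p := 2) (by decide) (by decide)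

/-- The criterion. -/
theorem main {K : Subalgebra F M} (hK : Cfsg.Geo.IsFieldSubalgebra 3 K) (hΩ : 3 ∣ (SingerDerange.H K).index) :
    (∀ x : Matrix.SpecialLinearGroup (Fin 3) F,
      (∃ z : F, ((x ^ 3 : Matrix.SpecialLinearGroup (Fin 3) F) : M) = z • (1 : M)) →
      (∀ z : F, (x : M) ≠ z • (1 : M)) →
      ∃ P : Matrix.SpecialLinearGroup (Fin 3) F, P⁻¹ * x * P ∈ SingerDerange.H K) ↔
    (Fintype.card F % 9 = 4 ∨ Fintype.card F % 9 = 7 ∨ Fintype.card F % 9 = 8) := by
  classical
  haveI := Fact.mk Nat.prime_three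
  have hq1 : 1 < Fintype.card F := Fintype.one_lt_card
  obtain ⟨p, hp⟩ := CharP.exists F
  haveI : Fact p.Prime := ⟨CharP.char_is_prime F p⟩
  obtain ⟨e, -, he⟩ := FiniteField.card F p
  have hchar : (3 : F) = 0 ↔ 3 ∣ Fintype.card F := by
    constructor
    · intro h
      have h' : ((3 : ℕ) : F) = 0 := by exact_mod_cast h
      have := (Nat.prime_dvd_prime_iff_eq (Fact.out : p.Prime) Nat.prime_three).mp ((CharP.cast_eq_zero_iff F p 3).mp h')
      rw [he, this]
      exact dvd_pow_self 3 e.ne_zero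
    · intro h
      have h6 := (Nat.prime_dvd_prime_iff_eq Nat.prime_three (Fact.out : p.Prime)).mp
        (Nat.prime_three.dvd_of_dvd_pow (he ▸ h))
      exact_mod_cast (CharP.cast_eq_zero_iff F p 3).mpr (h6 ▸ dvd_rfl)
  constructor
  · intro h
    by_contra hc
    by_cases h3 : (3 : F) = 0
    · obtain ⟨x, hx, hns, hb⟩ := bad_char h3 hK
      obtain ⟨P, hP⟩ := h x hx hns
      exact hb P hP
    have h3' : ¬ 3 ∣ Fintype.card F := fun h => h3 (hchar.mpr h)
    by_cases h1 : Fintype.card F % 9 = 1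
    · obtain ⟨x, hx, hns, hb⟩ := bad_nine (Nat.dvd_of_mod_eq_zero (by omega)) hK
      obtain ⟨P, hP⟩ := h x hx hns
      exact hb P hP
    · have hc2 : orderOf (Fintype.card F : ZMod 3) = 2 := by
        rw [← ZMod.natCast_mod, show Fintype.card F % 3 = 2 by omega]
        exact two_zmod
      have := mod_nine hc2 h3 hK hΩ
      omega
  · intro hc x hx hns
    have h3' : ¬ 3 ∣ Fintype.card F := by omega
    have h3 : (3 : F) ≠ 0 := fun h => h3' (hchar.mp h)
    rcases hc with hc | hc | hc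
    · exact good_one (by omega) (by omega) h3 hK x hx hns
    · exact good_one (by omega) (by omega) h3 hK x hx hns
    · have hc2 : orderOf (Fintype.card F : ZMod 3) = 2 := by
        rw [← ZMod.natCast_mod, show Fintype.card F % 3 = 2 by omega]
        exact two_zmod
      exact SingerDerange.good (sing hK) le_rfl (by rw [hc2]) (by exact_mod_cast h3) x hx hns

end Cfsg.Lib.Classical.SingerThree
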