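import Mathlib
import Cfsg.Agent.Classical.Misc.OrthGen

/-! The subgroup generated by the reflections of one square class. -/

set_option autoImplicit false
set_option linter.style.haveILetI false

namespace Cfsg.Lib.Classical.Refl

open Matrix

universe u

variable {F : Type u} [Field F] {ι : Type} [Fintype ι] [DecidableEq ι] (Q : QuadraticForm F (ι → F))

theorem val_decomp {u v : ι → F} (h2 : (2 : F) ≠ 0) (hu : Q u ≠ 0) :
    ∃ (t : F) (y : ι → F), t * (2 * Q u) = QuadraticMap.polar (⇑Q) u v ∧ v = t • u + y ∧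
      QuadraticMap.polar (⇑Q) u y = 0 ∧ Q v = t * t * Q u + Q y := by
  refine ⟨QuadraticMap.polar (⇑Q) u v / (2 * Q u), v - (QuadraticMap.polar (⇑Q) u v / (2 * Q u)) • u,
    by field_simp, by abel, ?_, ?_⟩
  · rw [QuadraticMap.polar_sub_right, QuadraticMap.polar_smul_right, polar_self_two, smul_eq_mul]
    field_simp; ring
  · set t := QuadraticMap.polar (⇑Q) u v / (2 * Q u) with ht
    rw [sub_eq_add_neg, ← neg_smul, QuadraticMap.map_add (f := Q) v, QuadraticMap.map_smul,
      QuadraticMap.polar_smul_right, QuadraticMap.polar_comm (⇑Q) v u, smul_eq_mul, smul_eq_mul, ht]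
    field_simp
    ring

/-- An improper isometry of a nondegenerate plane is a reflection. -/
theorem plane_refl (h2 : (2 : F) ≠ 0) (hQ : (QuadraticMap.polarBilin Q).Nondegenerate) {u y : ι → F}
    (hu : Q u ≠ 0) (hy : Q y ≠ 0) (huy : QuadraticMap.polar (⇑Q) u y = 0) (g : Cfsg.isometryGroup F (⇑Q))
    (hfix : ∀ x, QuadraticMap.polar (⇑Q) u x = 0 → QuadraticMap.polar (⇑Q) y x = 0 → mat Q g *ᵥ x = x)
    (hdet : (mat Q g).det = -1) : ∃ (w : ι → F) (hw : Q w ≠ 0), g = refl Q w hw := by
  have hyu : QuadraticMap.polar (⇑Q) y u = 0 := by rw [QuadraticMap.polar_comm]; exact huy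
  have decomp : ∀ x, ∃ (a b : F) (z : ι → F), x = a • u + b • y + z ∧
      QuadraticMap.polar (⇑Q) u z = 0 ∧ QuadraticMap.polar (⇑Q) y z = 0 := by
    intro x
    refine ⟨QuadraticMap.polar (⇑Q) u x / (2 * Q u), QuadraticMap.polar (⇑Q) y x / (2 * Q y),
      x - (QuadraticMap.polar (⇑Q) u x / (2 * Q u)) • u - (QuadraticMap.polar (⇑Q) y x / (2 * Q y)) • y,
      by abel, ?_, ?_⟩
    · rw [QuadraticMap.polar_sub_right, QuadraticMap.polar_sub_right, QuadraticMap.polar_smul_right,
        QuadraticMap.polar_smul_right, polar_self_two, huy, smul_eq_mul, smul_eq_mul]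
      field_simp; ring
    · rw [QuadraticMap.polar_sub_right, QuadraticMap.polar_sub_right, QuadraticMap.polar_smul_right,
        QuadraticMap.polar_smul_right, polar_self_two, hyu, smul_eq_mul, smul_eq_mul]
      field_simp; ring
  have main : ∀ h : Cfsg.isometryGroup F (⇑Q), mat Q h *ᵥ u = u →
      (∀ x, QuadraticMap.polar (⇑Q) u x = 0 → QuadraticMap.polar (⇑Q) y x = 0 → mat Q h *ᵥ x = x) →
      h = 1 ∨ h = refl Q y hy := by
    intro h hhu hhf
    obtain ⟨a, b, z, hz, huz, hyz⟩ := decomp (mat Q h *ᵥ y)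
    have h1 := polar_act Q h u y
    rw [hhu, huy, hz, QuadraticMap.polar_add_right, QuadraticMap.polar_add_right, QuadraticMap.polar_smul_right,
      QuadraticMap.polar_smul_right, polar_self_two, huy, huz] at h1
    have ha : a = 0 := by simpa [h2, hu] using h1
    have hz0 : z = 0 := by
      refine hQ.1 z fun x => ?_
      show QuadraticMap.polar (⇑Q) z x = 0
      obtain ⟨c, e, z', rfl, h3, h4⟩ := decomp x
      have h5 := polar_act Q h y z'
      rw [hhf z' h3 h4, hz, h4, ha, zero_smul, zero_add, QuadraticMap.polar_add_left, QuadraticMap.polar_smul_left,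
        h4, smul_zero, zero_add] at h5
      rw [QuadraticMap.polar_add_right, QuadraticMap.polar_add_right, QuadraticMap.polar_smul_right,
        QuadraticMap.polar_smul_right, h5, QuadraticMap.polar_comm (⇑Q) z u, QuadraticMap.polar_comm (⇑Q) z y,
        huz, hyz]
      simp
    rw [ha, zero_smul, zero_add, hz0, add_zero] at hz
    have h6 := (mem_iff Q).mp h.2 y
    rw [show (((h : Matrix.GeneralLinearGroup ι F) : Matrix ι ι F)) = mat Q h from rfl, hz, QuadraticMap.map_smul,
      smul_eq_mul] at h6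
    have hb : (b - 1) * (b + 1) = 0 := by
      have : (b * b - 1) * Q y = 0 := by linear_combination h6
      linear_combination (mul_eq_zero.mp this).resolve_right hy
    rcases mul_eq_zero.mp hb with hb | hb
    · left
      refine ext_mulVec Q fun x => ?_
      obtain ⟨c, e, z', rfl, h3, h4⟩ := decomp x
      rw [Matrix.mulVec_add, Matrix.mulVec_add, Matrix.mulVec_smul, Matrix.mulVec_smul, hhu, hz, hhf z' h3 h4,
        sub_eq_zero.mp hb, one_smul, show mat Q 1 = 1 from rfl, Matrix.one_mulVec]
    · right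
      refine ext_mulVec Q fun x => ?_
      obtain ⟨c, e, z', rfl, h3, h4⟩ := decomp x
      change _ = Cfsg.reflectionMatrix (⇑Q) y *ᵥ _
      rw [Matrix.mulVec_add, Matrix.mulVec_add, Matrix.mulVec_smul, Matrix.mulVec_smul, hhu, hz, hhf z' h3 h4,
        eq_neg_of_add_eq_zero_left hb, Matrix.mulVec_add, Matrix.mulVec_add, Matrix.mulVec_smul, Matrix.mulVec_smul,
        fix Q y u hyu, fix Q y z' h4, self Q y hy, neg_one_smul]
  set a := mat Q g *ᵥ u with ha
  by_cases hau : a = u
  · rcases main g hau hfix with h | h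
    · exfalso
      rw [h, show mat Q 1 = 1 from rfl, Matrix.det_one] at hdet
      exact h2 (by linear_combination hdet)
    · exact ⟨y, hy, h⟩
  · have hw : Q (a - u) ≠ 0 := by
      intro h0
      apply hau
      have hQa : Q a = Q u := (mem_iff Q).mp g.2 u
      obtain ⟨c, e, z, hz, huz, hyz⟩ := decomp a
      have hz0 : z = 0 := by
        refine hQ.1 z fun x => ?_
        show QuadraticMap.polar (⇑Q) z x = 0
        obtain ⟨c', e', z', rfl, h3, h4⟩ := decomp x
        have h5 := polar_act Q g u z'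
        rw [hfix z' h3 h4, ← ha, hz, h3, QuadraticMap.polar_add_left, QuadraticMap.polar_add_left,
          QuadraticMap.polar_smul_left, QuadraticMap.polar_smul_left, h3, h4, smul_zero, smul_zero, zero_add,
          zero_add] at h5
        rw [QuadraticMap.polar_add_right, QuadraticMap.polar_add_right, QuadraticMap.polar_smul_right,
          QuadraticMap.polar_smul_right, h5, QuadraticMap.polar_comm (⇑Q) z u, QuadraticMap.polar_comm (⇑Q) z y,
          huz, hyz]
        simp
      rw [hz0, add_zero] at hz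
      rw [hz, val_lin Q huy] at hQa
      rw [hz, show c • u + e • y - u = (c - 1) • u + e • y by module, val_lin Q huy] at h0
      have hc : c = 1 := by
        have h1 : 2 * Q u * (c - 1) = 0 := by linear_combination hQa - h0
        exact sub_eq_zero.mp ((mul_eq_zero.mp h1).resolve_left (mul_ne_zero h2 hu))
      have he : e = 0 := by
        rw [hc] at h0
        simpa [hy] using h0
      rw [hz, hc, he]; simp
    have hQa : Q a = Q u := (mem_iff Q).mp g.2 u
    have hp : QuadraticMap.polar (⇑Q) (a - u) a = Q (a - u) := by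
      rw [sub_eq_add_neg, QuadraticMap.polar_add_left, QuadraticMap.map_add (f := Q), QuadraticMap.map_neg,
        polar_self_two, QuadraticMap.polar_neg_left, QuadraticMap.polar_neg_right, QuadraticMap.polar_comm (⇑Q) a u,
        hQa]
      ring
    set r := refl Q (a - u) hw
    have hru : mat Q r *ᵥ a = u := by
      show Cfsg.reflectionMatrix (⇑Q) (a - u) *ᵥ a = u
      rw [mulVec_eq, hp, inv_mul_cancel₀ hw, one_smul, sub_sub_cancel]
    rcases main (r * g) (by rw [mat, mulVec_mul]; exact hru) (fun x h3 h4 => by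
      rw [mat, mulVec_mul]
      change mat Q r *ᵥ (mat Q g *ᵥ x) = x
      rw [hfix x h3 h4]
      refine fix Q (a - u) x ?_
      rw [QuadraticMap.polar_sub_left, h3, sub_zero]
      conv_lhs => arg 3; rw [← hfix x h3 h4]
      rw [ha, polar_act]; exact h3) with h | h
    · refine ⟨a - u, hw, ?_⟩
      rw [eq_inv_of_mul_eq_one_right h, inv_eq_of_mul_eq_one_left (refl_mul_self Q _ hw)]
    · exfalso
      have : (mat Q (r * g)).det = (mat Q (refl Q y hy)).det := by rw [h]
      rw [mat, Subgroup.coe_mul, Units.val_mul, Matrix.det_mul, coe_refl, show mat Q (refl Q y hy) = Cfsg.reflectionMatrix (⇑Q) y from rfl, det_eq Q _ hw, det_eq Q y hy,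
        show (((g : Matrix.GeneralLinearGroup ι F) : Matrix ι ι F)) = mat Q g from rfl, hdet] at this
      exact h2 (by linear_combination this)

theorem square_class_index [Fintype F] [DecidableEq F] (h2 : (2 : F) ≠ 0)
    (hQ : (QuadraticMap.polarBilin Q).Nondegenerate) (hn : 2 ≤ Fintype.card ι) (heven : Even (Fintype.card ι))
    (h43 : ¬ (Fintype.card ι = 4 ∧ Fintype.card F = 3)) {c : F} (hc : c ≠ 0) :
    (Subgroup.closure {g : Cfsg.isometryGroup F (⇑Q) | ∃ (v : ι → F) (t : F), t ≠ 0 ∧ Q v = c * t ^ 2 ∧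
      ((g : Matrix.GeneralLinearGroup ι F) : Matrix ι ι F) = Cfsg.reflectionMatrix (⇑Q) v}).index = 2 := by
  have hc2 : ringChar F ≠ 2 := fun h => h2 (by haveI := ringChar.of_eq h; exact CharTwo.two_eq_zero)
  set S := {g : Cfsg.isometryGroup F (⇑Q) | ∃ (v : ι → F) (t : F), t ≠ 0 ∧ Q v = c * t ^ 2 ∧
      ((g : Matrix.GeneralLinearGroup ι F) : Matrix ι ι F) = Cfsg.reflectionMatrix (⇑Q) v}
  set K := Subgroup.closure S
  have memS : ∀ v (hv : Q v ≠ 0), IsSquare (Q v * c) → refl Q v hv ∈ K := by
    rintro v hv ⟨r, hr⟩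
    refine Subgroup.subset_closure ⟨v, r / c, div_ne_zero (fun h => mul_ne_zero hv hc (by rw [hr, h, zero_mul])) hc,
      ?_, rfl⟩
    field_simp
    linear_combination hr
  have toRefl : ∀ g ∈ S, ∃ (v : ι → F) (hv : Q v ≠ 0), IsSquare (Q v * c) ∧ g = refl Q v hv := by
    rintro g ⟨v, t, ht, hQv, e⟩
    refine ⟨v, by rw [hQv]; exact mul_ne_zero hc (pow_ne_zero _ ht), ⟨c * t, by rw [hQv]; ring⟩,
      Subtype.ext (Units.ext e)⟩
  haveI hK : K.Normal := by
    refine ⟨fun a ha g => ?_⟩
    induction ha using Subgroup.closure_induction with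
    | mem x hx =>
      obtain ⟨v, hv, hsq, rfl⟩ := toRefl x hx
      rw [refl_conj]
      exact memS _ _ (by rw [(mem_iff Q).mp g.2]; exact hsq)
    | one => simp
    | mul a b _ _ iha ihb =>
      rw [show g * (a * b) * g⁻¹ = (g * a * g⁻¹) * (g * b * g⁻¹) by group]
      exact mul_mem iha ihb
    | inv a _ iha =>
      rw [show g * a⁻¹ * g⁻¹ = (g * a * g⁻¹)⁻¹ by group]
      exact inv_mem iha
  set π := QuotientGroup.mk' K
  have pinv : ∀ v (hv : Q v ≠ 0), π (refl Q v hv) * π (refl Q v hv) = 1 := fun v hv => by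
    rw [← map_mul, refl_mul_self, map_one]
  obtain ⟨e₁, e₂, he₁, he₂, he⟩ := exists_orth_pair Q h2 hQ hn
  obtain ⟨ν, hν⟩ := FiniteField.exists_nonsquare hc2
  have hν0 : ν ≠ 0 := fun h => hν (h ▸ IsSquare.zero)
  obtain ⟨x₁, x₂, hγ⟩ := exists_nonsquare_norm Q h2 he₁ he₂ he c
  obtain ⟨y₁, y₂, hδ⟩ := exists_nonsquare_norm Q h2 he₁ he₂ he (c * ν)
  set γ := x₁ • e₁ + x₂ • e₂
  set δ := y₁ • e₁ + y₂ • e₂
  have hγ0 : Q γ ≠ 0 := hγ ▸ hc
  have hδ0 : Q δ ≠ 0 := hδ ▸ mul_ne_zero hc hν0
  have hns : ¬ IsSquare (Q δ * c) := by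
    rintro ⟨r, hr⟩
    rw [hδ] at hr
    exact hν ⟨r / c, by field_simp; linear_combination hr⟩
  have nondeg : ∀ u v (hu : Q u ≠ 0) (hv : Q v ≠ 0), Q u = Q v →
      QuadraticMap.polar (⇑Q) u v ^ 2 ≠ (2 * Q u) ^ 2 → π (refl Q u hu) = π (refl Q v hv) := by
    intro u v hu hv huv hne
    obtain ⟨t, y, ht, hvy, huy, hQv⟩ := val_decomp Q (v := v) h2 hu
    have hy : Q y ≠ 0 := by
      intro h0
      apply hne
      rw [← ht]
      linear_combination (2 * Q u) ^ 2 * (mul_right_cancel₀ hu (by linear_combination -hQv - huv - h0 :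
        t * t * Q u = 1 * Q u))
    obtain ⟨a, b, hab⟩ := exists_nonsquare_norm Q h2 hu hy huy c
    set z := a • u + b • y
    have hz : Q z ≠ 0 := hab ▸ hc
    set g := refl Q u hu * refl Q v hv * refl Q z hz with hg
    obtain ⟨w, hw, hgw⟩ := plane_refl Q h2 hQ hu hy huy g (fun x h3 h4 => by
      rw [hg, mat, mulVec_mul, mulVec_mul, coe_refl, coe_refl, coe_refl,
        fix Q z x (by simp [z, QuadraticMap.polar_add_left, QuadraticMap.polar_smul_left, h3, h4]),
        fix Q v x (by rw [hvy, QuadraticMap.polar_add_left, QuadraticMap.polar_smul_left, h3, h4]; simp),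
        fix Q u x h3]) (by
      rw [hg, mat, Subgroup.coe_mul, Subgroup.coe_mul, Units.val_mul, Units.val_mul, Matrix.det_mul, Matrix.det_mul,
        coe_refl, coe_refl, coe_refl, det_eq Q u hu, det_eq Q v hv, det_eq Q z hz]
      ring)
    have hs : spin Q (refl Q w hw) = spin Q (refl Q z hz) := by
      rw [← hgw, hg, map_mul, map_mul, refl_same_class Q hQ (spin Q) hu hv ⟨Q v, by rw [huv]⟩, ← map_mul,
        refl_mul_self, map_one, one_mul]
    have hwc : IsSquare (Q w * c) := hab ▸ (spin_eq_iff Q h2 hQ hn hw hz).mp hs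
    have hzc : IsSquare (Q z * c) := ⟨c, by rw [hab]⟩
    have h1 : π g = 1 := by rw [hgw]; exact (QuotientGroup.eq_one_iff _).mpr (memS w hw hwc)
    rw [hg, map_mul, map_mul, show π (refl Q z hz) = 1 from (QuotientGroup.eq_one_iff _).mpr (memS z hz hzc),
      mul_one] at h1
    rw [eq_inv_of_mul_eq_one_left h1, ← eq_inv_of_mul_eq_one_left (pinv v hv)]
  have conn : ∀ u v (hu : Q u ≠ 0) (hv : Q v ≠ 0), Q u = Q v → π (refl Q u hu) = π (refl Q v hv) := by
    intro u v hu hv huv
    obtain ⟨t, y, ht, hvy, huy, hQv⟩ := val_decomp Q (v := v) h2 hu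
    by_cases hne : QuadraticMap.polar (⇑Q) u v ^ 2 ≠ (2 * Q u) ^ 2
    · exact nondeg u v hu hv huv hne
    push Not at hne
    have htt : t * t = 1 := by
      rw [← ht] at hne
      exact mul_right_cancel₀ (pow_ne_zero 2 (mul_ne_zero h2 hu)) (by linear_combination hne)
    have hQy : Q y = 0 := by rw [htt] at hQv; linear_combination -hQv - huv
    set r := t • y
    have hr : Q r = 0 := by rw [QuadraticMap.map_smul, hQy, smul_zero]
    have hur : QuadraticMap.polar (⇑Q) u r = 0 := by rw [QuadraticMap.polar_smul_right, huy, smul_zero]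
    have hvr : v = t • (u + r) := by rw [smul_add, smul_smul, htt, one_smul]; exact hvy
    by_cases hr0 : r = 0
    · exact (congrArg π (refl_congr Q hu hv (t := t) (by rw [hvr, hr0, add_zero]))).symm
    obtain ⟨w, huw, hQw, hrw⟩ : ∃ w, QuadraticMap.polar (⇑Q) u w = 0 ∧ Q w = Q u ∧
        QuadraticMap.polar (⇑Q) r w ^ 2 ≠ (2 * Q u) ^ 2 := by
      by_cases h5 : 5 ≤ Fintype.card ι
      · obtain ⟨w, h3, h4, h6⟩ := exists_norm_perp Q h2 hQ h5 hu hur (Q u)
        exact ⟨w, h3, h6, by rw [h4, zero_pow two_ne_zero]; exact (pow_ne_zero 2 (mul_ne_zero h2 hu)).symm⟩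
      obtain ⟨p, hp⟩ : ∃ p, QuadraticMap.polar (⇑Q) r p ≠ 0 := by
        by_contra hh
        push Not at hh
        exact hr0 (hQ.1 r hh)
      obtain ⟨z₁, hz₁⟩ : ∃ z₁, QuadraticMap.polar (⇑Q) r z₁ = 1 :=
        ⟨(QuadraticMap.polar (⇑Q) r p)⁻¹ • p, by rw [QuadraticMap.polar_smul_right, smul_eq_mul, inv_mul_cancel₀ hp]⟩
      have hru : QuadraticMap.polar (⇑Q) r u = 0 := by rw [QuadraticMap.polar_comm]; exact hur
      have hrr : QuadraticMap.polar (⇑Q) r r = 0 := by rw [polar_self_two, hr, mul_zero]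
      set z₂ := z₁ - (QuadraticMap.polar (⇑Q) u z₁ / (2 * Q u)) • u
      have hz₂ : QuadraticMap.polar (⇑Q) r z₂ = 1 := by
        simp [z₂, QuadraticMap.polar_sub_right, QuadraticMap.polar_smul_right, hru, hz₁]
      have huz₂ : QuadraticMap.polar (⇑Q) u z₂ = 0 := by
        rw [QuadraticMap.polar_sub_right, QuadraticMap.polar_smul_right, polar_self_two, smul_eq_mul]
        field_simp; ring
      set z := z₂ + (-Q z₂) • r
      have hrz : QuadraticMap.polar (⇑Q) r z = 1 := by
        simp [z, QuadraticMap.polar_add_right, QuadraticMap.polar_smul_right, hz₂, hrr]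
      have huz : QuadraticMap.polar (⇑Q) u z = 0 := by
        simp [z, QuadraticMap.polar_add_right, QuadraticMap.polar_smul_right, huz₂, hur]
      have hQz : Q z = 0 := by
        simp [z, QuadraticMap.map_add (f := Q), QuadraticMap.map_smul, hr, QuadraticMap.polar_smul_right,
          QuadraticMap.polar_comm (⇑Q) z₂ r, hz₂]
      by_cases hq : Fintype.card F = 3
      · exfalso
        have h2' : Fintype.card ι = 2 := by
          obtain ⟨m, hm⟩ := heven
          have := fun h => h43 ⟨h, hq⟩
          omega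
        have hli : LinearIndependent F ![u, r, z] := by
          rw [Fintype.linearIndependent_iff]
          intro g hg
          simp only [Fin.sum_univ_three, Matrix.cons_val_zero, Matrix.cons_val_one, Matrix.cons_val] at hg
          have h1 := congrArg (QuadraticMap.polar (⇑Q) r) hg
          have h3 := congrArg (QuadraticMap.polar (⇑Q) u) hg
          simp only [QuadraticMap.polar_add_right, QuadraticMap.polar_smul_right, QuadraticMap.polar_zero_right,
            hru, hrr, hrz, hur, huz, polar_self_two, smul_eq_mul] at h1 h3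
          have hg2 : g 2 = 0 := by linear_combination h1
          have hg0 : g 0 = 0 := by simpa [h2, hu] using h3
          rw [hg2, hg0, zero_smul, zero_smul, zero_add, add_zero, smul_eq_zero] at hg
          intro i
          fin_cases i
          · exact hg0
          · exact hg.resolve_right hr0
          · exact hg2
        have := hli.fintype_card_le_finrank
        rw [Module.finrank_fintype_fun_eq_card, Fintype.card_fin] at this
        omega
      obtain ⟨τ, -, hτ⟩ := Finset.exists_mem_notMem_of_card_lt_card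
        (s := ({0, 2 * Q u, -(2 * Q u)} : Finset F)) (t := Finset.univ) (by
          have := Finset.card_le_three (a := (0 : F)) (b := 2 * Q u) (c := -(2 * Q u))
          have h3 := FiniteField.odd_card_of_char_ne_two hc2
          have := Fintype.one_lt_card (α := F)
          rw [Finset.card_univ]; omega)
      simp only [Finset.mem_insert, Finset.mem_singleton, not_or] at hτ
      refine ⟨(Q u / τ) • r + τ • z, ?_, ?_, ?_⟩
      · simp [QuadraticMap.polar_add_right, QuadraticMap.polar_smul_right, hur, huz]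
      · simp only [QuadraticMap.map_add (f := Q), QuadraticMap.map_smul, hr, hQz, QuadraticMap.polar_smul_left,
          QuadraticMap.polar_smul_right, hrz, smul_eq_mul]
        have := hτ.1
        field_simp
        ring
      · intro h
        simp only [QuadraticMap.polar_add_right, QuadraticMap.polar_smul_right, hrr, hrz, smul_eq_mul] at h
        have h' : (τ - 2 * Q u) * (τ + 2 * Q u) = 0 := by linear_combination h
        rcases mul_eq_zero.mp h' with h | h
        · exact hτ.2.1 (sub_eq_zero.mp h)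
        · exact hτ.2.2 (eq_neg_of_add_eq_zero_left h)
    have hw : Q w ≠ 0 := hQw ▸ hu
    rw [nondeg u w hu hw hQw.symm (by rw [huw, zero_pow two_ne_zero]; exact (pow_ne_zero 2 (mul_ne_zero h2 hu)).symm)]
    refine nondeg w v hw hv (hQw.trans huv) ?_
    have hp : QuadraticMap.polar (⇑Q) w v = t * QuadraticMap.polar (⇑Q) r w := by
      rw [hvr, QuadraticMap.polar_smul_right, QuadraticMap.polar_add_right, QuadraticMap.polar_comm (⇑Q) w u, huw,
        zero_add, QuadraticMap.polar_comm (⇑Q) w r, smul_eq_mul]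
    rw [hp, hQw, mul_pow, show t ^ 2 = 1 by rw [pow_two, htt], one_mul]
    exact hrw
  have classes : ∀ v (hv : Q v ≠ 0), π (refl Q v hv) = 1 ∨ π (refl Q v hv) = π (refl Q δ hδ0) := by
    intro v hv
    by_cases h : IsSquare (Q v * c)
    · exact Or.inl ((QuotientGroup.eq_one_iff _).mpr (memS v hv h))
    · right
      obtain ⟨r, hr⟩ := isSquare_trans h2 hδ0 hv hc hns (by rwa [mul_comm])
      set s := r / Q v
      have hQs : Q (s • v) = Q δ := by
        rw [QuadraticMap.map_smul, smul_eq_mul]
        simp only [s]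
        field_simp
        linear_combination -hr
      rw [conn δ (s • v) hδ0 (hQs ▸ hδ0) hQs.symm]
      exact congrArg π (refl_congr Q hv (hQs ▸ hδ0) rfl).symm
  have cover : ∀ g, π g = 1 ∨ π g = π (refl Q δ hδ0) := by
    intro g
    induction mem_closure_refl Q hQ (Or.inl (card_ne_two h2)) g using Subgroup.closure_induction with
    | mem x hx => obtain ⟨v, hv, rfl⟩ := hx; exact classes v hv
    | one => exact Or.inl (map_one π)
    | mul a b _ _ iha ihb =>
      rw [map_mul]
      rcases iha with h | h <;> rcases ihb with h' | h' <;> rw [h, h']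
      · exact Or.inl (mul_one 1)
      · exact Or.inr (one_mul _)
      · exact Or.inr (mul_one _)
      · exact Or.inl (pinv δ hδ0)
    | inv a _ iha =>
      rw [map_inv]
      rcases iha with h | h <;> rw [h]
      · exact Or.inl inv_one
      · exact Or.inr (inv_eq_of_mul_eq_one_left (pinv δ hδ0))
  obtain ⟨ψ, hψγ, hψδ⟩ : ∃ ψ : Cfsg.isometryGroup F (⇑Q) →* ℤˣ,
      ψ (refl Q γ hγ0) = 1 ∧ ψ (refl Q δ hδ0) = -1 := by
    have hne : spin Q (refl Q δ hδ0) ≠ spin Q (refl Q γ hγ0) := fun h =>
      hns (hγ ▸ (spin_eq_iff Q h2 hQ hn hδ0 hγ0).mp h)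
    rcases Int.units_eq_one_or (spin Q (refl Q γ hγ0)) with h | h
    · exact ⟨spin Q, h, (Int.units_eq_one_or _).resolve_left (h ▸ hne)⟩
    · exact ⟨dickson Q hQ * spin Q, by simp [dickson_refl, h],
        by simp [dickson_refl, (Int.units_eq_one_or _).resolve_right (h ▸ hne)]⟩
  have hle : K ≤ ψ.ker := by
    rw [Subgroup.closure_le]
    intro x hx
    obtain ⟨v, hv, hsq, rfl⟩ := toRefl x hx
    show ψ (refl Q v hv) = 1
    rw [refl_same_class Q hQ ψ hv hγ0 (by rw [hγ]; exact hsq), hψγ]
  rw [Subgroup.index_eq_two_iff]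
  refine ⟨refl Q δ hδ0, fun b => ?_⟩
  rcases cover b with h | h
  · refine Or.inr ⟨(QuotientGroup.eq_one_iff b).mp h, fun hb => ?_⟩
    have h1 : ψ (b * refl Q δ hδ0) = 1 := hle hb
    rw [map_mul, hψδ, show ψ b = 1 from hle ((QuotientGroup.eq_one_iff b).mp h)] at h1
    simp at h1
  · refine Or.inl ⟨(QuotientGroup.eq_one_iff _).mp (show π (b * refl Q δ hδ0) = 1 by rw [map_mul, h, pinv]), fun hb => ?_⟩
    have hb' : π b = 1 := (QuotientGroup.eq_one_iff b).mpr hb
    have h1 : ψ (refl Q δ hδ0) = 1 := hle ((QuotientGroup.eq_one_iff _).mp (h.symm.trans hb'))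
    rw [hψδ] at h1
    simp at h1

end Cfsg.Lib.Classical.Refl
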