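import Mathlib

/-! The Witt index of a sum of `2m` squares. -/

set_option autoImplicit false
set_option linter.style.haveILetI false

namespace Cfsg.Lib.Classical.SquaresIndex

open Matrix

universe u

variable {F : Type u} [Field F]

theorem det_J (m : ℕ) :
    (Matrix.fromBlocks (0 : Matrix (Fin m) (Fin m) F) (1 : Matrix (Fin m) (Fin m) F) (-1 : Matrix (Fin m) (Fin m) F) 0).det = 1 := by
  have e : Matrix.fromBlocks (0 : Matrix (Fin m) (Fin m) F) (1 : Matrix (Fin m) (Fin m) F) (-1 : Matrix (Fin m) (Fin m) F) 0 =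
      Matrix.fromBlocks (1 : Matrix (Fin m) (Fin m) F) (1 : Matrix (Fin m) (Fin m) F) (0 : Matrix (Fin m) (Fin m) F) 1 *
        Matrix.fromBlocks (1 : Matrix (Fin m) (Fin m) F) (0 : Matrix (Fin m) (Fin m) F) (-1 : Matrix (Fin m) (Fin m) F) 1 *
        Matrix.fromBlocks (1 : Matrix (Fin m) (Fin m) F) (1 : Matrix (Fin m) (Fin m) F) (0 : Matrix (Fin m) (Fin m) F) 1 := by
    simp [Matrix.fromBlocks_multiply]
  rw [e, Matrix.det_mul, Matrix.det_mul, Matrix.det_fromBlocks_zero₂₁, Matrix.det_fromBlocks_zero₁₂]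
  simp

theorem isSquare_of_exists [Fintype F] (h2 : (2 : F) ≠ 0) {m : ℕ} (W : Submodule F (Fin (2 * m) → F))
    (hW : Module.finrank F W = m) (h : ∀ w ∈ W, ∑ i, w i ^ 2 = 0) : IsSquare ((-1 : F) ^ m) := by
  classical
  have hort : ∀ a ∈ W, ∀ b ∈ W, ∑ i, a i * b i = 0 := by
    intro a ha b hb
    have h3 := h _ (W.add_mem ha hb)
    have e : ∑ i, (a + b) i ^ 2 = ∑ i, a i ^ 2 + 2 * ∑ i, a i * b i + ∑ i, b i ^ 2 := by
      rw [Finset.mul_sum, ← Finset.sum_add_distrib, ← Finset.sum_add_distrib]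
      exact Finset.sum_congr rfl fun i _ => by simp; ring
    rw [e, h a ha, h b hb, add_zero, zero_add] at h3
    exact (mul_eq_zero.mp h3).resolve_left h2
  obtain ⟨U, hU⟩ := Submodule.exists_isCompl W
  have hU' : Module.finrank F U = m := by
    have := Submodule.finrank_add_eq_of_isCompl hU
    rw [hW, Module.finrank_fin_fun] at this; omega
  let bW := Module.finBasisOfFinrankEq F W hW
  let bU := Module.finBasisOfFinrankEq F U hU'
  let b : Module.Basis (Fin m ⊕ Fin m) F (Fin (2 * m) → F) :=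
    (bW.prod bU).map (Submodule.prodEquivOfIsCompl W U hU)
  let e : Fin m ⊕ Fin m ≃ Fin (2 * m) := finSumFinEquiv.trans (finCongr (two_mul m).symm)
  let M : Matrix (Fin m ⊕ Fin m) (Fin m ⊕ Fin m) F := Matrix.of fun i j => b i (e j)
  have hM : M.det ≠ 0 := by
    have hu : IsUnit M := by
      rw [← Matrix.linearIndependent_rows_iff_isUnit]
      exact b.linearIndependent.map' (LinearEquiv.funCongrLeft F F e).toLinearMap (LinearEquiv.ker _)
    exact ((Matrix.isUnit_iff_isUnit_det M).mp hu).ne_zero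
  have hW0 : ∀ i j : Fin m, (M * Mᵀ) (Sum.inl i) (Sum.inl j) = 0 := by
    intro i j
    have hb : ∀ i, b (Sum.inl i) = (bW i : Fin (2 * m) → F) := fun i => by simp [b]
    rw [Matrix.mul_apply]
    simp only [M, Matrix.transpose_apply, Matrix.of_apply, hb]
    rw [e.sum_comp (fun k => (bW i : Fin (2 * m) → F) k * (bW j : Fin (2 * m) → F) k)]
    exact hort _ (bW i).2 _ (bW j).2
  set C := (M * Mᵀ).toBlocks₁₂
  set D := (M * Mᵀ).toBlocks₂₂
  have hG : M * Mᵀ = Matrix.fromBlocks C 0 D (-Cᵀ) * Matrix.fromBlocks (0 : Matrix (Fin m) (Fin m) F) (1 : Matrix (Fin m) (Fin m) F) (-1 : Matrix (Fin m) (Fin m) F) 0 := by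
    have hsym : (M * Mᵀ).toBlocks₂₁ = Cᵀ := by
      ext i j
      show (M * Mᵀ) (Sum.inr i) (Sum.inl j) = (M * Mᵀ) (Sum.inl j) (Sum.inr i)
      simp only [Matrix.mul_apply, Matrix.transpose_apply]
      exact Finset.sum_congr rfl fun k _ => mul_comm _ _
    have h11 : (M * Mᵀ).toBlocks₁₁ = 0 := by ext i j; exact hW0 i j
    conv_lhs => rw [← Matrix.fromBlocks_toBlocks (M * Mᵀ)]
    rw [h11, hsym, Matrix.fromBlocks_multiply]
    simp [C, D]
  have hdet := congrArg Matrix.det hG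
  rw [Matrix.det_mul, Matrix.det_transpose, Matrix.det_mul, det_J, mul_one, Matrix.det_fromBlocks_zero₁₂,
    Matrix.det_neg, Matrix.det_transpose, Fintype.card_fin] at hdet
  have hC : C.det ≠ 0 := fun h0 => by
    rw [h0, zero_mul] at hdet
    exact mul_ne_zero hM hM hdet
  refine ⟨M.det / C.det, ?_⟩
  rw [div_mul_div_comm, hdet, eq_div_iff (mul_ne_zero hC hC)]
  ring

/-- The space spanned by the planes `(1,0,a,b), (0,1,-b,a)` in consecutive quadruples, or by `(1,i)`. -/
theorem exists_space [Fintype F] {m : ℕ} (h : IsSquare (-1 : F) ∨ Even m) :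
    ∃ W : Submodule F (Fin (2 * m) → F), Module.finrank F W = m ∧ ∀ w ∈ W, ∑ i, w i ^ 2 = 0 := by
  classical
  suffices hs : ∃ A : Matrix (Fin m) (Fin m) F, A * Aᵀ = -1 by
    obtain ⟨A, hA⟩ := hs
    let e : Fin m ⊕ Fin m ≃ Fin (2 * m) := finSumFinEquiv.trans (finCongr (two_mul m).symm)
    let f : (Fin m → F) →ₗ[F] (Fin (2 * m) → F) :=
      (LinearEquiv.funCongrLeft F F e.symm).toLinearMap ∘ₗ
        (LinearEquiv.sumArrowLequivProdArrow (Fin m) (Fin m) F F).symm.toLinearMap ∘ₗ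
          LinearMap.prod LinearMap.id (Matrix.vecMulLinear A)
    have hf : Function.Injective f := by
      intro x y hxy
      funext i
      simpa [f] using congrFun hxy (e (Sum.inl i))
    refine ⟨LinearMap.range f, by rw [LinearMap.finrank_range_of_inj hf, Module.finrank_fin_fun], ?_⟩
    rintro _ ⟨x, rfl⟩
    have hdot : (Matrix.vecMul x A) ⬝ᵥ (Matrix.vecMul x A) = -(x ⬝ᵥ x) := by
      conv_lhs => rhs; rw [← Matrix.mulVec_transpose]
      rw [Matrix.dotProduct_mulVec, Matrix.vecMul_vecMul, hA, Matrix.vecMul_neg, Matrix.vecMul_one, neg_dotProduct]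
    rw [← e.sum_comp, Fintype.sum_sum_type]
    have : ∀ y : Fin m → F, ∑ i, y i ^ 2 = y ⬝ᵥ y := fun y => by simp [dotProduct, sq]
    simp [f]
    rw [this, this (Matrix.vecMul x A), hdot]
    ring
  rcases h with ⟨i, hi⟩ | ⟨k, hk⟩
  · exact ⟨i • 1, by rw [Matrix.transpose_smul, Matrix.transpose_one, Matrix.smul_mul, Matrix.mul_smul, mul_one,
      smul_smul, ← hi, neg_one_smul]⟩
  · obtain ⟨a, b, hab⟩ : ∃ a b : F, a ^ 2 + b ^ 2 = -1 := by
      obtain ⟨p, hp⟩ := CharP.exists F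
      haveI : NeZero p := ⟨(CharP.char_is_prime F p).ne_zero⟩
      obtain ⟨a, b, hab⟩ := CharP.sq_add_sq F p (-1)
      exact ⟨a, b, by simpa using hab⟩
    let e : Fin k ⊕ Fin k ≃ Fin m := finSumFinEquiv.trans (finCongr hk.symm)
    let B : Matrix (Fin k ⊕ Fin k) (Fin k ⊕ Fin k) F :=
      Matrix.fromBlocks (a • 1) (b • 1) ((-b) • 1) (a • 1)
    refine ⟨Matrix.reindex e e B, ?_⟩
    have hB : B * Bᵀ = -1 := by
      rw [Matrix.fromBlocks_transpose, Matrix.fromBlocks_multiply]
      rw [← Matrix.fromBlocks_one, Matrix.fromBlocks_neg]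
      simp only [Matrix.transpose_smul, Matrix.transpose_one, Matrix.smul_mul, Matrix.mul_smul, mul_one, smul_smul,
        ← add_smul, neg_zero]
      congr 1
      · rw [show a * a + b * b = -1 by linear_combination hab, neg_one_smul]
      · rw [show -b * a + a * b = 0 by ring, zero_smul]
      · rw [show a * -b + b * a = 0 by ring, zero_smul]
      · rw [show -b * -b + a * a = -1 by linear_combination hab, neg_one_smul]
    rw [Matrix.reindex_apply, Matrix.transpose_submatrix, Matrix.submatrix_mul_equiv, hB]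
    ext i j
    simp [Matrix.one_apply]

theorem iff_witt [Fintype F] (h2 : (2 : F) ≠ 0) (m : ℕ) :
    (∃ W : Submodule F (Fin (2 * m) → F), Module.finrank F W = m ∧ ∀ w ∈ W, ∑ i, w i ^ 2 = 0) ↔
      ¬ (Fintype.card F % 4 = 3 ∧ Odd m) := by
  constructor
  · rintro ⟨W, hW, hz⟩ ⟨h3, hm⟩
    have := isSquare_of_exists h2 W hW hz
    rw [hm.neg_one_pow, FiniteField.isSquare_neg_one_iff] at this
    exact this h3
  · intro h
    refine exists_space ?_
    rcases Nat.even_or_odd m with hm | hm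
    · exact Or.inr hm
    · exact Or.inl (FiniteField.isSquare_neg_one_iff.mpr fun h3 => h ⟨h3, hm⟩)

end Cfsg.Lib.Classical.SquaresIndex
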