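import Mathlib
import Cfsg.Agent.Classical.Misc.InvolutionSubfield
import Cfsg.Agent.Classical.Misc.PrimeOrderCriteria
import Cfsg.Agent.Known.SemisimpleCharpoly

/-! Elements of odd prime order and subfield subgroups of `SL_n`. -/

set_option autoImplicit false
set_option linter.unusedSimpArgs false
set_option linter.unusedSectionVars false
set_option linter.unusedVariables false
set_option linter.style.haveILetI false
set_option linter.flexible false

namespace Cfsg.Lib.Classical.SubfieldOdd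

open Polynomial Matrix
open Cfsg.Lib.Classical.InvolSubfield (H mem_H mem_of_entries)

universe u

variable {F : Type u} [Field F] [Fintype F] {n : ℕ}

/-- Some conjugate lies in the subfield subgroup. -/
def Fixed (F₀ : Subfield F) (x : SpecialLinearGroup (Fin n) F) : Prop :=
  ∃ P : SpecialLinearGroup (Fin n) F, P⁻¹ * x * P ∈ H F₀ n

/-- The subfield as the fixed points of a power map. -/
theorem mem_iff_pow {F₀ : Subfield F} {q₀ : ℕ} (hF₀ : Nat.card F₀ = q₀) (c : F) : c ∈ F₀ ↔ c ^ q₀ = c := by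
  classical
  haveI : Finite F₀ := Finite.of_injective _ Subtype.val_injective
  haveI := Fintype.ofFinite F₀
  rw [Nat.card_eq_fintype_card] at hF₀
  have hfix : ∀ a ∈ F₀, a ^ q₀ = a := fun a ha => by
    have h := FiniteField.pow_card (⟨a, ha⟩ : F₀)
    rw [hF₀] at h
    exact congrArg Subtype.val h
  refine ⟨hfix c, fun hc => ?_⟩
  have h1 : 1 < q₀ := hF₀ ▸ Fintype.one_lt_card
  have hne : (X ^ q₀ - X : F[X]) ≠ 0 := FiniteField.X_pow_card_sub_X_ne_zero F h1
  have hdeg : (X ^ q₀ - X : F[X]).natDegree = q₀ := FiniteField.X_pow_card_sub_X_natDegree_eq F h1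
  let A : Finset F := Finset.univ.filter (fun a => a ∈ F₀)
  let B : Finset F := (X ^ q₀ - X : F[X]).roots.toFinset
  have hsub : A ⊆ B := fun a ha => by
    simp only [A, Finset.mem_filter] at ha
    simp [B, hne, hfix a ha.2]
  have hA : A.card = q₀ := by
    rw [← hF₀]
    exact (Fintype.card_subtype _).symm.trans (Fintype.card_congr (Equiv.refl _))
  have heq : A = B := Finset.eq_of_subset_of_card_le hsub (by
    rw [hA]
    exact ((Multiset.toFinset_card_le _).trans (card_roots' _)).trans hdeg.le)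
  have : c ∈ B := by simp [B, hne, hc]
  rw [← heq] at this
  exact (Finset.mem_filter.mp this).2

theorem card_eq_pow {F₀ : Subfield F} {p q₀ : ℕ} [Fact p.Prime] [CharP F p] (hF₀ : Nat.card F₀ = q₀) :
    ∃ e, q₀ = p ^ e := by
  haveI : Finite F₀ := Finite.of_injective _ Subtype.val_injective
  haveI := Fintype.ofFinite F₀
  haveI : CharP F₀ p := RingHom.charP F₀.subtype Subtype.val_injective p
  obtain ⟨e, -, he⟩ := FiniteField.card F₀ p
  exact ⟨e, by rw [← hF₀, Nat.card_eq_fintype_card, he]⟩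

/-- The characteristic polynomial of a characteristic power. -/
theorem charpoly_pow_char (p e : ℕ) [Fact p.Prime] [CharP F p] (A : Matrix (Fin n) (Fin n) F) :
    (A ^ p ^ e).charpoly = A.charpoly.map (iterateFrobenius F p e) := by
  have hp : 0 < p ^ e := pow_pos (Fact.out : p.Prime).pos e
  rcases isEmpty_or_nonempty (Fin n) with h | h
  · simp [Matrix.charpoly, Matrix.det_isEmpty]
  refine expand_injective hp ?_
  rw [← map_expand, map_iterateFrobenius_expand]
  unfold Matrix.charpoly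
  rw [AlgHom.map_det, ← coe_detMonoidHom, ← (detMonoidHom : Matrix (Fin n) (Fin n) F[X] →* F[X]).map_pow]
  apply congr_arg det
  refine matPolyEquiv.injective ?_
  rw [map_pow, matPolyEquiv_charmatrix, sub_pow_char_pow_of_commute, ← C_pow]
  · exact (id (matPolyEquiv_eq_X_pow_sub_C (p ^ e) A) :)
  · exact (C A).commute_X

theorem coeff_mem_iff {F₀ : Subfield F} {p e : ℕ} [Fact p.Prime] [CharP F p] (hF₀ : Nat.card F₀ = p ^ e) (f : F[X]) :
    (∀ i, f.coeff i ∈ F₀) ↔ f.map (iterateFrobenius F p e) = f := by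
  simp [Polynomial.ext_iff, coeff_map, mem_iff_pow hF₀, iterateFrobenius_def]

/-- A conjugate in the subgroup has entries in the subfield, up to a scalar. -/
theorem entries_of_mem {F₀ : Subfield F} {g : SpecialLinearGroup (Fin n) F} (hg : g ∈ H F₀ n) :
    ∃ μ : F, μ ≠ 0 ∧ ∀ i j, μ * (g : Matrix (Fin n) (Fin n) F) i j ∈ F₀ := by
  classical
  obtain ⟨a, ha, h⟩ := (mem_H g).mp hg
  refine ⟨a⁻¹, inv_ne_zero ha, fun i j => ?_⟩
  obtain ⟨r, hr, he⟩ := h (Pi.single j 1) fun l => by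
    rw [Pi.single_apply]; split_ifs
    exacts [F₀.one_mem, F₀.zero_mem]
  have := congrFun he i
  simp at this
  rw [this, ← mul_assoc, inv_mul_cancel₀ ha, one_mul]
  exact hr i

theorem coe_conj (x P : SpecialLinearGroup (Fin n) F) :
    ((SpecialLinearGroup.toGL P : GL (Fin n) F) : Matrix (Fin n) (Fin n) F) * ((P⁻¹ * x * P : SpecialLinearGroup (Fin n) F) : Matrix (Fin n) (Fin n) F) *
      (((SpecialLinearGroup.toGL P)⁻¹ : GL (Fin n) F) : Matrix (Fin n) (Fin n) F) = (x : Matrix (Fin n) (Fin n) F) := by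
  have h : SpecialLinearGroup.toGL P * SpecialLinearGroup.toGL (P⁻¹ * x * P) * (SpecialLinearGroup.toGL P)⁻¹ =
      SpecialLinearGroup.toGL x := by
    rw [map_mul, map_mul, map_inv]; group
  exact congrArg Units.val h

theorem charpoly_smul_conj (x P : SpecialLinearGroup (Fin n) F) (μ : F) :
    (μ • ((P⁻¹ * x * P : SpecialLinearGroup (Fin n) F) : Matrix (Fin n) (Fin n) F)).charpoly =
      (μ • (x : Matrix (Fin n) (Fin n) F)).charpoly := by
  conv_rhs => rw [← coe_conj x P]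
  rw [← Matrix.smul_mul, ← Matrix.mul_smul]
  rw [Matrix.coe_units_inv]
  exact (Matrix.charpoly_units_conj (SpecialLinearGroup.toGL P) _).symm

/-- Fixed points give characteristic polynomials over the subfield. -/
theorem coeff_mem_of_fixed {F₀ : Subfield F} {x : SpecialLinearGroup (Fin n) F} (h : Fixed F₀ x) :
    ∃ μ : F, μ ≠ 0 ∧ ∀ i, ((μ • (x : Matrix (Fin n) (Fin n) F)).charpoly).coeff i ∈ F₀ := by
  obtain ⟨P, hP⟩ := h
  obtain ⟨μ, hμ, he⟩ := entries_of_mem hP
  refine ⟨μ, hμ, fun i => ?_⟩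
  rw [← charpoly_smul_conj x P μ]
  let R : Matrix (Fin n) (Fin n) F₀ := fun i j => ⟨_, he i j⟩
  have hR : R.map F₀.subtype = μ • ((P⁻¹ * x * P : SpecialLinearGroup (Fin n) F) : Matrix (Fin n) (Fin n) F) := rfl
  rw [← hR, Matrix.charpoly_map, coeff_map]
  exact (R.charpoly.coeff i).2

/-- A semisimple element whose characteristic polynomial, scaled, lies over the subfield has a fixed point. -/
theorem fixed_of_coeff_mem {p r : ℕ} [Fact p.Prime] [CharP F p] (hr : r.Prime) (hrp : r ≠ p) {F₀ : Subfield F}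
    {x : SpecialLinearGroup (Fin n) F} {z μ : F} (hz : z ≠ 0) (hx : (x : Matrix (Fin n) (Fin n) F) ^ r = z • 1)
    (hμ : μ ≠ 0) (hc : ∀ i, ((μ • (x : Matrix (Fin n) (Fin n) F)).charpoly).coeff i ∈ F₀) : Fixed F₀ x := by
  classical
  set y := μ • (x : Matrix (Fin n) (Fin n) F) with hy
  haveI : Finite F₀ := Finite.of_injective _ Subtype.val_injective
  haveI : CharP F₀ p := RingHom.charP F₀.subtype Subtype.val_injective p
  obtain ⟨f₀, hf₀⟩ : ∃ f₀ : F₀[X], f₀.map F₀.subtype = y.charpoly := by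
    have hl : y.charpoly ∈ lifts F₀.subtype := by
      rw [lifts_iff_coeff_lifts]
      exact fun i => ⟨⟨_, hc i⟩, rfl⟩
    exact (mem_lifts _).mp hl
  have hsub : Function.Injective (F₀.subtype) := Subtype.val_injective
  have hydet : y.det ≠ 0 := by
    rw [hy, Matrix.det_smul, x.2, mul_one]; exact pow_ne_zero _ hμ
  have hm : f₀.Monic := monic_of_injective hsub (by rw [hf₀]; exact Matrix.charpoly_monic _)
  have hd : f₀.natDegree = n := by
    rw [← natDegree_map_eq_of_injective hsub, hf₀, Matrix.charpoly_natDegree_eq_dim, Fintype.card_fin]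
  have h0 : f₀.coeff 0 ≠ 0 := fun e => hydet (by
    rw [Matrix.det_eq_sign_charpoly_coeff, ← hf₀, coeff_map, e, map_zero, mul_zero])
  obtain ⟨A₀, N, hA₀, hN, hAN⟩ := SemisimpleCharpoly.exists_model (F := F₀) p n f₀ hm hd h0
  let A : Matrix (Fin n) (Fin n) F := A₀.map F₀.subtype
  have hA : A.charpoly = y.charpoly := by rw [Matrix.charpoly_map, hA₀, hf₀]
  have hAs : Module.End.IsSemisimple (Matrix.toLin' A) :=
    SemisimpleSimilar.semisimple_of_coprime hN _ (by rw [← Matrix.map_pow, hAN, Matrix.map_one _ (map_zero _) (map_one _)])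
  have hys : Module.End.IsSemisimple (Matrix.toLin' y) := by
    refine PrimeOrd.semisimple (r := r) (PrimeOrd.cast_ne_zero hr hrp) (c := μ ^ r * z) (mul_ne_zero (pow_ne_zero _ hμ) hz) ?_
    rw [← Matrix.toLin'_pow, hy, _root_.smul_pow, hx, smul_smul, map_smul, Matrix.toLin'_one]
    rfl
  obtain ⟨e, he⟩ := SemisimpleSimilar.similar (F := F) n (Fin n → F) (Fin n → F) (Matrix.toLin' y) (Matrix.toLin' A)
    hys hAs (by rw [Matrix.charpoly_toLin', Matrix.charpoly_toLin']; exact hA.symm) (Module.finrank_fin_fun F)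
  let G : GL (Fin n) F := GeneralLinearGroup.mkOfDetNeZero (LinearMap.toMatrix' (e : (Fin n → F) →ₗ[F] (Fin n → F)))
    (by rw [LinearMap.det_toMatrix']; exact (LinearEquiv.isUnit_det' e).ne_zero)
  have hG : (G : Matrix (Fin n) (Fin n) F) * y = A * (G : Matrix (Fin n) (Fin n) F) := by
    show LinearMap.toMatrix' (e : (Fin n → F) →ₗ[F] (Fin n → F)) * y = A * LinearMap.toMatrix' (e : (Fin n → F) →ₗ[F] (Fin n → F))
    refine Matrix.toLin'.injective ?_
    rw [Matrix.toLin'_mul, Matrix.toLin'_mul, Matrix.toLin'_toMatrix']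
    exact LinearMap.ext he
  set a := SpecialLinearGroup.toGL x with ha
  have hord : (orderOf a).Coprime p := by
    have h1 : (x : Matrix (Fin n) (Fin n) F) ^ (r * (Fintype.card F - 1)) = 1 := by
      rw [pow_mul, hx, _root_.smul_pow, one_pow, FiniteField.pow_card_sub_one_eq_one z hz, one_smul]
    have h2 : a ^ (r * (Fintype.card F - 1)) = 1 := Units.ext (by rw [Units.val_pow_eq_pow_val]; exact h1)
    refine Nat.Coprime.coprime_dvd_left (orderOf_dvd_of_pow_eq_one h2) (Nat.Coprime.mul_left ?_ ?_)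
    · exact (Nat.coprime_primes hr Fact.out).mpr hrp
    · rw [Nat.coprime_comm, (Fact.out : p.Prime).coprime_iff_not_dvd]
      intro hdv
      obtain ⟨l, -, hl⟩ := FiniteField.card F p
      have h3 : p ∣ Fintype.card F := hl ▸ dvd_pow_self p l.pos.ne'
      have h4 := Nat.dvd_sub h3 hdv
      rw [Nat.sub_sub_self Fintype.card_pos] at h4
      exact (Fact.out : p.Prime).not_dvd_one h4
  obtain ⟨c, hc1, hc2⟩ := SemisimpleSimilar.exists_det_one a G (p := p) hord
  obtain ⟨t, ht⟩ : ∃ t : SpecialLinearGroup (Fin n) F, SpecialLinearGroup.toGL t = c :=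
    ⟨⟨(c : Matrix (Fin n) (Fin n) F), hc1⟩, Units.ext rfl⟩
  refine ⟨t⁻¹, mem_of_entries (inv_ne_zero hμ) (R := A) (fun i j => (A₀ i j).2) ?_⟩
  have h5 : SpecialLinearGroup.toGL (t⁻¹⁻¹ * x * t⁻¹) = G * a * G⁻¹ := by
    rw [inv_inv, map_mul, map_mul, map_inv, ht, ← ha, hc2]
  have h6 := congrArg Units.val h5
  refine h6.trans ?_
  rw [Units.val_mul, Units.val_mul]
  show (G : Matrix (Fin n) (Fin n) F) * (x : Matrix (Fin n) (Fin n) F) * ((G⁻¹ : GL (Fin n) F) : Matrix (Fin n) (Fin n) F) = _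
  have h7 : (G : Matrix (Fin n) (Fin n) F) * (x : Matrix (Fin n) (Fin n) F) = μ⁻¹ • (A * (G : Matrix (Fin n) (Fin n) F)) := by
    rw [← hG, hy, Matrix.mul_smul, smul_smul, inv_mul_cancel₀ hμ, one_smul]
  rw [h7, Matrix.smul_mul, Matrix.mul_assoc, ← Units.val_mul, mul_inv_cancel, Units.val_one, Matrix.mul_one]

/-- The case `r = k`. -/
theorem fixed_of_congr {p r e : ℕ} [Fact p.Prime] [CharP F p] (hr : r.Prime) (hrp : r ≠ p) {F₀ : Subfield F}
    (hF₀ : Nat.card F₀ = p ^ e) (hmod : p ^ e % r = Fintype.card F % r) {x : SpecialLinearGroup (Fin n) F} {b : F}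
    (hb : b ≠ 0) (hx : (x : Matrix (Fin n) (Fin n) F) ^ r = b ^ r • 1) : Fixed F₀ x := by
  have hy : (b⁻¹ • (x : Matrix (Fin n) (Fin n) F)) ^ r = 1 := by
    rw [_root_.smul_pow, hx, smul_smul, ← mul_pow, inv_mul_cancel₀ hb, one_pow, one_smul]
  refine fixed_of_coeff_mem hr hrp (pow_ne_zero _ hb) hx (inv_ne_zero hb) ((coeff_mem_iff hF₀ _).mpr ?_)
  rw [← charpoly_pow_char]
  conv_rhs => rw [← FiniteField.Matrix.charpoly_pow_card]
  rw [pow_eq_pow_mod (p ^ e) hy, pow_eq_pow_mod (Fintype.card F) hy, hmod]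

/-! ### The index -/

/-- A prime dividing the index divides a cofactor of the orders. -/
theorem not_dvd_index {F₀ : Subfield F} {k q₀ r : ℕ} [Fact r.Prime] (hn : 1 ≤ n) (hF₀ : Nat.card F₀ = q₀)
    (hqk : Fintype.card F = q₀ ^ k)
    (h : ¬ r * Nat.card (SpecialLinearGroup (Fin n) F₀) ∣ Nat.card (SpecialLinearGroup (Fin n) F)) :
    ¬ r ∣ (H F₀ n).index := by
  intro h2
  refine h ?_
  let φ : SpecialLinearGroup (Fin n) F₀ →* SpecialLinearGroup (Fin n) F :=
    SpecialLinearGroup.map (F₀.subtype : F₀ →+* F)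
  have hφ : Function.Injective φ := fun A B e => Subtype.ext (Matrix.ext fun i j =>
    Subtype.ext (congrArg (fun g : SpecialLinearGroup (Fin n) F => (g : Matrix (Fin n) (Fin n) F) i j) e))
  have hle : φ.range ≤ H F₀ n := by
    rintro _ ⟨A, rfl⟩
    refine mem_of_entries one_ne_zero (R := (φ A : Matrix (Fin n) (Fin n) F)) (fun i j => ?_) (one_smul _ _).symm
    exact (A.1 i j).2
  rw [← Subgroup.card_mul_index (H F₀ n), mul_comm r]
  refine mul_dvd_mul ?_ h2
  rw [Nat.card_congr (MonoidHom.ofInjective hφ).toEquiv]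
  exact Subgroup.card_dvd_of_le hle

theorem pow_mul_sub_one (Q k : ℕ) (hQ : 1 ≤ Q) : Q ^ k - 1 = (Q - 1) * ∑ j ∈ Finset.range k, Q ^ j := by
  have h1 : 1 ≤ Q ^ k := Nat.one_le_pow _ _ hQ
  zify [hQ, h1]
  rw [mul_comm, geom_sum_mul]

theorem not_dvd_geom {r k Q : ℕ} [Fact r.Prime] (hrk : ¬ r ∣ k) (h : (Q : ZMod r) ^ k = 1 → (Q : ZMod r) = 1) :
    ¬ r ∣ ∑ j ∈ Finset.range k, Q ^ j := by
  rw [← ZMod.natCast_eq_zero_iff]
  push_cast
  intro h0
  have h1 : (Q : ZMod r) ^ k - 1 = 0 := by rw [← geom_sum_mul, h0, zero_mul]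
  rw [h (sub_eq_zero.mp h1)] at h0
  simp at h0
  exact hrk ((ZMod.natCast_eq_zero_iff _ _).mp h0)

/-- If `k` does not divide the order of `q₀`, the index is prime to `r`. -/
theorem dvd_order_of_dvd_index {F₀ : Subfield F} {k q₀ r : ℕ} [Fact r.Prime] (hn : 1 ≤ n) (hk : k.Prime) (hrk : r ≠ k)
    (hF₀ : Nat.card F₀ = q₀) (hqk : Fintype.card F = q₀ ^ k) (hrq : ¬ r ∣ q₀) (hΩ : r ∣ (H F₀ n).index) :
    k ∣ orderOf (q₀ : ZMod r) := by
  classical
  by_contra hkd
  haveI : Finite F₀ := Finite.of_injective _ Subtype.val_injective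
  haveI := Fintype.ofFinite F₀
  refine not_dvd_index hn hF₀ hqk (fun hdvd => ?_) hΩ
  have hq0 : 1 < q₀ := by rw [← hF₀]; exact Finite.one_lt_card
  have hr : r.Prime := Fact.out
  have hco : (orderOf (q₀ : ZMod r)).Coprime k := Nat.coprime_comm.mp (hk.coprime_iff_not_dvd.mpr hkd)
  have key : ∀ m, ∃ o, ¬ r ∣ o ∧ Fintype.card F ^ m - 1 = (q₀ ^ m - 1) * o := fun m => by
    refine ⟨∑ j ∈ Finset.range k, (q₀ ^ m) ^ j, not_dvd_geom (fun h => hrk ((Nat.prime_dvd_prime_iff_eq hr hk).mp h))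
      (fun h => ?_), ?_⟩
    · rw [Nat.cast_pow, ← pow_mul, ← orderOf_dvd_iff_pow_eq_one] at h
      rw [Nat.cast_pow, ← orderOf_dvd_iff_pow_eq_one]
      exact hco.dvd_of_dvd_mul_right h
    · rw [hqk, ← pow_mul, mul_comm k m, pow_mul, pow_mul_sub_one _ _ (Nat.one_le_pow _ _ (by omega))]
  have hprod : ∀ s : Finset (Fin n), ∃ o, ¬ r ∣ o ∧ ∏ i ∈ s, (Fintype.card F ^ n - Fintype.card F ^ (i : ℕ)) =
      (∏ i ∈ s, (q₀ ^ n - q₀ ^ (i : ℕ))) * o := by
    intro s
    induction s using Finset.induction_on with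
    | empty => exact ⟨1, hr.not_dvd_one, by simp⟩
    | insert i s his ih =>
      obtain ⟨o, ho, hs⟩ := ih
      obtain ⟨o', ho', he⟩ := key (n - i)
      have hi : (i : ℕ) ≤ n := i.isLt.le
      have e1 : ∀ Q : ℕ, Q ^ n - Q ^ (i : ℕ) = Q ^ (i : ℕ) * (Q ^ (n - i) - 1) := fun Q => by
        rw [Nat.mul_sub_one, ← pow_add, Nat.add_sub_cancel' hi]
      obtain ⟨t, ht, hq⟩ : ∃ t, ¬ r ∣ t ∧ Fintype.card F ^ (i : ℕ) = q₀ ^ (i : ℕ) * t := by
        obtain ⟨j, hj⟩ := Nat.exists_eq_add_of_le (show (i : ℕ) ≤ k * i from Nat.le_mul_of_pos_left _ hk.pos)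
        exact ⟨q₀ ^ j, fun h => hrq (hr.dvd_of_dvd_pow h), by rw [hqk, ← pow_mul, hj, pow_add]⟩
      refine ⟨t * o' * o, hr.not_dvd_mul (hr.not_dvd_mul ht ho') ho, ?_⟩
      rw [Finset.prod_insert his, Finset.prod_insert his, hs, e1, e1, he, hq]
      ring
  obtain ⟨o, ho, hP⟩ := hprod Finset.univ
  obtain ⟨o₁, ho₁, h1⟩ := key 1
  rw [pow_one, pow_one] at h1
  have hA := Cfsg.Lib.Classical.card_SL_mul_eq_prod (F := F) hn
  have hB := Cfsg.Lib.Classical.card_SL_mul_eq_prod (F := F₀) hn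
  rw [show Fintype.card F₀ = q₀ by rw [← Nat.card_eq_fintype_card]; exact hF₀] at hB
  rw [hP, ← hB, h1, mul_assoc, mul_assoc] at hA
  have hC := Nat.eq_of_mul_eq_mul_left (by omega) hA
  have hD : r * Nat.card (SpecialLinearGroup (Fin n) F₀) ∣ Nat.card (SpecialLinearGroup (Fin n) F₀) * o :=
    hC ▸ hdvd.mul_left o₁
  rw [mul_comm r] at hD
  exact ho (Nat.dvd_of_mul_dvd_mul_left Nat.card_pos hD)

/-- In dimension two, `r ∣ q₀ + 1` does not divide the index. -/
theorem not_dvd_index_two {F₀ : Subfield F} {q₀ r : ℕ} [Fact r.Prime] (hr2 : r ≠ 2) (hF₀ : Nat.card F₀ = q₀)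
    (hqk : Fintype.card F = q₀ ^ 2) (hord : (q₀ : ZMod r) = -1) : ¬ r ∣ (H F₀ 2).index := by
  classical
  haveI : Finite F₀ := Finite.of_injective _ Subtype.val_injective
  haveI := Fintype.ofFinite F₀
  refine not_dvd_index (by norm_num) hF₀ hqk fun hdvd => ?_
  have hq0 : 1 < q₀ := by rw [← hF₀]; exact Finite.one_lt_card
  have hr : r.Prime := Fact.out
  have key : ∀ {K : Type u} [Field K] [Fintype K],
      Nat.card (SpecialLinearGroup (Fin 2) K) = Fintype.card K * (Fintype.card K ^ 2 - 1) := by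
    intro K _ _
    have h := Cfsg.Lib.Classical.card_SL_mul_eq_prod (F := K) (n := 2) (by norm_num)
    rw [Fin.prod_univ_two] at h
    simp only [Fin.val_zero, Fin.val_one, pow_zero, pow_one] at h
    refine Nat.eq_of_mul_eq_mul_left (Nat.sub_pos_of_lt Fintype.one_lt_card) (h.trans ?_)
    rw [show Fintype.card K ^ 2 - Fintype.card K = (Fintype.card K - 1) * Fintype.card K by
      rw [Nat.sub_mul, one_mul, sq]]
    ring
  rw [key, key, hqk, show Fintype.card F₀ = q₀ by rw [← Nat.card_eq_fintype_card]; exact hF₀] at hdvd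
  have e : (q₀ ^ 2) ^ 2 - 1 = (q₀ ^ 2 - 1) * (q₀ ^ 2 + 1) := by
    rw [mul_comm, ← Nat.sq_sub_sq, one_pow]
  rw [e, show q₀ ^ 2 * ((q₀ ^ 2 - 1) * (q₀ ^ 2 + 1)) = q₀ * (q₀ ^ 2 - 1) * (q₀ * (q₀ ^ 2 + 1)) by ring, mul_comm r] at hdvd
  have hpos : 0 < q₀ * (q₀ ^ 2 - 1) := Nat.mul_pos (by omega) (Nat.sub_pos_of_lt (Nat.one_lt_pow two_ne_zero hq0))
  have := Nat.dvd_of_mul_dvd_mul_left hpos hdvd
  rw [← ZMod.natCast_eq_zero_iff] at this
  push_cast at this
  rw [hord] at this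
  have h2 : ((2 : ℕ) : ZMod r) = 0 := by push_cast; linear_combination -this
  exact hr2 ((Nat.prime_dvd_prime_iff_eq hr Nat.prime_two).mp ((ZMod.natCast_eq_zero_iff _ _).mp h2))

end Cfsg.Lib.Classical.SubfieldOdd
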