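import Mathlib
import Cfsg.Agent.Classical.Misc.SubfieldOddPrime

/-! When every element of odd prime order has a conjugate in the subfield subgroup of `SL_n`. -/

set_option autoImplicit false
set_option linter.unusedSimpArgs false
set_option linter.unusedSectionVars false
set_option linter.unusedVariables false
set_option linter.style.haveILetI false
set_option linter.flexible false

namespace Cfsg.Lib.Classical.SubfieldOdd

open Polynomial Matrix
open Cfsg.Lib.Classical.InvolSubfield (H)

universe u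

variable {F : Type u} [Field F] {n r : ℕ}

/-- Powers of a root of unity indexed by residues. -/
def Z (ζ : F) (a : ZMod r) : F := ζ ^ a.val

variable {ζ : F} [Fact r.Prime]

theorem Z_natCast (hζ : IsPrimitiveRoot ζ r) (m : ℕ) : Z ζ (m : ZMod r) = ζ ^ m := by
  rw [Z, ZMod.val_natCast, ← pow_eq_pow_mod m hζ.pow_eq_one]

theorem Z_add (hζ : IsPrimitiveRoot ζ r) (a b : ZMod r) : Z ζ (a + b) = Z ζ a * Z ζ b := by
  conv_lhs => rw [← ZMod.natCast_zmod_val a, ← ZMod.natCast_zmod_val b, ← Nat.cast_add, Z_natCast hζ, pow_add]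
  rfl

theorem Z_pow (hζ : IsPrimitiveRoot ζ r) (a : ZMod r) (m : ℕ) : Z ζ a ^ m = Z ζ ((m : ZMod r) * a) := by
  conv_rhs => rw [← ZMod.natCast_zmod_val a, ← Nat.cast_mul, Z_natCast hζ, mul_comm, pow_mul]
  rfl

theorem Z_zero : Z ζ (0 : ZMod r) = 1 := by simp [Z]

theorem Z_ne_zero (hζ : IsPrimitiveRoot ζ r) (a : ZMod r) : Z ζ a ≠ 0 :=
  pow_ne_zero _ (hζ.ne_zero (Fact.out : r.Prime).ne_zero)

theorem Z_pow_prime (hζ : IsPrimitiveRoot ζ r) (a : ZMod r) : Z ζ a ^ r = 1 := by
  rw [Z_pow hζ, ZMod.natCast_self, zero_mul, Z_zero]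

theorem Z_inj (hζ : IsPrimitiveRoot ζ r) : Function.Injective (Z ζ : ZMod r → F) := fun a b h =>
  ZMod.val_injective r (hζ.pow_inj (ZMod.val_lt a) (ZMod.val_lt b) h)

theorem Z_sum (hζ : IsPrimitiveRoot ζ r) (S : Multiset (ZMod r)) : (S.map (Z ζ)).prod = Z ζ S.sum := by
  induction S using Multiset.induction with
  | empty => simp [Z_zero]
  | cons a S ih => rw [Multiset.map_cons, Multiset.prod_cons, Multiset.sum_cons, ih, Z_add hζ]

theorem Z_surj (hζ : IsPrimitiveRoot ζ r) {c : F} (hc : c ^ r = 1) : ∃ a : ZMod r, Z ζ a = c := by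
  obtain ⟨i, -, rfl⟩ := hζ.eq_pow_of_pow_eq_one hc
  exact ⟨i, Z_natCast hζ i⟩

theorem exists_tuple {α : Type*} (S : Multiset α) {m : ℕ} (h : S.card = m) :
    ∃ f : Fin m → α, Finset.univ.val.map f = S := by
  have hL : S.toList.length = m := by rw [Multiset.length_toList, h]
  subst hL
  exact ⟨S.toList.get, by rw [Fin.univ_val_map, List.ofFn_get, Multiset.coe_toList]⟩

theorem charpoly_diag (hζ : IsPrimitiveRoot ζ r) (ν : F) (f : Fin n → ZMod r) :
    (Matrix.diagonal fun i => ν * Z ζ (f i)).charpoly =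
      (((Finset.univ.val.map f).map fun a => ν * Z ζ a).map fun t => X - C t).prod := by
  rw [Matrix.charpoly_diagonal, Finset.prod_eq_multiset_prod, Multiset.map_map, Multiset.map_map]
  rfl

theorem prod_map_frob {p e : ℕ} [Fact p.Prime] [CharP F p] (R : Multiset F) :
    ((R.map fun t => X - C t).prod).map (iterateFrobenius F p e) =
      ((R.map fun t => t ^ p ^ e).map fun t => X - C t).prod := by
  induction R using Multiset.induction with
  | empty => simp
  | cons a R ih =>
    simp only [Multiset.map_cons, Multiset.prod_cons, Polynomial.map_mul, ih]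
    simp [iterateFrobenius_def]

/-- Scaling the matrix scales the roots. -/
theorem charpoly_smul_of_prod {c : F} (hc : c ≠ 0) (A : Matrix (Fin n) (Fin n) F) (R : Multiset F)
    (hR : A.charpoly = (R.map fun t => X - C t).prod) :
    (c • A).charpoly = ((R.map fun t => c * t).map fun t => X - C t).prod := by
  let φ : F[X] →ₐ[F] F[X] := aeval (C c⁻¹ * X : F[X])
  have hφ : φ.mapMatrix (charmatrix A) = C c⁻¹ • charmatrix (c • A) := by
    ext i j : 1
    by_cases h : i = j
    · subst h
      simp [φ, charmatrix_apply_eq, mul_sub, ← mul_assoc, ← map_mul, hc]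
    · simp [φ, charmatrix_apply_ne _ _ _ h, ← mul_assoc, ← map_mul, hc]
  have h1 : φ A.charpoly = C c⁻¹ ^ n * (c • A).charpoly := by
    rw [Matrix.charpoly, AlgHom.map_det, hφ, Matrix.det_smul, Fintype.card_fin]
    rfl
  have h2 : ∀ R : Multiset F, φ (R.map fun t => X - C t).prod =
      C c⁻¹ ^ Multiset.card R * ((R.map fun t => c * t).map fun t => X - C t).prod := by
    intro R
    induction R using Multiset.induction with
    | empty => simp
    | cons a R ih =>
      simp only [Multiset.map_cons, Multiset.prod_cons, map_mul, ih, Multiset.card_cons, pow_succ]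
      have : φ (X - C a) = C c⁻¹ * (X - C (c * a)) := by
        simp [φ, mul_sub, ← map_mul, ← mul_assoc, hc]
      rw [this]
      simp only [map_mul]
      ring
  have hcard : Multiset.card R = n := by
    have := congrArg natDegree hR
    rw [Matrix.charpoly_natDegree_eq_dim, Fintype.card_fin, natDegree_multiset_prod_X_sub_C_eq_card] at this
    exact this.symm
  rw [hR, h2, hcard] at h1
  exact (mul_left_cancel₀ (pow_ne_zero _ (C_ne_zero.mpr (inv_ne_zero hc))) h1).symm

variable [Fintype F]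

theorem exists_zeta (hdvd : r ∣ Fintype.card F - 1) : ∃ ζ : F, IsPrimitiveRoot ζ r := by
  classical
  obtain ⟨g, hg⟩ := exists_prime_orderOf_dvd_card' (G := Fˣ) r
    (by rw [Nat.card_eq_fintype_card, Fintype.card_units]; exact hdvd)
  exact ⟨(g : F), by rw [← hg, ← orderOf_units]; exact IsPrimitiveRoot.orderOf _⟩

/-- An `r`-th root of unity is an `n`-th power when the `r`-part of `n` is small. -/
theorem exists_nth_root (hdvd : r ∣ Fintype.card F - 1) (hn : 0 < n)
    (hv : padicValNat r n < padicValNat r (Fintype.card F - 1)) {c : F} (hc : c ^ r = 1) : ∃ b : F, b ^ n = c := by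
  have hr : r.Prime := Fact.out
  obtain ⟨g, hg0, hg, hall⟩ := PrimeOrd.exists_gen (F := F)
  obtain ⟨t, rfl⟩ := hall c (fun e => by rw [e, zero_pow hr.ne_zero] at hc; exact zero_ne_one hc)
  set Q := Fintype.card F - 1 with hQdef
  have hQ : Q ≠ 0 := (Nat.sub_pos_of_lt Fintype.one_lt_card).ne'
  rw [← pow_mul, ← orderOf_dvd_iff_pow_eq_one, hg] at hc
  obtain ⟨w, hw⟩ := Nat.gcd_dvd_right n Q
  set D := Nat.gcd n Q
  have hD0 : D ≠ 0 := fun e => hQ (by rw [hw, e, zero_mul])
  have hw0 : w ≠ 0 := fun e => hQ (by rw [hw, e, mul_zero])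
  have hrw : r ∣ w := by
    by_contra hrw
    have h1 : padicValNat r Q = padicValNat r D := by
      rw [hw, padicValNat.mul hD0 hw0, padicValNat.eq_zero_of_not_dvd hrw, add_zero]
    have h2 : padicValNat r D ≤ padicValNat r n :=
      (padicValNat_dvd_iff_le hn.ne').mp (pow_padicValNat_dvd.trans (Nat.gcd_dvd_left _ _))
    omega
  obtain ⟨w', rfl⟩ := hrw
  have hDt : D ∣ t := by
    rw [hw, show D * (r * w') = D * w' * r by ring] at hc
    exact (dvd_mul_right D w').trans ((Nat.mul_dvd_mul_iff_right hr.pos).mp hc)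
  obtain ⟨y, rfl⟩ := hDt
  refine ⟨(g ^ Nat.gcdA n Q) ^ y, ?_⟩
  rw [← pow_mul, mul_comm y n, pow_mul, pow_mul]
  congr 1
  rw [← zpow_natCast (g ^ Nat.gcdA n Q) n, ← _root_.zpow_mul, ← zpow_natCast g D, Nat.gcd_eq_gcd_ab, zpow_add₀ hg0,
    _root_.zpow_mul g (Q : ℤ), zpow_natCast g Q, ← hg, pow_orderOf_eq_one, _root_.one_zpow, mul_one, mul_comm]

/-- The basic derangement criterion for diagonal elements. -/
theorem exists_derange_diag {p e : ℕ} [Fact p.Prime] [CharP F p] {F₀ : Subfield F} (hF₀ : Nat.card F₀ = p ^ e)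
    (hζ : IsPrimitiveRoot ζ r) {b : F} (S : Multiset (ZMod r)) (hS : S.card = n) (hb : b ^ n * Z ζ S.sum = 1)
    {a₁ a₂ : ZMod r} (ha₁ : a₁ ∈ S) (ha₂ : a₂ ∈ S) (hne : a₁ ≠ a₂)
    (hno : ∀ c : ZMod r, S.map (fun a => ((p ^ e : ℕ) : ZMod r) * a + c) ≠ S) :
    ∃ x : SpecialLinearGroup (Fin n) F,
      (∃ z : F, ((x ^ r : SpecialLinearGroup (Fin n) F) : Matrix (Fin n) (Fin n) F) = z • (1 : Matrix (Fin n) (Fin n) F)) ∧
      (∀ z : F, (x : Matrix (Fin n) (Fin n) F) ≠ z • (1 : Matrix (Fin n) (Fin n) F)) ∧ ¬ Fixed F₀ x := by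
  classical
  obtain ⟨f, hf⟩ := exists_tuple S hS
  have hn : n ≠ 0 := by
    rintro rfl
    rw [Multiset.card_eq_zero.mp hS] at ha₁
    exact Multiset.notMem_zero _ ha₁
  have hb0 : b ≠ 0 := fun h => by rw [h, zero_pow hn, zero_mul] at hb; exact zero_ne_one hb
  let X₁ : Matrix (Fin n) (Fin n) F := b • Matrix.diagonal fun i => Z ζ (f i)
  have hdet : X₁.det = 1 := by
    rw [Matrix.det_smul, Matrix.det_diagonal, Fintype.card_fin, Finset.prod_eq_multiset_prod, ← hb, ← Z_sum hζ, ← hf,
      Multiset.map_map]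
    rfl
  refine ⟨⟨X₁, hdet⟩, ⟨b ^ r, ?_⟩, fun z hz => ?_, fun hfix => ?_⟩
  · refine (Matrix.SpecialLinearGroup.coe_pow _ _).trans ?_
    show X₁ ^ r = _
    rw [_root_.smul_pow, Matrix.diagonal_pow]
    congr 1
    rw [← Matrix.diagonal_one]
    exact congrArg _ (funext fun i => Z_pow_prime hζ (f i))
  · have hval : ∀ a ∈ S, b * Z ζ a = z := fun a ha => by
      rw [← hf] at ha
      obtain ⟨i, -, rfl⟩ := Multiset.mem_map.mp ha
      have := congrFun (congrFun hz i) i
      simpa [X₁] using this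
    exact hne (Z_inj hζ (mul_left_cancel₀ hb0 ((hval a₁ ha₁).trans (hval a₂ ha₂).symm)))
  · obtain ⟨μ, hμ, hc⟩ := coeff_mem_of_fixed hfix
    rw [coeff_mem_iff hF₀] at hc
    set ν := μ * b
    have hν : ν ≠ 0 := mul_ne_zero hμ hb0
    have hX : μ • X₁ = Matrix.diagonal fun i => ν * Z ζ (f i) := by
      rw [smul_smul, ← Matrix.diagonal_smul]
      rfl
    change (μ • X₁).charpoly.map _ = (μ • X₁).charpoly at hc
    rw [hX, charpoly_diag hζ, hf, prod_map_frob] at hc
    have hroots := congrArg Polynomial.roots hc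
    rw [roots_multiset_prod_X_sub_C, roots_multiset_prod_X_sub_C, Multiset.map_map] at hroots
    clear_value ν
    set u : ZMod r := ((p ^ e : ℕ) : ZMod r)
    have hpow : ∀ a, (ν * Z ζ a) ^ p ^ e = ν ^ p ^ e * Z ζ (u * a) := fun a => by
      rw [mul_pow, Z_pow hζ]
    have hm : (ν * Z ζ a₁) ^ p ^ e ∈ S.map fun a => ν * Z ζ a := by
      rw [← hroots]
      exact Multiset.mem_map_of_mem (fun a => (ν * Z ζ a) ^ p ^ e) ha₁
    obtain ⟨a', -, ha'⟩ := Multiset.mem_map.mp hm
    rw [hpow] at ha'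
    have hνq : ν ^ p ^ e = ν * Z ζ (a' - u * a₁) := by
      apply mul_right_cancel₀ (Z_ne_zero hζ (u * a₁))
      rw [← ha', mul_assoc, ← Z_add hζ, sub_add_cancel]
    refine hno (a' - u * a₁) (Multiset.map_injective
      (f := fun a => ν * Z ζ a) (fun a a' h => Z_inj hζ (mul_left_cancel₀ hν h)) ?_)
    rw [Multiset.map_map]
    refine Eq.trans ?_ hroots
    refine Multiset.map_congr rfl fun a _ => ?_
    simp only [Function.comp_apply]
    rw [hpow, hνq, mul_assoc, ← Z_add hζ, add_comm]

/-- The derangement when `r` does not divide `q - 1`. -/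
theorem exists_derange_nonsplit {p e k : ℕ} [Fact p.Prime] [CharP F p] (hrp : r ≠ p) {F₀ : Subfield F}
    (hF₀ : Nat.card F₀ = p ^ e) (hk : k.Prime) (hqk : Fintype.card F = (p ^ e) ^ k)
    (hki : k ∣ orderOf ((p ^ e : ℕ) : ZMod r)) (hnd : ¬ r ∣ Fintype.card F - 1)
    (hin : orderOf (Fintype.card F : ZMod r) ≤ n) :
    ∃ x : SpecialLinearGroup (Fin n) F,
      (∃ z : F, ((x ^ r : SpecialLinearGroup (Fin n) F) : Matrix (Fin n) (Fin n) F) = z • (1 : Matrix (Fin n) (Fin n) F)) ∧
      (∀ z : F, (x : Matrix (Fin n) (Fin n) F) ≠ z • (1 : Matrix (Fin n) (Fin n) F)) ∧ ¬ Fixed F₀ x := by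
  classical
  have hr : r.Prime := Fact.out
  set i := orderOf (Fintype.card F : ZMod r) with hidef
  obtain ⟨l, -, hl⟩ := FiniteField.card F p
  have hco : p.Coprime r := (Nat.coprime_primes Fact.out hr).mpr hrp.symm
  haveI : NeZero (r : F) := ⟨PrimeOrd.cast_ne_zero hr hrp⟩
  obtain ⟨ψ₀, hψ₀, hψ₀d⟩ := WfDvdMonoid.exists_irreducible_factor (a := cyclotomic r F)
    (fun h => by
      have := natDegree_eq_zero_of_isUnit h
      rw [natDegree_cyclotomic, Nat.totient_prime hr] at this
      have := hr.one_lt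
      omega) (cyclotomic_ne_zero r F)
  set ψ := ψ₀ * C ψ₀.leadingCoeff⁻¹
  have hψm : ψ.Monic := monic_mul_leadingCoeff_inv hψ₀.ne_zero
  have hψ : Irreducible ψ := irreducible_mul_leadingCoeff_inv.mpr hψ₀
  have hψd : ψ ∣ cyclotomic r F := by
    obtain ⟨A, hA⟩ := hψ₀d
    exact ⟨A * C ψ₀.leadingCoeff, by
      rw [hA]
      simp only [ψ]
      rw [show ψ₀ * C ψ₀.leadingCoeff⁻¹ * (A * C ψ₀.leadingCoeff) = ψ₀ * A * (C ψ₀.leadingCoeff⁻¹ * C ψ₀.leadingCoeff) by ring,
        ← map_mul, inv_mul_cancel₀ (leadingCoeff_ne_zero.mpr hψ₀.ne_zero), map_one, mul_one]⟩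
  have hdeg : ψ.natDegree = i := by
    rw [natDegree_of_dvd_cyclotomic_of_irreducible hl hco hψd hψ, ← orderOf_units, ZMod.coe_unitOfCoprime, hidef, hl]
  have hi1 : i ≠ 1 := fun h => hnd (by
    have := (PrimeOrd.dvd_pow_sub_one (F := F) (r := r) 1).mpr (by rw [← hidef, h])
    rwa [pow_one] at this)
  haveI := Fact.mk hψ
  haveI : Module.Finite F (AdjoinRoot ψ) := hψm.finite_adjoinRoot
  haveI : Finite (AdjoinRoot ψ) := Module.finite_of_finite F
  haveI := Fintype.ofFinite (AdjoinRoot ψ)
  haveI : CharP (AdjoinRoot ψ) p := charP_of_injective_algebraMap (algebraMap F (AdjoinRoot ψ)).injective p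
  set α := AdjoinRoot.root ψ
  have hα : IsPrimitiveRoot α r := by
    haveI : NeZero (r : AdjoinRoot ψ) := ⟨by
      rw [← map_natCast (algebraMap F (AdjoinRoot ψ))]
      exact (_root_.map_ne_zero _).mpr (PrimeOrd.cast_ne_zero hr hrp)⟩
    rw [← isRoot_cyclotomic_iff]
    exact (AdjoinRoot.isRoot_root ψ).dvd (by
      have := Polynomial.map_dvd (algebraMap F (AdjoinRoot ψ)) hψd
      simpa [AdjoinRoot.algebraMap_eq] using this)
  let pb := AdjoinRoot.powerBasis' hψm
  have hdim : pb.dim = i := by rw [← hdeg]; simp [pb]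
  let M : Matrix (Fin pb.dim) (Fin pb.dim) F := Algebra.leftMulMatrix pb.basis pb.gen
  have hMc : M.charpoly = ψ := by
    show (Algebra.leftMulMatrix pb.basis pb.gen).charpoly = ψ
    rw [charpoly_leftMulMatrix]
    exact AdjoinRoot.minpoly_powerBasis_gen_of_monic hψm
  have hgen : pb.gen = α := rfl
  have hMr : M ^ r = 1 := by
    show (Algebra.leftMulMatrix pb.basis pb.gen) ^ r = 1
    rw [← map_pow, hgen, hα.pow_eq_one, map_one]
  have hMd : M.det = 1 := PrimeOrd.root_one hr hnd (by rw [← Matrix.det_pow, hMr, Matrix.det_one])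
  let E : Fin pb.dim ⊕ Fin (n - pb.dim) ≃ Fin n := finSumFinEquiv.trans (finCongr (by omega))
  let X₁ : Matrix (Fin n) (Fin n) F := Matrix.reindexAlgEquiv F F E (Matrix.fromBlocks M 0 0 1)
  have hdet : X₁.det = 1 := by
    simp only [X₁]
    rw [Matrix.det_reindexAlgEquiv, Matrix.det_fromBlocks_zero₁₂, hMd, Matrix.det_one, mul_one]
  have hXr : X₁ ^ r = 1 := by
    simp only [X₁]
    rw [← map_pow, Matrix.fromBlocks_diagonal_pow, hMr, one_pow, Matrix.fromBlocks_one, map_one]
  have hXc : X₁.charpoly = ψ * (X - 1) ^ (n - pb.dim) := by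
    simp only [X₁]
    rw [Matrix.reindexAlgEquiv_apply, Matrix.charpoly_reindex, Matrix.charpoly_fromBlocks_zero₁₂, hMc,
      Matrix.charpoly_one, Fintype.card_fin]
  refine ⟨⟨X₁, hdet⟩, ⟨1, by rw [one_smul]; exact (Matrix.SpecialLinearGroup.coe_pow _ _).trans hXr⟩, fun z hz => ?_, fun hfix => ?_⟩
  · change X₁ = z • 1 at hz
    have h1 : Matrix.fromBlocks M 0 0 (1 : Matrix (Fin (n - pb.dim)) (Fin (n - pb.dim)) F) = z • 1 :=
      (Matrix.reindexAlgEquiv F F E).injective (by rw [map_smul, map_one]; exact hz)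
    have h2 : M = algebraMap F _ z := by
      have := congrArg Matrix.toBlocks₁₁ h1
      rw [Matrix.toBlocks_fromBlocks₁₁] at this
      rw [this, Algebra.algebraMap_eq_smul_one]
      ext a b
      simp [Matrix.toBlocks₁₁, Matrix.one_apply]
    rw [← AlgHom.commutes (Algebra.leftMulMatrix pb.basis)] at h2
    have h3 : pb.gen = algebraMap F _ z := Algebra.leftMulMatrix_injective pb.basis h2
    have h4 := congrArg natDegree (AdjoinRoot.minpoly_powerBasis_gen_of_monic hψm)
    change (minpoly F pb.gen).natDegree = ψ.natDegree at h4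
    rw [h3, minpoly.eq_X_sub_C, natDegree_X_sub_C, hdeg] at h4
    exact hi1 h4.symm
  · obtain ⟨P, hP⟩ := hfix
    obtain ⟨μ, hμ, he⟩ := entries_of_mem hP
    set x : SpecialLinearGroup (Fin n) F := ⟨X₁, hdet⟩
    set g := P⁻¹ * x * P with hgdef
    have hgr : (g : Matrix (Fin n) (Fin n) F) ^ r = 1 := by
      refine (Matrix.SpecialLinearGroup.coe_pow g r).symm.trans ?_
      rw [hgdef]
      have e1 : x ^ r = 1 := Subtype.ext ((Matrix.SpecialLinearGroup.coe_pow x r).trans hXr)
      have e2 : (P⁻¹ * x * P) ^ r = 1 := by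
        have := conj_pow (i := r) (a := P⁻¹) (b := x)
        rw [inv_inv] at this
        rw [this, e1, mul_one, inv_mul_cancel]
      rw [e2]
      rfl
    let R : Matrix (Fin n) (Fin n) F₀ := fun a b => ⟨_, he a b⟩
    have hR : R.map F₀.subtype = μ • (g : Matrix (Fin n) (Fin n) F) := rfl
    haveI : Finite F₀ := Finite.of_injective _ Subtype.val_injective
    haveI := Fintype.ofFinite F₀
    have hnd0 : ¬ r ∣ Fintype.card F₀ - 1 := fun h => hnd (by
      rw [← Nat.card_eq_fintype_card, hF₀] at h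
      rw [hqk, pow_mul_sub_one _ _ (Nat.one_le_pow _ _ (Fact.out : p.Prime).pos)]
      exact h.mul_right _)
    have hμr : μ ^ r ∈ F₀ := by
      have h1 : (R ^ r).map F₀.subtype = μ ^ r • 1 := by
        rw [Matrix.map_pow, hR, _root_.smul_pow, hgr]
      have hn0 : 0 < n := by
        have : pb.dim ≤ n := hdim ▸ hin
        have := hψ.natDegree_pos
        omega
      have h2 := congrFun (congrFun h1 ⟨0, hn0⟩) ⟨0, hn0⟩
      simp at h2
      rw [← h2]
      exact ((R ^ r) _ _).2
    obtain ⟨v, hv⟩ := PrimeOrd.power_of_coprime (F := F₀) hr hnd0 ⟨_, hμr⟩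
    have hv' : (v : F) ^ r = μ ^ r := congrArg Subtype.val hv
    have hv0 : (v : F) ≠ 0 := fun h => pow_ne_zero r hμ (by rw [← hv', h, zero_pow hr.ne_zero])
    have hμv : μ = v := by
      have h1 : μ / (v : F) = 1 := PrimeOrd.root_one hr hnd (by rw [div_pow, hv', div_self (pow_ne_zero _ hμ)])
      rwa [div_eq_one_iff_eq hv0] at h1
    have hμF : μ⁻¹ ∈ F₀ := hμv ▸ F₀.inv_mem v.2
    let R₁ : Matrix (Fin n) (Fin n) F₀ := fun a b => ⟨(g : Matrix (Fin n) (Fin n) F) a b, by
      have := F₀.mul_mem hμF (he a b)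
      rwa [← mul_assoc, inv_mul_cancel₀ hμ, one_mul] at this⟩
    have hgc : (g : Matrix (Fin n) (Fin n) F).charpoly = X₁.charpoly := by
      have := charpoly_smul_conj x P 1
      rw [one_smul, one_smul] at this
      exact this
    have hcoef : ∀ a, X₁.charpoly.coeff a ∈ F₀ := fun a => by
      rw [← hgc, show (g : Matrix (Fin n) (Fin n) F) = R₁.map F₀.subtype from rfl, Matrix.charpoly_map, coeff_map]
      exact (R₁.charpoly.coeff a).2
    rw [coeff_mem_iff hF₀, hXc, Polynomial.map_mul, Polynomial.map_pow] at hcoef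
    simp only [Polynomial.map_sub, map_X, Polynomial.map_one] at hcoef
    have hψfix : ψ.map (iterateFrobenius F p e) = ψ :=
      mul_right_cancel₀ (pow_ne_zero _ (X_sub_C_ne_zero (1 : F))) (by simpa using hcoef)
    have hroot : aeval (α ^ p ^ e) ψ = 0 := by
      have h1 : iterateFrobenius (AdjoinRoot ψ) p e (ψ.eval₂ (algebraMap F (AdjoinRoot ψ)) α) = 0 := by
        rw [← aeval_def, AdjoinRoot.aeval_eq, AdjoinRoot.mk_self, map_zero]
      rw [hom_eval₂] at h1
      have h2 := eval₂_map (p := ψ) (iterateFrobenius F p e) (algebraMap F (AdjoinRoot ψ)) (α ^ p ^ e)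
      rw [hψfix] at h2
      rw [aeval_def, h2]
      have hcomm : (iterateFrobenius (AdjoinRoot ψ) p e).comp (algebraMap F (AdjoinRoot ψ)) =
          (algebraMap F (AdjoinRoot ψ)).comp (iterateFrobenius F p e) :=
        RingHom.ext fun c => by simp [iterateFrobenius_def, map_pow]
      rw [hcomm, iterateFrobenius_def] at h1
      exact h1
    let φ : AdjoinRoot ψ →ₐ[F] AdjoinRoot ψ := AdjoinRoot.liftAlgHom ψ (Algebra.ofId F _) (α ^ p ^ e) hroot
    obtain ⟨j, hj⟩ := (FiniteField.bijective_frobeniusAlgHom_pow F (AdjoinRoot ψ)).2 φ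
    have hj' := DFunLike.congr_fun hj α
    have hφα : φ α = α ^ p ^ e := AdjoinRoot.liftAlgHom_root _ _ _ hroot
    rw [hφα] at hj'
    simp only [] at hj'
    rw [AlgHom.coe_pow, FiniteField.coe_frobeniusAlgHom, pow_iterate] at hj'
    beta_reduce at hj'
    rw [(isOfFinOrder_iff_pow_eq_one.mpr ⟨r, hr.pos, hα.pow_eq_one⟩).pow_eq_pow_iff_modEq, ← hα.eq_orderOf,
      ← ZMod.natCast_eq_natCast_iff, hqk, Nat.cast_pow, Nat.cast_pow, ← pow_mul] at hj'
    set u : ZMod r := ((p ^ e : ℕ) : ZMod r) with hu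
    have hu0 : u ≠ 0 := fun h => hrp ((Nat.prime_dvd_prime_iff_eq hr Fact.out).mp
      (hr.dvd_of_dvd_pow ((ZMod.natCast_eq_zero_iff _ _).mp h)))
    have hfin : IsOfFinOrder u := isOfFinOrder_iff_pow_eq_one.mpr
      ⟨r - 1, Nat.sub_pos_of_lt hr.one_lt, ZMod.pow_card_sub_one_eq_one hu0⟩
    have hmod : k * (j : ℕ) ≡ 1 [MOD orderOf u] := by
      rw [← hfin.pow_eq_pow_iff_modEq, pow_one]
      exact hj'
    have := hmod.of_dvd hki
    rw [Nat.ModEq, Nat.mul_mod_right, Nat.one_mod_eq_one.mpr hk.ne_one] at this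
    exact zero_ne_one this

/-- Five residues with zero sum are symmetric. -/
theorem sym_five : ∀ a b c d : ZMod 5, ∃ t : ZMod 5, ∀ x : ZMod 5,
    [a, b, c, d, -a - b - c - d].count (t - x) = [a, b, c, d, -a - b - c - d].count x := by
  decide +kernel

/-- Three residues with zero sum are symmetric. -/
theorem sym_three : ∀ a b : ZMod 3, ∃ t : ZMod 3, ∀ x : ZMod 3,
    [a, b, -a - b].count (t - x) = [a, b, -a - b].count x := by
  decide

theorem exists_sym (hr : r = 3 ∨ r = 5) (S : Multiset (ZMod r)) (hS : S.card = r) (hsum : S.sum = 0) :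
    ∃ t : ZMod r, S.map (fun a => t - a) = S := by
  classical
  obtain ⟨f, hf⟩ := exists_tuple S hS
  have key : ∀ L : List (ZMod r), (L : Multiset (ZMod r)) = S →
      (∃ t : ZMod r, ∀ x : ZMod r, L.count (t - x) = L.count x) → ∃ t : ZMod r, S.map (fun a => t - a) = S := by
    rintro L hL ⟨t, ht⟩
    refine ⟨t, Multiset.ext.mpr fun x => ?_⟩
    have h1 : Multiset.count x (S.map fun a => t - a) = Multiset.count (t - x) S := by
      conv_lhs => rw [← sub_sub_self t x]
      exact Multiset.count_map_eq_count' _ _ sub_right_injective _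
    rw [h1, ← hL, Multiset.coe_count, Multiset.coe_count]
    exact ht x
  rw [Fin.univ_val_map] at hf
  rw [← hf, Multiset.sum_coe] at hsum
  rcases hr with rfl | rfl
  · refine key _ hf ?_
    have h2 : f 2 = -f 0 - f 1 := by
      simp [List.ofFn_succ] at hsum
      linear_combination hsum
    simpa [List.ofFn_succ, h2] using sym_three (f 0) (f 1)
  · refine key _ hf ?_
    have h2 : f 4 = -f 0 - f 1 - f 2 - f 3 := by
      simp [List.ofFn_succ] at hsum
      linear_combination hsum
    simpa [List.ofFn_succ, h2] using sym_five (f 0) (f 1) (f 2) (f 3)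

/-- Annihilated irreducible factors. -/
theorem splits_charpoly (hζ : IsPrimitiveRoot ζ r) (y : Matrix (Fin n) (Fin n) F) (hy : y ^ r = 1) :
    y.charpoly.Splits := by
  have hX : (X ^ r - C (1 : F)).Splits := X_pow_sub_one_splits hζ
  have hX0 : (X ^ r - C (1 : F)) ≠ 0 := X_pow_sub_C_ne_zero (Fact.out : r.Prime).pos _
  obtain ⟨v, hv⟩ := UniqueFactorizationMonoid.factors_prod (Matrix.charpoly_monic y).ne_zero
  rw [← hv]
  refine (Splits.multisetProd fun g hg => ?_).mul v.isUnit.splits
  have hgi := UniqueFactorizationMonoid.irreducible_of_factor g hg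
  have hgd := UniqueFactorizationMonoid.dvd_of_mem_factors hg
  rw [← Matrix.charpoly_toLin'] at hgd
  obtain ⟨w, hw0, hw⟩ := SemisimpleSimilar.exists_ker (Matrix.toLin' y) hgi hgd
  refine hX.of_dvd hX0 (hgi.dvd_iff_not_isCoprime.mpr ?_)
  rintro ⟨A, B, hAB⟩
  have h1 := congrArg (fun P : F[X] => aeval (Matrix.toLin' y) P w) hAB
  have h2 : aeval (Matrix.toLin' y) (X ^ r - C (1 : F)) = 0 := by
    rw [map_sub, map_pow, aeval_X, aeval_C, map_one, ← Matrix.toLin'_pow, hy, Matrix.toLin'_one]
    exact sub_self _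
  rw [map_add, map_mul, map_mul, h2, mul_zero, add_zero, map_one, Module.End.mul_apply, hw, map_zero,
    Module.End.one_apply] at h1
  exact hw0 h1.symm

/-- The exceptional elusive case. -/
theorem fixed_exceptional {p e : ℕ} [Fact p.Prime] [CharP F p] (hrp : r ≠ p) {F₀ : Subfield F}
    (hF₀ : Nat.card F₀ = p ^ e) (hqk : Fintype.card F = (p ^ e) ^ 2) (hn : n = r) (hr35 : r = 3 ∨ r = 5)
    (hV : padicValNat r (p ^ e + 1) = 1) {x : SpecialLinearGroup (Fin n) F} {z b : F} (hz : z ≠ 0) (hb : b ^ r = z)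
    (hx : (x : Matrix (Fin n) (Fin n) F) ^ r = z • 1) : Fixed F₀ x := by
  classical
  have hr : r.Prime := Fact.out
  have hr2 : r ≠ 2 := by omega
  set q₀ := p ^ e with hq0def
  have hrd : r ∣ q₀ + 1 := dvd_of_one_le_padicValNat (by omega)
  have hq1 : 1 ≤ q₀ := Nat.one_le_pow _ _ (Fact.out : p.Prime).pos
  have hQ : Fintype.card F - 1 = (q₀ - 1) * (q₀ + 1) := by
    rw [hqk, mul_comm, ← Nat.sq_sub_sq, one_pow]
  have hdvd : r ∣ Fintype.card F - 1 := hQ ▸ hrd.mul_left _
  have hnd0 : ¬ r ∣ q₀ - 1 := fun h => by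
    have h2 := Nat.dvd_sub hrd h
    rw [show q₀ + 1 - (q₀ - 1) = 2 by omega] at h2
    exact hr2 ((Nat.prime_dvd_prime_iff_eq hr Nat.prime_two).mp h2)
  obtain ⟨w, hw⟩ := hrd
  have hrw : ¬ r ∣ (q₀ - 1) * w := hr.not_dvd_mul hnd0 fun h => by
    have h2 : r ^ 2 ∣ q₀ + 1 := by rw [hw, sq]; exact mul_dvd_mul_left r h
    have := (padicValNat_dvd_iff_le (by omega)).mp h2
    omega
  obtain ⟨ζ, hζ⟩ := exists_zeta (F := F) hdvd
  have hb0 : b ≠ 0 := fun h => hz (by rw [← hb, h, zero_pow hr.ne_zero])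
  set y := b⁻¹ • (x : Matrix (Fin n) (Fin n) F) with hy
  have hyr : y ^ r = 1 := by
    rw [hy, _root_.smul_pow, hx, smul_smul, inv_pow, hb, inv_mul_cancel₀ hz, one_smul]
  have hdet : y.det = (b ^ r)⁻¹ := by rw [hy, Matrix.det_smul, x.2, mul_one, Fintype.card_fin, hn, inv_pow]
  have hbr : b ^ r = 1 := by
    have h1 : (b ^ r) ^ r = 1 := by
      have h1 : y.det ^ r = 1 := by rw [← Matrix.det_pow, hyr, Matrix.det_one]
      rwa [hdet, inv_pow, inv_eq_one] at h1
    have h2 : (b ^ r) ^ ((q₀ - 1) * w) = 1 := by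
      rw [← pow_mul, show r * ((q₀ - 1) * w) = (q₀ - 1) * (r * w) by ring, ← hw, ← hQ]
      exact FiniteField.pow_card_sub_one_eq_one b hb0
    have h3 := (pow_gcd_eq_one (a := b ^ r)).mpr ⟨h1, h2⟩
    rwa [(hr.coprime_iff_not_dvd.mpr hrw).gcd_eq_one, pow_one] at h3
  have hsp := splits_charpoly hζ y hyr
  have hroots : ∀ t ∈ y.charpoly.roots, t ^ r = 1 := by
    intro t ht
    rw [Polynomial.mem_roots (Matrix.charpoly_monic y).ne_zero, IsRoot] at ht
    rw [← Matrix.charpoly_toLin'] at ht
    obtain ⟨w', hw'⟩ := ((Module.End.hasEigenvalue_iff_isRoot_charpoly _ _).mpr ht).exists_hasEigenvector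
    have h1 : ((Matrix.toLin' y) ^ r) w' = t ^ r • w' := hw'.pow_apply r
    rw [← Matrix.toLin'_pow, hyr, Matrix.toLin'_one, LinearMap.id_apply] at h1
    by_contra h2
    exact hw'.2 ((smul_eq_zero.mp (by rw [sub_smul, one_smul, ← h1, sub_self] : (t ^ r - 1) • w' = 0)).resolve_left
      (sub_ne_zero.mpr h2))
  choose! a ha using fun t (ht : t ∈ y.charpoly.roots) => Z_surj hζ (hroots t ht)
  set S : Multiset (ZMod r) := y.charpoly.roots.map a with hSdef
  have hSZ : S.map (Z ζ) = y.charpoly.roots := by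
    rw [hSdef, Multiset.map_map]
    conv_rhs => rw [← Multiset.map_id y.charpoly.roots]
    exact Multiset.map_congr rfl ha
  have hScard : S.card = r := by
    rw [hSdef, Multiset.card_map, ← hsp.natDegree_eq_card_roots, Matrix.charpoly_natDegree_eq_dim, Fintype.card_fin, hn]
  have hSsum : S.sum = 0 := Z_inj hζ (by
    rw [Z_zero, ← Z_sum hζ, hSZ, ← Matrix.det_eq_prod_roots_charpoly_of_splits hsp, hdet, hbr, inv_one])
  obtain ⟨t, ht⟩ := exists_sym hr35 S hScard hSsum
  obtain ⟨g, hg0, hg, hall⟩ := PrimeOrd.exists_gen (F := F)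
  obtain ⟨s, hs⟩ := hall (Z ζ t) (Z_ne_zero hζ t)
  obtain ⟨s', hs'⟩ : q₀ - 1 ∣ s := by
    have h1 : Z ζ t ^ (q₀ + 1) = 1 := by rw [hw, pow_mul, Z_pow_prime hζ, one_pow]
    rw [hs, ← pow_mul, ← orderOf_dvd_iff_pow_eq_one, hg, hQ] at h1
    exact (Nat.mul_dvd_mul_iff_right (Nat.succ_pos q₀)).mp h1
  set μ := g ^ s'
  have hμ : μ ≠ 0 := pow_ne_zero _ hg0
  have hμq : μ ^ q₀ = μ * Z ζ t := by
    conv_lhs => rw [show q₀ = 1 + (q₀ - 1) by omega, pow_add, pow_one]
    rw [hs, hs', ← pow_mul, mul_comm s']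
  refine fixed_of_coeff_mem hr hrp hz hx (mul_ne_zero hμ (inv_ne_zero hb0)) ((coeff_mem_iff hF₀ _).mpr ?_)
  rw [← smul_smul, ← hy, charpoly_smul_of_prod hμ y y.charpoly.roots (hsp.eq_prod_roots_of_monic (Matrix.charpoly_monic y)),
    prod_map_frob, ← hSZ]
  congr 2
  conv_rhs => rw [← ht]
  simp only [Multiset.map_map]
  refine Multiset.map_congr rfl fun c _ => ?_
  simp only [Function.comp_apply]
  have hu : ((q₀ : ℕ) : ZMod r) = -1 := by
    rw [eq_neg_iff_add_eq_zero, ← Nat.cast_one, ← Nat.cast_add, ZMod.natCast_eq_zero_iff]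
    exact ⟨w, hw⟩
  rw [mul_pow, hμq, Z_pow hζ, hu, mul_assoc, ← Z_add hζ]
  ring_nf

theorem map_count_eq {u c : ZMod r} (hu : u ≠ 0) {S : Multiset (ZMod r)} (h : S.map (fun a => u * a + c) = S)
    (a : ZMod r) : S.count (u * a + c) = S.count a := by
  classical
  conv_lhs => rw [← h]
  exact Multiset.count_map_eq_count' (fun a => u * a + c) S (fun a b hab => mul_left_cancel₀ hu (add_right_cancel hab)) a

theorem no_affine_two (hr2 : r ≠ 2) {u : ZMod r} (hu0 : u ≠ 0) (hu : u ≠ 1) (hu' : u ≠ -1) {c : ZMod r}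
    (h1 : u * 1 + c = 1 ∨ u * 1 + c = -1) (h2 : u * -1 + c = 1 ∨ u * -1 + c = -1) : False := by
  have h20 : (2 : ZMod r) ≠ 0 := fun h => hr2 ((Nat.prime_dvd_prime_iff_eq Fact.out Nat.prime_two).mp
    ((ZMod.natCast_eq_zero_iff _ _).mp (by exact_mod_cast h)))
  rcases h1 with h1 | h1 <;> rcases h2 with h2 | h2
  · exact hu0 (mul_left_cancel₀ h20 (by linear_combination h1 - h2))
  · exact hu (mul_left_cancel₀ h20 (by linear_combination h1 - h2))
  · exact hu' (mul_left_cancel₀ h20 (by linear_combination h1 - h2))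
  · exact hu0 (mul_left_cancel₀ h20 (by linear_combination h1 - h2))

/-- A dominant residue and an asymmetric rest. -/
theorem no_reflection {A : ℕ} {T : Multiset (ZMod r)} (hT : Multiset.card T < A) (h1 : (1 : ZMod r) ∈ T)
    (hm : (-1 : ZMod r) ∉ T) (c : ZMod r) :
    (Multiset.replicate A (0 : ZMod r) + T).map (fun a => -1 * a + c) ≠ Multiset.replicate A (0 : ZMod r) + T := by
  classical
  intro hc
  have hu : (-1 : ZMod r) ≠ 0 := neg_ne_zero.mpr one_ne_zero
  have hsplit : ∀ a : ZMod r, a ≠ 0 → (Multiset.replicate A (0 : ZMod r) + T).count a = T.count a := fun a ha => by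
    rw [Multiset.count_add, Multiset.count_eq_zero_of_notMem (fun h => ha (Multiset.eq_of_mem_replicate h)), zero_add]
  have h0 := map_count_eq hu hc 0
  rw [mul_zero, zero_add] at h0
  have hc0 : c = 0 := by
    by_contra hc0
    rw [hsplit c hc0, Multiset.count_add, Multiset.count_replicate_self] at h0
    have := T.count_le_card c
    omega
  subst hc0
  have h2 := map_count_eq hu hc 1
  rw [mul_one, add_zero, hsplit _ hu, hsplit _ one_ne_zero, Multiset.count_eq_zero_of_notMem hm] at h2
  have := Multiset.count_pos.mpr h1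
  omega

theorem no_affine_three (hr2 : r ≠ 2) (hr3 : r ≠ 3) {u : ZMod r} (hu0 : u ≠ 0) (hu : u ≠ 1) (hu' : u ≠ -1) {c : ZMod r}
    (e0 : c = 0 ∨ c = 1 ∨ c = -1) (e1 : u * 1 + c = 0 ∨ u * 1 + c = 1 ∨ u * 1 + c = -1)
    (e2 : u * -1 + c = 0 ∨ u * -1 + c = 1 ∨ u * -1 + c = -1) : False := by
  have h20 : (2 : ZMod r) ≠ 0 := fun h => hr2 ((Nat.prime_dvd_prime_iff_eq Fact.out Nat.prime_two).mp
    ((ZMod.natCast_eq_zero_iff _ _).mp (by exact_mod_cast h)))
  have h30 : (3 : ZMod r) ≠ 0 := fun h => hr3 ((Nat.prime_dvd_prime_iff_eq Fact.out Nat.prime_three).mp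
    ((ZMod.natCast_eq_zero_iff _ _).mp (by exact_mod_cast h)))
  have h40 : (4 : ZMod r) ≠ 0 := fun h => mul_ne_zero h20 h20 (by linear_combination h)
  rcases e0 with rfl | rfl | rfl
  · rcases e1 with e | e | e
    · exact hu0 (by linear_combination e)
    · exact hu (by linear_combination e)
    · exact hu' (by linear_combination e)
  · rcases e1 with e | e | e
    · exact hu' (by linear_combination e)
    · exact hu0 (by linear_combination e)
    · rcases e2 with e' | e' | e'
      · exact h30 (by linear_combination e + e')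
      · exact h20 (by linear_combination e + e')
      · exact h40 (by linear_combination e + e')
  · rcases e1 with e | e | e
    · exact hu (by linear_combination e)
    · rcases e2 with e' | e' | e'
      · exact h30 (by linear_combination -e - e')
      · exact h40 (by linear_combination -e - e')
      · exact h20 (by linear_combination -e - e')
    · exact hu0 (by linear_combination e)

set_option maxHeartbeats 800000 in
/-- The criterion. -/
theorem criterion {p : ℕ} [Fact p.Prime] [CharP F p] {q : ℕ} (hq : Fintype.card F = q) (hn : 2 ≤ n) (F₀ : Subfield F)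
    (k q₀ : ℕ) (hk : k.Prime) (hF₀ : Nat.card ↥F₀ = q₀) (hqk : q = q₀ ^ k) (hr2 : r ≠ 2) (hrp : r ≠ p)
    (hgap : ¬ (n = 6 ∧ r = 3)) (hgapk : r = k → r ∣ q₀ - 1 → padicValNat r n ≤ padicValNat r (q - 1))
    (hΩ : r ∣ (H F₀ n).index) :
    (∀ x : SpecialLinearGroup (Fin n) F,
      (∃ z : F, ((x ^ r : SpecialLinearGroup (Fin n) F) : Matrix (Fin n) (Fin n) F) = z • (1 : Matrix (Fin n) (Fin n) F)) →
      (∀ z : F, (x : Matrix (Fin n) (Fin n) F) ≠ z • (1 : Matrix (Fin n) (Fin n) F)) →
      ∃ P : SpecialLinearGroup (Fin n) F, P⁻¹ * x * P ∈ H F₀ n) ↔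
    (r = k ∨ (k = 2 ∧ r = n ∧ (n = 3 ∨ n = 5) ∧ padicValNat r (q₀ + 1) = 1)) := by
  classical
  subst hq
  obtain ⟨e, rfl⟩ := card_eq_pow (F := F) (p := p) hF₀
  have hr : r.Prime := Fact.out
  have hrq0 : ¬ r ∣ p ^ e := fun h => hrp ((Nat.prime_dvd_prime_iff_eq hr Fact.out).mp (hr.dvd_of_dvd_pow h))
  set u : ZMod r := ((p ^ e : ℕ) : ZMod r) with hudef
  have hu0 : u ≠ 0 := fun h => hrq0 ((ZMod.natCast_eq_zero_iff _ _).mp h)
  have hq1 : 1 ≤ p ^ e := Nat.one_le_pow _ _ (Fact.out : p.Prime).pos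
  have hdata : ∀ x : SpecialLinearGroup (Fin n) F,
      (∃ z : F, ((x ^ r : SpecialLinearGroup (Fin n) F) : Matrix (Fin n) (Fin n) F) = z • (1 : Matrix (Fin n) (Fin n) F)) →
      ∃ z : F, z ≠ 0 ∧ (x : Matrix (Fin n) (Fin n) F) ^ r = z • 1 ∧
        Matrix.toLin' (x : Matrix (Fin n) (Fin n) F) ^ r = z • (1 : Module.End F (Fin n → F)) := by
    intro x hx
    obtain ⟨z, hz, hxz, -⟩ := PrimeOrd.data hr (by omega) x hx
    refine ⟨z, hz, Matrix.toLin'.injective ?_, hxz⟩
    rw [← PrimeOrd.toLin'_pow_eq, hxz, map_smul, Matrix.toLin'_one]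
    rfl
  constructor
  · intro hall
    by_contra hR
    push Not at hR
    obtain ⟨hrk, hR⟩ := hR
    have hder : ∀ {P : Prop}, (∃ x : SpecialLinearGroup (Fin n) F,
      (∃ z : F, ((x ^ r : SpecialLinearGroup (Fin n) F) : Matrix (Fin n) (Fin n) F) = z • (1 : Matrix (Fin n) (Fin n) F)) ∧
      (∀ z : F, (x : Matrix (Fin n) (Fin n) F) ≠ z • (1 : Matrix (Fin n) (Fin n) F)) ∧ ¬ Fixed F₀ x) → P := by
      rintro P ⟨x, hx, hns, hnf⟩
      exact absurd (hall x hx hns) hnf
    have hki : k ∣ orderOf u := dvd_order_of_dvd_index (by omega) hk hrk hF₀ hqk hrq0 hΩ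
    by_cases hdvd : r ∣ Fintype.card F - 1
    · have hord : orderOf u = k := by
        refine Nat.dvd_antisymm ?_ hki
        have h1 := (ZMod.natCast_eq_zero_iff _ _).mpr hdvd
        rw [Nat.cast_sub Fintype.card_pos, sub_eq_zero, hqk, Nat.cast_pow, Nat.cast_one] at h1
        exact orderOf_dvd_of_pow_eq_one h1
      obtain ⟨ζ, hζ⟩ := exists_zeta (F := F) hdvd
      have hu1 : u ≠ 1 := fun h => hk.ne_one (by rw [← hord, h, orderOf_one])
      have h20 : (2 : ZMod r) ≠ 0 := fun h => hr2 ((Nat.prime_dvd_prime_iff_eq hr Nat.prime_two).mp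
        ((ZMod.natCast_eq_zero_iff _ _).mp (by exact_mod_cast h)))
      have hm1 : (-1 : ZMod r) ≠ 1 := fun h => h20 (by linear_combination -h)
      rcases hk.eq_two_or_odd with hk2 | hkodd
      · subst hk2
        have hum : u = -1 := by
          have h1 : u ^ 2 = 1 := by rw [← hord]; exact pow_orderOf_eq_one u
          exact (sq_eq_one_iff.mp h1).resolve_left hu1
        have hn3 : 3 ≤ n := by
          by_contra h
          obtain rfl : n = 2 := by omega
          exact not_dvd_index_two hr2 hF₀ hqk (hudef.symm.trans hum) hΩ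
        by_cases hv : padicValNat r n < padicValNat r (Fintype.card F - 1)
        · obtain ⟨b, hb⟩ := exists_nth_root hdvd (by omega) hv (Z_pow_prime hζ (-1 : ZMod r))
          refine hder (exists_derange_diag hF₀ hζ (b := b) (Multiset.replicate (n - 1) 0 + {1})
            (by simp; omega) ?_ (a₁ := 1) (a₂ := 0) (by simp)
            (Multiset.mem_add.mpr (.inl (Multiset.mem_replicate.mpr ⟨by omega, rfl⟩))) one_ne_zero fun c hc => ?_)
          · rw [Multiset.sum_add, Multiset.sum_replicate, Multiset.sum_singleton, smul_zero, zero_add, hb, ← Z_add hζ,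
              neg_add_cancel, Z_zero]
          · rw [← hudef, hum] at hc
            exact no_reflection (by rw [Multiset.card_singleton]; omega) (Multiset.mem_singleton_self 1)
              (fun h => hm1 (Multiset.mem_singleton.mp h)) c hc
        · have hV1 : 1 ≤ padicValNat r (Fintype.card F - 1) :=
            one_le_padicValNat_of_dvd (Nat.sub_pos_of_lt Fintype.one_lt_card).ne' hdvd
          have hrn : r ∣ n := dvd_of_one_le_padicValNat (by omega)
          have hval : r = n → padicValNat r (p ^ e + 1) = 1 := fun h => by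
            have hQ : Fintype.card F - 1 = (p ^ e - 1) * (p ^ e + 1) := by
              rw [hqk, mul_comm, ← Nat.sq_sub_sq, one_pow]
            have hnd : ¬ r ∣ p ^ e - 1 := fun hd => hu1 (by
              rw [← ZMod.natCast_eq_zero_iff, Nat.cast_sub hq1, sub_eq_zero, Nat.cast_one] at hd
              exact hd)
            have h2 : p ^ e - 1 ≠ 0 := fun h0 => hnd (h0 ▸ dvd_zero r)
            rw [hQ, padicValNat.mul h2 (by omega : p ^ e + 1 ≠ 0), padicValNat.eq_zero_of_not_dvd hnd, zero_add, ← h,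
              padicValNat_self] at hv
            rw [hQ, padicValNat.mul h2 (by omega : p ^ e + 1 ≠ 0), padicValNat.eq_zero_of_not_dvd hnd, zero_add] at hV1
            omega
          by_cases hr3 : r = 3
          · subst hr3
            have hn9 : n = 3 ∨ 9 ≤ n := by omega
            rcases hn9 with hn' | hn9
            · exact hR rfl hn'.symm (.inl hn') (hval hn'.symm)
            · refine hder (exists_derange_diag hF₀ hζ (b := 1) (Multiset.replicate (n - 3) 0 + Multiset.replicate 3 1)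
                (by simp; omega) ?_ (a₁ := 1) (a₂ := 0) (Multiset.mem_add.mpr (.inr (Multiset.mem_replicate.mpr ⟨by omega, rfl⟩)))
                (Multiset.mem_add.mpr (.inl (Multiset.mem_replicate.mpr ⟨by omega, rfl⟩))) one_ne_zero fun c hc => ?_)
              · rw [Multiset.sum_add, Multiset.sum_replicate, Multiset.sum_replicate, smul_zero, zero_add, nsmul_one,
                  ZMod.natCast_self, one_pow, one_mul, Z_zero]
              · rw [← hudef, hum] at hc
                exact no_reflection (by rw [Multiset.card_replicate]; omega) (Multiset.mem_replicate.mpr ⟨by omega, rfl⟩)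
                  (fun h => hm1 (Multiset.mem_replicate.mp h).2) c hc
          · have hr5 : 5 ≤ r := by
              have := hr.two_le
              have h4 : r ≠ 4 := fun h => by rw [h] at hr; exact (by norm_num : ¬ Nat.Prime 4) hr
              omega
            have hn6 : (r = 5 ∧ n = 5) ∨ 7 ≤ n := by
              have h6 : r ≠ 6 := fun h => by rw [h] at hr; exact (by norm_num : ¬ Nat.Prime 6) hr
              have := Nat.le_of_dvd (by omega) hrn
              obtain ⟨j, hj⟩ := hrn
              rcases Nat.lt_or_ge j 2 with hj2 | hj2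
              · interval_cases j <;> omega
              · right; nlinarith
            rcases hn6 with ⟨h5, hn5⟩ | hn7
            · exact hR rfl (h5.trans hn5.symm) (.inr hn5) (hval (h5.trans hn5.symm))
            · have h30 : (3 : ZMod r) ≠ 0 := fun h => hr3 ((Nat.prime_dvd_prime_iff_eq hr Nat.prime_three).mp
                ((ZMod.natCast_eq_zero_iff _ _).mp (by exact_mod_cast h)))
              refine hder (exists_derange_diag hF₀ hζ (b := 1) (Multiset.replicate (n - 3) 0 + {1, 1, -2})
                (by simp; omega) ?_ (a₁ := 1) (a₂ := 0) (by simp)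
                (Multiset.mem_add.mpr (.inl (Multiset.mem_replicate.mpr ⟨by omega, rfl⟩))) one_ne_zero fun c hc => ?_)
              · rw [Multiset.sum_add, Multiset.sum_replicate, smul_zero, zero_add, one_pow, one_mul]
                convert Z_zero (ζ := ζ) (r := r) using 2
                simp
                ring
              · have h12 : (-1 : ZMod r) ≠ -2 := fun h => one_ne_zero (by linear_combination h : (1 : ZMod r) = 0)
                rw [← hudef, hum] at hc
                exact no_reflection (by simp; omega) (by simp) (by simp [hm1, h12]) c hc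
      · have hum : u ≠ -1 := fun h => by
          have h1 : orderOf u ∣ 2 := orderOf_dvd_of_pow_eq_one (by rw [h]; ring)
          rw [hord] at h1
          have := (Nat.prime_dvd_prime_iff_eq hk Nat.prime_two).mp h1
          omega
        rcases Nat.eq_or_lt_of_le hn with hn2 | hn3
        · refine hder (exists_derange_diag hF₀ hζ (b := 1) ({1, -1} : Multiset (ZMod r)) (by simp; omega) ?_
            (a₁ := 1) (a₂ := -1) (by simp) (by simp) hm1.symm fun c hc => ?_)
          · rw [one_pow, one_mul]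
            convert Z_zero (ζ := ζ) (r := r) using 2
            simp
          · have hmem : ∀ a ∈ ({1, -1} : Multiset (ZMod r)), u * a + c = 1 ∨ u * a + c = -1 := fun a ha => by
              have := Multiset.mem_map_of_mem (fun a => u * a + c) ha
              rw [hc] at this
              simpa using this
            exact no_affine_two hr2 hu0 hu1 hum (hmem 1 (by simp)) (hmem (-1) (by simp))
        · have h30 : (3 : ZMod r) ≠ 0 := fun h => by
            have h3 := (Nat.prime_dvd_prime_iff_eq hr Nat.prime_three).mp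
              ((ZMod.natCast_eq_zero_iff _ _).mp (by exact_mod_cast h))
            have h4 : k ∣ r - 1 := hord ▸ orderOf_dvd_of_pow_eq_one (ZMod.pow_card_sub_one_eq_one hu0)
            have := Nat.le_of_dvd (by omega) h4
            have := hk.two_le
            omega
          refine hder (exists_derange_diag hF₀ hζ (b := 1) (Multiset.replicate (n - 2) 0 + {1, -1}) (by simp; omega) ?_
            (a₁ := 1) (a₂ := -1) (by simp) (by simp) hm1.symm fun c hc => ?_)
          · rw [Multiset.sum_add, Multiset.sum_replicate, smul_zero, zero_add, one_pow, one_mul]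
            convert Z_zero (ζ := ζ) (r := r) using 2
            simp
          · have hmem : ∀ a ∈ Multiset.replicate (n - 2) (0 : ZMod r) + {1, -1},
                u * a + c = 0 ∨ u * a + c = 1 ∨ u * a + c = -1 := fun a ha => by
              have := Multiset.mem_map_of_mem (fun a => u * a + c) ha
              rw [hc] at this
              simp [Multiset.mem_replicate] at this
              tauto
            have e0 := hmem 0 (Multiset.mem_add.mpr (.inl (Multiset.mem_replicate.mpr ⟨by omega, rfl⟩)))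
            have e1 := hmem 1 (by simp)
            have e2 := hmem (-1) (by simp)
            rw [mul_zero, zero_add] at e0
            exact no_affine_three hr2 (fun h => h30 (by subst h; rfl)) hu0 hu1 hum e0 e1 e2
    · refine hder (exists_derange_nonsplit hrp hF₀ hk hqk hki hdvd ?_)
      have h1 : r ∣ ∏ i : Fin n, (Fintype.card F ^ n - Fintype.card F ^ (i : ℕ)) := by
        rw [← Cfsg.Lib.Classical.card_SL_mul_eq_prod (by omega), ← Subgroup.card_mul_index (H F₀ n)]
        exact (hΩ.mul_left _).mul_left _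
      obtain ⟨j, -, hj⟩ := (hr.prime.dvd_finsetProd_iff _).mp h1
      rw [show Fintype.card F ^ n - Fintype.card F ^ (j : ℕ) = Fintype.card F ^ (j : ℕ) * (Fintype.card F ^ (n - j) - 1) by
        rw [Nat.mul_sub_one, ← pow_add, Nat.add_sub_cancel' j.isLt.le]] at hj
      have h2 := (hr.dvd_mul.mp hj).resolve_left fun h => PrimeOrd.not_dvd_card (F := F) hr hrp (hr.dvd_of_dvd_pow h)
      exact (Nat.le_of_dvd (Nat.sub_pos_of_lt j.isLt) ((PrimeOrd.dvd_pow_sub_one _).mp h2)).trans (Nat.sub_le _ _)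
  · intro hR x hx hns
    obtain ⟨z, hz, hxm, hxz⟩ := hdata x hx
    have hdetx : LinearMap.det (Matrix.toLin' (x : Matrix (Fin n) (Fin n) F)) = 1 := by rw [LinearMap.det_toLin']; exact x.2
    rcases hR with hrk | ⟨hk2, hrn, hn35, hV⟩
    · subst hrk
      have hmod : p ^ e % r = Fintype.card F % r := by
        rw [← ZMod.natCast_eq_natCast_iff', hqk, Nat.cast_pow _ r, ZMod.pow_card]
      obtain ⟨b, hb⟩ : ∃ b : F, b ^ r = z := by
        by_cases hdvd : r ∣ Fintype.card F - 1
        · have hdvd0 : r ∣ p ^ e - 1 := by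
            rw [← ZMod.natCast_eq_zero_iff, Nat.cast_sub hq1, sub_eq_zero]
            rw [← ZMod.natCast_eq_zero_iff, Nat.cast_sub Fintype.card_pos, sub_eq_zero] at hdvd
            rw [← hdvd, ZMod.natCast_eq_natCast_iff']
            exact hmod
          exact PrimeOrd.root_of_small hdvd (hgapk rfl hdvd0) (fun h => absurd h hr2) (by omega) hdetx hz hxz
        · exact PrimeOrd.power_of_coprime hr hdvd z
      exact fixed_of_congr hr hrp hF₀ hmod (fun h => hz (by rw [← hb, h, zero_pow hr.ne_zero])) (hb.symm ▸ hxm)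
    · subst hk2
      have hr35 : r = 3 ∨ r = 5 := by omega
      have hrd : r ∣ p ^ e + 1 := dvd_of_one_le_padicValNat (by omega)
      have hQ : Fintype.card F - 1 = (p ^ e - 1) * (p ^ e + 1) := by
        rw [hqk, mul_comm, ← Nat.sq_sub_sq, one_pow]
      have hdvd : r ∣ Fintype.card F - 1 := hQ ▸ hrd.mul_left _
      obtain ⟨b, hb⟩ := PrimeOrd.root_of_small hdvd (by
        rw [← hrn, padicValNat_self]
        exact one_le_padicValNat_of_dvd (Nat.sub_pos_of_lt Fintype.one_lt_card).ne' hdvd)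
        (fun h => absurd h hr2) (by omega) hdetx hz hxz
      exact fixed_exceptional hrp hF₀ hqk hrn.symm hr35 hV hz hb hxm

end Cfsg.Lib.Classical.SubfieldOdd
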