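import Mathlib
import Cfsg.Agent.Classical.SL

/-! Sylow subgroups of `GL_n(q)` and `SL_n(q)` for a prime `r > n` not dividing `q`. -/

set_option autoImplicit false
set_option linter.unusedSectionVars false
set_option linter.style.haveILetI false

namespace Cfsg.Lib.SylowLarge

open Finset Polynomial

section Arith

variable {r : ℕ} [hr : Fact r.Prime] {q : ℕ}

theorem val_pow_sub_one {x k : ℕ} (hx : 2 ≤ x) (h : r ∣ x - 1) (hk : ¬ r ∣ k) :
    padicValNat r (x ^ k - 1) = padicValNat r (x - 1) := by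
  have hs : ¬ r ∣ ∑ i ∈ range k, x ^ i := by
    rw [← ZMod.natCast_eq_zero_iff]
    have h1 : (x : ZMod r) = 1 := by
      have := (ZMod.natCast_eq_zero_iff (x - 1) r).2 h
      rw [Nat.cast_sub (by omega : 1 ≤ x), Nat.cast_one, sub_eq_zero] at this
      exact this
    rw [Nat.cast_sum]
    simp only [Nat.cast_pow, h1, one_pow, Finset.sum_const, Finset.card_range, nsmul_eq_mul, mul_one]
    rwa [ZMod.natCast_eq_zero_iff]
  rw [← geom_sum_mul_of_one_le (by omega : 1 ≤ x) k]
  have h0 : ∑ i ∈ range k, x ^ i ≠ 0 := fun e => hs (e ▸ dvd_zero r)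
  rw [padicValNat.mul h0 (by omega), padicValNat.eq_zero_of_not_dvd hs, zero_add]

theorem dvd_pow_sub_one_iff (hq : 1 ≤ q) (i : ℕ) : r ∣ q ^ i - 1 ↔ orderOf (q : ZMod r) ∣ i := by
  rw [orderOf_dvd_iff_pow_eq_one, ← ZMod.natCast_eq_zero_iff,
    Nat.cast_sub (Nat.one_le_pow i q hq), Nat.cast_pow, Nat.cast_one, sub_eq_zero]

theorem ord_pos (hrq : ¬ r ∣ q) : 0 < orderOf (q : ZMod r) :=
  Nat.pos_of_ne_zero fun h => by
    have h1 : (q : ZMod r) ^ (r - 1) = 1 :=
      ZMod.pow_card_sub_one_eq_one (fun e => hrq ((ZMod.natCast_eq_zero_iff q r).1 e))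
    have h2 := orderOf_dvd_of_pow_eq_one h1
    rw [h, zero_dvd_iff] at h2
    have := hr.out.two_le
    omega

/-- the exponent attached to `q` -/
noncomputable def expo (r q : ℕ) : ℕ :=
  padicValNat r ((Polynomial.cyclotomic (orderOf (q : ZMod r)) ℤ).eval (q : ℤ)).natAbs

theorem expo_eq (hq : 2 ≤ q) (hrq : ¬ r ∣ q) :
    expo r q = padicValNat r (q ^ orderOf (q : ZMod r) - 1) := by
  set d := orderOf (q : ZMod r) with hd
  have hd0 : 0 < d := ord_pos hrq
  have h1 := congrArg (Polynomial.eval (q : ℤ)) (prod_cyclotomic_eq_X_pow_sub_one hd0 ℤ)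
  rw [eval_prod, eval_sub, eval_pow, eval_X, eval_one, ← Nat.cons_self_properDivisors hd0.ne',
    Finset.prod_cons] at h1
  have h2 : (((q ^ d - 1 : ℕ)) : ℤ) = (q : ℤ) ^ d - 1 := by
    rw [Nat.cast_sub (Nat.one_le_pow d q (by omega)), Nat.cast_pow, Nat.cast_one]
  rw [← h2] at h1
  have h3 := congrArg Int.natAbs h1
  rw [Int.natAbs_natCast, Int.natAbs_mul] at h3
  set R := (∏ e ∈ d.properDivisors, (cyclotomic e ℤ).eval (q : ℤ)).natAbs with hR
  have hpos : q ^ d - 1 ≠ 0 := by
    have := Nat.one_lt_pow hd0.ne' (by omega : 1 < q)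
    omega
  rw [← h3] at hpos
  obtain ⟨hP0, hR0⟩ := mul_ne_zero_iff.1 hpos
  have hnR : ¬ r ∣ R := by
    intro h
    rw [hR, ← Int.natCast_dvd] at h
    obtain ⟨e, he, hre⟩ := (Prime.dvd_finsetProd_iff (Nat.prime_iff_prime_int.1 hr.out) _).1 h
    rw [Nat.mem_properDivisors] at he
    have h4 : (r : ℤ) ∣ (q : ℤ) ^ e - 1 := by
      refine hre.trans ?_
      have := Polynomial.eval_dvd (x := (q : ℤ)) (cyclotomic.dvd_X_pow_sub_one e ℤ)
      simpa using this
    have h5 : r ∣ q ^ e - 1 := by
      rw [← Int.natCast_dvd_natCast, Nat.cast_sub (Nat.one_le_pow e q (by omega))]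
      simpa using h4
    have he0 : 0 < e := Nat.pos_of_dvd_of_pos he.1 hd0
    have := Nat.le_of_dvd he0 ((dvd_pow_sub_one_iff (by omega) e).1 h5)
    rw [← hd] at this
    omega
  rw [← h3, padicValNat.mul hP0 hR0, padicValNat.eq_zero_of_not_dvd hnR, add_zero]
  rfl

theorem gl_prod_succ (n : ℕ) :
    ∏ i : Fin (n + 1), (q ^ (n + 1) - q ^ (i : ℕ)) =
      (q ^ (n + 1) - 1) * (q ^ n * ∏ i : Fin n, (q ^ n - q ^ (i : ℕ))) := by
  rw [Fin.prod_univ_succ]
  simp only [Fin.val_zero, pow_zero, Fin.val_succ]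
  congr 1
  have h : ∀ i : Fin n, q ^ (n + 1) - q ^ ((i : ℕ) + 1) = q * (q ^ n - q ^ (i : ℕ)) := fun i => by
    rw [Nat.mul_sub, pow_succ', pow_succ']
  rw [Finset.prod_congr rfl (fun i _ => h i), Finset.prod_mul_distrib, Finset.prod_const, Finset.card_univ,
    Fintype.card_fin]

theorem val_gl_prod (hq : 2 ≤ q) (hrq : ¬ r ∣ q) :
    ∀ n : ℕ, n < r → padicValNat r (∏ i : Fin n, (q ^ n - q ^ (i : ℕ))) =
      n / orderOf (q : ZMod r) * expo r q := by
  intro n
  induction n with
  | zero => intro _; simp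
  | succ n ih =>
    intro hn
    have hne : ∏ i : Fin n, (q ^ n - q ^ (i : ℕ)) ≠ 0 := Finset.prod_ne_zero_iff.2 fun i _ => by
      have := Nat.pow_lt_pow_right (by omega : 1 < q) i.isLt
      omega
    have h1 : q ^ (n + 1) - 1 ≠ 0 := by
      have := Nat.one_lt_pow (by omega : n + 1 ≠ 0) (by omega : 1 < q)
      omega
    have hqn : q ^ n ≠ 0 := pow_ne_zero _ (by omega)
    rw [gl_prod_succ, padicValNat.mul h1 (mul_ne_zero hqn hne), padicValNat.mul hqn hne, ih (by omega),
      padicValNat.eq_zero_of_not_dvd (fun h => hrq (hr.out.dvd_of_dvd_pow h)), zero_add, Nat.succ_div]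
    set d := orderOf (q : ZMod r) with hd
    by_cases hdn : d ∣ n + 1
    · rw [if_pos hdn, add_mul, one_mul, add_comm]
      congr 1
      obtain ⟨k, hk⟩ := hdn
      have hd0 : 0 < d := ord_pos hrq
      have hk0 : ¬ r ∣ k := fun h => by
        rcases Nat.eq_zero_or_pos k with rfl | hk0
        · simp at hk
        · have := Nat.le_of_dvd hk0 h
          have := Nat.le_mul_of_pos_left k hd0
          omega
      rw [hk, pow_mul, val_pow_sub_one (Nat.one_lt_pow hd0.ne' (by omega : 1 < q))
        ((dvd_pow_sub_one_iff (by omega) d).2 dvd_rfl) hk0, expo_eq hq hrq]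
    · rw [if_neg hdn, add_zero, padicValNat.eq_zero_of_not_dvd
        (fun h => hdn ((dvd_pow_sub_one_iff (by omega) _).1 h)), zero_add]

end Arith

section Groups

/-- Sylow subgroups are isomorphic to any embedded group of the right order. -/
theorem sylow_iso_of_hom {G A : Type*} [Group G] [Finite G] [Group A] {r : ℕ} [hr : Fact r.Prime] (f : A →* G)
    (hf : Function.Injective f) (hc : Nat.card A = r ^ padicValNat r (Nat.card G)) (P : Sylow r G) :
    Nonempty (↥(P : Subgroup G) ≃* A) := by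
  have hcard : Nat.card f.range = r ^ (Nat.card G).factorization r := by
    rw [← Nat.card_congr (MonoidHom.ofInjective hf).toEquiv, hc, Nat.factorization_def _ hr.out]
  exact ⟨(P.equiv (Sylow.ofCard f.range hcard)).trans (MonoidHom.ofInjective hf).symm⟩

theorem exists_cyclicHom {K : Type*} [Field K] [Finite K] {m : ℕ} (h : m ∣ Nat.card Kˣ) :
    ∃ f : Multiplicative (ZMod m) →* Kˣ, Function.Injective f := by
  obtain ⟨g, hg⟩ := IsCyclic.exists_ofOrder_eq_natCard (α := Kˣ)
  obtain ⟨x, ho⟩ : ∃ x : Kˣ, orderOf x = m :=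
    ⟨g ^ (orderOf g / m), orderOf_pow_orderOf_div (orderOf_pos g).ne' (hg ▸ h)⟩
  have hm : Nat.card (Subgroup.zpowers x) = m := by rw [Nat.card_zpowers, ho]
  rw [← hm]
  exact ⟨(Subgroup.zpowers x).subtype.comp (zmodCyclicMulEquiv (inferInstance : IsCyclic _)).toMonoidHom,
    Subtype.val_injective.comp (MulEquiv.injective _)⟩

theorem card_target (a m : ℕ) : Nat.card (Fin a → Multiplicative (ZMod m)) = m ^ a := by
  rw [Nat.card_fun, Nat.card_fin, Nat.card_congr Multiplicative.toAdd, Nat.card_zmod]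

theorem exists_torus_gl {F : Type*} [Field F] (K : Type*) [Field K] [Algebra F K] [Module.Finite F K]
    (n a : ℕ) (hn : a * Module.finrank F K ≤ n) :
    ∃ f : (Fin a → Kˣ) →* GL (Fin n) F, Function.Injective f := by
  classical
  obtain ⟨c, hc⟩ : ∃ c : ℕ, c = n - a * Module.finrank F K := ⟨_, rfl⟩
  have hV : Module.finrank F ((Fin a → K) × (Fin c → F)) = Module.finrank F (Fin n → F) := by
    rw [Module.finrank_prod, Module.finrank_pi_fintype, Module.finrank_fin_fun, Module.finrank_fin_fun,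
      Finset.sum_const, Finset.card_univ, Fintype.card_fin, smul_eq_mul, hc]
    omega
  let e : ((Fin a → K) × (Fin c → F)) ≃ₗ[F] (Fin n → F) := LinearEquiv.ofFinrankEq _ _ hV
  let mul : (Fin a → Kˣ) →* Module.End F ((Fin a → K) × (Fin c → F)) :=
    { toFun := fun t =>
        { toFun := fun v => (fun i => (t i : K) * v.1 i, v.2)
          map_add' := fun u v => by
            refine Prod.ext (funext fun i => ?_) rfl
            exact mul_add _ _ _
          map_smul' := fun s v => by
            refine Prod.ext (funext fun i => ?_) rfl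
            exact mul_smul_comm _ _ _ }
      map_one' := LinearMap.ext fun v => Prod.ext (funext fun i => one_mul _) rfl
      map_mul' := fun s t => LinearMap.ext fun v => Prod.ext (funext fun i => mul_assoc _ _ _) rfl }
  let g : (Fin a → Kˣ) →* Matrix (Fin n) (Fin n) F :=
    ((LinearMap.toMatrixAlgEquiv' (R := F) (n := Fin n)).toMonoidHom.comp
      (e.conjRingEquiv.toMonoidHom)).comp mul
  refine ⟨g.toHomUnits, fun s t h => ?_⟩
  have h1 : g s = g t := congrArg Units.val h
  have h2 : mul s = mul t :=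
    e.conjRingEquiv.injective ((LinearMap.toMatrixAlgEquiv' (R := F) (n := Fin n)).injective h1)
  funext i
  have h3 := congrFun (congrArg Prod.fst (LinearMap.congr_fun h2 ((fun _ => 1, 0) : (Fin a → K) × (Fin c → F)))) i
  apply Units.ext
  change (s i : K) * 1 = (t i : K) * 1 at h3
  rwa [mul_one, mul_one] at h3

theorem two_le_card (F : Type*) [Field F] [Fintype F] : 2 ≤ Fintype.card F := Fintype.one_lt_card

theorem exists_gl_hom {F : Type*} [Field F] [Fintype F] {q : ℕ} (hq : Fintype.card F = q) (n : ℕ)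
    (r : ℕ) [Fact r.Prime] (hrn : n < r) (hrq : ¬ r ∣ q) :
    ∃ f : (Fin (n / orderOf (q : ZMod r)) → Multiplicative (ZMod (r ^ expo r q))) →* GL (Fin n) F,
      Function.Injective f ∧
      Nat.card (Fin (n / orderOf (q : ZMod r)) → Multiplicative (ZMod (r ^ expo r q))) =
        r ^ padicValNat r (Nat.card (GL (Fin n) F)) := by
  have hq2 : 2 ≤ q := hq ▸ two_le_card F
  set d := orderOf (q : ZMod r) with hd
  have hd0 : 0 < d := ord_pos hrq
  haveI : NeZero d := ⟨hd0.ne'⟩
  obtain ⟨p, hp⟩ := CharP.exists F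
  haveI : Fact p.Prime := ⟨CharP.char_is_prime F p⟩
  let K := FiniteField.Extension F p d
  have hcK : Nat.card K = q ^ d := by rw [FiniteField.natCard_extension, Nat.card_eq_fintype_card, hq]
  haveI : Finite K := Nat.finite_of_card_ne_zero (by rw [hcK]; exact pow_ne_zero _ (by omega))
  have hdvd : r ^ expo r q ∣ Nat.card Kˣ := by
    rw [Nat.card_units, hcK, expo_eq hq2 hrq]
    exact pow_padicValNat_dvd
  obtain ⟨c, hc⟩ := exists_cyclicHom hdvd
  obtain ⟨t, ht⟩ := exists_torus_gl (F := F) K n (n / d) (by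
    rw [FiniteField.finrank_extension]; exact Nat.div_mul_le_self n d)
  refine ⟨t.comp (MonoidHom.pi fun i => c.comp (Pi.evalMonoidHom _ i)), ?_, ?_⟩
  · intro x y h
    funext i
    exact hc (congrFun (ht h) i)
  · rw [card_target, Matrix.card_GL_field, hq, val_gl_prod hq2 hrq n hrn, ← hd, ← pow_mul,
      mul_comm (n / d)]

theorem exists_diag_sl {F : Type*} [Field F] (k : ℕ) :
    ∃ f : (Fin k → Fˣ) →* Matrix.SpecialLinearGroup (Fin (k + 1)) F, Function.Injective f := by
  classical
  let v : (Fin k → Fˣ) → Fin (k + 1) → F := fun t => Fin.snoc (fun i => (t i : F)) (((∏ i, t i)⁻¹ : Fˣ) : F)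
  have hdet : ∀ t, (Matrix.diagonal (v t)).det = 1 := by
    intro t
    rw [Matrix.det_diagonal, Fin.prod_univ_castSucc]
    simp only [v, Fin.snoc_castSucc, Fin.snoc_last]
    rw [← Units.coe_prod, ← Units.val_mul, mul_inv_cancel, Units.val_one]
  have hmul : ∀ s t, v (s * t) = fun i => v s i * v t i := by
    intro s t
    funext i
    refine Fin.lastCases ?_ (fun j => ?_) i
    · simp only [v, Fin.snoc_last, Pi.mul_apply, Finset.prod_mul_distrib, mul_inv, Units.val_mul]
    · simp only [v, Fin.snoc_castSucc, Pi.mul_apply, Units.val_mul]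
  refine ⟨MonoidHom.mk' (fun t => ⟨Matrix.diagonal (v t), hdet t⟩) (fun s t => Subtype.ext ?_), fun s t h => ?_⟩
  · show Matrix.diagonal (v (s * t)) = Matrix.diagonal (v s) * Matrix.diagonal (v t)
    rw [Matrix.diagonal_mul_diagonal, hmul]
  · funext i
    have h2 := congrFun (Matrix.diagonal_injective (congrArg Subtype.val h)) i.castSucc
    simp only [v, Fin.snoc_castSucc] at h2
    exact Units.ext h2

theorem exists_sl_lift {F : Type*} [Field F] [Fintype F] {n : ℕ} {A : Type*} [Group A] [Finite A]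
    (f : A →* GL (Fin n) F) (hf : Function.Injective f) (hc : (Nat.card A).Coprime (Fintype.card F - 1)) :
    ∃ g : A →* Matrix.SpecialLinearGroup (Fin n) F, Function.Injective g := by
  classical
  have hdet : ∀ a, (f a).1.det = 1 := by
    intro a
    set u := Matrix.GeneralLinearGroup.det (f a) with hu
    have h1 : orderOf u ∣ Nat.card A :=
      (orderOf_map_dvd (Matrix.GeneralLinearGroup.det.comp f) a).trans (orderOf_dvd_natCard a)
    have h2 : orderOf u ∣ Fintype.card F - 1 := by
      rw [← Fintype.card_units]; exact orderOf_dvd_card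
    have h3 : u = 1 := orderOf_eq_one_iff.1 (Nat.eq_one_of_dvd_coprimes hc h1 h2)
    have := congrArg Units.val h3
    simpa [hu] using this
  refine ⟨MonoidHom.mk' (fun a => ⟨(f a).1, hdet a⟩) (fun a b => Subtype.ext ?_), fun a b h => ?_⟩
  · show (f (a * b)).1 = (f a).1 * (f b).1
    rw [map_mul, Units.val_mul]
  · exact hf (Units.ext (congrArg Subtype.val h))

end Groups

end Cfsg.Lib.SylowLarge
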