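import Cfsg.Agent.Classical.Misc.SylowLargePrime
import Cfsg.Agent.Classical.Symp.Matrix

/-! Sylow subgroups of `Sp_{2n}(q)` for an odd prime `r > n` not dividing `q`. -/

set_option autoImplicit false
set_option linter.unusedSectionVars false
set_option linter.style.haveILetI false

namespace Cfsg.Lib.SylowLarge

open Finset Matrix
open Cfsg.Lib.Classical (sympBilin sympBilin_eq_sum mem_symplectic_iff_form)

theorem val_sp_prod {r : ℕ} [hr : Fact r.Prime] {q : ℕ} (hq : 2 ≤ q) (hr2 : r ≠ 2) (hrq : ¬ r ∣ q) (n : ℕ)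
    (hn : n < r) :
    padicValNat r (q ^ (n ^ 2) * ∏ i ∈ range n, (q ^ (2 * (i + 1)) - 1)) =
      ((Icc 1 n).filter (fun i => orderOf (q : ZMod r) ∣ 2 * i)).card * expo r q := by
  set d := orderOf (q : ZMod r) with hd
  have hne : ∀ i : ℕ, q ^ (2 * (i + 1)) - 1 ≠ 0 := fun i => by
    have := Nat.one_lt_pow (by omega : 2 * (i + 1) ≠ 0) (by omega : 1 < q)
    omega
  rw [padicValNat.mul (pow_ne_zero _ (by omega)) (prod_ne_zero_iff.2 fun i _ => hne i),
    padicValNat.eq_zero_of_not_dvd (fun h => hrq (hr.out.dvd_of_dvd_pow h)), zero_add]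
  induction n with
  | zero => simp
  | succ n ih =>
    rw [prod_range_succ, padicValNat.mul (prod_ne_zero_iff.2 fun i _ => hne i) (hne n), ih (by omega),
      show Icc 1 (n + 1) = insert (n + 1) (Icc 1 n) by ext x; simp only [mem_Icc, mem_insert]; omega,
      filter_insert]
    by_cases hdn : d ∣ 2 * (n + 1)
    · rw [if_pos hdn, card_insert_of_notMem (by simp), add_mul, one_mul]
      congr 1
      obtain ⟨k, hk⟩ := hdn
      have hd0 : 0 < d := ord_pos hrq
      have hk0 : ¬ r ∣ k := fun h => by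
        have h2 : r ∣ 2 * (n + 1) := h.trans ⟨d, by rw [hk, mul_comm]⟩
        rcases hr.out.dvd_mul.1 h2 with h3 | h3
        · exact hr2 ((Nat.prime_dvd_prime_iff_eq hr.out Nat.prime_two).1 h3)
        · have := Nat.le_of_dvd (by omega) h3
          omega
      rw [hk, pow_mul, val_pow_sub_one (Nat.one_lt_pow hd0.ne' (by omega : 1 < q))
        ((dvd_pow_sub_one_iff (by omega) d).2 dvd_rfl) hk0, expo_eq hq hrq]
    · rw [if_neg hdn, padicValNat.eq_zero_of_not_dvd
        (fun h => hdn ((dvd_pow_sub_one_iff (by omega) _).1 h)), add_zero]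

theorem count_eq {d e n : ℕ} (hde : ∀ i, d ∣ 2 * i ↔ e ∣ i) :
    ((Icc 1 n).filter (fun i => d ∣ 2 * i)).card = n / e := by
  rw [← Nat.Ioc_filter_dvd_card_eq_div n e]
  congr 1
  ext i
  simp only [mem_filter, mem_Icc, mem_Ioc, hde]
  omega

theorem exists_sp_embedding {F : Type*} [Field F] [Fintype F] (K : Type*) [Field K] [Fintype K] [Algebra F K]
    (n a : ℕ) (hn : a * Module.finrank F K ≤ n) :
    ∃ f : (Fin a → Matrix.SpecialLinearGroup (Fin 2) K) →* Matrix.symplecticGroup (Fin n) F,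
      Function.Injective f := by
  classical
  obtain ⟨e, he⟩ : ∃ e, e = Module.finrank F K := ⟨_, rfl⟩
  rw [← he] at hn
  obtain ⟨c, hc⟩ : ∃ c, a * e + c = n := ⟨n - a * e, by omega⟩
  let b : Module.Basis (Fin e) F K := (Module.finBasis F K).reindex (finCongr he.symm)
  let σ : Fin n ≃ (Fin a × Fin e) ⊕ Fin c :=
    (finCongr hc.symm).trans (finSumFinEquiv.symm.trans (Equiv.sumCongr finProdFinEquiv.symm (Equiv.refl _)))
  let crd : ((Fin a → K × K) × (Fin c ⊕ Fin c → F)) → Fin n ⊕ Fin n → F := fun w =>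
    Sum.elim (fun l => Sum.elim (fun p => b.repr (w.1 p.1).1 p.2) (fun k => w.2 (Sum.inl k)) (σ l))
      (fun l => Sum.elim (fun p => Algebra.trace F K (b p.2 * (w.1 p.1).2)) (fun k => w.2 (Sum.inr k)) (σ l))
  let Φ : ((Fin a → K × K) × (Fin c ⊕ Fin c → F)) →ₗ[F] (Fin n ⊕ Fin n → F) :=
    { toFun := crd
      map_add' := fun u v => by
        funext l
        rcases l with l | l <;> rcases h : σ l with p | k <;> simp [crd, h, mul_add]
      map_smul' := fun s v => by
        funext l
        rcases l with l | l <;> rcases h : σ l with p | k <;> simp [crd, h] }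
  have htr : ∀ x y : K, Algebra.trace F K (x * y) = ∑ j, b.repr x j * Algebra.trace F K (b j * y) := by
    intro x y
    conv_lhs => rw [← b.sum_repr x]
    rw [Finset.sum_mul, map_sum]
    exact Finset.sum_congr rfl fun j _ => by rw [smul_mul_assoc, map_smul, smul_eq_mul]
  have hinj : Function.Injective Φ := by
    rw [← LinearMap.ker_eq_bot, LinearMap.ker_eq_bot']
    intro w hw
    refine Prod.ext (funext fun i => Prod.ext ?_ ?_) (funext fun k => ?_)
    · refine b.repr.injective (Finsupp.ext fun j => ?_)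
      have := congrFun hw (Sum.inl (σ.symm (Sum.inl (i, j))))
      simpa [Φ, crd] using this
    · have hz : ∀ x : K, Algebra.trace F K (x * (w.1 i).2) = 0 := by
        intro x
        rw [htr]
        refine Finset.sum_eq_zero fun j _ => ?_
        have := congrFun hw (Sum.inr (σ.symm (Sum.inl (i, j))))
        have h0 : Algebra.trace F K (b j * (w.1 i).2) = 0 := by simpa [Φ, crd] using this
        rw [h0, mul_zero]
      exact (traceForm_nondegenerate F K).2 _ hz
    · rcases k with k | k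
      · have := congrFun hw (Sum.inl (σ.symm (Sum.inr k)))
        simpa [Φ, crd] using this
      · have := congrFun hw (Sum.inr (σ.symm (Sum.inr k)))
        simpa [Φ, crd] using this
  have hdim : Module.finrank F ((Fin a → K × K) × (Fin c ⊕ Fin c → F)) =
      Module.finrank F (Fin n ⊕ Fin n → F) := by
    rw [Module.finrank_prod, Module.finrank_pi_fintype, Module.finrank_fintype_fun_eq_card,
      Module.finrank_fintype_fun_eq_card, Finset.sum_const, Finset.card_univ, Module.finrank_prod]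
    simp only [Fintype.card_fin, Fintype.card_sum, smul_eq_mul, ← he, mul_add]
    omega
  let E := LinearEquiv.ofBijective Φ ⟨hinj, (LinearMap.injective_iff_surjective_of_finrank_eq_finrank hdim).1 hinj⟩
  let bil : ((Fin a → K × K) × (Fin c ⊕ Fin c → F)) → ((Fin a → K × K) × (Fin c ⊕ Fin c → F)) → F := fun u v =>
    (∑ i, Algebra.trace F K ((u.1 i).2 * (v.1 i).1 - (u.1 i).1 * (v.1 i).2)) +
      ∑ k, (u.2 (Sum.inr k) * v.2 (Sum.inl k) - u.2 (Sum.inl k) * v.2 (Sum.inr k))
  have hform : ∀ u v, sympBilin n F (Φ u) (Φ v) = bil u v := by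
    intro u v
    rw [sympBilin_eq_sum, ← σ.symm.sum_comp, Fintype.sum_sum_type, Fintype.sum_prod_type]
    congr 1
    · refine Finset.sum_congr rfl fun i _ => ?_
      have e1 : Algebra.trace F K ((u.1 i).2 * (v.1 i).1) =
          ∑ j, b.repr (v.1 i).1 j * Algebra.trace F K (b j * (u.1 i).2) := by rw [mul_comm, htr]
      rw [map_sub, e1, htr, ← Finset.sum_sub_distrib]
      refine Finset.sum_congr rfl fun j _ => ?_
      simp [Φ, crd, mul_comm]
    · refine Finset.sum_congr rfl fun k _ => ?_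
      simp [Φ, crd]
  let act : (Fin a → Matrix.SpecialLinearGroup (Fin 2) K) →* Module.End F ((Fin a → K × K) × (Fin c ⊕ Fin c → F)) :=
    { toFun := fun g =>
        { toFun := fun w => (fun i => ((g i).1 0 0 * (w.1 i).1 + (g i).1 0 1 * (w.1 i).2,
            (g i).1 1 0 * (w.1 i).1 + (g i).1 1 1 * (w.1 i).2), w.2)
          map_add' := fun u v => by
            refine Prod.ext (funext fun i => Prod.ext ?_ ?_) rfl <;>
              simp only [Prod.fst_add, Prod.snd_add, Pi.add_apply] <;> ring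
          map_smul' := fun s v => by
            refine Prod.ext (funext fun i => Prod.ext ?_ ?_) rfl <;>
              simp [mul_smul_comm, smul_add] }
      map_one' := LinearMap.ext fun w => by
        refine Prod.ext (funext fun i => Prod.ext ?_ ?_) rfl <;> simp
      map_mul' := fun g h => LinearMap.ext fun w => by
        refine Prod.ext (funext fun i => Prod.ext ?_ ?_) rfl <;>
          simp [Matrix.mul_apply, Fin.sum_univ_two] <;> ring }
  let M : (Fin a → Matrix.SpecialLinearGroup (Fin 2) K) →* Matrix (Fin n ⊕ Fin n) (Fin n ⊕ Fin n) F :=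
    ((LinearMap.toMatrixAlgEquiv' (R := F) (n := Fin n ⊕ Fin n)).toMonoidHom.comp
      (E.conjRingEquiv.toMonoidHom)).comp act
  have hM : ∀ g w, M g *ᵥ Φ w = Φ (act g w) := by
    intro g w
    show (LinearMap.toMatrixAlgEquiv' (E.conjRingEquiv (act g))) *ᵥ E w = E (act g w)
    rw [show (LinearMap.toMatrixAlgEquiv' (E.conjRingEquiv (act g))) =
      LinearMap.toMatrix' (E.conjRingEquiv (act g)) from rfl, LinearMap.toMatrix'_mulVec]
    show E (act g (E.symm (E w))) = _
    rw [E.symm_apply_apply]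
  have hmem : ∀ g, M g ∈ Matrix.symplecticGroup (Fin n) F := by
    intro g
    rw [mem_symplectic_iff_form]
    intro x y
    obtain ⟨u, rfl⟩ := E.surjective x
    obtain ⟨v, rfl⟩ := E.surjective y
    show sympBilin n F (M g *ᵥ Φ u) (M g *ᵥ Φ v) = sympBilin n F (Φ u) (Φ v)
    rw [hM, hM, hform, hform]
    show (∑ i, _) + _ = (∑ i, _) + _
    congr 1
    refine Finset.sum_congr rfl fun i _ => congrArg _ ?_
    have hd := (g i).2
    rw [Matrix.det_fin_two] at hd
    simp only [act, MonoidHom.coe_mk, OneHom.coe_mk, LinearMap.coe_mk, AddHom.coe_mk]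
    linear_combination ((u.1 i).2 * (v.1 i).1 - (u.1 i).1 * (v.1 i).2) * hd
  refine ⟨MonoidHom.mk' (fun g => ⟨M g, hmem g⟩) (fun g h => Subtype.ext (M.map_mul g h)), fun g h e => ?_⟩
  have h2 : act g = act h :=
    E.conjRingEquiv.injective
      ((LinearMap.toMatrixAlgEquiv' (R := F) (n := Fin n ⊕ Fin n)).injective (congrArg Subtype.val e))
  funext i
  have h10 := congrFun (congrArg Prod.fst (LinearMap.congr_fun h2
    ((fun _ => (1, 0), 0) : (Fin a → K × K) × (Fin c ⊕ Fin c → F)))) i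
  have h01 := congrFun (congrArg Prod.fst (LinearMap.congr_fun h2
    ((fun _ => (0, 1), 0) : (Fin a → K × K) × (Fin c ⊕ Fin c → F)))) i
  simp [act] at h10 h01
  apply Matrix.SpecialLinearGroup.ext
  intro r s
  fin_cases r <;> fin_cases s
  exacts [h10.1, h01.1, h10.2, h01.2]

theorem exists_sl_two_cyclic {F : Type*} [Field F] [Fintype F] {q : ℕ} (hq : Fintype.card F = q) (r : ℕ)
    [hr : Fact r.Prime] (hr2 : r ≠ 2) (hrq : ¬ r ∣ q) (e : ℕ)
    (hde : ∀ i, orderOf (q : ZMod r) ∣ 2 * i ↔ e ∣ i)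
    (K : Type*) [Field K] [Fintype K] (hK : Fintype.card K = q ^ e) :
    ∃ c : Multiplicative (ZMod (r ^ expo r q)) →* Matrix.SpecialLinearGroup (Fin 2) K, Function.Injective c := by
  have hq2 : 2 ≤ q := hq ▸ two_le_card F
  set d := orderOf (q : ZMod r) with hd
  have hd0 : 0 < d := ord_pos hrq
  have hde1 : d ∣ 2 * e := (hde e).2 dvd_rfl
  by_cases hsplit : d ∣ e
  · have hdvd : r ^ expo r q ∣ Nat.card Kˣ := by
      rw [Nat.card_units, Nat.card_eq_fintype_card, hK, expo_eq hq2 hrq]
      exact pow_padicValNat_dvd.trans (Nat.pow_sub_one_dvd_pow_sub_one q hsplit)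
    obtain ⟨c, hc⟩ := exists_cyclicHom hdvd
    obtain ⟨t, ht⟩ := exists_diag_sl (F := K) 1
    refine ⟨t.comp (MonoidHom.pi fun _ => c), fun x y h => hc (congrFun (ht h) 0)⟩
  · -- the non-split torus of `SL₂(K)`
    have he0 : 0 < e := Nat.pos_of_ne_zero fun h => hsplit (h ▸ dvd_zero d)
    have hd2 : d = 2 * e := by
      obtain ⟨k, hk⟩ := id hde1
      rcases Nat.even_or_odd k with ⟨j, rfl⟩ | hkodd
      · exact absurd ⟨j, by nlinarith⟩ hsplit
      · have h2 : 2 ∣ d := ((Nat.coprime_two_left.2 hkodd).dvd_of_dvd_mul_right ⟨e, hk.symm⟩)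
        obtain ⟨f, hf⟩ := h2
        have hef : e ∣ f := (hde f).1 ⟨1, by omega⟩
        have h3 := Nat.le_of_dvd (by omega) hef
        have h4 := Nat.le_of_dvd (by omega) hde1
        omega
    have hrQ : ¬ r ∣ q ^ e := fun h => hrq (hr.out.dvd_of_dvd_pow h)
    have hord : orderOf ((q ^ e : ℕ) : ZMod r) = 2 := by
      rw [Nat.cast_pow, orderOf_pow' _ he0.ne', ← hd, hd2,
        Nat.gcd_eq_right (dvd_mul_left e 2), Nat.mul_div_cancel _ he0]
    have hQ2 : 2 ≤ q ^ e := le_trans hq2 (Nat.le_self_pow he0.ne' q)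
    have hexpo : expo r (q ^ e) = expo r q := by
      rw [expo_eq hQ2 hrQ, expo_eq hq2 hrq, hord, ← pow_mul, ← hd, hd2, mul_comm]
    have h2r : 2 < r := lt_of_le_of_ne hr.out.two_le (Ne.symm hr2)
    have hgl := exists_gl_hom hK 2 r h2r hrQ
    rw [hexpo, hord] at hgl
    obtain ⟨f, hf, -⟩ := hgl
    have hnd : ¬ r ∣ q ^ e - 1 := fun h => hsplit ((dvd_pow_sub_one_iff (by omega) e).1 h)
    obtain ⟨g, hg⟩ := exists_sl_lift f hf (by
      rw [card_target, hK]
      exact Nat.Coprime.pow_left _ (Nat.Coprime.pow_left _ (hr.out.coprime_iff_not_dvd.2 hnd)))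
    refine ⟨g.comp (MonoidHom.pi fun _ => MonoidHom.id _), fun x y h => congrFun (hg h) ⟨0, by norm_num⟩⟩

theorem exists_sp_hom {F : Type*} [Field F] [Fintype F] {q : ℕ} (hq : Fintype.card F = q) (n : ℕ)
    (r : ℕ) [hr : Fact r.Prime] (hr2 : r ≠ 2) (hrn : n < r) (hrq : ¬ r ∣ q) :
    ∃ f : (Fin ((Icc 1 n).filter (fun i => orderOf (q : ZMod r) ∣ 2 * i)).card →
        Multiplicative (ZMod (r ^ expo r q))) →* Matrix.symplecticGroup (Fin n) F,
      Function.Injective f ∧
      Nat.card (Fin ((Icc 1 n).filter (fun i => orderOf (q : ZMod r) ∣ 2 * i)).card →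
        Multiplicative (ZMod (r ^ expo r q))) = r ^ padicValNat r (Nat.card (Matrix.symplecticGroup (Fin n) F)) := by
  have hq2 : 2 ≤ q := hq ▸ two_le_card F
  set d := orderOf (q : ZMod r) with hd
  have hd0 : 0 < d := ord_pos hrq
  obtain ⟨e, he0, hde⟩ : ∃ e, 0 < e ∧ ∀ i, d ∣ 2 * i ↔ e ∣ i := by
    rcases Nat.even_or_odd d with ⟨f, hf⟩ | hodd
    · refine ⟨f, by omega, fun i => ?_⟩
      rw [hf, ← two_mul, Nat.mul_dvd_mul_iff_left (by norm_num)]
    · exact ⟨d, hd0, fun i => ⟨(Nat.coprime_two_right.2 hodd).dvd_of_dvd_mul_left, fun h => h.mul_left 2⟩⟩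
  haveI : NeZero e := ⟨he0.ne'⟩
  obtain ⟨p, hp⟩ := CharP.exists F
  haveI : Fact p.Prime := ⟨CharP.char_is_prime F p⟩
  let K := FiniteField.Extension F p e
  have hcK : Nat.card K = q ^ e := by rw [FiniteField.natCard_extension, Nat.card_eq_fintype_card, hq]
  haveI : Finite K := Nat.finite_of_card_ne_zero (by rw [hcK]; exact pow_ne_zero _ (by omega))
  haveI := Fintype.ofFinite K
  obtain ⟨c, hc⟩ := exists_sl_two_cyclic hq r hr2 hrq e hde K (by rw [← Nat.card_eq_fintype_card, hcK])
  set a := ((Icc 1 n).filter (fun i => d ∣ 2 * i)).card with ha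
  obtain ⟨t, ht⟩ := exists_sp_embedding (F := F) K n a (by
    rw [ha, count_eq hde, FiniteField.finrank_extension]; exact Nat.div_mul_le_self n e)
  refine ⟨t.comp (MonoidHom.pi fun i => c.comp (Pi.evalMonoidHom _ i)), ?_, ?_⟩
  · intro x y h
    funext i
    exact hc (congrFun (ht h) i)
  · rw [card_target, Cfsg.Lib.Classical.card_symplecticGroup, Nat.card_eq_fintype_card, hq,
      val_sp_prod hq2 hr2 hrq n hrn, ← hd, ← ha, ← pow_mul, mul_comm]

end Cfsg.Lib.SylowLarge
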