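import Cfsg.Agent.Classical.Misc.SymIndex

/-! The twelve subgroups of index six in the symmetric group of degree six. -/

set_option autoImplicit false

open Equiv Equiv.Perm
open scoped Pointwise

namespace Cfsg.Lib.Classical.SymIndex

universe u

variable {Ω : Type u} [Fintype Ω] [DecidableEq Ω]

/-- `H` fixes no point. -/
def FixFree (H : Subgroup (Perm Ω)) : Prop := ∀ c : Ω, ∃ g ∈ H, g c ≠ c

theorem isConj_swaps {s t : Perm Ω} (hs : s.IsSwap) (ht : t.IsSwap) : IsConj s t := by
  rw [isConj_iff_cycleType_eq, isSwap_iff_cycleType.mp hs, isSwap_iff_cycleType.mp ht]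

theorem isConj_triples {s t : Perm Ω} (hs : orderOf s = 2) (hs6 : s.support.card = 6) (ht : orderOf t = 2)
    (ht6 : t.support.card = 6) : IsConj s t := by
  have key : ∀ {σ : Perm Ω}, orderOf σ = 2 → σ.support.card = 6 → σ.cycleType = Multiset.replicate 3 2 := by
    intro σ h h6
    obtain ⟨k, hk⟩ := cycleType_prime_order (σ := σ) (h ▸ Nat.prime_two)
    have hsum := sum_cycleType σ
    rw [hk, h, Multiset.sum_replicate, smul_eq_mul, h6] at hsum
    rw [hk, h, show k + 1 = 3 by omega]
  rw [isConj_iff_cycleType_eq, key hs hs6, key ht ht6]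

theorem exotic_data (h6 : Fintype.card Ω = 6) {H : Subgroup (Perm Ω)} (hH : H.index = 6) (hfree : FixFree H) :
    ∃ (φ : Perm Ω ≃* Perm Ω) (p : Ω), (∀ g, g ∈ H ↔ φ g p = p) ∧
      (∀ s : Perm Ω, s.IsSwap → (φ.symm s).support.card = 6) ∧
      ∀ t : Perm Ω, orderOf t = 2 → t.support.card = 6 → (φ t).IsSwap := by
  obtain ⟨φ, p, hφ⟩ := exists_equiv (by omega) (hH.trans h6.symm)
  obtain ⟨s₀, hs₀, hs₀'⟩ : ∃ s : Perm Ω, s.IsSwap ∧ ¬ (φ.symm s).IsSwap := by
    by_contra hh
    push Not at hh
    obtain ⟨c, hc⟩ := exists_point φ (by omega) hh p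
    obtain ⟨g, hg, hgc⟩ := hfree c
    exact hgc (hc g ((hφ g).mp hg))
  have htr : ∀ s : Perm Ω, s.IsSwap → (φ.symm s).support.card = 6 := by
    intro s hs
    refine ((map_isSwap_or φ.symm (by omega) hs).resolve_left fun h => hs₀' ?_).2
    obtain ⟨g, hg⟩ := isConj_iff.mp (isConj_swaps hs hs₀)
    rw [← hg, map_mul, map_mul, map_inv]
    exact conj_isSwap h _
  refine ⟨φ, p, hφ, htr, fun t ht ht6 => ?_⟩
  obtain ⟨g, hg⟩ := isConj_iff.mp (isConj_triples (s := φ.symm s₀)
    (by rw [MulEquiv.orderOf_eq]; exact hs₀.orderOf) (htr _ hs₀) ht ht6)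
  rw [← hg, map_mul, map_mul, map_inv, φ.apply_symm_apply]
  exact conj_isSwap hs₀ _

theorem exotic_conj (h6 : Fintype.card Ω = 6) {H H' : Subgroup (Perm Ω)} (hH : H.index = 6) (hfree : FixFree H)
    (hH' : H'.index = 6) (hfree' : FixFree H') :
    ∃ g : Perm Ω, Subgroup.map (MulAut.conj g).toMonoidHom H = H' := by
  obtain ⟨φ, p, hφ, htr, hback⟩ := exotic_data h6 hH hfree
  obtain ⟨φ', p', hφ', htr', hback'⟩ := exotic_data h6 hH' hfree'
  let α : Perm Ω ≃* Perm Ω := φ'.symm.trans φ
  have hα : ∀ s : Perm Ω, s.IsSwap → (α.symm s).IsSwap := by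
    intro s hs
    exact hback' _ ((MulEquiv.orderOf_eq φ.symm s).trans hs.orderOf) (htr s hs)
  obtain ⟨c, hc⟩ := exists_point α (by omega) hα p
  refine ⟨φ'.symm (swap c p'), Subgroup.eq_of_le_of_card_ge ?_ ?_⟩
  · rintro _ ⟨h, hh, rfl⟩
    have h1 : φ' h c = c := hc (φ' h) (by simpa [α] using (hφ h).mp hh)
    rw [hφ']
    simp only [MulEquiv.coe_toMonoidHom, MulAut.conj_apply, map_mul, map_inv, MulEquiv.apply_symm_apply,
      Perm.mul_apply]
    rw [swap_inv, swap_apply_right, h1, swap_apply_left]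
  · rw [Subgroup.card_map_of_injective (MulAut.conj _).injective]
    have e1 := H.card_mul_index
    have e2 := H'.card_mul_index
    rw [hH] at e1
    rw [hH'] at e2
    omega

theorem exists_exotic (h6 : Fintype.card Ω = 6) : ∃ H : Subgroup (Perm Ω), H.index = 6 ∧ FixFree H := by
  classical
  haveI := Fact.mk (by norm_num : Nat.Prime 5)
  obtain ⟨P⟩ : Nonempty (Sylow 5 (Perm (Fin 5))) := inferInstance
  have hG : Nat.card (Perm (Fin 5)) = 120 := by rw [Nat.card_perm, Nat.card_fin]; rfl
  have hA : (alternatingGroup (Fin 5)).index = 2 := alternatingGroup.index_eq_two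
  have hPc : Nat.card P = 5 := by
    rw [P.card_eq_multiplicity, hG, show (120 : ℕ) = 5 ^ 1 * 24 from rfl,
      Nat.factorization_mul (by norm_num) (by norm_num), Nat.Prime.factorization_pow (by norm_num)]
    simp [Nat.factorization_eq_zero_of_not_dvd (by norm_num : ¬ 5 ∣ 24)]
  have hPi : (P : Subgroup (Perm (Fin 5))).index = 24 := by
    have := (P : Subgroup (Perm (Fin 5))).card_mul_index
    rw [hG, hPc] at this; omega
  have hn : Nat.card (Sylow 5 (Perm (Fin 5))) = 6 := by
    have h1 : Nat.card (Sylow 5 (Perm (Fin 5))) ∣ 24 := hPi ▸ P.card_dvd_index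
    have h2 : Nat.card (Sylow 5 (Perm (Fin 5))) % 5 = 1 := card_sylow_modEq_one 5 _
    have hle := Nat.le_of_dvd (by norm_num) h1
    have hne : Nat.card (Sylow 5 (Perm (Fin 5))) ≠ 1 := by
      intro h
      have : (P : Subgroup (Perm (Fin 5))).Normal := by
        haveI : Subsingleton (Sylow 5 (Perm (Fin 5))) := (Nat.card_eq_one_iff_unique.mp h).1
        exact P.normal_of_subsingleton
      have hbot := normalCore_eq_bot (Ω := Fin 5) (by simp) (H := P)
        (fun h => by rw [h, Subgroup.index_top] at hPi; omega) (fun h => by rw [h, hA] at hPi; omega)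
      rw [Subgroup.normalCore_eq_self, ] at hbot
      rw [hbot, Subgroup.card_bot] at hPc; omega
    interval_cases hk : Nat.card (Sylow 5 (Perm (Fin 5))) <;> omega
  set N := Subgroup.normalizer ((P : Subgroup (Perm (Fin 5))) : Set (Perm (Fin 5))) with hN
  have hNi : N.index = 6 := by rw [hN, ← hn]; exact P.card_eq_index_normalizer.symm
  have hinj := toPermHom_injective (normalCore_eq_bot (Ω := Fin 5) (by simp)
    (fun h => by rw [h, Subgroup.index_top] at hNi; omega)
    (fun h => by rw [h, hA] at hNi; omega) : N.normalCore = ⊥)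
  obtain ⟨e⟩ : Nonempty (Perm (Fin 5) ⧸ N ≃ Ω) :=
    ⟨(Finite.equivFinOfCardEq (n := Fintype.card Ω) (hNi.trans h6.symm)).trans
      (Finite.equivFinOfCardEq (n := Fintype.card Ω) Nat.card_eq_fintype_card).symm⟩
  let f : Perm (Fin 5) →* Perm Ω := e.permCongrHom.toMonoidHom.comp (MulAction.toPermHom _ _)
  have hf : Function.Injective f := e.permCongrHom.injective.comp hinj
  refine ⟨f.range, ?_, fun c => ?_⟩
  · have := f.range.card_mul_index
    rw [Nat.card_congr (MonoidHom.ofInjective hf).toEquiv.symm, hG, Nat.card_perm,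
      Nat.card_eq_fintype_card, h6] at this
    have e720 : Nat.factorial 6 = 720 := rfl
    omega
  · obtain ⟨d, hd⟩ := Fintype.exists_ne_of_one_lt_card (by omega) c
    obtain ⟨g, hg⟩ := MulAction.exists_smul_eq (Perm (Fin 5)) (e.symm c) (e.symm d)
    refine ⟨f g, ⟨g, rfl⟩, ?_⟩
    simp only [f, MonoidHom.coe_comp, Function.comp_apply, MulEquiv.coe_toMonoidHom]
    rw [Equiv.permCongrHom, MulEquiv.coe_mk, Equiv.permCongr_apply]
    show e (g • e.symm c) ≠ c
    rw [hg, Equiv.apply_symm_apply]
    exact hd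

theorem stabilizer_or_free {H : Subgroup (Perm Ω)} (hH : H.index = Fintype.card Ω) :
    (∃ c : Ω, H = MulAction.stabilizer (Perm Ω) c) ∨ FixFree H := by
  by_cases h : FixFree H
  · exact Or.inr h
  · rw [FixFree] at h
    push Not at h
    obtain ⟨c, hc⟩ := h
    exact Or.inl ⟨c, stabilizer_of_fix hH hc⟩

theorem stabilizer_not_free (c : Ω) : ¬ FixFree (MulAction.stabilizer (Perm Ω) c) := fun h => by
  obtain ⟨g, hg, hgc⟩ := h c
  exact hgc hg

/-- A point stabiliser is the symmetric group on the other points. -/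
noncomputable def stabEquiv (p : Ω) : MulAction.stabilizer (Perm Ω) p ≃* Perm {x : Ω // x ≠ p} where
  toFun g := (g : Perm Ω).subtypePerm (fun x => by
    have hg : (g : Perm Ω) p = p := g.2
    constructor <;> intro h he
    · exact h (by rw [he, hg])
    · exact h ((g : Perm Ω).injective (he.trans hg.symm)))
  invFun f := ⟨ofSubtype f, ofSubtype_apply_of_not_mem f (fun h => h rfl)⟩
  left_inv g := by
    apply Subtype.ext
    exact ofSubtype_subtypePerm _ (fun x hx he => hx (by subst he; exact g.2))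
  right_inv f := by simp
  map_mul' g h := by ext; rfl

theorem nonempty_equiv_perm (h5 : 5 ≤ Fintype.card Ω) {n : ℕ} (hn : Fintype.card Ω = n + 1)
    {H : Subgroup (Perm Ω)} (hH : H.index = Fintype.card Ω) : Nonempty (H ≃* Perm (Fin n)) := by
  obtain ⟨φ, p, hφ⟩ := exists_equiv h5 hH
  have hmap : H.map φ.toMonoidHom = MulAction.stabilizer (Perm Ω) p := by
    ext x
    constructor
    · rintro ⟨h, hh, rfl⟩; exact (hφ h).mp hh
    · intro hx
      exact ⟨φ.symm x, (hφ _).mpr (by rw [φ.apply_symm_apply]; exact hx), φ.apply_symm_apply x⟩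
  let e : {x : Ω // x ≠ p} ≃ Fin n := Fintype.equivFinOfCardEq (by
    rw [Fintype.card_subtype_compl, Fintype.card_subtype_eq]; omega)
  exact ⟨((H.equivMapOfInjective _ φ.injective).trans ((MulEquiv.subgroupCongr hmap).trans (stabEquiv p))).trans
    e.permCongrHom⟩

theorem normalizer_eq_self (h5 : 5 ≤ Fintype.card Ω) {H : Subgroup (Perm Ω)} (hH : H.index = Fintype.card Ω) :
    Subgroup.normalizer (H : Set (Perm Ω)) = H := by
  haveI : Nontrivial Ω := Fintype.one_lt_card_iff_nontrivial.mp (by omega)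
  haveI := alternatingGroup.isSimpleGroup (α := Ω) (by rw [Nat.card_eq_fintype_card]; exact h5)
  have hA2 : (alternatingGroup Ω).index = 2 := alternatingGroup.index_eq_two
  have hne : H ≠ ⊤ := fun h => by rw [h, Subgroup.index_top] at hH; omega
  have hneA : H ≠ alternatingGroup Ω := fun h => by rw [h, hA2] at hH; omega
  refine le_antisymm ?_ Subgroup.le_normalizer
  by_contra hlt
  set N := Subgroup.normalizer (H : Set (Perm Ω)) with hNdef
  have hN : N ≠ alternatingGroup Ω := by
    intro hN
    have hle : H ≤ alternatingGroup Ω := hN ▸ Subgroup.le_normalizer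
    haveI : (H.subgroupOf (alternatingGroup Ω)).Normal :=
      Subgroup.normal_subgroupOf_of_le_normalizer (hN.ge)
    rcases Subgroup.Normal.eq_bot_or_eq_top (inferInstance : (H.subgroupOf (alternatingGroup Ω)).Normal) with h | h
    · have hHb : H = ⊥ := by rw [← inf_eq_left.mpr hle]; exact Subgroup.subgroupOf_eq_bot.mp h |>.eq_bot
      rw [hHb, Subgroup.index_bot, Nat.card_perm, Nat.card_eq_fintype_card] at hH
      have := Nat.lt_factorial_self (n := Fintype.card Ω) (by omega)
      omega
    · exact hneA (le_antisymm hle (Subgroup.subgroupOf_eq_top.mp h))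
  have hN' : N ≠ ⊤ := by
    intro hN'
    haveI : H.Normal := Subgroup.normalizer_eq_top_iff.mp hN'
    have := normalCore_eq_bot h5 hne hneA
    rw [Subgroup.normalCore_eq_self] at this
    rw [this, Subgroup.index_bot, Nat.card_perm, Nat.card_eq_fintype_card] at hH
    have := Nat.lt_factorial_self (n := Fintype.card Ω) (by omega)
    omega
  have h1 := index_ge h5 hN' hN
  have h2 : N.index < H.index :=
    Subgroup.index_strictAnti (lt_of_le_of_ne Subgroup.le_normalizer (fun h => hlt h.ge))
  omega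

theorem card_index_six (h6 : Fintype.card Ω = 6) :
    Nat.card {H : Subgroup (Perm Ω) // H.index = 6} = 12 := by
  classical
  obtain ⟨H₀, hH₀, hfree⟩ := exists_exotic h6
  have hidx : ∀ g : Perm Ω, (H₀.map (MulAut.conj g).toMonoidHom).index = 6 := fun g => by
    exact (Subgroup.index_map_of_bijective (f := (MulAut.conj g).toMonoidHom) (MulAut.conj g).bijective H₀).trans hH₀
  have hstab : ∀ c : Ω, (MulAction.stabilizer (Perm Ω) c).index = 6 := fun c => by
    rw [MulAction.index_stabilizer_of_transitive, Nat.card_eq_fintype_card, h6]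
  have hfreeconj : ∀ g : Perm Ω, FixFree (H₀.map (MulAut.conj g).toMonoidHom) := by
    intro g c
    obtain ⟨k, hk, hkc⟩ := hfree (g⁻¹ c)
    refine ⟨g * k * g⁻¹, ⟨k, hk, rfl⟩, fun h => hkc ?_⟩
    simp only [Perm.mul_apply] at h
    have h' := congrArg (g⁻¹ : Perm Ω) h
    simpa using h'
  let f : Ω ⊕ (Perm Ω ⧸ H₀) → {H : Subgroup (Perm Ω) // H.index = 6} :=
    Sum.elim (fun c => ⟨_, hstab c⟩) (fun q => ⟨_, hidx q.out⟩)
  have hf : Function.Bijective f := by
    constructor
    · rintro (a | a) (b | b) hab <;> simp only [f, Sum.elim_inl, Sum.elim_inr, Subtype.mk.injEq] at hab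
      · congr 1
        by_contra hne
        obtain ⟨d, -, hd⟩ : ∃ d ∈ (Finset.univ : Finset Ω), d ∉ ({a, b} : Finset Ω) :=
          Finset.exists_mem_notMem_of_card_lt_card (by
            have := Finset.card_le_two (a := a) (b := b)
            rw [Finset.card_univ]; omega)
        simp only [Finset.mem_insert, Finset.mem_singleton, not_or] at hd
        have : swap b d ∈ MulAction.stabilizer (Perm Ω) a :=
          swap_apply_of_ne_of_ne hne (Ne.symm hd.1)
        rw [hab, MulAction.mem_stabilizer_iff, Perm.smul_def, swap_apply_left] at this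
        exact hd.2 this
      · exact absurd (hab ▸ hfreeconj b.out) (stabilizer_not_free a)
      · exact absurd (hab.symm ▸ hfreeconj a.out) (stabilizer_not_free b)
      · congr 1
        rw [← QuotientGroup.out_eq' a, ← QuotientGroup.out_eq' b, QuotientGroup.eq]
        refine (SetLike.ext_iff.mp (normalizer_eq_self (by omega) (hH₀.trans h6.symm)) _).mp ?_
        refine Subgroup.mem_normalizer_fintype ?_
        intro x hx
        have hm : b.out * x * b.out⁻¹ ∈ H₀.map (MulAut.conj a.out).toMonoidHom := by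
          rw [hab]; exact ⟨x, hx, rfl⟩
        obtain ⟨y, hy, hyx⟩ := hm
        have : a.out⁻¹ * b.out * x * (a.out⁻¹ * b.out)⁻¹ = y := by
          simp only [MulEquiv.coe_toMonoidHom, MulAut.conj_apply] at hyx
          calc _ = a.out⁻¹ * (b.out * x * b.out⁻¹) * a.out := by group
            _ = y := by rw [← hyx]; group
        rw [this]; exact hy
    · rintro ⟨H, hH⟩
      rcases stabilizer_or_free (hH.trans h6.symm) with ⟨c, rfl⟩ | hF
      · exact ⟨Sum.inl c, rfl⟩
      · obtain ⟨g, rfl⟩ := exotic_conj h6 hH₀ hfree hH hF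
        refine ⟨Sum.inr (g : Perm Ω ⧸ H₀), Subtype.ext ?_⟩
        obtain ⟨⟨k, hk⟩, hke⟩ := QuotientGroup.mk_out_eq_mul H₀ g
        show H₀.map (MulAut.conj (g : Perm Ω ⧸ H₀).out).toMonoidHom = _
        rw [hke]
        refine Subgroup.eq_of_le_of_card_ge ?_ ?_
        · rintro _ ⟨x, hx, rfl⟩
          exact ⟨k * x * k⁻¹, mul_mem (mul_mem hk hx) (inv_mem hk), by simp [mul_assoc]⟩
        · rw [Subgroup.card_map_of_injective (MulAut.conj _).injective,
            Subgroup.card_map_of_injective (MulAut.conj _).injective]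
  rw [← Nat.card_congr (Equiv.ofBijective f hf), Nat.card_sum, Nat.card_eq_fintype_card (α := Ω), h6]
  change 6 + H₀.index = 12
  rw [hH₀]

end Cfsg.Lib.Classical.SymIndex
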