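import Mathlib
import Cfsg.Agent.Classical.Misc.Imprimitive
import Cfsg.Agent.Classical.Misc.SymSix

/-! `S_{m-1} × S_m` is maximal in `S_{2m-1}` but not in the imprimitive group `S_m ≀ S_2`. -/

set_option autoImplicit false
set_option linter.style.haveILetI false

namespace Cfsg.Lib.Classical.SymSecondMax

open Equiv
open scoped Pointwise

theorem exists_example (m : ℕ) (hm : 2 ≤ m) :
    ∃ M H K : Subgroup (Perm (Fin (2 * m))), IsCoatom M ∧ M.index = 2 * m ∧ H ≤ M ∧ IsCoatom (H.subgroupOf M) ∧
      IsCoatom K ∧ H ≤ K ∧ ¬ IsCoatom (H.subgroupOf K) := by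
  classical
  haveI : NeZero (2 * m) := ⟨by omega⟩
  haveI : Nontrivial (Fin (2 * m)) := Fin.nontrivial_iff_two_le.mpr (by omega)
  let f : Fin (2 * m) → Fin 2 := fun x => if (x : ℕ) < m then 0 else 1
  let emb : ∀ i : Fin 2, Fin m ≃ {x : Fin (2 * m) // f x = i} := fun i =>
    { toFun := fun j => ⟨⟨(i : ℕ) * m + j, by
          have := j.2; have := i.2; interval_cases (i : ℕ) <;> omega⟩, by
          have := j.2
          fin_cases i <;> simp [f]⟩
      invFun := fun x => ⟨(x.1 : ℕ) - (i : ℕ) * m, by
          have h := x.2; have := x.1.2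
          fin_cases i <;> simp [f] at h ⊢ <;> omega⟩
      left_inv := fun j => Fin.ext (by simp)
      right_inv := fun x => Subtype.ext (Fin.ext (by
          have h := x.2
          fin_cases i <;> simp [f] at h ⊢ <;> omega)) }
  have hf : ∀ i : Fin 2, Nat.card {x : Fin (2 * m) // f x = i} = m := fun i => by
    rw [← Nat.card_congr (emb i), Nat.card_fin]
  let x0 : Fin (2 * m) := ⟨0, by omega⟩
  have hfx0 : f x0 = 0 := by simp [f, x0, show 0 < m by omega]
  let M := MulAction.stabilizer (Perm (Fin (2 * m))) x0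
  let K := Imprimitive.part f
  let H := M ⊓ K
  refine ⟨M, H, K, MulAction.IsPreprimitive.isCoatom_stabilizer_of_isPreprimitive _ x0, ?_, inf_le_left, ?_,
    Imprimitive.isCoatom_part hm le_rfl f hf, inf_le_right, ?_⟩
  · rw [MulAction.index_stabilizer_of_transitive, Nat.card_fin]
  · let e := Cfsg.Lib.Classical.SymIndex.stabEquiv x0
    let A : Set {x : Fin (2 * m) // x ≠ x0} := {x | f x.1 = 0}
    have hkey : ∀ g : M, (g : Perm (Fin (2 * m))) ∈ K ↔ e g ∈ MulAction.stabilizer (Perm {x : Fin (2 * m) // x ≠ x0}) A := by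
      intro g
      have hg : (g : Perm (Fin (2 * m))) x0 = x0 := g.2
      have hmem : e g ∈ MulAction.stabilizer (Perm {x : Fin (2 * m) // x ≠ x0}) A ↔
          ∀ x : {x : Fin (2 * m) // x ≠ x0}, f x.1 = 0 → f ((g : Perm (Fin (2 * m))) x.1) = 0 := by
        rw [MulAction.mem_stabilizer_set_iff_subset_smul_set (Set.toFinite A)]
        constructor
        · intro h x hx
          have : A = e g • A := Set.eq_of_subset_of_ncard_le h (by rw [Set.ncard_smul_set]) (Set.toFinite _)
          have hx' : e g • x ∈ A := this ▸ Set.smul_mem_smul_set hx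
          exact hx'
        · intro h
          have hsub : e g • A ⊆ A := by
            rintro _ ⟨x, hx, rfl⟩
            exact h x hx
          exact (Set.eq_of_subset_of_ncard_le hsub (by rw [Set.ncard_smul_set]) (Set.toFinite _)).ge
      rw [hmem]
      constructor
      · intro h x hx
        exact ((h x.1 x0).mp (hx.trans hfx0.symm)).trans (by rw [hg, hfx0])
      · intro h
        have hall : ∀ x, f x = 0 → f ((g : Perm (Fin (2 * m))) x) = 0 := fun x hx => by
          by_cases hx0 : x = x0
          · rw [hx0, hg, hfx0]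
          · exact h ⟨x, hx0⟩ hx
        let S : Set (Fin (2 * m)) := {x | f x = 0}
        have hS : (g : Perm (Fin (2 * m))) '' S = S :=
          Set.eq_of_subset_of_ncard_le (by rintro _ ⟨x, hx, rfl⟩; exact hall x hx)
            (by rw [Set.ncard_image_of_injective _ (Equiv.injective _)]) (Set.toFinite _)
        have hback : ∀ x, f ((g : Perm (Fin (2 * m))) x) = 0 → f x = 0 := fun x hx => by
          obtain ⟨y, hy, hyx⟩ := (hS.symm ▸ hx : (g : Perm (Fin (2 * m))) x ∈ (g : Perm (Fin (2 * m))) '' S)
          rwa [(g : Perm (Fin (2 * m))).injective hyx] at hy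
        have hiff : ∀ x, f ((g : Perm (Fin (2 * m))) x) = f x := fun x => by
          by_cases hx : f x = 0
          · rw [hall x hx, hx]
          · rw [Fin.eq_one_of_ne_zero _ hx]
            exact Fin.eq_one_of_ne_zero _ (fun hc => hx (hback x hc))
        intro x y
        rw [hiff, hiff]
    have hmap : (H.subgroupOf M).map e.toMonoidHom = MulAction.stabilizer (Perm {x : Fin (2 * m) // x ≠ x0}) A := by
      ext σ
      constructor
      · rintro ⟨g, hg, rfl⟩
        exact (hkey g).mp hg.2
      · intro hσ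
        exact ⟨e.symm σ, ⟨(e.symm σ).2, (hkey _).mpr (by rwa [MulEquiv.apply_symm_apply])⟩,
          e.apply_symm_apply σ⟩
    refine (e.mapSubgroup.isCoatom_iff _).mp ?_
    rw [show e.mapSubgroup (H.subgroupOf M) = _ from hmap]
    refine Equiv.Perm.isCoatom_stabilizer ?_ ?_ ?_
    · refine ⟨⟨⟨1, by omega⟩, fun h => by simpa [x0] using congrArg Fin.val h⟩, ?_⟩
      simp [A, f, show 1 < m by omega]
    · refine ⟨⟨⟨m, by omega⟩, fun h => by
        have := congrArg Fin.val h
        simp [x0] at this
        omega⟩, ?_⟩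
      simp [A, f]
    · intro h
      have h2 : Nat.card {x : Fin (2 * m) // x ≠ x0} = 2 * m - 1 := by
        rw [Nat.card_eq_fintype_card, Fintype.card_subtype_compl, Fintype.card_fin, Fintype.card_subtype_eq]
      omega
  · intro hc
    let N : Subgroup (Perm (Fin (2 * m))) :=
      { carrier := {g | ∀ x, f (g x) = f x}
        one_mem' := fun _ => rfl
        mul_mem' := fun {a b} ha hb x => (ha (b x)).trans (hb x)
        inv_mem' := fun {a} ha x => by simpa using (ha (a⁻¹ x)).symm }
    have hHN : H ≤ N := by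
      rintro g ⟨hg, hk⟩ x
      have hg' : g x0 = x0 := hg
      by_cases hx : f x = 0
      · rw [hx]; exact ((hk x x0).mp (hx.trans hfx0.symm)).trans (by rw [hg', hfx0])
      · have h1 : f (g x) ≠ 0 := fun h => hx (((hk x x0).mpr (h.trans (by rw [hg', hfx0]))).trans hfx0)
        rw [Fin.eq_one_of_ne_zero _ hx, Fin.eq_one_of_ne_zero _ h1]
    have hNK : N ≤ K := fun g hg x y => by rw [hg x, hg y]
    have hsw : swap x0 ⟨1, by omega⟩ ∈ N := by
      intro x
      have key : f x0 = f (⟨1, by omega⟩ : Fin (2 * m)) := by simp [f, x0, show 1 < m by omega, show 0 < m by omega]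
      by_cases h1 : x = x0
      · subst h1; rw [swap_apply_left, key]
      by_cases h2 : x = ⟨1, by omega⟩
      · subst h2; rw [swap_apply_right, key]
      rw [swap_apply_of_ne_of_ne h1 h2]
    have hlt : H.subgroupOf K < N.subgroupOf K := by
      refine SetLike.lt_iff_le_and_exists.mpr ⟨fun g hg => hHN hg, ⟨_, hNK hsw⟩, hsw, fun h => ?_⟩
      have h' : swap x0 (⟨1, by omega⟩ : Fin (2 * m)) x0 = x0 := h.1
      rw [swap_apply_left] at h'
      simpa [x0] using congrArg Fin.val h'
    have htop := hc.2 _ hlt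
    let π : Perm (Fin (2 * m)) := Fin.revPerm
    have hπK : π ∈ K := by
      intro x y
      have hr : ∀ z : Fin (2 * m), f (π z) = if f z = 0 then 1 else 0 := fun z => by
        have := z.2
        by_cases hz : (z : ℕ) < m
        · simp [f, π, Fin.val_rev, hz]; omega
        · simp [f, π, Fin.val_rev, hz]; omega
      rw [hr, hr]
      generalize f x = a, f y = b
      revert a b
      decide
    have hπN : π ∈ N := (htop ▸ Subgroup.mem_top (⟨π, hπK⟩ : K) : (⟨π, hπK⟩ : K) ∈ N.subgroupOf K)
    have := hπN x0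
    simp [f, π, x0, Fin.val_rev, show 0 < m by omega] at this
    omega

end Cfsg.Lib.Classical.SymSecondMax
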