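import Mathlib
import Cfsg.Prelude.Def_GeometricClasses
import Cfsg.Agent.Classical.Misc.InvolutionField
import Cfsg.Agent.Classical.Misc.SimilitudeDerangement

/-! Elements of prime order of `SL_n` and tensor product subgroups. -/

set_option autoImplicit false
set_option linter.unusedSimpArgs false
set_option linter.unusedSectionVars false
set_option linter.unusedVariables false
set_option linter.style.haveILetI false
set_option linter.flexible false

namespace Cfsg.Lib.Classical.TensorDerange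

open Submodule PrimeOrd
open scoped Kronecker

universe u

variable {F : Type u} [Field F] [Fintype F] {n a b : ℕ}

local notation "M" => Matrix (Fin n) (Fin n) F
local notation "MK" => Matrix (Fin a × Fin b) (Fin a × Fin b) F

theorem rank_one_kronecker (B : Matrix (Fin b) (Fin b) F) :
    ((1 : Matrix (Fin a) (Fin a) F) ⊗ₖ B).rank = a * B.rank := by
  classical
  have hmul : ∀ (v : Fin a × Fin b → F) i k, ((1 : Matrix (Fin a) (Fin a) F) ⊗ₖ B).mulVec v (i, k) =
      B.mulVec (fun l => v (i, l)) k := fun v i k => by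
    simp [Matrix.mulVec, dotProduct, Fintype.sum_prod_type, Matrix.one_apply]
  let Φ : (Fin a → LinearMap.range B.mulVecLin) →ₗ[F] (Fin a × Fin b → F) :=
    { toFun := fun f p => (f p.1 : Fin b → F) p.2
      map_add' := fun f f' => rfl
      map_smul' := fun c f => rfl }
  have hΦ : Function.Injective Φ := fun f f' h => funext fun i => Subtype.ext (funext fun k => congrFun h (i, k))
  have hr : LinearMap.range Φ = LinearMap.range ((1 : Matrix (Fin a) (Fin a) F) ⊗ₖ B).mulVecLin := by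
    ext v
    constructor
    · rintro ⟨f, rfl⟩
      choose u hu using fun i => (f i).2
      refine ⟨fun p => u p.1 p.2, funext fun p => ?_⟩
      rw [Matrix.mulVecLin_apply, hmul]
      exact congrFun (hu p.1) p.2
    · rintro ⟨w, rfl⟩
      exact ⟨fun i => ⟨B.mulVec fun l => w (i, l), ⟨_, rfl⟩⟩, funext fun p => (hmul w p.1 p.2).symm⟩
  rw [Matrix.rank, ← hr, LinearMap.finrank_range_of_inj hΦ, Module.finrank_pi_fintype]
  simp [Matrix.rank]

theorem smul_one_kronecker {s : F} (g₂ : Matrix (Fin b) (Fin b) F) (lam : F) :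
    (s • (1 : Matrix (Fin a) (Fin a) F)) ⊗ₖ g₂ - lam • (1 : MK) =
      (1 : Matrix (Fin a) (Fin a) F) ⊗ₖ (s • g₂ - lam • 1) := by
  ext ⟨i, k⟩ ⟨i', k'⟩
  simp [Matrix.one_apply]
  by_cases h : i = i' <;> by_cases h' : k = k' <;> simp [h, h'] <;> ring

/-- A Kronecker product close to a scalar has a scalar first factor. -/
theorem small_kron (hb : 1 ≤ b) (ha : 1 ≤ a) {g₁ : Matrix (Fin a) (Fin a) F} {g₂ : Matrix (Fin b) (Fin b) F}
    (h₁ : g₁.det ≠ 0) (h₂ : g₂.det ≠ 0) {lam : F} (hlam : lam ≠ 0) (hr : (g₁ ⊗ₖ g₂ - lam • (1 : MK)).rank < b) :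
    ∃ B, g₁ ⊗ₖ g₂ - lam • (1 : MK) = (1 : Matrix (Fin a) (Fin a) F) ⊗ₖ B := by
  classical
  set N := g₁ ⊗ₖ g₂ - lam • (1 : MK) with hN
  have hoff : ∀ i k, i ≠ k → g₁ i k = 0 := fun i k hik => by
    by_contra hne
    have h3 := Matrix.rank_submatrix_le N (fun l : Fin b => (i, l)) (fun l : Fin b => (k, l))
    have e : N.submatrix (fun l : Fin b => (i, l)) (fun l : Fin b => (k, l)) = g₁ i k • g₂ := by
      ext l l'
      simp [hN, Matrix.one_apply, hik]
    have h4 : (g₁ i k • g₂).rank = b := by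
      rw [Matrix.rank_of_isUnit _ ((Matrix.isUnit_iff_isUnit_det _).mpr
        (by rw [Matrix.det_smul]; exact (mul_ne_zero (pow_ne_zero _ hne) h₂).isUnit)), Fintype.card_fin]
    rw [e, h4] at h3
    omega
  have heq : ∀ i k, g₁ i i = g₁ k k := fun i k => by
    by_contra hne
    have hik : i ≠ k := fun e => hne (by rw [e])
    let L : Matrix (Fin b) (Fin a × Fin b) F := Matrix.of fun l p =>
      (if p.1 = i then g₁ k k else if p.1 = k then -g₁ i i else 0) * (if l = p.2 then 1 else 0)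
    let R : Matrix (Fin a × Fin b) (Fin b) F := Matrix.of fun p l =>
      (if p.1 = i ∨ p.1 = k then 1 else 0) * (if p.2 = l then 1 else 0)
    have e : L * N * R = (lam * (g₁ i i - g₁ k k)) • (1 : Matrix (Fin b) (Fin b) F) := by
      ext l l'
      rw [Matrix.mul_apply]
      simp only [Matrix.mul_apply, Fintype.sum_prod_type]
      rw [Finset.sum_eq_add i k hik (fun j _ hj => by simp [R, hj.1, hj.2]) (by simp) (by simp)]
      simp only [R, L, Matrix.of_apply, hik, hik.symm, if_true, if_false, true_or, or_true, one_mul, mul_ite, mul_one,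
        mul_zero, Finset.sum_ite_eq', Finset.mem_univ]
      rw [Finset.sum_eq_add i k hik (fun j _ hj => by simp [hj.1, hj.2]) (by simp) (by simp),
        Finset.sum_eq_add i k hik (fun j _ hj => by simp [hj.1, hj.2]) (by simp) (by simp)]
      simp [hN, Matrix.one_apply, hik, hik.symm, hoff i k hik, hoff k i hik.symm]
      by_cases h : l = l' <;> simp [h] <;> ring
    have h4 : ((lam * (g₁ i i - g₁ k k)) • (1 : Matrix (Fin b) (Fin b) F)).rank = b := by
      rw [Matrix.rank_of_isUnit _ ((Matrix.isUnit_iff_isUnit_det _).mpr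
        (by rw [Matrix.det_smul, Matrix.det_one, mul_one]
            exact (pow_ne_zero _ (mul_ne_zero hlam (sub_ne_zero.mpr hne))).isUnit)), Fintype.card_fin]
    have h5 := (Matrix.rank_mul_le_left (L * N) R).trans (Matrix.rank_mul_le_right L N)
    rw [e, h4] at h5
    omega
  let i₀ : Fin a := ⟨0, by omega⟩
  refine ⟨g₁ i₀ i₀ • g₂ - lam • 1, ?_⟩
  have hg : g₁ = g₁ i₀ i₀ • (1 : Matrix (Fin a) (Fin a) F) := by
    ext i k
    by_cases h : i = k
    · subst h; simp [heq i i₀]
    · simp [h, hoff i k h]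
  rw [← smul_one_kronecker, ← hg]

/-- A Kronecker product equal to one has scalar factors. -/
theorem factor_scalar (hb : 1 ≤ b) {g₁ : Matrix (Fin a) (Fin a) F} {g₂ : Matrix (Fin b) (Fin b) F}
    (h : g₁ ⊗ₖ g₂ = (1 : MK)) : ∃ t : F, g₁ = t • 1 := by
  let k₀ : Fin b := ⟨0, hb⟩
  refine ⟨(g₂ k₀ k₀)⁻¹, ?_⟩
  ext i j
  have e : ∀ i' j', g₁ i' j' * g₂ k₀ k₀ = if i' = j' then 1 else 0 := fun i' j' => by
    have := congrFun (congrFun h (i', k₀)) (j', k₀)
    simpa [Matrix.one_apply] using this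
  have hne : g₂ k₀ k₀ ≠ 0 := fun e0 => by
    have := e i i
    simp [e0] at this
  by_cases hij : i = j
  · subst hij
    have := e i i
    rw [if_pos rfl] at this
    simp [eq_inv_of_mul_eq_one_left this]
  · have := e i j
    rw [if_neg hij] at this
    simp [hij, (mul_eq_zero.mp this).resolve_right hne]

/-- The conjugate of an element of the subgroup. -/
theorem extract (e : Fin n ≃ Fin a × Fin b) (P : GL (Fin n) F) {x g : GL (Fin n) F}
    (h : g⁻¹ * x * g ∈ Cfsg.Geo.tensorProductSubgroup a b e P) :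
    ∃ (g₁ : GL (Fin a) F) (g₂ : GL (Fin b) F) (ψ : M ≃ₐ[F] MK), (∀ Y, (ψ Y).rank = Y.rank) ∧
      ψ (x : M) = (g₁ : Matrix (Fin a) (Fin a) F) ⊗ₖ (g₂ : Matrix (Fin b) (Fin b) F) := by
  obtain ⟨g', ⟨k, ⟨g₁, g₂, hk⟩, rfl⟩, he⟩ := h
  set T : GL (Fin n) F := g * P with hT
  let ψ : M ≃ₐ[F] MK :=
    { toFun := fun Y => (Matrix.reindexAlgEquiv F F e) (((T⁻¹ : GL (Fin n) F) : M) * Y * (T : M))
      invFun := fun Y => (T : M) * ((Matrix.reindexAlgEquiv F F e).symm Y) * ((T⁻¹ : GL (Fin n) F) : M)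
      left_inv := fun Y => by simp [mul_assoc, ← Units.val_mul]
      right_inv := fun Y => by
        simp only [mul_assoc, ← Units.val_mul, inv_mul_cancel, Units.val_one, mul_one]
        rw [← mul_assoc, ← Units.val_mul, inv_mul_cancel, Units.val_one, one_mul, AlgEquiv.apply_symm_apply]
      map_mul' := fun Y Z => by
        rw [← map_mul]
        congr 1
        simp only [mul_assoc]
        rw [← mul_assoc (T : M) ((T⁻¹ : GL (Fin n) F) : M), ← Units.val_mul, mul_inv_cancel, Units.val_one, one_mul]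
      map_add' := fun Y Z => by rw [mul_add, add_mul, map_add]
      commutes' := fun c => by
        rw [← Algebra.commutes c ((T⁻¹ : GL (Fin n) F) : M), mul_assoc, ← Units.val_mul, inv_mul_cancel, Units.val_one,
          mul_one, AlgEquiv.commutes] }
  refine ⟨g₁, g₂, ψ, fun Y => ?_, ?_⟩
  · show (Matrix.reindex e e (((T⁻¹ : GL (Fin n) F) : M) * Y * (T : M))).rank = Y.rank
    rw [Matrix.rank_reindex, Matrix.rank_mul_eq_left_of_isUnit_det _ _ ((Matrix.isUnit_iff_isUnit_det _).mp T.isUnit),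
      Matrix.rank_mul_eq_right_of_isUnit_det _ _ ((Matrix.isUnit_iff_isUnit_det _).mp (T⁻¹).isUnit)]
  · have h1 : T⁻¹ * x * T = Cfsg.Geo.glReindex e.symm k := by
      have h2 : P * Cfsg.Geo.glReindex e.symm k * P⁻¹ = g⁻¹ * x * g := he
      rw [hT, show (g * P)⁻¹ * x * (g * P) = P⁻¹ * (g⁻¹ * x * g) * P by group, ← h2]
      group
    show (Matrix.reindexAlgEquiv F F e) (((T⁻¹ : GL (Fin n) F) : M) * (x : M) * (T : M)) = _
    rw [← Units.val_mul, ← Units.val_mul, h1, ← hk]
    show (Matrix.reindexAlgEquiv F F e) ((Matrix.reindexAlgEquiv F F e.symm) (k : MK)) = _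
    ext i j
    simp

/-- An element near a scalar in the subgroup. -/
theorem near_scalar (e : Fin n ≃ Fin a × Fin b) (P : GL (Fin n) F) (ha : 1 ≤ a) (hb : 1 ≤ b) {x g : GL (Fin n) F}
    {lam : F} (hlam : lam ≠ 0) {N : M} (hx : (x : M) = lam • 1 + N) (hr : N.rank < b)
    (h : g⁻¹ * x * g ∈ Cfsg.Geo.tensorProductSubgroup a b e P) :
    ∃ (B : Matrix (Fin b) (Fin b) F) (ψ : M ≃ₐ[F] MK), (∀ Y, (ψ Y).rank = Y.rank) ∧
      ψ N = (1 : Matrix (Fin a) (Fin a) F) ⊗ₖ B := by
  obtain ⟨g₁, g₂, ψ, hψ, hψx⟩ := extract e P h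
  have e1 : ψ N = (g₁ : Matrix (Fin a) (Fin a) F) ⊗ₖ (g₂ : Matrix (Fin b) (Fin b) F) - lam • (1 : MK) := by
    rw [← hψx, hx, map_add, map_smul, map_one, add_sub_cancel_left]
  obtain ⟨B, hB⟩ := small_kron hb ha ((Matrix.isUnit_iff_isUnit_det _).mp g₁.isUnit).ne_zero
    ((Matrix.isUnit_iff_isUnit_det _).mp g₂.isUnit).ne_zero hlam (by rw [← e1, hψ]; exact hr)
  exact ⟨B, ψ, hψ, e1.trans hB⟩

/-- An element whose order is prime to the order of `GL_a`. -/
theorem big_order (e : Fin n ≃ Fin a × Fin b) (P : GL (Fin n) F) (ha : 1 ≤ a) (hb : 1 ≤ b) {r : ℕ} [Fact r.Prime]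
    (hGL : ¬ r ∣ Nat.card (GL (Fin a) F)) (hnd : ¬ r ∣ Fintype.card F - 1) {x g : GL (Fin n) F} (hxr : (x : M) ^ r = 1)
    (h : g⁻¹ * x * g ∈ Cfsg.Geo.tensorProductSubgroup a b e P) :
    ∃ (B : Matrix (Fin b) (Fin b) F) (ψ : M ≃ₐ[F] MK), (∀ Y, (ψ Y).rank = Y.rank) ∧
      ψ ((x : M) - 1) = (1 : Matrix (Fin a) (Fin a) F) ⊗ₖ B := by
  classical
  have hrp : r.Prime := Fact.out
  obtain ⟨g₁, g₂, ψ, hψ, hψx⟩ := extract e P h
  have hk : ∀ j : ℕ, ((g₁ : Matrix (Fin a) (Fin a) F) ⊗ₖ (g₂ : Matrix (Fin b) (Fin b) F)) ^ j =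
      ((g₁ : Matrix (Fin a) (Fin a) F) ^ j) ⊗ₖ ((g₂ : Matrix (Fin b) (Fin b) F) ^ j) := fun j => by
    induction j with
    | zero => simp
    | succ j ih => rw [pow_succ, ih, ← Matrix.mul_kronecker_mul, ← pow_succ, ← pow_succ]
  obtain ⟨t, ht⟩ : ∃ t : F, (g₁ : Matrix (Fin a) (Fin a) F) ^ r = t • 1 :=
    factor_scalar hb (by rw [← hk, ← hψx, ← map_pow, hxr, map_one])
  have ht0 : t ≠ 0 := fun e0 => by
    have := congrArg Matrix.det ht
    haveI hne : Nonempty (Fin a) := Fin.pos_iff_nonempty.mp ha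
    rw [e0, zero_smul, Matrix.det_pow, Matrix.det_zero] at this
    exact pow_ne_zero r ((Matrix.isUnit_iff_isUnit_det _).mp g₁.isUnit).ne_zero this
  set Q := Fintype.card F - 1
  have hQ : g₁ ^ Q = 1 := by
    have h1 : (g₁ ^ Q) ^ r = 1 := Units.ext (by
      rw [← pow_mul, mul_comm, pow_mul, Units.val_pow_eq_pow_val, Units.val_pow_eq_pow_val, ht, smul_pow, one_pow,
        FiniteField.pow_card_sub_one_eq_one t ht0, one_smul, Units.val_one])
    have h2 : (g₁ ^ Q) ^ Nat.card (GL (Fin a) F) = 1 := pow_card_eq_one'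
    have h3 := (pow_gcd_eq_one (a := g₁ ^ Q) (m := r) (n := Nat.card (GL (Fin a) F))).mpr ⟨h1, h2⟩
    rwa [(hrp.coprime_iff_not_dvd.mpr hGL).gcd_eq_one, pow_one] at h3
  obtain ⟨s, hs⟩ : ∃ s : F, (g₁ : Matrix (Fin a) (Fin a) F) = s • 1 := by
    have hQ0 : 0 < Q := Nat.sub_pos_of_lt Fintype.one_lt_card
    rcases Nat.lt_or_ge Q 2 with hQ1 | hQ1
    · have hQ' : Q = 1 := by omega
      exact ⟨1, by rw [hQ', pow_one] at hQ; rw [hQ, one_smul]; rfl⟩
    obtain ⟨u, hu⟩ := Nat.exists_mul_mod_eq_one_of_coprime (hrp.coprime_iff_not_dvd.mpr hnd) hQ1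
    refine ⟨t ^ u, ?_⟩
    have h4 : (g₁ ^ r) ^ u = g₁ := by
      rw [← pow_mul, ← Nat.div_add_mod (r * u) Q, hu.2, pow_add, pow_mul, hQ, one_pow, one_mul, pow_one]
    rw [← h4, Units.val_pow_eq_pow_val, Units.val_pow_eq_pow_val, ht, smul_pow, one_pow]
  refine ⟨s • (g₂ : Matrix (Fin b) (Fin b) F) - (1 : F) • 1, ψ, hψ, ?_⟩
  rw [map_sub, map_one, hψx, hs, ← smul_one_kronecker, one_smul]

/-- Small rank not divisible by `a`. -/
theorem not_small (e : Fin n ≃ Fin a × Fin b) (P : GL (Fin n) F) (ha : 1 ≤ a) (hb : 1 ≤ b) {x : GL (Fin n) F}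
    {lam : F} (hlam : lam ≠ 0) {N : M} (hx : (x : M) = lam • 1 + N) (hr : N.rank < b) (hd : ¬ a ∣ N.rank)
    (g : GL (Fin n) F) : g⁻¹ * x * g ∉ Cfsg.Geo.tensorProductSubgroup a b e P := fun h => by
  obtain ⟨B, ψ, hψ, hN⟩ := near_scalar e P ha hb hlam hx hr h
  exact hd ⟨B.rank, by rw [← hψ N, hN, rank_one_kronecker]⟩

/-- Two different eigenvalues of multiplicity one. -/
theorem not_poly (e : Fin n ≃ Fin a × Fin b) (P : GL (Fin n) F) (ha : 1 ≤ a) (hb : 1 ≤ b) {x : GL (Fin n) F}
    {lam : F} (hlam : lam ≠ 0) {N : M} (hx : (x : M) = lam • 1 + N) (hr : N.rank < b) (c : F)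
    (hd : ¬ a ∣ (N * (N - c • 1)).rank)
    (g : GL (Fin n) F) : g⁻¹ * x * g ∉ Cfsg.Geo.tensorProductSubgroup a b e P := fun h => by
  obtain ⟨B, ψ, hψ, hN⟩ := near_scalar e P ha hb hlam hx hr h
  refine hd ⟨(B * (B - c • 1)).rank, ?_⟩
  rw [← hψ (N * (N - c • 1)), map_mul, map_sub, map_smul, map_one, hN, ← rank_one_kronecker]
  congr 1
  rw [← Matrix.one_kronecker_one, ← Matrix.kronecker_smul, show (1 : Matrix (Fin a) (Fin a) F) ⊗ₖ B -
    (1 : Matrix (Fin a) (Fin a) F) ⊗ₖ (c • (1 : Matrix (Fin b) (Fin b) F)) = (1 : Matrix (Fin a) (Fin a) F) ⊗ₖ (B - c • 1) by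
      ext ⟨i, k⟩ ⟨i', k'⟩; simp [Matrix.one_apply]; by_cases h : i = i' <;> simp [h],
    ← Matrix.mul_kronecker_mul, one_mul]

/-- One irreducible block. -/
theorem not_block (e : Fin n ≃ Fin a × Fin b) (P : GL (Fin n) F) (ha : 2 ≤ a) (hab : a < b) {r : ℕ} [Fact r.Prime]
    (hr : (r : F) ≠ 0) (hrF : ¬ r ∣ Fintype.card F) {c : ℕ} (hc : c = orderOf (Fintype.card F : ZMod r)) (h2 : 2 ≤ c)
    {x : GL (Fin n) F} (hxr : (x : M) ^ r = 1) (hrank : ((x : M) - 1).rank = c)
    (g : GL (Fin n) F) : g⁻¹ * x * g ∉ Cfsg.Geo.tensorProductSubgroup a b e P := by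
  classical
  intro h
  have hrp : r.Prime := Fact.out
  have hnd : ¬ r ∣ Fintype.card F - 1 := fun hd => by
    have := (PrimeOrd.dvd_pow_sub_one (F := F) (r := r) 1).mp (by rwa [pow_one])
    rw [← hc, Nat.dvd_one] at this
    omega
  obtain ⟨B, ψ, hψ, hN⟩ : ∃ (B : Matrix (Fin b) (Fin b) F) (ψ : M ≃ₐ[F] MK), (∀ Y, (ψ Y).rank = Y.rank) ∧
      ψ ((x : M) - 1) = (1 : Matrix (Fin a) (Fin a) F) ⊗ₖ B := by
    by_cases hcb : c < b
    · exact near_scalar e P (by omega) (by omega) one_ne_zero (N := (x : M) - 1)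
        (by rw [one_smul, add_sub_cancel]) (by rw [hrank]; exact hcb) h
    · refine big_order e P (by omega) (by omega) (fun hd => ?_) hnd hxr h
      rw [Matrix.card_GL_field] at hd
      obtain ⟨i, -, hi⟩ := (Prime.dvd_finsetProd_iff hrp.prime _).mp hd
      rw [show Fintype.card F ^ a - Fintype.card F ^ (i : ℕ) = Fintype.card F ^ (i : ℕ) * (Fintype.card F ^ (a - i) - 1) by
        rw [Nat.mul_sub_one, ← pow_add, Nat.add_sub_cancel' i.isLt.le]] at hi
      rcases hrp.dvd_mul.mp hi with hi | hi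
      · exact hrF (hrp.dvd_of_dvd_pow hi)
      · have h3 := Nat.le_of_dvd (Nat.sub_pos_of_lt i.isLt) ((PrimeOrd.dvd_pow_sub_one _).mp hi)
        rw [← hc] at h3
        omega
  have hrk : c = a * B.rank := by rw [← hrank, ← hψ, hN, rank_one_kronecker]
  have hy : (1 + B) ^ r = 1 := by
    have h1 : ψ ((x : M)) ^ r = 1 := by rw [← map_pow, hxr, map_one]
    have h2 : ψ (x : M) = (1 : Matrix (Fin a) (Fin a) F) ⊗ₖ (1 + B) := by
      rw [Matrix.kronecker_add, ← hN, Matrix.one_kronecker_one, map_sub, map_one, add_sub_cancel]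
    rw [h2] at h1
    have h3 : ∀ j : ℕ, ((1 : Matrix (Fin a) (Fin a) F) ⊗ₖ (1 + B)) ^ j = (1 : Matrix (Fin a) (Fin a) F) ⊗ₖ ((1 + B) ^ j) :=
      fun j => by
        induction j with
        | zero => simp
        | succ j ih => rw [pow_succ, ih, ← Matrix.mul_kronecker_mul, one_mul, ← pow_succ]
    rw [h3] at h1
    ext k k'
    have := congrFun (congrFun h1 (⟨0, by omega⟩, k)) (⟨0, by omega⟩, k')
    simpa [Matrix.one_apply] using this
  have hT : Matrix.toLin' (1 + B) ^ r = 1 := by rw [← Matrix.toLin'_pow, hy, Matrix.toLin'_one]; rfl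
  have hmov : Module.finrank F (mov (Matrix.toLin' (1 + B))) = B.rank := by
    rw [Matrix.rank, mov, map_add, Matrix.toLin'_one,
      show (LinearMap.id : (Fin b → F) →ₗ[F] (Fin b → F)) + Matrix.toLin' B - 1 = Matrix.toLin' B from
        add_sub_cancel_left (1 : Module.End F (Fin b → F)) _]
    rw [← Matrix.toLin'_apply']
  obtain ⟨k, hk⟩ : c ∣ B.rank := by
    rw [← hmov, hc]
    exact dvd_of_fpf (r := r) hT (inv_mov _) (disjoint_iff.mp (isCompl_fix_mov hr hT).symm.disjoint)
  rw [hk, ← mul_assoc] at hrk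
  rcases k with _ | k
  · simp at hrk; omega
  · nlinarith

/-- Conjugating into the subgroup. -/
theorem conj_kron (e : Fin n ≃ Fin a × Fin b) (P : GL (Fin n) F) (x : Matrix.SpecialLinearGroup (Fin n) F)
    (G₁ : Matrix (Fin a) (Fin a) F) (G₂ : Matrix (Fin b) (Fin b) F) (h₁ : G₁.det ≠ 0) (h₂ : G₂.det ≠ 0)
    (w : Module.Basis (Fin a × Fin b) F (Fin n → F))
    (hw : ∀ q, (x : M).mulVec (w q) = ∑ p, (G₁ ⊗ₖ G₂) p q • w p)
    (hD : ∀ δ : F, δ ≠ 0 → ∃ D : MK, D.det = δ ∧ D * (G₁ ⊗ₖ G₂) = (G₁ ⊗ₖ G₂) * D) :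
    ∃ g ∈ Cfsg.Geo.specialLinear (Fin n) F,
      g⁻¹ * Matrix.SpecialLinearGroup.toGL x * g ∈ Cfsg.Geo.tensorProductSubgroup a b e P := by
  classical
  let φ : MK ≃ₐ[F] M := Matrix.reindexAlgEquiv F F e.symm
  have hD' : ∀ δ : F, δ ≠ 0 → ∃ D : M, D.det = δ ∧ D * φ (G₁ ⊗ₖ G₂) = φ (G₁ ⊗ₖ G₂) * D := fun δ hδ => by
    obtain ⟨D, h1, h2⟩ := hD δ hδ
    exact ⟨φ D, by rw [Matrix.det_reindexAlgEquiv, h1], by rw [← map_mul, ← map_mul, h2]⟩
  obtain ⟨P₁, hP₁⟩ := InvolForm.sl_conj x (φ (G₁ ⊗ₖ G₂)) (w.reindex e.symm) (fun j => by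
    rw [Module.Basis.reindex_apply, hw, ← e.symm.sum_comp]
    simp [φ]) hD'
  have hPd : (P : M).det ≠ 0 := ((Matrix.isUnit_iff_isUnit_det _).mp P.isUnit).ne_zero
  obtain ⟨D, hDd, hDc⟩ := hD' _ (inv_ne_zero hPd)
  let R : Matrix.SpecialLinearGroup (Fin n) F := ⟨(P : M) * D, by rw [Matrix.det_mul, hDd, mul_inv_cancel₀ hPd]⟩
  let G₁' : GL (Fin a) F := Matrix.GeneralLinearGroup.mkOfDetNeZero G₁ h₁
  let G₂' : GL (Fin b) F := Matrix.GeneralLinearGroup.mkOfDetNeZero G₂ h₂
  have hkd : (G₁ ⊗ₖ G₂).det ≠ 0 := by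
    rw [Matrix.det_kronecker]
    exact mul_ne_zero (pow_ne_zero _ h₁) (pow_ne_zero _ h₂)
  let k : GL (Fin a × Fin b) F := Matrix.GeneralLinearGroup.mkOfDetNeZero (G₁ ⊗ₖ G₂) hkd
  refine ⟨Matrix.SpecialLinearGroup.toGL (P₁ * R⁻¹), Units.ext (by
    rw [Matrix.GeneralLinearGroup.val_det_apply]; exact (P₁ * R⁻¹).2),
    ⟨Cfsg.Geo.glReindex e.symm k, ⟨k, ⟨G₁', G₂', rfl⟩, rfl⟩, ?_⟩⟩
  show P * Cfsg.Geo.glReindex e.symm k * P⁻¹ = _
  rw [← map_inv, ← map_mul, ← map_mul,
    show (P₁ * R⁻¹)⁻¹ * x * (P₁ * R⁻¹) = R * (P₁⁻¹ * x * P₁) * R⁻¹ by group, map_mul, map_mul, map_inv]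
  set K : GL (Fin n) F := Cfsg.Geo.glReindex e.symm k
  have hK : Matrix.SpecialLinearGroup.toGL (P₁⁻¹ * x * P₁) = K := Units.ext hP₁
  have hR : Matrix.SpecialLinearGroup.toGL R = P * Matrix.GeneralLinearGroup.mkOfDetNeZero D (hDd ▸ inv_ne_zero hPd) :=
    Units.ext rfl
  have hcm : Matrix.GeneralLinearGroup.mkOfDetNeZero D (hDd ▸ inv_ne_zero hPd) * K =
      K * Matrix.GeneralLinearGroup.mkOfDetNeZero D (hDd ▸ inv_ne_zero hPd) := Units.ext hDc
  rw [hK, hR, mul_inv_rev, mul_assoc P _ K, hcm]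
  group

/-- Involutions when `a = 2`. -/
theorem good (e : Fin n ≃ Fin 2 × Fin b) (P : GL (Fin n) F) (hb : 1 ≤ b) (h2 : ringChar F ≠ 2)
    (hv : padicValNat 2 (Fintype.card F - 1) ≤ padicValNat 2 n) (x : GL (Fin n) F)
    (hxs : x ∈ Cfsg.Geo.specialLinear (Fin n) F) {z : F} (hx : ((x ^ 2 : GL (Fin n) F) : M) = z • (1 : M))
    (hns : ∀ z : F, (x : M) ≠ z • (1 : M)) :
    ∃ g ∈ Cfsg.Geo.specialLinear (Fin n) F, g⁻¹ * x * g ∈ Cfsg.Geo.tensorProductSubgroup 2 b e P := by
  classical
  have hn : n = 2 * b := by simpa using Fintype.card_congr e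
  have hdet : (x : M).det = 1 := by
    have := congrArg Units.val (show Matrix.GeneralLinearGroup.det x = 1 from hxs)
    rwa [Matrix.GeneralLinearGroup.val_det_apply] at this
  let xs : Matrix.SpecialLinearGroup (Fin n) F := ⟨(x : M), hdet⟩
  have hxx : Matrix.SpecialLinearGroup.toGL xs = x := Units.ext rfl
  obtain ⟨z, hz, hT⟩ := InvolForm.square_data (by omega) xs ⟨z, by
    rw [Matrix.SpecialLinearGroup.coe_pow]; rw [Units.val_pow_eq_pow_val] at hx; exact hx⟩
  have h20 : (2 : F) ≠ 0 := Ring.two_ne_zero h2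
  by_cases hs : IsSquare z
  · obtain ⟨β, rfl⟩ := hs
    have hβ : β ≠ 0 := left_ne_zero_of_mul hz
    rw [← sq] at hT hz
    obtain ⟨hy, -⟩ := normalise hz rfl two_ne_zero hT
    set y : Module.End F (Fin n → F) := β⁻¹ • Matrix.toLin' (xs : M) with hyd
    have hxy : Matrix.toLin' (xs : M) = β • y := by rw [hyd, smul_smul, mul_inv_cancel₀ hβ, one_smul]
    have hc := isCompl_fix_mov (x := y) (r := 2) (by exact_mod_cast h20) hy
    have hneg : ∀ v ∈ mov y, y v = -v := by
      rintro _ ⟨u, rfl⟩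
      have h : y (y u) = u := by rw [← Module.End.mul_apply, ← sq, hy]; rfl
      simp [h]
    let bS := ((Module.finBasis F (fix y)).prod (Module.finBasis F (mov y))).map (prodEquivOfIsCompl _ _ hc)
    have hb1 : ∀ i, y (bS (Sum.inl i)) = bS (Sum.inl i) := fun i => by
      simp [bS, mem_fix.mp (Module.finBasis F (fix y) i).2]
    have hb2 : ∀ i, y (bS (Sum.inr i)) = -bS (Sum.inr i) := fun i => by
      simp [bS, hneg _ (Module.finBasis F (mov y) i).2]
    have hsum : Module.finrank F (fix y) + Module.finrank F (mov y) = n := by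
      rw [finrank_add_eq_of_isCompl hc, Module.finrank_fintype_fun_eq_card, Fintype.card_fin]
    obtain ⟨l, hl⟩ : Even (Module.finrank F (mov y)) := by
      by_contra hodd
      rw [Nat.not_even_iff_odd] at hodd
      have hD : LinearMap.toMatrix bS bS y = Matrix.diagonal (Sum.elim (fun _ => (1 : F)) fun _ => (-1 : F)) := by
        ext i j
        rw [LinearMap.toMatrix_apply]
        rcases j with k | k
        · rw [hb1, Module.Basis.repr_self, Matrix.diagonal_apply, Finsupp.single_apply]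
          by_cases h : i = Sum.inl k
          · subst h; simp
          · simp [h, Ne.symm h]
        · rw [hb2, map_neg, Module.Basis.repr_self, Finsupp.neg_apply, Matrix.diagonal_apply, Finsupp.single_apply]
          by_cases h : i = Sum.inr k
          · subst h; simp
          · simp [h, Ne.symm h]
      have hdy : LinearMap.det y = -1 := by
        rw [← LinearMap.det_toMatrix bS, hD, Matrix.det_diagonal, Fintype.prod_sum_type]
        simp [hodd.neg_one_pow]
      have h1 : LinearMap.det (Matrix.toLin' (xs : M)) = 1 := by rw [LinearMap.det_toLin', xs.2]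
      rw [hxy, LinearMap.det_smul, hdy, Module.finrank_fintype_fun_eq_card, Fintype.card_fin] at h1
      exact InvolSim.pow_ne_neg_one h20 hβ (by omega) hv (by linear_combination -h1)
    let E : (Fin 2 × Fin (b - l)) ⊕ (Fin 2 × Fin l) ≃ Fin (Module.finrank F (fix y)) ⊕ Fin (Module.finrank F (mov y)) :=
      Equiv.sumCongr (finProdFinEquiv.trans (finCongr (by omega))) (finProdFinEquiv.trans (finCongr (by omega)))
    let S : Fin (b - l) ⊕ Fin l ≃ Fin b := finSumFinEquiv.trans (finCongr (by omega))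
    let w := bS.reindex ((((Equiv.prodSumDistrib (Fin 2) (Fin (b - l)) (Fin l)).trans E).symm).trans
      (Equiv.prodCongr (Equiv.refl _) S))
    let d : Fin b → F := fun i => Sum.elim (fun _ => β) (fun _ => -β) (S.symm i)
    obtain ⟨g, hg, hg'⟩ := conj_kron e P xs 1 (Matrix.diagonal d) (by simp)
      (by rw [Matrix.det_diagonal]
          refine Finset.prod_ne_zero_iff.mpr fun i _ => ?_
          simp only [d]
          rcases S.symm i with k | k <;> simp [hβ]) w
      (fun q => by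
        obtain ⟨c, i⟩ := q
        obtain ⟨i, rfl⟩ := S.surjective i
        rw [Finset.sum_eq_single (c, S i) (fun p _ hp => by
          obtain ⟨c', i'⟩ := p
          by_cases h : c' = c
          · subst h
            have : i' ≠ S i := fun h => hp (by rw [h])
            simp [Matrix.diagonal_apply, this]
          · simp [Matrix.one_apply, h]) (by simp)]
        rw [← Matrix.toLin'_apply, hxy, LinearMap.smul_apply]
        rcases i with i | i
        · have : w (c, S (Sum.inl i)) = bS (Sum.inl (finCongr (by omega) (finProdFinEquiv (c, i)))) := by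
            simp [w, E, Module.Basis.reindex_apply]
          rw [this, hb1]
          simp [d]
        · have : w (c, S (Sum.inr i)) = bS (Sum.inr (finCongr (by omega) (finProdFinEquiv (c, i)))) := by
            simp [w, E, Module.Basis.reindex_apply]
          rw [this, hb2]
          simp [d])
      (fun δ hδ => by
        let p₀ : Fin 2 × Fin b := (0, ⟨0, hb⟩)
        refine ⟨Matrix.diagonal (Function.update (fun _ => 1) p₀ δ), ?_, ?_⟩
        · rw [Matrix.det_diagonal, Finset.prod_update_of_mem (Finset.mem_univ _)]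
          simp
        · rw [← Matrix.diagonal_one, Matrix.diagonal_kronecker_diagonal, Matrix.diagonal_mul_diagonal,
            Matrix.diagonal_mul_diagonal]
          simp [mul_comm])
    exact ⟨g, hg, hxx ▸ hg'⟩
  · obtain ⟨m, w, hw⟩ := InvolField.exists_halves (Matrix.toLin' (xs : M)) (t := 0) (c := z)
      (fun r hr => hs ⟨r, by linear_combination -hr⟩)
      (fun v => by
        have h := LinearMap.congr_fun hT v
        rw [sq, Module.End.mul_apply] at h
        simpa using h)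
    obtain rfl : m = b := by
      have h1 := Module.finrank_eq_card_basis w
      simp only [Module.finrank_fintype_fun_eq_card, Fintype.card_fin, Fintype.card_prod] at h1
      omega
    obtain ⟨g, hg, hg'⟩ := conj_kron e P xs (!![0, z; 1, 0]) 1 (by simp [Matrix.det_fin_two, hz]) (by simp) w
      (fun q => by
        obtain ⟨c, i⟩ := q
        rw [← Matrix.toLin'_apply, hw, Fintype.sum_prod_type]
        refine Finset.sum_congr rfl fun d _ => ?_
        rw [Finset.sum_eq_single i (fun k _ hk => by simp [Matrix.one_apply, hk]) (by simp)]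
        simp [Matrix.one_apply])
      (fun δ hδ => by
        obtain ⟨u, v, huv⟩ := InvolField.norm_odd h2 hz δ
        let C : Matrix (Fin 2) (Fin 2) F := !![u, z * v; v, u]
        have hC : C * !![0, z; 1, 0] = !![0, z; 1, 0] * C := by
          ext p q
          fin_cases p <;> fin_cases q <;> simp [C, Matrix.mul_apply, Fin.sum_univ_two] <;> ring
        let i₀ : Fin m := ⟨0, hb⟩
        refine ⟨Matrix.blockDiagonal fun i => if i = i₀ then C else 1, ?_, ?_⟩
        · rw [Matrix.det_blockDiagonal, Finset.prod_eq_single i₀ (fun i _ hi => by rw [if_neg hi, Matrix.det_one])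
            (by simp), if_pos rfl]
          simp [C, Matrix.det_fin_two]
          linear_combination huv
        · rw [Matrix.kronecker_one, ← Matrix.blockDiagonal_mul, ← Matrix.blockDiagonal_mul]
          congr 1
          funext i
          split_ifs with h
          · exact hC
          · rw [one_mul, mul_one])
    exact ⟨g, hg, hxx ▸ hg'⟩

/-- The derangements. -/
theorem bad {p : ℕ} [Fact p.Prime] [CharP F p] (e : Fin n ≃ Fin a × Fin b) (P : GL (Fin n) F) (ha : 2 ≤ a)
    (hab : a < b) {r : ℕ} [Fact r.Prime]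
    (hΩ : r ∣ (Cfsg.Geo.tensorProductSubgroup a b e P).relIndex (Cfsg.Geo.specialLinear (Fin n) F))
    (hcond : ¬ (r = 2 ∧ a = 2 ∧ Odd (Fintype.card F) ∧ padicValNat 2 (Fintype.card F - 1) ≤ padicValNat 2 n)) :
    ∃ x ∈ Cfsg.Geo.specialLinear (Fin n) F, (∃ z : F, ((x ^ r : GL (Fin n) F) : M) = z • (1 : M)) ∧
      (∀ z : F, (x : M) ≠ z • (1 : M)) ∧
      ∀ g : GL (Fin n) F, g⁻¹ * x * g ∉ Cfsg.Geo.tensorProductSubgroup a b e P := by
  classical
  have hn : n = a * b := by simpa using Fintype.card_congr e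
  have hn4 : 4 < n := by rw [hn]; nlinarith
  have hrp : r.Prime := Fact.out
  have hpp : p.Prime := Fact.out
  haveI : Nonempty (Fin n) := ⟨⟨0, by omega⟩⟩
  have mem : ∀ x : Matrix.SpecialLinearGroup (Fin n) F,
      Matrix.SpecialLinearGroup.toGL x ∈ Cfsg.Geo.specialLinear (Fin n) F := fun x =>
    Units.ext (by rw [Matrix.GeneralLinearGroup.val_det_apply]; exact x.2)
  have fin : ∀ (x : Matrix.SpecialLinearGroup (Fin n) F) (z : F), (x : M) ^ r = z • (1 : M) →
      ∃ z : F, ((Matrix.SpecialLinearGroup.toGL x ^ r : GL (Fin n) F) : M) = z • (1 : M) := fun x z h =>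
    ⟨z, by rw [Units.val_pow_eq_pow_val]; exact h⟩
  let i₀ : Fin n := ⟨0, by omega⟩
  let i₁ : Fin n := ⟨1, by omega⟩
  let i₂ : Fin n := ⟨2, by omega⟩
  have h01 : i₀ ≠ i₁ := by simp [i₀, i₁]
  have h02 : i₀ ≠ i₂ := by simp [i₀, i₂]
  have h12 : i₁ ≠ i₂ := by simp [i₁, i₂]
  have a1 : ¬ a ∣ 1 := fun h => by have := Nat.le_of_dvd one_pos h; omega
  by_cases hpr : r = p
  · subst hpr
    let x : Matrix.SpecialLinearGroup (Fin n) F :=
      ⟨Matrix.transvection i₀ i₁ 1, Matrix.det_transvection_of_ne _ _ h01 1⟩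
    have hN : (Matrix.single i₀ i₁ (1 : F)).rank = 1 := by
      refine le_antisymm ?_ ?_
      · rw [show Matrix.single i₀ i₁ (1 : F) = Matrix.vecMulVec (Pi.single i₀ 1) (Pi.single i₁ 1) by
          ext s t; simp [Matrix.vecMulVec, Matrix.single, Pi.single_apply]; aesop]
        exact Matrix.rank_vecMulVec_le _ _
      · have h3 := Matrix.rank_submatrix_le (Matrix.single i₀ i₁ (1 : F)) (fun _ : Fin 1 => i₀) (fun _ : Fin 1 => i₁)
        have h4 : (Matrix.single i₀ i₁ (1 : F)).submatrix (fun _ : Fin 1 => i₀) (fun _ : Fin 1 => i₁) = 1 := by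
          ext s t; simp [Matrix.one_apply, Subsingleton.elim s t]
        rw [h4, Matrix.rank_one, Fintype.card_fin] at h3
        exact h3
    refine ⟨_, mem x, fin x 1 ?_, fun z hz => ?_, not_small e P (by omega) (by omega) one_ne_zero
      (N := Matrix.single i₀ i₁ (1 : F)) (by rw [one_smul]; rfl) (by rw [hN]; omega) (by rw [hN]; exact a1)⟩
    · show Matrix.transvection i₀ i₁ (1 : F) ^ r = _
      rw [Matrix.transvection, add_pow_char_of_commute r (Commute.one_left _), one_pow, one_smul,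
        pow_eq_zero_of_le hrp.two_le (by rw [sq, Matrix.single_mul_single_of_ne _ _ _ _ h01.symm]), add_zero]
    · have := congrFun (congrFun (show (x : M) = z • 1 from hz) i₀) i₁
      simp [x, Matrix.transvection, Matrix.one_apply, h01] at this
  obtain ⟨ee, -, hee⟩ := FiniteField.card F p
  have hrF : ¬ r ∣ Fintype.card F := fun h => hpr ((Nat.prime_dvd_prime_iff_eq hrp hpp).mp
    (hrp.dvd_of_dvd_pow (hee ▸ h)))
  have hr : (r : F) ≠ 0 := fun h => hpr ((Nat.prime_dvd_prime_iff_eq hpp hrp).mp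
    ((CharP.cast_eq_zero_iff F p r).mp h)).symm
  have dg : ∀ (d : Fin n → F) (hd : ∏ i, d i = 1) (lam : F), Matrix.diagonal d = lam • (1 : M) + Matrix.diagonal (fun i => d i - lam) :=
    fun d hd lam => by
      rw [Matrix.smul_one_eq_diagonal, Matrix.diagonal_add]
      simp
  have drk : ∀ (f : Fin n → F) (S : Finset (Fin n)), (∀ i, f i ≠ 0 ↔ i ∈ S) → (Matrix.diagonal f).rank = S.card :=
    fun f S h => by
      rw [Matrix.rank_diagonal, Fintype.card_subtype]
      congr 1
      ext i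
      simp [h]
  by_cases hr2 : r = 2
  · subst hr2
    have h20 : (2 : F) ≠ 0 := by exact_mod_cast hr
    have hodd : Odd (Fintype.card F) := Nat.odd_iff.mpr (FiniteField.odd_card_of_char_ne_two fun h => by
      haveI : CharP F 2 := ringChar.of_eq h
      exact h20 (by exact_mod_cast CharP.cast_eq_zero F 2))
    have hneg : (-1 : F) ≠ 1 := fun h => h20 (by linear_combination -h)
    by_cases ha2 : a = 2
    · have hv : padicValNat 2 n < padicValNat 2 (Fintype.card F - 1) :=
        not_le.mp fun h => hcond ⟨rfl, ha2, hodd, h⟩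
      obtain ⟨β, hβ, -, hβn⟩ := InvolSim.exists_neg_one_root (F := F) (show n ≠ 0 by omega) hv
      let d : Fin n → F := fun i => if i = i₀ then -β else β
      have hd : ∏ i, d i = 1 := by
        calc ∏ i, d i = ∏ i, β * (if i = i₀ then (-1 : F) else 1) :=
              Finset.prod_congr rfl fun i _ => by simp only [d]; split_ifs <;> ring
          _ = 1 := by rw [Finset.prod_mul_distrib, Finset.prod_const, Finset.card_univ, Fintype.card_fin, hβn,
              Finset.prod_ite_eq']; simp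
      let x : Matrix.SpecialLinearGroup (Fin n) F := ⟨Matrix.diagonal d, by rw [Matrix.det_diagonal, hd]⟩
      have hk := drk (fun i => d i - β) {i₀} (fun i => by
        simp only [d, Finset.mem_singleton]
        split_ifs with h
        · simp [h]; intro e; exact hβ (mul_left_cancel₀ h20 (by rw [mul_zero]; linear_combination -e))
        · simp [h])
      refine ⟨_, mem x, fin x (β ^ 2) ?_, fun z hz => ?_, not_small e P (by omega) (by omega) hβ
        (N := Matrix.diagonal fun i => d i - β) (dg d hd β) (by rw [hk, Finset.card_singleton]; omega)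
        (by rw [hk, Finset.card_singleton]; exact a1)⟩
      · show Matrix.diagonal d ^ 2 = _
        rw [Matrix.diagonal_pow, Matrix.smul_one_eq_diagonal]
        congr 1
        funext i
        simp only [d, Pi.pow_apply]
        split_ifs <;> ring
      · have e0 := congrFun (congrFun (show (x : M) = z • 1 from hz) i₀) i₀
        have e1 := congrFun (congrFun (show (x : M) = z • 1 from hz) i₁) i₁
        simp [x, d, h01.symm] at e0 e1
        exact hβ (mul_left_cancel₀ h20 (by rw [mul_zero]; linear_combination e1 - e0))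
    · let d : Fin n → F := fun i => if i = i₀ ∨ i = i₁ then -1 else 1
      have hd : ∏ i, d i = 1 := by
        rw [← Finset.prod_subset (Finset.subset_univ ({i₀, i₁} : Finset (Fin n)))
          (fun i _ hi => by simp at hi; simp [d, hi]), Finset.prod_pair h01]
        simp [d]
      let x : Matrix.SpecialLinearGroup (Fin n) F := ⟨Matrix.diagonal d, by rw [Matrix.det_diagonal, hd]⟩
      have hk := drk (fun i => d i - 1) {i₀, i₁} (fun i => by
        simp only [d, Finset.mem_insert, Finset.mem_singleton]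
        split_ifs with h
        · simp [h, sub_ne_zero.mpr hneg]
        · simp [h])
      refine ⟨_, mem x, fin x 1 ?_, fun z hz => ?_, not_small e P (by omega) (by omega) one_ne_zero
        (N := Matrix.diagonal fun i => d i - 1) (dg d hd 1) (by rw [hk, Finset.card_pair h01]; omega)
        (by rw [hk, Finset.card_pair h01]; intro h; have := Nat.le_of_dvd two_pos h; omega)⟩
      · show Matrix.diagonal d ^ 2 = _
        rw [Matrix.diagonal_pow, Matrix.smul_one_eq_diagonal]
        congr 1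
        funext i
        simp only [d, Pi.pow_apply]
        split_ifs <;> simp
      · have e0 := congrFun (congrFun (show (x : M) = z • 1 from hz) i₀) i₀
        have e2 := congrFun (congrFun (show (x : M) = z • 1 from hz) i₂) i₂
        simp [x, d, h02.symm, h12.symm] at e0 e2
        exact hneg (e0.trans e2.symm)
  by_cases hdvd : r ∣ Fintype.card F - 1
  · obtain ⟨w, hw⟩ := exists_prime_orderOf_dvd_card' (G := Fˣ) r (by
      rw [Nat.card_eq_fintype_card, Fintype.card_units]; exact hdvd)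
    have hwr : ((w : Fˣ) : F) ^ r = 1 := by
      rw [← Units.val_pow_eq_pow_val, ← hw, pow_orderOf_eq_one, Units.val_one]
    have hw1 : (w : F) ≠ 1 := fun e0 => hrp.ne_one (by rw [← hw, orderOf_eq_one_iff]; exact Units.ext e0)
    have hwi : (w : F)⁻¹ ≠ 1 := fun e0 => hw1 (inv_eq_one.mp e0)
    have hww : (w : F) ≠ (w : F)⁻¹ := fun e0 => by
      have h2 : w ^ 2 = 1 := Units.ext (by
        rw [Units.val_pow_eq_pow_val, sq]; nth_rewrite 2 [e0]; simp)
      have := orderOf_dvd_of_pow_eq_one h2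
      rw [hw] at this
      exact hr2 ((Nat.prime_dvd_prime_iff_eq hrp Nat.prime_two).mp this)
    let d : Fin n → F := fun i => if i = i₀ then (w : F) else if i = i₁ then (w : F)⁻¹ else 1
    have hd : ∏ i, d i = 1 := by
      rw [← Finset.prod_subset (Finset.subset_univ ({i₀, i₁} : Finset (Fin n)))
        (fun i _ hi => by simp at hi; simp [d, hi]), Finset.prod_pair h01]
      simp [d, h01.symm]
    let x : Matrix.SpecialLinearGroup (Fin n) F := ⟨Matrix.diagonal d, by rw [Matrix.det_diagonal, hd]⟩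
    have hk := drk (fun i => d i - 1) {i₀, i₁} (fun i => by
      simp only [d, Finset.mem_insert, Finset.mem_singleton]
      split_ifs with h h'
      · simp [h, sub_ne_zero.mpr hw1]
      · simp [h', sub_ne_zero.mpr hwi]
      · simp [h, h'])
    have hk2 : (Matrix.diagonal (fun i => d i - 1) * (Matrix.diagonal (fun i => d i - 1) - ((w : F)⁻¹ - 1) • (1 : M))).rank = 1 := by
      rw [Matrix.smul_one_eq_diagonal, Matrix.diagonal_sub, Matrix.diagonal_mul_diagonal,
        drk _ {i₀} (fun i => ?_), Finset.card_singleton]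
      simp only [d, Finset.mem_singleton, Pi.mul_apply, Pi.sub_apply]
      split_ifs with h h'
      · simp [h, sub_ne_zero.mpr hw1, sub_ne_zero.mpr hww]
      · simp [h', h01.symm]
      · simp [h]
    refine ⟨_, mem x, fin x 1 ?_, fun z hz => ?_, not_poly e P (by omega) (by omega) one_ne_zero
      (N := Matrix.diagonal fun i => d i - 1) (dg d hd 1) (by rw [hk, Finset.card_pair h01]; omega) ((w : F)⁻¹ - 1)
      (by rw [hk2]; exact a1)⟩
    · show Matrix.diagonal d ^ r = _
      rw [Matrix.diagonal_pow, Matrix.smul_one_eq_diagonal]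
      congr 1
      funext i
      simp only [d, Pi.pow_apply]
      split_ifs
      · exact hwr
      · rw [inv_pow, hwr, inv_one]
      · exact one_pow r
    · have e0 := congrFun (congrFun (show (x : M) = z • 1 from hz) i₀) i₀
      have e2 := congrFun (congrFun (show (x : M) = z • 1 from hz) i₂) i₂
      simp [x, d, h02.symm, h12.symm] at e0 e2
      exact hw1 (e0.trans e2.symm)
  set c := orderOf (Fintype.card F : ZMod r) with hc
  have hc2 : 2 ≤ c := by
    have h0 : 0 < c := PrimeOrd.ord_pos hrF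
    by_contra hlt
    refine hdvd ?_
    have := (PrimeOrd.dvd_pow_sub_one (F := F) (r := r) 1).mpr (by rw [← hc, show c = 1 by omega])
    rwa [pow_one] at this
  have hcn : c ≤ n := by
    have h1 : r ∣ Nat.card (GL (Fin n) F) :=
      (hΩ.trans (Subgroup.index_dvd_card _)).trans (Subgroup.card_subgroup_dvd_card _)
    rw [Matrix.card_GL_field] at h1
    obtain ⟨i, -, hi⟩ := (Prime.dvd_finsetProd_iff hrp.prime _).mp h1
    rw [show Fintype.card F ^ n - Fintype.card F ^ (i : ℕ) = Fintype.card F ^ (i : ℕ) * (Fintype.card F ^ (n - i) - 1) by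
      rw [Nat.mul_sub_one, ← pow_add, Nat.add_sub_cancel' i.isLt.le]] at hi
    rcases hrp.dvd_mul.mp hi with hi | hi
    · exact absurd (hrp.dvd_of_dvd_pow hi) hrF
    · have h3 := Nat.le_of_dvd (Nat.sub_pos_of_lt i.isLt) ((PrimeOrd.dvd_pow_sub_one _).mp hi)
      rw [← hc] at h3
      omega
  obtain ⟨x, hx1, hx2, hx3⟩ := SimDerange.exists_block (n := n) hr hrF hc hc2 hcn
  refine ⟨_, mem x, fin x 1 (by rw [hx1, one_smul]), hx2, not_block e P ha hab hr hrF hc hc2 hx1 ?_⟩
  have h5 := finrank_add_eq_of_isCompl (isCompl_fix_mov (x := Matrix.toLin' (x : M)) (r := r) hr (by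
    rw [← Matrix.toLin'_pow, hx1, Matrix.toLin'_one]; rfl))
  rw [Module.finrank_fintype_fun_eq_card, Fintype.card_fin, hx3] at h5
  show ((x : M) - 1).rank = c
  rw [Matrix.rank, ← Matrix.toLin'_apply', map_sub, Matrix.toLin'_one]
  show Module.finrank F (mov (Matrix.toLin' (x : M))) = c
  omega

end Cfsg.Lib.Classical.TensorDerange
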