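import Mathlib
import Cfsg.Prelude.Def_GeometricClasses

/-! A tensor decomposition with a monomial factor refines into an orthogonal decomposition into blocks. -/

set_option autoImplicit false
set_option linter.unusedSimpArgs false
set_option linter.unusedSectionVars false
set_option linter.style.haveILetI false

namespace Cfsg.Lib.Classical.TensorMono

open Matrix Kronecker

universe u

variable {F : Type u} [Field F] {ι : Type} [Fintype ι] [DecidableEq ι] {n₁ n₂ : ℕ}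

/-- The value of a sesquilinear form is given by its Gram matrix. -/
theorem formOfGram_gram {κ : Type} [Fintype κ] [DecidableEq κ] (σ : F →+* F) (f : (κ → F) → (κ → F) → F)
    (hal : ∀ x y v, f (x + y) v = f x v + f y v) (hsl : ∀ (c : F) x v, f (c • x) v = c * f x v)
    (har : ∀ v x y, f v (x + y) = f v x + f v y) (hsr : ∀ (c : F) v x, f v (c • x) = σ c * f v x) (x y : κ → F) :
    Cfsg.Geo.formOfGram σ (Cfsg.Geo.gramMatrix f) x y = f x y := by
  have hl : ∀ v, f x v = ∑ a, x a * f (Pi.single a 1) v := fun v => by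
    let A : (κ → F) →+ F := AddMonoidHom.mk' (fun z => f z v) (fun a b => hal a b v)
    have hx : A x = A (∑ a, x a • Pi.single a (1 : F)) := congrArg A (pi_eq_sum_univ' x)
    rw [map_sum] at hx
    simpa [A, hsl] using hx
  have hr : ∀ v, f v y = ∑ b, σ (y b) * f v (Pi.single b 1) := fun v => by
    let A : (κ → F) →+ F := AddMonoidHom.mk' (fun z => f v z) (fun a b => har v a b)
    have hy : A y = A (∑ a, y a • Pi.single a (1 : F)) := congrArg A (pi_eq_sum_univ' y)
    rw [map_sum] at hy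
    simpa [A, hsr] using hy
  rw [hl]
  refine Finset.sum_congr rfl fun a _ => ?_
  rw [hr, Finset.mul_sum]
  exact Finset.sum_congr rfl fun b _ => by rw [Cfsg.Geo.gramMatrix]; ring

theorem add_left (σ : F →+* F) {κ : Type} [Fintype κ] (G : Matrix κ κ F) (x x' y : κ → F) :
    Cfsg.Geo.formOfGram σ G (x + x') y = Cfsg.Geo.formOfGram σ G x y + Cfsg.Geo.formOfGram σ G x' y := by
  simp [Cfsg.Geo.formOfGram, add_mul, Finset.sum_add_distrib]

theorem smul_left (σ : F →+* F) {κ : Type} [Fintype κ] (G : Matrix κ κ F) (c : F) (x y : κ → F) :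
    Cfsg.Geo.formOfGram σ G (c • x) y = c * Cfsg.Geo.formOfGram σ G x y := by
  simp [Cfsg.Geo.formOfGram, mul_assoc, Finset.mul_sum]

theorem smul_right (σ : F →+* F) {κ : Type} [Fintype κ] (G : Matrix κ κ F) (c : F) (x y : κ → F) :
    Cfsg.Geo.formOfGram σ G x (c • y) = σ c * Cfsg.Geo.formOfGram σ G x y := by
  simp only [Cfsg.Geo.formOfGram, Pi.smul_apply, smul_eq_mul, map_mul, Finset.mul_sum]
  exact Finset.sum_congr rfl fun a _ => Finset.sum_congr rfl fun b _ => by ring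

theorem add_right (σ : F →+* F) {κ : Type} [Fintype κ] (G : Matrix κ κ F) (x y y' : κ → F) :
    Cfsg.Geo.formOfGram σ G x (y + y') = Cfsg.Geo.formOfGram σ G x y + Cfsg.Geo.formOfGram σ G x y' := by
  simp [Cfsg.Geo.formOfGram, map_add, mul_add, Finset.sum_add_distrib]

theorem sum_left (σ : F →+* F) {κ : Type} [Fintype κ] {α : Type*} (s : Finset α) (G : Matrix κ κ F)
    (x : α → κ → F) (y : κ → F) :
    Cfsg.Geo.formOfGram σ G (∑ a ∈ s, x a) y = ∑ a ∈ s, Cfsg.Geo.formOfGram σ G (x a) y := by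
  let A : (κ → F) →+ F := AddMonoidHom.mk' (fun z => Cfsg.Geo.formOfGram σ G z y) (fun a b => add_left σ G a b y)
  exact map_sum A x s

theorem sum_right (σ : F →+* F) {κ : Type} [Fintype κ] {α : Type*} (s : Finset α) (G : Matrix κ κ F)
    (x : κ → F) (y : α → κ → F) :
    Cfsg.Geo.formOfGram σ G x (∑ a ∈ s, y a) = ∑ a ∈ s, Cfsg.Geo.formOfGram σ G x (y a) := by
  let A : (κ → F) →+ F := AddMonoidHom.mk' (fun z => Cfsg.Geo.formOfGram σ G x z) (fun a b => add_right σ G x a b)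
  exact map_sum A y s

/-- The pure tensor of two coordinate vectors. -/
def tens (w : Fin n₁ → F) (y : Fin n₂ → F) : Fin n₁ × Fin n₂ → F := fun p => w p.1 * y p.2

theorem formOfGram_tens (σ : F →+* F) (G : Matrix (Fin n₁) (Fin n₁) F) (H : Matrix (Fin n₂) (Fin n₂) F)
    (w w' : Fin n₁ → F) (y y' : Fin n₂ → F) :
    Cfsg.Geo.formOfGram σ (G ⊗ₖ H) (tens w y) (tens w' y') =
      Cfsg.Geo.formOfGram σ G w w' * Cfsg.Geo.formOfGram σ H y y' := by
  simp only [Cfsg.Geo.formOfGram, tens, Matrix.kroneckerMap_apply, map_mul, Fintype.sum_prod_type]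
  rw [Finset.sum_mul_sum]
  refine Finset.sum_congr rfl fun a _ => Finset.sum_congr rfl fun b _ => ?_
  rw [Finset.sum_mul_sum]
  refine Finset.sum_congr rfl fun c _ => Finset.sum_congr rfl fun d _ => ?_
  ring

theorem kron_tens (a : Matrix (Fin n₁) (Fin n₁) F) (b : Matrix (Fin n₂) (Fin n₂) F)
    (w : Fin n₁ → F) (y : Fin n₂ → F) : (a ⊗ₖ b) *ᵥ tens w y = tens (a *ᵥ w) (b *ᵥ y) := by
  funext p
  simp only [Matrix.mulVec, dotProduct, tens, Matrix.kroneckerMap_apply, Fintype.sum_prod_type]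
  rw [Finset.sum_mul_sum]
  exact Finset.sum_congr rfl fun _ _ => Finset.sum_congr rfl fun _ _ => by ring

variable (e : ι ≃ Fin n₁ × Fin n₂) (P : GL ι F)

/-- The image of a pure tensor under the structure map. -/
def lift (w : Fin n₁ → F) : (Fin n₂ → F) →ₗ[F] (ι → F) where
  toFun y := (P : Matrix ι ι F) *ᵥ (tens w y ∘ e)
  map_add' y y' := by
    rw [← Matrix.mulVec_add]
    congr 1
    funext i
    simp [tens, mul_add]
  map_smul' c y := by
    rw [RingHom.id_apply, ← Matrix.mulVec_smul]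
    congr 1
    funext i
    simp [tens]
    ring

theorem lift_eq_iff {w w' : Fin n₁ → F} {y y' : Fin n₂ → F} :
    lift e P w y = lift e P w' y' ↔ ∀ p q, w p * y q = w' p * y' q := by
  constructor
  · intro h p q
    have h1 : (P : Matrix ι ι F) *ᵥ (tens w y ∘ e) = (P : Matrix ι ι F) *ᵥ (tens w' y' ∘ e) := h
    have h2 := congrArg (((P⁻¹ : GL ι F) : Matrix ι ι F) *ᵥ ·) h1
    simp only [Matrix.mulVec_mulVec, ← Units.val_mul, inv_mul_cancel, Units.val_one, Matrix.one_mulVec] at h2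
    simpa [tens] using congrFun h2 (e.symm (p, q))
  · intro h
    show (P : Matrix ι ι F) *ᵥ (tens w y ∘ e) = (P : Matrix ι ι F) *ᵥ (tens w' y' ∘ e)
    congr 1
    funext i
    exact h _ _

theorem lift_smul (c : F) (w : Fin n₁ → F) (y : Fin n₂ → F) : lift e P (c • w) y = lift e P w (c • y) :=
  (lift_eq_iff e P).mpr fun p q => by simp; ring

theorem act_lift {g : GL ι F} (hg : g ∈ Cfsg.Geo.tensorProductSubgroup n₁ n₂ e P) :
    ∃ (a : GL (Fin n₁) F) (b : GL (Fin n₂) F), ∀ w y, (g : Matrix ι ι F) *ᵥ lift e P w y =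
      lift e P ((a : Matrix _ _ F) *ᵥ w) ((b : Matrix _ _ F) *ᵥ y) := by
  obtain ⟨g', hg', rfl⟩ := hg
  obtain ⟨k, ⟨a, b, hk⟩, rfl⟩ := hg'
  refine ⟨a, b, fun w y => ?_⟩
  show ((P * Cfsg.Geo.glReindex e.symm k * P⁻¹ : GL ι F) : Matrix ι ι F) *ᵥ ((P : Matrix ι ι F) *ᵥ _) =
    (P : Matrix ι ι F) *ᵥ _
  rw [Matrix.mulVec_mulVec, ← Units.val_mul, inv_mul_cancel_right, Units.val_mul, ← Matrix.mulVec_mulVec]
  congr 1
  have hre : ((Cfsg.Geo.glReindex e.symm k : GL ι F) : Matrix ι ι F) = (k : Matrix _ _ F).submatrix e e := rfl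
  rw [hre, hk]
  funext i
  simp only [Matrix.mulVec, dotProduct, Matrix.submatrix_apply, Function.comp_apply]
  rw [Equiv.sum_comp e (fun p => ((a : Matrix (Fin n₁) (Fin n₁) F) ⊗ₖ (b : Matrix (Fin n₂) (Fin n₂) F)) (e i) p * tens w y p)]
  exact congrFun (kron_tens _ _ w y) (e i)

/-- Exchanging the factors of a tensor decomposition. -/
theorem tensorProductSubgroup_swap :
    Cfsg.Geo.tensorProductSubgroup n₁ n₂ e P ≤
      Cfsg.Geo.tensorProductSubgroup n₂ n₁ (e.trans (Equiv.prodComm _ _)) P := by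
  rintro g ⟨g', ⟨k, ⟨a, b, hk⟩, rfl⟩, rfl⟩
  refine ⟨_, ⟨Cfsg.Geo.glReindex (Equiv.prodComm _ _) k, ⟨b, a, ?_⟩, ?_⟩, rfl⟩
  · ext p q
    simp [Cfsg.Geo.glReindex, hk, Matrix.kroneckerMap_apply, mul_comm]
  · ext i j
    rfl

theorem structure_swap {σ : F → F} {f : (ι → F) → (ι → F) → F} {f₁ : (Fin n₁ → F) → (Fin n₁ → F) → F}
    {f₂ : (Fin n₂ → F) → (Fin n₂ → F) → F} (hT : Cfsg.Geo.IsTensorFormStructure σ f f₁ f₂ e P) :
    Cfsg.Geo.IsTensorFormStructure σ f f₂ f₁ (e.trans (Equiv.prodComm _ _)) P := by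
  obtain ⟨c, hc, h⟩ := hT
  refine ⟨c, hc, fun x y => ?_⟩
  have h' := h (x ∘ Equiv.prodComm _ _) (y ∘ Equiv.prodComm _ _)
  refine h'.trans ?_
  congr 1
  unfold Cfsg.Geo.formOfGram
  refine Fintype.sum_equiv (Equiv.prodComm _ _) _ _ fun a => Fintype.sum_equiv (Equiv.prodComm _ _) _ _ fun b => ?_
  simp [Matrix.kroneckerMap_apply, mul_comm, mul_left_comm]

/-- The blocks of the refinement. -/
def blocks (u : Fin n₁ → Fin n₁ → F) (i : Fin n₁) : Submodule F (ι → F) := LinearMap.range (lift e P (u i))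

theorem mem_blocks_stabilizer {g : GL ι F} (u : Fin n₁ → Fin n₁ → F) (τ : Equiv.Perm (Fin n₁))
    (h : ∀ i y, (g : Matrix ι ι F) *ᵥ lift e P (u i) y ∈ blocks e P u (τ i))
    (hinj : ∀ i, Function.Injective (lift e P (u i))) :
    g ∈ Cfsg.Geo.decompositionStabilizer (blocks e P u) := by
  refine ⟨τ, fun i => ?_⟩
  refine Submodule.eq_of_le_of_finrank_le ?_ (le_of_eq ?_)
  · rintro _ ⟨_, ⟨y, rfl⟩, rfl⟩
    exact h i y
  · have hg : Function.Injective (Matrix.toLin' (g : Matrix ι ι F)) := by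
      intro x y hxy
      have := congrArg (((g⁻¹ : GL ι F) : Matrix ι ι F) *ᵥ ·) hxy
      simpa [Matrix.toLin'_apply, Matrix.mulVec_mulVec, ← Units.val_mul] using this
    rw [← (Submodule.equivMapOfInjective _ hg (blocks e P u i)).finrank_eq, blocks, blocks,
      LinearMap.finrank_range_of_inj (hinj _), LinearMap.finrank_range_of_inj (hinj _)]

/-- The refinement theorem. -/
theorem tensor_not_maximal (σ : F →+* F) (f : (ι → F) → (ι → F) → F) (I : Subgroup (GL ι F))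
    (hI : ∀ g ∈ I, ∀ x y, f ((g : Matrix ι ι F) *ᵥ x) ((g : Matrix ι ι F) *ᵥ y) = f x y)
    {f₁ : (Fin n₁ → F) → (Fin n₁ → F) → F} {f₂ : (Fin n₂ → F) → (Fin n₂ → F) → F}
    (hT : Cfsg.Geo.IsTensorFormStructure σ f f₁ f₂ e P) (u : Fin n₁ → Fin n₁ → F) {d : F} (hd : d ≠ 0)
    (hu : ∀ i j, Cfsg.Geo.formOfGram σ (Cfsg.Geo.gramMatrix f₁) (u i) (u j) = if i = j then d else 0)
    (hmono : ∀ (w : Fin n₁ → Fin n₁ → F) (μ : F), μ ≠ 0 →
      (∀ i j, ∑ k, w i k * σ (w j k) = if i = j then μ else 0) → ∀ i, ∃ k, ∀ k', k' ≠ k → w i k' = 0)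
    (h2nd : ∀ y, y ≠ 0 → ∃ z, Cfsg.Geo.formOfGram σ (Cfsg.Geo.gramMatrix f₂) y z ≠ 0) (hn₂ : 0 < n₂)
    (i₀ i₁ : Fin n₁) (hi : i₀ ≠ i₁)
    (hblock : ∃ g ∈ I, (∀ i y, (g : Matrix ι ι F) *ᵥ lift e P (u i) y ∈ blocks e P u i) ∧
      (∀ y, (g : Matrix ι ι F) *ᵥ lift e P (u i₁) y = lift e P (u i₁) y) ∧
      ∃ y y', (g : Matrix ι ι F) *ᵥ lift e P (u i₀) y = lift e P (u i₀) y' ∧ y' ∉ Submodule.span F {y})
    (hmix : ∃ g ∈ I, ∃ y y₀ y₁, y₀ ≠ 0 ∧ y₁ ≠ 0 ∧
      (g : Matrix ι ι F) *ᵥ lift e P (u i₀) y = lift e P (u i₀) y₀ + lift e P (u i₁) y₁) :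
    ∃ K : Subgroup (GL ι F), Cfsg.Geo.tensorProductSubgroup n₁ n₂ e P ⊓ I < K ∧ K < I := by
  classical
  set B₁ := Cfsg.Geo.formOfGram σ (Cfsg.Geo.gramMatrix f₁)
  set B₂ := Cfsg.Geo.formOfGram σ (Cfsg.Geo.gramMatrix f₂)
  obtain ⟨c, hc, hT⟩ := hT
  have hf : ∀ w w' y y', f (lift e P w y) (lift e P w' y') = c * (B₁ w w' * B₂ y y') := fun w w' y y' =>
    (hT (tens w y) (tens w' y')).trans (by rw [formOfGram_tens])
  have hu0 : ∀ i, u i ≠ 0 := fun i h => by
    have := hu i i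
    rw [if_pos rfl, h] at this
    exact hd (this.symm.trans (by simp [B₁, Cfsg.Geo.formOfGram]))
  have hinj : ∀ i, Function.Injective (lift e P (u i)) := by
    intro i y y' h
    obtain ⟨p, hp⟩ : ∃ p, u i p ≠ 0 := Function.ne_iff.mp (hu0 i)
    funext q
    exact mul_left_cancel₀ hp ((lift_eq_iff e P).mp h p q)
  have hli : LinearIndependent F u := by
    rw [Fintype.linearIndependent_iff]
    intro a ha j
    have h : B₁ (∑ i, a i • u i) (u j) = 0 := by rw [ha]; simp [B₁, Cfsg.Geo.formOfGram]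
    simp only [B₁, sum_left, smul_left] at h
    simp only [B₁] at hu
    simp only [hu, mul_ite, mul_zero, Finset.sum_ite_eq', Finset.mem_univ, if_true] at h
    exact (mul_eq_zero.mp h).resolve_right hd
  have hspan : ∀ w : Fin n₁ → F, ∃ a : Fin n₁ → F, ∑ k, a k • u k = w := fun w => by
    haveI : Nonempty (Fin n₁) := ⟨i₀⟩
    refine Submodule.mem_span_range_iff_exists_fun F |>.mp ?_
    rw [hli.span_eq_top_of_card_eq_finrank (by simp)]
    trivial
  have hle : Cfsg.Geo.tensorProductSubgroup n₁ n₂ e P ⊓ I ≤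
      Cfsg.Geo.decompositionStabilizer (blocks e P u) ⊓ I := by
    rintro g ⟨hg, hgI⟩
    refine ⟨?_, hgI⟩
    obtain ⟨a, b, hab⟩ := act_lift e P hg
    obtain ⟨z, hz⟩ : ∃ z : Fin n₂ → F, z ≠ 0 := ⟨Pi.single ⟨0, hn₂⟩ 1, by simp⟩
    obtain ⟨z', hz'⟩ := h2nd z hz
    set lam := B₂ ((b : Matrix _ _ F) *ᵥ z) ((b : Matrix _ _ F) *ᵥ z')
    have hiso : ∀ i j, B₁ ((a : Matrix _ _ F) *ᵥ u i) ((a : Matrix _ _ F) *ᵥ u j) * lam =
        (if i = j then d else 0) * B₂ z z' := by
      intro i j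
      have h := hI g hgI (lift e P (u i) z) (lift e P (u j) z')
      rw [hab, hab, hf, hf, hu] at h
      exact mul_left_cancel₀ hc h
    have hlam : lam ≠ 0 := fun h0 => by
      have h := hiso i₀ i₀
      rw [h0, mul_zero, if_pos rfl] at h
      exact mul_ne_zero hd hz' h.symm
    choose w hw using fun i => hspan ((a : Matrix _ _ F) *ᵥ u i)
    have hW : ∀ i j, ∑ k, w i k * σ (w j k) = if i = j then B₂ z z' / lam else 0 := by
      intro i j
      have h := hiso i j
      rw [← hw i, ← hw j] at h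
      simp only [B₁, sum_left, sum_right, smul_left, smul_right] at h
      simp only [B₁] at hu
      simp only [hu, mul_ite, mul_zero, Finset.sum_ite_eq, Finset.sum_ite_eq', Finset.mem_univ, if_true] at h
      by_cases hij : i = j
      · rw [if_pos hij] at h ⊢
        rw [eq_div_iff hlam, ← mul_right_inj' hd, ← h, Finset.sum_mul, Finset.mul_sum, Finset.sum_mul]
        exact Finset.sum_congr rfl fun _ _ => by ring
      · rw [if_neg hij] at h ⊢
        rw [zero_mul] at h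
        refine (mul_eq_zero.mp ?_).resolve_left (mul_ne_zero hd hlam)
        refine Eq.trans ?_ h
        rw [Finset.mul_sum, Finset.sum_mul]
        exact Finset.sum_congr rfl fun _ _ => by ring
    choose τ hτ using hmono w _ (div_ne_zero hz' hlam) hW
    have hwu : ∀ i, (a : Matrix _ _ F) *ᵥ u i = w i (τ i) • u (τ i) := fun i => by
      rw [← hw i, Finset.sum_eq_single (τ i) (fun k _ hk => by rw [hτ i k hk, zero_smul]) (by simp)]
    have hτi : Function.Injective τ := by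
      intro i j hij
      by_contra hne
      have h := hW i j
      rw [if_neg hne, Finset.sum_eq_single (τ i) (fun k _ hk => by rw [hτ i k hk, zero_mul]) (by simp)] at h
      have h0 : ∀ i, w i (τ i) ≠ 0 := fun i h0 => by
        have h' := hW i i
        rw [if_pos rfl, Finset.sum_eq_single (τ i) (fun k _ hk => by rw [hτ i k hk, zero_mul]) (by simp),
          h0, zero_mul] at h'
        exact div_ne_zero hz' hlam h'.symm
      refine mul_ne_zero (h0 i) ?_ h
      rw [hij]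
      exact (map_ne_zero σ).mpr (h0 j)
    refine mem_blocks_stabilizer e P u (Equiv.ofBijective τ (Finite.injective_iff_bijective.mp hτi))
      (fun i y => ?_) hinj
    rw [hab, hwu, lift_smul, Equiv.ofBijective_apply]
    exact LinearMap.mem_range_self _ _
  refine ⟨Cfsg.Geo.decompositionStabilizer (blocks e P u) ⊓ I, lt_of_le_of_ne hle ?_,
    lt_of_le_of_ne inf_le_right ?_⟩
  · intro heq
    obtain ⟨g, hgI, hgb, hg1, y, y', hgy, hy'⟩ := hblock
    have hgK : g ∈ Cfsg.Geo.decompositionStabilizer (blocks e P u) ⊓ I :=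
      ⟨mem_blocks_stabilizer e P u 1 hgb hinj, hgI⟩
    rw [← heq] at hgK
    obtain ⟨a, b, hab⟩ := act_lift e P hgK.1
    obtain ⟨p, hp⟩ : ∃ p, u i₁ p ≠ 0 := Function.ne_iff.mp (hu0 i₁)
    obtain ⟨p₀, hp₀⟩ : ∃ p, u i₀ p ≠ 0 := Function.ne_iff.mp (hu0 i₀)
    set α := ((a : Matrix _ _ F) *ᵥ u i₁) p
    have hb : ∀ z q, α * ((b : Matrix _ _ F) *ᵥ z) q = u i₁ p * z q := fun z q => by
      have h := hg1 z
      rw [hab] at h
      exact (lift_eq_iff e P).mp h p q
    have h0 := hgy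
    rw [hab, lift_eq_iff] at h0
    have hα : α ≠ 0 := fun h => by
      have h' := hb (Pi.single ⟨0, hn₂⟩ 1) ⟨0, hn₂⟩
      rw [h, zero_mul, Pi.single_eq_same, mul_one] at h'
      exact hp h'.symm
    refine hy' (Submodule.mem_span_singleton.mpr
      ⟨((a : Matrix _ _ F) *ᵥ u i₀) p₀ * u i₁ p / (α * u i₀ p₀), ?_⟩)
    funext q
    have h1 := hb y q
    have h2 := h0 p₀ q
    simp only [Pi.smul_apply, smul_eq_mul]
    field_simp
    linear_combination (-((a : Matrix _ _ F) *ᵥ u i₀) p₀) * h1 + α * h2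
  · intro heq
    obtain ⟨g, hgI, y, y₀, y₁, hy₀, hy₁, hgy⟩ := hmix
    have hgK : g ∈ Cfsg.Geo.decompositionStabilizer (blocks e P u) ⊓ I := heq.symm ▸ hgI
    obtain ⟨τ, hτ⟩ := hgK.1
    have hmem : (g : Matrix ι ι F) *ᵥ lift e P (u i₀) y ∈ blocks e P u (τ i₀) := by
      rw [← hτ]
      exact ⟨_, LinearMap.mem_range_self _ _, rfl⟩
    obtain ⟨y', hy'⟩ := hmem
    rw [hgy] at hy'
    by_cases h : τ i₀ = i₀
    · rw [h] at hy'
      obtain ⟨z, hz⟩ := h2nd y₁ hy₁
      have h' := (hf (u i₀) (u i₁) y' z).symm.trans (congrArg (fun x => f x (lift e P (u i₁) z)) hy')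
      have hlin : f (lift e P (u i₀) y₀ + lift e P (u i₁) y₁) (lift e P (u i₁) z) =
          c * (B₁ (u i₀) (u i₁) * B₂ y₀ z) + c * (B₁ (u i₁) (u i₁) * B₂ y₁ z) := by
        refine (hT (tens (u i₀) y₀ + tens (u i₁) y₁) (tens (u i₁) z) |> fun h => ?_)
        rw [add_left, mul_add, formOfGram_tens, formOfGram_tens] at h
        refine Eq.trans ?_ h
        congr 1
        exact (Matrix.mulVec_add _ _ _).symm
      rw [hlin, hu, hu, if_neg hi, if_pos rfl] at h'
      simp only [zero_mul, mul_zero, zero_add] at h'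
      exact mul_ne_zero hc (mul_ne_zero hd hz) h'.symm
    · obtain ⟨z, hz⟩ := h2nd y₀ hy₀
      have h' := (hf (u (τ i₀)) (u i₀) y' z).symm.trans (congrArg (fun x => f x (lift e P (u i₀) z)) hy')
      have hlin : f (lift e P (u i₀) y₀ + lift e P (u i₁) y₁) (lift e P (u i₀) z) =
          c * (B₁ (u i₀) (u i₀) * B₂ y₀ z) + c * (B₁ (u i₁) (u i₀) * B₂ y₁ z) := by
        refine (hT (tens (u i₀) y₀ + tens (u i₁) y₁) (tens (u i₀) z) |> fun h => ?_)
        rw [add_left, mul_add, formOfGram_tens, formOfGram_tens] at h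
        refine Eq.trans ?_ h
        congr 1
        exact (Matrix.mulVec_add _ _ _).symm
      rw [hlin, hu, hu, hu, if_neg h, if_pos rfl, if_neg hi.symm] at h'
      simp only [zero_mul, mul_zero, add_zero] at h'
      exact mul_ne_zero hc (mul_ne_zero hd hz) h'.symm

end Cfsg.Lib.Classical.TensorMono
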