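import Mathlib
import Cfsg.Agent.Classical.Misc.TensorMonomial
import Cfsg.Agent.Classical.Orth.NondegMax

/-! Tensor decompositions with a monomial factor in the symplectic, unitary and orthogonal groups. -/

set_option autoImplicit false
set_option linter.unusedSimpArgs false
set_option linter.unusedSectionVars false
set_option linter.style.haveILetI false

namespace Cfsg.Lib.Classical.TensorMono

open Matrix Kronecker

universe u

variable {F : Type u} [Field F] {ι : Type} [Fintype ι] [DecidableEq ι] {n₁ n₂ : ℕ}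
  (e : ι ≃ Fin n₁ × Fin n₂) (P : GL ι F)

theorem form_lift (σ : F →+* F) {f : (ι → F) → (ι → F) → F} {f₁ : (Fin n₁ → F) → (Fin n₁ → F) → F}
    {f₂ : (Fin n₂ → F) → (Fin n₂ → F) → F} {c : F}
    (hT : ∀ x y : Fin n₁ × Fin n₂ → F,
      f ((P : Matrix ι ι F) *ᵥ (x ∘ e)) ((P : Matrix ι ι F) *ᵥ (y ∘ e)) =
        c * Cfsg.Geo.formOfGram σ (Cfsg.Geo.gramMatrix f₁ ⊗ₖ Cfsg.Geo.gramMatrix f₂) x y)
    (w w' : Fin n₁ → F) (y y' : Fin n₂ → F) : f (lift e P w y) (lift e P w' y') =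
      c * (Cfsg.Geo.formOfGram σ (Cfsg.Geo.gramMatrix f₁) w w' *
        Cfsg.Geo.formOfGram σ (Cfsg.Geo.gramMatrix f₂) y y') :=
  (hT (tens w y) (tens w' y')).trans (by rw [formOfGram_tens])

/-- A transvection as an element of the general linear group. -/
noncomputable def trGL (φ : (ι → F) →ₗ[F] F) (v : ι → F) (h : φ v = 0) : GL ι F :=
  ⟨LinearMap.toMatrix' (LinearMap.id + φ.smulRight v), LinearMap.toMatrix' (LinearMap.id - φ.smulRight v),
    by
      rw [← LinearMap.toMatrix'_comp, ← LinearMap.toMatrix'_id]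
      congr 1
      refine LinearMap.ext fun x => ?_
      simp [h],
    by
      rw [← LinearMap.toMatrix'_comp, ← LinearMap.toMatrix'_id]
      congr 1
      refine LinearMap.ext fun x => ?_
      simp [h]⟩

theorem trGL_mulVec (φ : (ι → F) →ₗ[F] F) (v : ι → F) (h : φ v = 0) (x : ι → F) :
    (trGL φ v h : Matrix ι ι F) *ᵥ x = x + φ x • v := by
  simp [trGL, LinearMap.toMatrix'_mulVec, Matrix.add_mulVec]

/-- Groups containing the isotropic transvections. -/
theorem transv_not_maximal (σ : F →+* F) (f : (ι → F) → (ι → F) → F) (I : Subgroup (GL ι F))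
    (hI : ∀ g ∈ I, ∀ x y, f ((g : Matrix ι ι F) *ᵥ x) ((g : Matrix ι ι F) *ᵥ y) = f x y)
    (hal : ∀ x y v, f (x + y) v = f x v + f y v) (har : ∀ v x y, f v (x + y) = f v x + f v y)
    {f₁ : (Fin n₁ → F) → (Fin n₁ → F) → F} {f₂ : (Fin n₂ → F) → (Fin n₂ → F) → F}
    (hT : Cfsg.Geo.IsTensorFormStructure σ f f₁ f₂ e P) (u : Fin n₁ → Fin n₁ → F) {d : F} (hd : d ≠ 0)
    (hu : ∀ i j, Cfsg.Geo.formOfGram σ (Cfsg.Geo.gramMatrix f₁) (u i) (u j) = if i = j then d else 0)
    (hmono : ∀ (w : Fin n₁ → Fin n₁ → F) (μ : F), μ ≠ 0 →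
      (∀ i j, ∑ k, w i k * σ (w j k) = if i = j then μ else 0) → ∀ i, ∃ k, ∀ k', k' ≠ k → w i k' = 0)
    (h2nd : ∀ y, y ≠ 0 → ∃ z, Cfsg.Geo.formOfGram σ (Cfsg.Geo.gramMatrix f₂) y z ≠ 0)
    (h2nd' : ∀ y, y ≠ 0 → ∃ z, Cfsg.Geo.formOfGram σ (Cfsg.Geo.gramMatrix f₂) z y ≠ 0)
    (i₀ i₁ : Fin n₁) (hi : i₀ ≠ i₁) (z : Fin n₂ → F) (hz : z ≠ 0)
    (hzz : Cfsg.Geo.formOfGram σ (Cfsg.Geo.gramMatrix f₂) z z = 0)
    (htr : ∀ v, f v v = 0 → ∃ g ∈ I, ∀ x, (g : Matrix ι ι F) *ᵥ x = x + f x v • v) :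
    ∃ K : Subgroup (GL ι F), Cfsg.Geo.tensorProductSubgroup n₁ n₂ e P ⊓ I < K ∧ K < I := by
  classical
  have hn₂ : 0 < n₂ := by
    rcases Nat.eq_zero_or_pos n₂ with rfl | h
    · exact absurd (Subsingleton.elim z 0) hz
    · exact h
  obtain ⟨c, hc, hT'⟩ := id hT
  have hf := form_lift e P σ hT'
  obtain ⟨y, hy⟩ := h2nd' z hz
  have hyz : ∀ s : F, s ≠ 0 → y + s • z ∉ Submodule.span F {y} := by
    intro s hs hmem
    obtain ⟨ρ, hρ⟩ := Submodule.mem_span_singleton.mp hmem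
    by_cases h1 : ρ = 1
    · rw [h1, one_smul, left_eq_add] at hρ
      exact hz ((smul_eq_zero.mp hρ).resolve_left hs)
    · have hyz : y = (s / (ρ - 1)) • z := by
        rw [div_eq_inv_mul, mul_smul, eq_inv_smul_iff₀ (sub_ne_zero.mpr h1), sub_smul, one_smul, hρ,
          add_sub_cancel_left]
      rw [hyz, smul_left, hzz, mul_zero] at hy
      exact hy rfl
  set s := c * (d * Cfsg.Geo.formOfGram σ (Cfsg.Geo.gramMatrix f₂) y z)
  have hs : s ≠ 0 := mul_ne_zero hc (mul_ne_zero hd hy)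
  refine tensor_not_maximal e P σ f I hI hT u hd hu hmono h2nd hn₂ i₀ i₁ hi ?_ ?_
  · obtain ⟨g, hgI, hg⟩ := htr (lift e P (u i₀) z) (by rw [hf, hu, if_pos rfl, hzz, mul_zero, mul_zero])
    refine ⟨g, hgI, fun i w => ?_, fun w => ?_, y, y + s • z, ?_, hyz s hs⟩
    · rw [hg, hf, hu]
      by_cases h : i = i₀
      · subst h
        exact add_mem (LinearMap.mem_range_self _ _) (Submodule.smul_mem _ _ (LinearMap.mem_range_self _ _))
      · rw [if_neg h, zero_mul, mul_zero, zero_smul, add_zero]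
        exact LinearMap.mem_range_self _ _
    · rw [hg, hf, hu, if_neg hi.symm, zero_mul, mul_zero, zero_smul, add_zero]
    · rw [hg, hf, hu, if_pos rfl, map_add, map_smul]
  · obtain ⟨g, hgI, hg⟩ := htr (lift e P (u i₀) z + lift e P (u i₁) z) (by
      simp only [hal, har, hf, hu, hzz, mul_zero, add_zero])
    refine ⟨g, hgI, y, y + s • z, s • z, fun h => hyz s hs (h ▸ Submodule.zero_mem _),
      smul_ne_zero hs hz, ?_⟩
    rw [hg, har, hf, hf, hu, hu, if_pos rfl, if_neg hi, zero_mul, mul_zero, add_zero, smul_add, map_add, map_smul,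
      map_smul, ← add_assoc]

/-- The orthogonal groups in odd characteristic. -/
theorem siegel_not_maximal [Finite F] (Q : QuadraticForm F (ι → F)) (hQ : (QuadraticMap.polarBilin Q).Nondegenerate)
    (h2 : (2 : F) ≠ 0) (hn : 5 ≤ Fintype.card ι) {f₁ : (Fin n₁ → F) → (Fin n₁ → F) → F}
    {f₂ : (Fin n₂ → F) → (Fin n₂ → F) → F}
    (hT : Cfsg.Geo.IsTensorFormStructure id (QuadraticMap.polar (⇑Q)) f₁ f₂ e P) (u : Fin n₁ → Fin n₁ → F) {d : F}
    (hd : d ≠ 0)
    (hu : ∀ i j, Cfsg.Geo.formOfGram id (Cfsg.Geo.gramMatrix f₁) (u i) (u j) = if i = j then d else 0)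
    (hmono : ∀ (w : Fin n₁ → Fin n₁ → F) (μ : F), μ ≠ 0 →
      (∀ i j, ∑ k, w i k * w j k = if i = j then μ else 0) → ∀ i, ∃ k, ∀ k', k' ≠ k → w i k' = 0)
    (h2nd : ∀ y, y ≠ 0 → ∃ z, Cfsg.Geo.formOfGram id (Cfsg.Geo.gramMatrix f₂) y z ≠ 0)
    (hsymm : ∀ y z, Cfsg.Geo.formOfGram id (Cfsg.Geo.gramMatrix f₂) y z =
      Cfsg.Geo.formOfGram id (Cfsg.Geo.gramMatrix f₂) z y)
    (i₀ i₁ : Fin n₁) (hi : i₀ ≠ i₁) (hn₂ : 3 ≤ n₂) :
    ∃ K : Subgroup (GL ι F), Cfsg.Geo.tensorProductSubgroup n₁ n₂ e P ⊓ Cfsg.Geo.omegaGL (⇑Q) < K ∧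
      K < Cfsg.Geo.omegaGL (⇑Q) := by
  classical
  obtain ⟨c, hc, hT'⟩ := id hT
  set B : (Fin n₂ → F) → (Fin n₂ → F) → F := Cfsg.Geo.formOfGram id (Cfsg.Geo.gramMatrix f₂) with hB
  have hf : ∀ w w' y y', QuadraticMap.polar (⇑Q) (lift e P w y) (lift e P w' y') =
      c * (Cfsg.Geo.formOfGram id (Cfsg.Geo.gramMatrix f₁) w w' * B y y') := form_lift e P (RingHom.id F) hT'
  have Bal : ∀ x x' y, B (x + x') y = B x y + B x' y := add_left (RingHom.id F) _
  have Bsl : ∀ (r : F) x y, B (r • x) y = r * B x y := smul_left (RingHom.id F) _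
  have Bar : ∀ x y y', B x (y + y') = B x y + B x y' := add_right (RingHom.id F) _
  have Bsr : ∀ (r : F) x y, B x (r • y) = r * B x y := smul_right (RingHom.id F) _
  have hu0 : u i₀ ≠ 0 := fun h => by
    have := hu i₀ i₀
    rw [if_pos rfl, h] at this
    exact hd (this.symm.trans (by simp [Cfsg.Geo.formOfGram]))
  have hinj : Function.Injective (lift e P (u i₀)) := by
    obtain ⟨p, hp⟩ : ∃ p, u i₀ p ≠ 0 := Function.ne_iff.mp hu0
    intro y y' h
    funext q
    exact mul_left_cancel₀ hp ((lift_eq_iff e P).mp h p q)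
  obtain ⟨x, hQx, ⟨a, rfl⟩, -, hx⟩ := Cfsg.Lib.Classical.Refl.exists_singular_in Q hQ
    (LinearMap.range (lift e P (u i₀))) ⊥ (by
      rw [finrank_bot, LinearMap.finrank_range_of_inj hinj, Module.finrank_fintype_fun_eq_card, Fintype.card_fin]
      omega)
  have ha : a ≠ 0 := fun h => hx (by rw [h, map_zero]; exact Submodule.zero_mem _)
  have haa : B a a = 0 := by
    have h := hf (u i₀) (u i₀) a a
    rw [Cfsg.Lib.Classical.Refl.polar_self_two, hQx, mul_zero, hu, if_pos rfl] at h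
    exact (mul_eq_zero.mp ((mul_eq_zero.mp h.symm).resolve_left hc)).resolve_left hd
  let ψ : (Fin n₂ → F) →ₗ[F] F :=
    { toFun := fun y => B y a
      map_add' := fun y y' => add_left (RingHom.id F) _ y y' a
      map_smul' := fun r y => smul_left (RingHom.id F) _ r y a }
  obtain ⟨b, hb, hba⟩ : ∃ b ∈ LinearMap.ker ψ, b ∉ Submodule.span F {a} := by
    by_contra h
    push Not at h
    have h1 := Submodule.finrank_mono (show LinearMap.ker ψ ≤ Submodule.span F {a} from h)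
    have h2 := ψ.finrank_range_add_finrank_ker
    have h3 := Submodule.finrank_le (LinearMap.range ψ)
    rw [finrank_span_singleton ha] at h1
    rw [Module.finrank_fintype_fun_eq_card, Fintype.card_fin] at h2
    rw [Module.finrank_self] at h3
    omega
  change B b a = 0 at hb
  have hab : B a b = 0 := (hsymm a b).trans hb
  set U := lift e P (u i₀) a
  have hI : ∀ g ∈ Cfsg.Geo.omegaGL (⇑Q), ∀ x y, QuadraticMap.polar (⇑Q) ((g : Matrix ι ι F) *ᵥ x)
      ((g : Matrix ι ι F) *ᵥ y) = QuadraticMap.polar (⇑Q) x y := by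
    intro g hg x y
    obtain ⟨h, -, rfl⟩ := (Cfsg.Lib.Classical.Refl.mem_omegaGL Q g).mp hg
    exact Cfsg.Lib.Classical.Refl.polar_act Q h x y
  have hsieg : ∀ z, QuadraticMap.polar (⇑Q) U z = 0 → ∃ g ∈ Cfsg.Geo.omegaGL (⇑Q), ∀ x,
      (g : Matrix ι ι F) *ᵥ x = x + QuadraticMap.polar (⇑Q) U x • z +
        (-QuadraticMap.polar (⇑Q) z x - Q z * QuadraticMap.polar (⇑Q) U x) • U := fun z hz =>
    ⟨_, (Cfsg.Lib.Classical.Refl.mem_omegaGL Q _).mpr
      ⟨_, Cfsg.Lib.Classical.Refl.siegelG_mem_omega Q hQ hn hQx hz, rfl⟩,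
      fun x => Cfsg.Lib.Classical.Refl.mat_siegelG Q hQx hz x⟩
  refine tensor_not_maximal e P (RingHom.id F) (QuadraticMap.polar (⇑Q)) _ hI hT u hd hu hmono h2nd (by omega)
    i₀ i₁ hi ?_ ?_
  · obtain ⟨g, hgI, hg⟩ := hsieg (lift e P (u i₀) b) (by rw [hf, hab, mul_zero, mul_zero])
    obtain ⟨y, hya, hyb⟩ : ∃ y, B y a = 0 ∧ B y b ≠ 0 := by
      by_contra h
      push Not at h
      obtain ⟨y0, hy0⟩ := h2nd a ha
      have hy0' : B y0 a ≠ 0 := by rwa [hsymm]
      set ρ := B y0 b / B y0 a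
      have hall : ∀ y, B y (b - ρ • a) = 0 := by
        intro y
        have h1 : B (y - (B y a / B y0 a) • y0) a = 0 := by
          rw [sub_eq_add_neg, ← neg_smul, Bal, Bsl]
          field_simp
          ring
        have h3 := h _ h1
        rw [sub_eq_add_neg, ← neg_smul, Bal, Bsl] at h3
        rw [sub_eq_add_neg, ← neg_smul, Bar, Bsr, eq_neg_of_add_eq_zero_left h3]
        simp only [ρ]
        field_simp
        ring
      refine hba ?_
      by_contra hba'
      obtain ⟨z, hz⟩ := h2nd (b - ρ • a) fun h0 => hba' (by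
        rw [sub_eq_zero.mp h0]; exact Submodule.smul_mem _ _ (Submodule.mem_span_singleton_self a))
      exact hz ((hsymm _ _).trans (hall z))
    set r := -(c * (d * B b y))
    have hr : r ≠ 0 := neg_ne_zero.mpr (mul_ne_zero hc (mul_ne_zero hd (by rwa [hsymm])))
    refine ⟨g, hgI, fun i w => ?_, fun w => ?_, y, y + r • a, ?_, ?_⟩
    · rw [hg, hf, hf, hu]
      by_cases h : i = i₀
      · subst h
        exact add_mem (add_mem (LinearMap.mem_range_self _ _) (Submodule.smul_mem _ _ (LinearMap.mem_range_self _ _)))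
          (Submodule.smul_mem _ _ (LinearMap.mem_range_self _ _))
      · simp only [if_neg (Ne.symm h), zero_mul, mul_zero, neg_zero, sub_zero, zero_smul, add_zero]
        exact LinearMap.mem_range_self _ _
    · rw [hg, hf, hf, hu]
      simp only [if_neg hi, zero_mul, mul_zero, neg_zero, sub_zero, zero_smul, add_zero]
    · rw [hg, hf, hf, hu, if_pos rfl, hsymm a y, hya]
      simp only [mul_zero, zero_smul, sub_zero, add_zero, map_add, map_smul]
      rfl
    · intro hmem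
      obtain ⟨ρ, hρ⟩ := Submodule.mem_span_singleton.mp hmem
      have h1 : B (ρ • y) b = B (y + r • a) b := by rw [hρ]
      rw [Bsl, Bal, Bsl, hab, mul_zero,
        add_zero] at h1
      have h1' : ρ = 1 := mul_right_cancel₀ hyb (h1.trans (one_mul _).symm)
      rw [h1', one_smul, left_eq_add] at hρ
      exact ha ((smul_eq_zero.mp hρ).resolve_left hr)
  · obtain ⟨g, hgI, hg⟩ := hsieg (lift e P (u i₁) b) (by rw [hf, hab, mul_zero, mul_zero])
    obtain ⟨y, hy⟩ := h2nd a ha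
    refine ⟨g, hgI, y, y + (-(Q (lift e P (u i₁) b) * (c * (d * B a y)))) • a, (c * (d * B a y)) • b, ?_, ?_, ?_⟩
    · intro h0
      have h1 := congrArg (fun w => B w a) h0
      simp only [Bal, Bsl] at h1
      rw [haa, mul_zero, add_zero] at h1
      refine hy ((hsymm a y).trans (h1.trans ?_))
      simp [hB, Cfsg.Geo.formOfGram]
    · refine smul_ne_zero (mul_ne_zero hc (mul_ne_zero hd hy)) fun h => hba ?_
      rw [h]
      exact Submodule.zero_mem _
    · rw [hg, hf, hf, hu, hu, if_pos rfl, if_neg hi.symm, map_add, map_smul, map_smul]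
      simp only [zero_mul, mul_zero, neg_zero, zero_sub]
      abel

end Cfsg.Lib.Classical.TensorMono
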