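import Mathlib
import Cfsg.Agent.Classical.Misc.TensorMonomialCases
import Cfsg.Agent.Classical.Orth.FrameOvergroups

/-! Monomial frames: three-dimensional symmetric forms over three elements, unitary planes over four elements. -/

set_option autoImplicit false
set_option linter.unusedSimpArgs false
set_option linter.unusedSectionVars false
set_option linter.style.haveILetI false

namespace Cfsg.Lib.Classical.TensorMono

open Matrix

universe u

variable {F : Type u} [Field F]

theorem gram_bilinear {κ : Type} [Fintype κ] [DecidableEq κ] {f : (κ → F) → (κ → F) → F}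
    (hf : Cfsg.Geo.IsBilinearForm f) (x y : κ → F) :
    Cfsg.Geo.formOfGram id (Cfsg.Geo.gramMatrix f) x y = f x y :=
  formOfGram_gram (RingHom.id F) f hf.add_left hf.smul_left hf.add_right hf.smul_right x y

theorem mono_three [Fintype F] (hq : Fintype.card F = 3) (w : Fin 3 → Fin 3 → F) (μ : F) (hμ : μ ≠ 0)
    (h : ∀ i j, ∑ k, w i k * w j k = if i = j then μ else 0) (i : Fin 3) : ∃ k, ∀ k', k' ≠ k → w i k' = 0 := by
  classical
  obtain ⟨h2, h3, hsq⟩ := Cfsg.Lib.Classical.Refl.card_three_facts (F := F) hq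
  have hm : Matrix.of w * (Matrix.of w)ᵀ = μ • (1 : Matrix (Fin 3) (Fin 3) F) := by
    ext a b
    simp [Matrix.mul_apply, h, Matrix.one_apply, mul_ite]
  have hd := congrArg Matrix.det hm
  rw [Matrix.det_mul, Matrix.det_transpose, Matrix.det_smul, Matrix.det_one, mul_one, Fintype.card_fin] at hd
  have hμ1 : μ = 1 := by
    rcases hsq (Matrix.of w).det with h0 | h0
    · rw [h0, mul_zero] at hd
      exact absurd (eq_zero_of_pow_eq_zero hd.symm) hμ
    · rw [h0] at hd
      rcases hsq μ with h1 | h1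
      · exact absurd h1 hμ
      · linear_combination -hd - μ * h1
  have hi := h i i
  rw [if_pos rfl, hμ1, Fin.sum_univ_three] at hi
  rcases hsq (w i 0) with h0 | h0 <;> rcases hsq (w i 1) with h1 | h1 <;> rcases hsq (w i 2) with h4 | h4
  · exfalso; rw [h0, h1, h4] at hi; simp at hi
  · exact ⟨2, fun k hk => by fin_cases k <;> simp_all⟩
  · exact ⟨1, fun k hk => by fin_cases k <;> simp_all⟩
  · exfalso; rw [h1, h4, h0] at hi; exact one_ne_zero (by linear_combination hi : (1 : F) = 0)
  · exact ⟨0, fun k hk => by fin_cases k <;> simp_all⟩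
  · exfalso; rw [h0, h4, h1] at hi; exact one_ne_zero (by linear_combination hi : (1 : F) = 0)
  · exfalso; rw [h0, h1, h4] at hi; exact one_ne_zero (by linear_combination hi : (1 : F) = 0)
  · exfalso; rw [h0, h1, h4] at hi; exact h2 (by linear_combination hi)

theorem frame_three [Fintype F] (hq : Fintype.card F = 3) {f : (Fin 3 → F) → (Fin 3 → F) → F}
    (hf : Cfsg.Geo.IsSymmetricForm f) :
    ∃ (u : Fin 3 → Fin 3 → F) (d : F), d ≠ 0 ∧
      ∀ i j, Cfsg.Geo.formOfGram id (Cfsg.Geo.gramMatrix f) (u i) (u j) = if i = j then d else 0 := by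
  classical
  obtain ⟨h2, -, -⟩ := Cfsg.Lib.Classical.Refl.card_three_facts (F := F) hq
  let B : LinearMap.BilinForm F (Fin 3 → F) := LinearMap.mk₂ F f hf.bilinear.add_left
    (fun c x v => by rw [hf.bilinear.smul_left, smul_eq_mul]) hf.bilinear.add_right
    (fun c v x => by rw [hf.bilinear.smul_right, smul_eq_mul])
  have hS : B.IsSymm := ⟨fun x y => hf.symm x y⟩
  have hB : B.Nondegenerate := by
    refine ⟨fun x hx => ?_, fun x hx => ?_⟩
    · by_contra h0
      obtain ⟨-, y, hy⟩ := hf.nondegenerate x h0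
      exact hy (hx y)
    · by_contra h0
      obtain ⟨⟨y, hy⟩, -⟩ := hf.nondegenerate x h0
      exact hy (hx y)
  obtain ⟨c, b, hc, hb⟩ := Cfsg.Lib.Classical.exists_equal_norm_basis h2 B hS hB (m := 1) (by simp)
  let e : Fin 3 ≃ (Fin 1 × Bool) ⊕ Unit := Fintype.equivOfCardEq (by simp)
  refine ⟨fun i => b (e i), c, hc, fun i j => ?_⟩
  have h := hb (e i) (e j)
  simp only [EmbeddingLike.apply_eq_iff_eq] at h
  rw [gram_bilinear hf.bilinear]
  exact h

section four

variable [Fintype F] (hF : Fintype.card F = 4)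
include hF

theorem two_eq_zero : (2 : F) = 0 := by
  have h : ((Fintype.card F : ℕ) : F) = 0 := Nat.cast_card_eq_zero F
  rw [hF] at h
  push_cast at h
  exact mul_self_eq_zero.mp (by linear_combination h)

theorem cube_zero_one (x : F) : x * x ^ 2 = 0 ∨ x * x ^ 2 = 1 := by
  by_cases hx : x = 0
  · exact Or.inl (by rw [hx, zero_mul])
  · have h := FiniteField.pow_card_sub_one_eq_one x hx
    rw [hF] at h
    norm_num at h
    exact Or.inr (by linear_combination h)

/-- The involutory automorphism of the field with four elements. -/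
def sqHom : F →+* F where
  toFun x := x ^ 2
  map_one' := one_pow 2
  map_mul' x y := mul_pow x y 2
  map_zero' := zero_pow two_ne_zero
  map_add' x y := by linear_combination (x * y) * two_eq_zero hF

theorem mono_two (w : Fin 2 → Fin 2 → F) (μ : F) (hμ : μ ≠ 0)
    (h : ∀ i j, ∑ k, w i k * sqHom hF (w j k) = if i = j then μ else 0) (i : Fin 2) :
    ∃ k, ∀ k', k' ≠ k → w i k' = 0 := by
  have hi := h i i
  rw [if_pos rfl, Fin.sum_univ_two] at hi
  change w i 0 * (w i 0) ^ 2 + w i 1 * (w i 1) ^ 2 = μ at hi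
  rcases cube_zero_one hF (w i 0) with h0 | h0 <;> rcases cube_zero_one hF (w i 1) with h1 | h1
  · rw [h0, h1, add_zero] at hi; exact absurd hi.symm hμ
  · exact ⟨1, fun k hk => by fin_cases k <;> simp_all⟩
  · exact ⟨0, fun k hk => by fin_cases k <;> simp_all⟩
  · rw [h0, h1] at hi; exact absurd (by linear_combination two_eq_zero hF - hi) hμ

variable {κ : Type} [Fintype κ] [DecidableEq κ] {f : (κ → F) → (κ → F) → F}
  (hf : Cfsg.Geo.IsUnitaryFormPow 2 f)
include hf

theorem unitary_add_right (v x y : κ → F) : f v (x + y) = f v x + f v y := by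
  rw [hf.herm v (x + y), hf.add_left, hf.herm v x, hf.herm v y]
  linear_combination (f x v * f y v) * two_eq_zero hF

theorem unitary_smul_right (c : F) (v x : κ → F) : f v (c • x) = sqHom hF c * f v x := by
  rw [hf.herm v (c • x), hf.smul_left, hf.herm v x, mul_pow]
  rfl

theorem gram_unitary (x y : κ → F) :
    Cfsg.Geo.formOfGram (sqHom hF) (Cfsg.Geo.gramMatrix f) x y = f x y :=
  formOfGram_gram (sqHom hF) f hf.add_left hf.smul_left (unitary_add_right hF hf) (unitary_smul_right hF hf) x y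

theorem norm_zero_one (v : κ → F) : f v v = 0 ∨ f v v = 1 := by
  have h := hf.herm v v
  by_cases h0 : f v v = 0
  · exact Or.inl h0
  · exact Or.inr (mul_left_cancel₀ h0 (by rw [mul_one]; linear_combination -h))

theorem exists_norm_one (hne : Nonempty κ) : ∃ v, f v v = 1 := by
  classical
  obtain ⟨i⟩ := hne
  by_contra hcon
  push Not at hcon
  have hall : ∀ v, f v v = 0 := fun v => (norm_zero_one hF hf v).resolve_right (hcon v)
  obtain ⟨-, x, hx⟩ := hf.nondegenerate (Pi.single i 1) (by simp)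
  set v : κ → F := Pi.single i 1
  set a := f v x
  have h1 : ∀ t : F, t * a + (t * a) ^ 2 = 0 := fun t => by
    have h := hall (t • v + x)
    rw [hf.add_left, unitary_add_right hF hf, unitary_add_right hF hf, hf.smul_left, hf.smul_left, hall x,
      unitary_smul_right hF hf, unitary_smul_right hF hf, hall v, hf.herm x v] at h
    simp only [mul_zero, zero_add, add_zero] at h
    rw [mul_pow]
    exact h
  have h2 : ∀ s : F, s = 0 ∨ s = 1 := fun s => by
    have h := h1 (s / a)
    rw [div_mul_cancel₀ _ hx] at h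
    have h' : s * (s + 1) = 0 := by linear_combination h
    rcases mul_eq_zero.mp h' with e | e
    · exact Or.inl e
    · exact Or.inr (by linear_combination e - two_eq_zero hF)
  have hle : (Finset.univ : Finset F) ⊆ {0, 1} := fun s _ => by
    rcases h2 s with e | e <;> simp [e]
  have := Finset.card_le_card hle
  rw [Finset.card_univ, hF] at this
  have h3 := Finset.card_le_two (a := (0 : F)) (b := 1)
  omega

theorem exists_isotropic (h2 : 2 ≤ Fintype.card κ) : ∃ z, z ≠ 0 ∧ f z z = 0 := by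
  classical
  obtain ⟨v, hv⟩ := exists_norm_one hF hf (Fintype.card_pos_iff.mp (by omega))
  let φ : (κ → F) →ₗ[F] F :=
    { toFun := fun x => f x v
      map_add' := fun x y => hf.add_left x y v
      map_smul' := fun c x => hf.smul_left c x v }
  obtain ⟨x, hx, hx0⟩ := (LinearMap.ker φ).exists_mem_ne_zero_of_ne_bot fun h => by
    have h1 := φ.finrank_range_add_finrank_ker
    have h3 := Submodule.finrank_le (LinearMap.range φ)
    rw [h, finrank_bot, Module.finrank_fintype_fun_eq_card] at h1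
    rw [Module.finrank_self] at h3
    omega
  change f x v = 0 at hx
  rcases norm_zero_one hF hf x with h | h
  · exact ⟨x, hx0, h⟩
  · refine ⟨v + x, fun h0 => ?_, ?_⟩
    · have hh : f (v + x) v = 0 := by
        rw [h0]
        have := hf.smul_left 0 v v
        simpa using this
      rw [hf.add_left, hv, hx, add_zero] at hh
      exact one_ne_zero hh
    · have hvx : f v x = 0 := by rw [hf.herm, hx]; simp
      rw [hf.add_left, unitary_add_right hF hf, unitary_add_right hF hf, hv, hvx, hx, h]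
      linear_combination two_eq_zero hF

end four

theorem frame_two [Fintype F] (hF : Fintype.card F = 4) {f : (Fin 2 → F) → (Fin 2 → F) → F}
    (hf : Cfsg.Geo.IsUnitaryFormPow 2 f) :
    ∃ (u : Fin 2 → Fin 2 → F),
      ∀ i j, Cfsg.Geo.formOfGram (sqHom hF) (Cfsg.Geo.gramMatrix f) (u i) (u j) = if i = j then 1 else 0 := by
  classical
  obtain ⟨v, hv⟩ := exists_norm_one hF hf ⟨0⟩
  let φ : (Fin 2 → F) →ₗ[F] F :=
    { toFun := fun x => f x v
      map_add' := fun x y => hf.add_left x y v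
      map_smul' := fun c x => hf.smul_left c x v }
  obtain ⟨x, hx, hx0⟩ := (LinearMap.ker φ).exists_mem_ne_zero_of_ne_bot fun h => by
    have h1 := φ.finrank_range_add_finrank_ker
    have h3 := Submodule.finrank_le (LinearMap.range φ)
    rw [h, finrank_bot, Module.finrank_fintype_fun_eq_card, Fintype.card_fin] at h1
    rw [Module.finrank_self] at h3
    omega
  change f x v = 0 at hx
  have hvx : f v x = 0 := by rw [hf.herm, hx]; simp
  have hxx : f x x = 1 := by
    refine (norm_zero_one hF hf x).resolve_left fun h0 => ?_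
    obtain ⟨-, y, hy⟩ := hf.nondegenerate x hx0
    have hli : LinearIndependent F ![v, x] := by
      rw [Fintype.linearIndependent_iff]
      intro g hg i
      rw [Fin.sum_univ_two] at hg
      simp only [Matrix.cons_val_zero, Matrix.cons_val_one, Matrix.cons_val_fin_one] at hg
      have h1 : f (g 0 • v + g 1 • x) v = 0 := by
        rw [hg]
        simpa using hf.smul_left 0 v v
      rw [hf.add_left, hf.smul_left, hf.smul_left, hv, hx, mul_zero, add_zero, mul_one] at h1
      rw [h1, zero_smul, zero_add] at hg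
      fin_cases i
      · exact h1
      · exact (smul_eq_zero.mp hg).resolve_right hx0
    have hmem : y ∈ Submodule.span F (Set.range ![v, x]) := by
      rw [hli.span_eq_top_of_card_eq_finrank (by simp)]
      trivial
    obtain ⟨g, rfl⟩ := (Submodule.mem_span_range_iff_exists_fun F).mp hmem
    rw [Fin.sum_univ_two] at hy
    simp only [Matrix.cons_val_zero, Matrix.cons_val_one, Matrix.cons_val_fin_one] at hy
    rw [unitary_add_right hF hf, unitary_smul_right hF hf, unitary_smul_right hF hf, hx, h0] at hy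
    simp at hy
  refine ⟨![v, x], fun i j => ?_⟩
  rw [gram_unitary hF hf]
  fin_cases i <;> fin_cases j <;> simp [hv, hx, hvx, hxx]

theorem orth_three_not_maximal [Fintype F] (hq : Fintype.card F = 3) {ι : Type} [Fintype ι] [DecidableEq ι]
    (Q : QuadraticForm F (ι → F)) (hQ : (QuadraticMap.polarBilin Q).Nondegenerate) (hn : 5 ≤ Fintype.card ι)
    {n₂ : ℕ} (hn₂ : 3 ≤ n₂) (e : ι ≃ Fin 3 × Fin n₂) (P : GL ι F)
    {f₁ : (Fin 3 → F) → (Fin 3 → F) → F} {f₂ : (Fin n₂ → F) → (Fin n₂ → F) → F}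
    (hf₁ : Cfsg.Geo.IsSymmetricForm f₁) (hf₂ : Cfsg.Geo.IsSymmetricForm f₂)
    (hT : Cfsg.Geo.IsTensorFormStructure id (QuadraticMap.polar (⇑Q)) f₁ f₂ e P) :
    ∃ K : Subgroup (GL ι F), Cfsg.Geo.tensorProductSubgroup 3 n₂ e P ⊓ Cfsg.Geo.omegaGL (⇑Q) < K ∧
      K < Cfsg.Geo.omegaGL (⇑Q) := by
  obtain ⟨h2, -, -⟩ := Cfsg.Lib.Classical.Refl.card_three_facts (F := F) hq
  obtain ⟨u, d, hd, hu⟩ := frame_three hq hf₁
  refine siegel_not_maximal e P Q hQ h2 hn hT u hd hu (fun w μ hμ h i => mono_three hq w μ hμ h i)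
    (fun y hy => ?_) (fun y z => ?_) 0 1 (by decide) hn₂
  · obtain ⟨-, x, hx⟩ := hf₂.nondegenerate y hy
    exact ⟨x, by rwa [gram_bilinear hf₂.bilinear]⟩
  · rw [gram_bilinear hf₂.bilinear, gram_bilinear hf₂.bilinear, hf₂.symm]

theorem symp_three_not_maximal [Fintype F] (hq : Fintype.card F = 3) (m n₁ : ℕ) (hn₁ : 0 < n₁)
    (e : (Fin m ⊕ Fin m) ≃ Fin n₁ × Fin 3) (P : GL (Fin m ⊕ Fin m) F)
    {f₁ : (Fin n₁ → F) → (Fin n₁ → F) → F} {f₂ : (Fin 3 → F) → (Fin 3 → F) → F}
    (hf₁ : Cfsg.Geo.IsSymplecticForm f₁) (hf₂ : Cfsg.Geo.IsSymmetricForm f₂)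
    (hT : Cfsg.Geo.IsTensorFormStructure id (Cfsg.sympForm m F) f₁ f₂ e P) :
    ∃ K : Subgroup (GL (Fin m ⊕ Fin m) F),
      Cfsg.Geo.tensorProductSubgroup n₁ 3 e P ⊓ Cfsg.spGL m F < K ∧ K < Cfsg.spGL m F := by
  classical
  obtain ⟨u, d, hd, hu⟩ := frame_three hq hf₂
  have hal : ∀ x y v, Cfsg.sympForm m F (x + y) v = Cfsg.sympForm m F x v + Cfsg.sympForm m F y v :=
    fun x y v => add_dotProduct x y _
  have har : ∀ v x y, Cfsg.sympForm m F v (x + y) = Cfsg.sympForm m F v x + Cfsg.sympForm m F v y :=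
    fun v x y => by simp [Cfsg.sympForm, Matrix.mulVec_add, dotProduct_add]
  have hsl : ∀ (c : F) x v, Cfsg.sympForm m F (c • x) v = c * Cfsg.sympForm m F x v :=
    fun c x v => by simp [Cfsg.sympForm, smul_dotProduct]
  have hsr : ∀ (c : F) v x, Cfsg.sympForm m F v (c • x) = c * Cfsg.sympForm m F v x :=
    fun c v x => by simp [Cfsg.sympForm, Matrix.mulVec_smul, dotProduct_smul]
  have hskew : ∀ x y, Cfsg.sympForm m F x y = - Cfsg.sympForm m F y x := fun x y => by
    rw [Cfsg.sympForm, Cfsg.sympForm, Matrix.dotProduct_mulVec, dotProduct_comm, ← Matrix.mulVec_transpose,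
      Matrix.J_transpose, Matrix.neg_mulVec, dotProduct_neg]
  obtain ⟨K, hK, hK'⟩ := transv_not_maximal (e.trans (Equiv.prodComm _ _)) P (RingHom.id F) (Cfsg.sympForm m F)
    (Cfsg.spGL m F) (fun g hg => hg) hal har (structure_swap e P hT) u hd hu
    (fun w μ hμ h i => mono_three hq w μ hμ h i)
    (fun y hy => by
      obtain ⟨-, x, hx⟩ := hf₁.nondegenerate y hy
      exact ⟨x, fun h => hx ((gram_bilinear hf₁.bilinear y x).symm.trans h)⟩)
    (fun y hy => by
      obtain ⟨⟨x, hx⟩, -⟩ := hf₁.nondegenerate y hy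
      exact ⟨x, fun h => hx ((gram_bilinear hf₁.bilinear x y).symm.trans h)⟩)
    0 1 (by decide) (Pi.single ⟨0, hn₁⟩ 1) (by simp)
    ((gram_bilinear hf₁.bilinear _ _).trans (hf₁.alternating _))
    (fun v hv => by
      let φ : (Fin m ⊕ Fin m → F) →ₗ[F] F :=
        { toFun := fun x => Cfsg.sympForm m F x v
          map_add' := fun x y => hal x y v
          map_smul' := fun c x => hsl c x v }
      refine ⟨trGL φ v hv, fun x y => ?_, fun x => trGL_mulVec φ v hv x⟩
      show Cfsg.sympForm m F ((trGL φ v hv : Matrix _ _ F) *ᵥ x) ((trGL φ v hv : Matrix _ _ F) *ᵥ y) = _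
      rw [trGL_mulVec, trGL_mulVec, hal, har, har, hsl, hsl, hsr, hsr, hv]
      show Cfsg.sympForm m F x y + Cfsg.sympForm m F y v * Cfsg.sympForm m F x v +
        (Cfsg.sympForm m F x v * Cfsg.sympForm m F v y + Cfsg.sympForm m F x v * (Cfsg.sympForm m F y v * 0)) = _
      rw [hskew v y]
      ring)
  exact ⟨K, lt_of_le_of_lt (inf_le_inf_right _ (tensorProductSubgroup_swap e P)) hK, hK'⟩

theorem unitary_two_not_maximal [Fintype F] (hF : Fintype.card F = 4) (n n₂ : ℕ) (hn₂ : 2 ≤ n₂)
    (e : Fin n ≃ Fin 2 × Fin n₂) (P : GL (Fin n) F)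
    {f₁ : (Fin 2 → F) → (Fin 2 → F) → F} {f₂ : (Fin n₂ → F) → (Fin n₂ → F) → F}
    (hf₁ : Cfsg.Geo.IsUnitaryFormPow 2 f₁) (hf₂ : Cfsg.Geo.IsUnitaryFormPow 2 f₂)
    (hT : Cfsg.Geo.IsTensorFormStructure (fun x : F => x ^ 2) (Cfsg.hermForm n F 2) f₁ f₂ e P) :
    ∃ K : Subgroup (GL (Fin n) F),
      Cfsg.Geo.tensorProductSubgroup 2 n₂ e P ⊓ (Cfsg.GU n F 2 ⊓ Cfsg.Geo.specialLinear (Fin n) F) < K ∧
        K < (Cfsg.GU n F 2 ⊓ Cfsg.Geo.specialLinear (Fin n) F) := by
  classical
  have h20 := two_eq_zero hF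
  have hF2 : ∀ a : F, (a ^ 2) ^ 2 = a := fun a => by
    have h := FiniteField.pow_card a
    rw [hF] at h
    rw [← pow_mul]
    exact h
  obtain ⟨u, hu⟩ := frame_two hF hf₁
  obtain ⟨z, hz, hzz⟩ := exists_isotropic hF hf₂ (by simpa using hn₂)
  have hal : ∀ x y v, Cfsg.hermForm n F 2 (x + y) v = Cfsg.hermForm n F 2 x v + Cfsg.hermForm n F 2 y v :=
    fun x y v => by simp [Cfsg.hermForm, add_mul, Finset.sum_add_distrib]
  have har : ∀ v x y, Cfsg.hermForm n F 2 v (x + y) = Cfsg.hermForm n F 2 v x + Cfsg.hermForm n F 2 v y :=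
    fun v x y => by
      rw [Cfsg.hermForm, Cfsg.hermForm, Cfsg.hermForm, ← Finset.sum_add_distrib]
      refine Finset.sum_congr rfl fun i _ => ?_
      rw [Pi.add_apply]
      linear_combination (v i * x i * y i) * h20
  have hsl : ∀ (c : F) x v, Cfsg.hermForm n F 2 (c • x) v = c * Cfsg.hermForm n F 2 x v :=
    fun c x v => by simp [Cfsg.hermForm, Finset.mul_sum, mul_assoc]
  have hsr : ∀ (c : F) v x, Cfsg.hermForm n F 2 v (c • x) = c ^ 2 * Cfsg.hermForm n F 2 v x :=
    fun c v x => by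
      simp only [Cfsg.hermForm, Finset.mul_sum, Pi.smul_apply, smul_eq_mul]
      exact Finset.sum_congr rfl fun i _ => by ring
  have hherm : ∀ x y, Cfsg.hermForm n F 2 y x = (Cfsg.hermForm n F 2 x y) ^ 2 := fun x y => by
    have h : sqHom hF (∑ i, x i * (y i) ^ 2) = ∑ i, sqHom hF (x i * (y i) ^ 2) := map_sum _ _ _
    refine Eq.trans ?_ h.symm
    refine Finset.sum_congr rfl fun i _ => ?_
    show y i * x i ^ 2 = (x i * y i ^ 2) ^ 2
    rw [mul_pow, hF2]
    ring
  refine transv_not_maximal e P (sqHom hF) (Cfsg.hermForm n F 2) _ (fun g hg => hg.1) hal har hT u one_ne_zero hu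
    (fun w μ hμ h i => mono_two hF w μ hμ h i)
    (fun y hy => by
      obtain ⟨-, x, hx⟩ := hf₂.nondegenerate y hy
      exact ⟨x, fun h => hx ((gram_unitary hF hf₂ y x).symm.trans h)⟩)
    (fun y hy => by
      obtain ⟨⟨x, hx⟩, -⟩ := hf₂.nondegenerate y hy
      exact ⟨x, fun h => hx ((gram_unitary hF hf₂ x y).symm.trans h)⟩)
    0 1 (by decide) z hz ((gram_unitary hF hf₂ _ _).trans hzz) (fun v hv => ?_)
  let φ : (Fin n → F) →ₗ[F] F :=
    { toFun := fun x => Cfsg.hermForm n F 2 x v
      map_add' := fun x y => hal x y v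
      map_smul' := fun c x => hsl c x v }
  refine ⟨trGL φ v hv, ⟨fun x y => ?_, ?_⟩, fun x => trGL_mulVec φ v hv x⟩
  · show Cfsg.hermForm n F 2 ((trGL φ v hv : Matrix _ _ F) *ᵥ x) ((trGL φ v hv : Matrix _ _ F) *ᵥ y) = _
    rw [trGL_mulVec, trGL_mulVec, hal, har, har, hsl, hsl, hsr, hsr, hv]
    show Cfsg.hermForm n F 2 x y + (Cfsg.hermForm n F 2 y v) ^ 2 * Cfsg.hermForm n F 2 x v +
      (Cfsg.hermForm n F 2 x v * Cfsg.hermForm n F 2 v y +
        Cfsg.hermForm n F 2 x v * ((Cfsg.hermForm n F 2 y v) ^ 2 * 0)) = _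
    rw [hherm y v]
    linear_combination (Cfsg.hermForm n F 2 y v ^ 2 * Cfsg.hermForm n F 2 x v) * h20
  · have hsq : trGL φ v hv * trGL φ v hv = 1 := Units.ext <| Matrix.ext_iff_mulVec.mpr fun x => by
      rw [Units.val_mul, ← Matrix.mulVec_mulVec, trGL_mulVec, trGL_mulVec, Units.val_one, Matrix.one_mulVec,
        map_add, map_smul, show φ v = 0 from hv, smul_zero, add_zero, add_assoc, ← add_smul]
      have : φ x + φ x = 0 := by linear_combination (φ x) * h20
      rw [this, zero_smul, add_zero]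
    have hdet := congrArg Matrix.GeneralLinearGroup.det hsq
    rw [map_mul, map_one] at hdet
    show Matrix.GeneralLinearGroup.det (trGL φ v hv) = 1
    refine Units.ext ?_
    have h' : ((Matrix.GeneralLinearGroup.det (trGL φ v hv) : Fˣ) : F) *
        (Matrix.GeneralLinearGroup.det (trGL φ v hv) : Fˣ) = 1 := by
      rw [← Units.val_mul, hdet, Units.val_one]
    have : ((((Matrix.GeneralLinearGroup.det (trGL φ v hv) : Fˣ) : F)) - 1) ^ 2 = 0 := by
      linear_combination h' + (1 - ((Matrix.GeneralLinearGroup.det (trGL φ v hv) : Fˣ) : F)) * h20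
    rw [Units.val_one]
    exact sub_eq_zero.mp (eq_zero_of_pow_eq_zero this)

end Cfsg.Lib.Classical.TensorMono
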