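import Mathlib
import Cfsg.Agent.Classical.Misc.TensorDerangement
import Cfsg.Agent.Classical.Symp.PairDerangement

/-! Elements of prime order with small commutator are not Kronecker products. -/

set_option autoImplicit false
set_option linter.unusedSimpArgs false
set_option linter.unusedSectionVars false
set_option linter.unusedVariables false
set_option linter.style.haveILetI false
set_option linter.flexible false

namespace Cfsg.Lib.Classical.TensorSymp

open Matrix Submodule Polynomial Cfsg.Lib.Classical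
open scoped Kronecker

universe u

variable {F : Type u} [Field F] [Fintype F] {a b r : ℕ} [Fact r.Prime]

theorem one_kronecker_add (A B : Matrix (Fin b) (Fin b) F) :
    (1 : Matrix (Fin a) (Fin a) F) ⊗ₖ A + (1 : Matrix (Fin a) (Fin a) F) ⊗ₖ B =
      (1 : Matrix (Fin a) (Fin a) F) ⊗ₖ (A + B) := (Matrix.kronecker_add _ _ _).symm

theorem aeval_one_kronecker (C : Matrix (Fin b) (Fin b) F) (P : F[X]) :
    aeval ((1 : Matrix (Fin a) (Fin a) F) ⊗ₖ C) P = (1 : Matrix (Fin a) (Fin a) F) ⊗ₖ aeval C P := by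
  induction P using Polynomial.induction_on with
  | C c =>
    rw [aeval_C, aeval_C, Algebra.algebraMap_eq_smul_one, Algebra.algebraMap_eq_smul_one, Matrix.kronecker_smul,
      Matrix.one_kronecker_one]
  | add P Q hP hQ => rw [map_add, map_add, hP, hQ, one_kronecker_add]
  | monomial n c h =>
    rw [pow_succ, ← mul_assoc, map_mul (aeval ((1 : Matrix (Fin a) (Fin a) F) ⊗ₖ C)) (Polynomial.C c * X ^ n) X,
      map_mul (aeval C) (Polynomial.C c * X ^ n) X, h, aeval_X, aeval_X, ← Matrix.mul_kronecker_mul, one_mul]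

/-- The least dimension of a moved invariant subspace. -/
theorem krylov_li (hrF : ¬ r ∣ Fintype.card F) {g : Matrix (Fin a) (Fin a) F} (hg : g ^ r = 1) {v : Fin a → F}
    (hv : g *ᵥ v ≠ v) : ∀ j ≤ orderOf (Fintype.card F : ZMod r), LinearIndependent F fun k : Fin j => (g ^ (k : ℕ)) *ᵥ v := by
  intro j
  induction j with
  | zero => intro; exact linearIndependent_empty_type
  | succ j ih =>
    intro hj
    rw [linearIndependent_fin_succ']
    refine ⟨ih (by omega), fun hmem => ?_⟩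
    set W := span F (Set.range fun k : Fin j => (g ^ (k : ℕ)) *ᵥ v) with hW
    simp only [Fin.val_last] at hmem
    change (g ^ j) *ᵥ v ∈ span F (Set.range fun k : Fin j => (g ^ (k : ℕ)) *ᵥ v) at hmem
    rw [← hW] at hmem
    have hinv : ∀ w ∈ W, g *ᵥ w ∈ W := fun w hw => by
      induction hw using Submodule.span_induction with
      | mem x hx =>
        obtain ⟨k, rfl⟩ := hx
        show g *ᵥ ((g ^ (k : ℕ)) *ᵥ v) ∈ W
        rw [Matrix.mulVec_mulVec, ← pow_succ']
        rcases Nat.lt_or_ge ((k : ℕ) + 1) j with h | h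
        · exact subset_span ⟨⟨(k : ℕ) + 1, h⟩, rfl⟩
        · rw [show (k : ℕ) + 1 = j by omega]; exact hmem
      | zero => rw [Matrix.mulVec_zero]; exact W.zero_mem
      | add x y _ _ hx hy => rw [Matrix.mulVec_add]; exact add_mem hx hy
      | smul c x _ hx => rw [Matrix.mulVec_smul]; exact smul_mem _ c hx
    have hdim : Module.finrank F W ≤ j := (finrank_range_le_card _).trans (Fintype.card_fin j).le
    have htriv := PairDerange.trivial_small (F := F) (r := r) Fact.out (fun l hl h => Nat.le_of_dvd hl ((PrimeOrd.dvd_pow_sub_one l).mp h))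
      hrF g hg W hinv (by omega)
    rcases Nat.eq_zero_or_pos j with rfl | hj0
    · have hW0 : W = ⊥ := Submodule.finrank_eq_zero.mp (by omega)
      rw [hW0, Submodule.mem_bot, pow_zero, Matrix.one_mulVec] at hmem
      exact hv (by rw [hmem, Matrix.mulVec_zero])
    · refine hv (htriv v ?_)
      have : (g ^ 0) *ᵥ v ∈ W := subset_span ⟨⟨0, hj0⟩, rfl⟩
      rwa [pow_zero, Matrix.one_mulVec] at this

/-- A moved vector of the first factor moves many vectors of the product. -/
theorem rank_lower {g₁ : Matrix (Fin a) (Fin a) F} {g₂ : Matrix (Fin b) (Fin b) F} (j : ℕ) {v : Fin a → F}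
    (hli : LinearIndependent F fun k : Fin (j + 1) => (g₁ ^ (k : ℕ)) *ᵥ v) :
    j * b ≤ (g₁ ⊗ₖ g₂ - 1).rank := by
  classical
  let Φ : (Fin j × Fin b → F) →ₗ[F] (Fin a × Fin b → F) :=
    { toFun := fun u p => ∑ k : Fin j, ((g₁ ^ (k : ℕ)) *ᵥ v) p.1 * u (k, p.2)
      map_add' := fun u w => funext fun p => by simp [mul_add, Finset.sum_add_distrib]
      map_smul' := fun c u => funext fun p => by simp [Finset.mul_sum, mul_left_comm] }
  have hK : ∀ u p, ((g₁ ⊗ₖ g₂) *ᵥ Φ u) p = ∑ k : Fin j, ((g₁ ^ ((k : ℕ) + 1)) *ᵥ v) p.1 * (g₂ *ᵥ fun l => u (k, l)) p.2 := by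
    intro u p
    have hk : ∀ k : Fin j, (g₁ ^ ((k : ℕ) + 1)) *ᵥ v = g₁ *ᵥ ((g₁ ^ (k : ℕ)) *ᵥ v) := fun k => by
      rw [Matrix.mulVec_mulVec, pow_succ']
    simp only [hk]
    show ∑ q : Fin a × Fin b, (g₁ p.1 q.1 * g₂ p.2 q.2) * ∑ k : Fin j, ((g₁ ^ (k : ℕ)) *ᵥ v) q.1 * u (k, q.2) = _
    simp only [Finset.mul_sum]
    rw [Finset.sum_comm]
    refine Finset.sum_congr rfl fun k _ => ?_
    rw [Fintype.sum_prod_type]
    simp only [Matrix.mulVec, dotProduct, Finset.sum_mul]
    refine Finset.sum_congr rfl fun i _ => ?_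
    rw [Finset.mul_sum]
    refine Finset.sum_congr rfl fun l _ => ?_
    simp only [Finset.mul_sum, Finset.sum_mul]
    refine Finset.sum_congr rfl fun m _ => ?_
    ring
  have hinj : Function.Injective ((g₁ ⊗ₖ g₂ - 1).mulVecLin.comp Φ) := by
    rw [injective_iff_map_eq_zero]
    intro u hu
    have hcoef : ∀ l : Fin b, ∀ k : Fin (j + 1),
        (Fin.cons 0 (fun k : Fin j => (g₂ *ᵥ fun m => u (k, m)) l) : Fin (j + 1) → F) k -
          (Fin.snoc (fun k : Fin j => u (k, l)) 0 : Fin (j + 1) → F) k = 0 := fun l => by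
      refine Fintype.linearIndependent_iff.mp hli _ (funext fun i => ?_)
      have h := congrFun hu (i, l)
      rw [LinearMap.comp_apply, Matrix.mulVecLin_apply, Matrix.sub_mulVec, Matrix.one_mulVec, Pi.sub_apply, hK] at h
      simp only [Finset.sum_apply, Pi.smul_apply, smul_eq_mul, sub_mul, Finset.sum_sub_distrib, Pi.zero_apply]
      rw [Fin.sum_univ_succ (f := fun k => (Fin.cons 0 (fun k : Fin j => (g₂ *ᵥ fun m => u (k, m)) l) : Fin (j + 1) → F) k * _),
        Fin.sum_univ_castSucc (f := fun k => (Fin.snoc (fun k : Fin j => u (k, l)) 0 : Fin (j + 1) → F) k * _)]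
      simp only [Fin.cons_zero, Fin.cons_succ, Fin.snoc_castSucc, Fin.snoc_last, zero_mul, zero_add, add_zero,
        Fin.val_succ, Fin.val_castSucc]
      rw [Pi.zero_apply] at h
      rw [← h]
      refine congrArg₂ (· - ·) (Finset.sum_congr rfl fun k _ => mul_comm _ _) ?_
      exact Finset.sum_congr rfl fun k _ => mul_comm _ _
    have hall : ∀ k : ℕ, ∀ hk : k < j, ∀ l, u (⟨k, hk⟩, l) = 0 := by
      intro k
      induction k with
      | zero =>
        intro hk l
        have h := hcoef l 0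
        rw [Fin.cons_zero, zero_sub, neg_eq_zero, show (0 : Fin (j + 1)) = Fin.castSucc ⟨0, hk⟩ from rfl,
          Fin.snoc_castSucc] at h
        exact h
      | succ k ih =>
        intro hk l
        have h := hcoef l (Fin.succ ⟨k, by omega⟩)
        rw [Fin.cons_succ, show Fin.succ (⟨k, by omega⟩ : Fin j) = Fin.castSucc ⟨k + 1, hk⟩ from rfl,
          Fin.snoc_castSucc] at h
        rw [show (fun m => u (⟨k, _⟩, m)) = 0 from funext fun m => ih (by omega) m, Matrix.mulVec_zero, Pi.zero_apply,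
          zero_sub, neg_eq_zero] at h
        exact h
    exact funext fun p => hall p.1 p.1.2 p.2
  have h := LinearMap.finrank_range_of_inj hinj
  have h' := Submodule.finrank_mono (LinearMap.range_comp_le_range Φ (g₁ ⊗ₖ g₂ - 1).mulVecLin)
  rw [h, Module.finrank_fintype_fun_eq_card, Fintype.card_prod, Fintype.card_fin, Fintype.card_fin] at h'
  exact h'

/-- The rank of a moved part is a multiple of the order. -/
theorem ord_dvd_rank (hr : (r : F) ≠ 0) {C : Matrix (Fin b) (Fin b) F} (hC : C ^ r = 1) :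
    orderOf (Fintype.card F : ZMod r) ∣ (C - 1).rank := by
  have hT : Matrix.toLin' C ^ r = 1 := by rw [← Matrix.toLin'_pow, hC, Matrix.toLin'_one]; rfl
  have hmov : Module.finrank F (PrimeOrd.mov (Matrix.toLin' C)) = (C - 1).rank := by
    rw [Matrix.rank, PrimeOrd.mov, ← Matrix.toLin'_apply', map_sub, Matrix.toLin'_one]
    rfl
  rw [← hmov]
  exact PrimeOrd.dvd_of_fpf (r := r) hT (PrimeOrd.inv_mov _)
    (disjoint_iff.mp (PrimeOrd.isCompl_fix_mov hr hT).symm.disjoint)

theorem sub_one_swap (g₁ : Matrix (Fin a) (Fin a) F) (g₂ : Matrix (Fin b) (Fin b) F) :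
    (g₁ ⊗ₖ g₂ - 1).rank = (g₂ ⊗ₖ g₁ - 1).rank := by
  rw [← Matrix.rank_reindex (Equiv.prodComm (Fin a) (Fin b)) (Equiv.prodComm (Fin a) (Fin b)) (g₁ ⊗ₖ g₂ - 1)]
  congr 1
  ext ⟨k, i⟩ ⟨k', i'⟩
  simp [Matrix.one_apply, mul_comm, and_comm]

/-- Either one factor is trivial, giving a divisible rank, or the rank is large. -/
theorem dichotomy (hr : (r : F) ≠ 0) (hrF : ¬ r ∣ Fintype.card F) {g₁ : Matrix (Fin a) (Fin a) F}
    {g₂ : Matrix (Fin b) (Fin b) F} (h₁ : g₁ ^ r = 1) (h₂ : g₂ ^ r = 1) :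
    (g₁ = 1 ∧ ∃ k, (g₁ ⊗ₖ g₂ - 1).rank = a * (orderOf (Fintype.card F : ZMod r) * k)) ∨
      (orderOf (Fintype.card F : ZMod r) ≤ a ∧ (orderOf (Fintype.card F : ZMod r) - 1) * b ≤ (g₁ ⊗ₖ g₂ - 1).rank) := by
  set i := orderOf (Fintype.card F : ZMod r)
  by_cases hg : g₁ = 1
  · subst hg
    obtain ⟨k, hk⟩ := ord_dvd_rank hr h₂
    refine Or.inl ⟨rfl, k, ?_⟩
    rw [← hk, ← TensorDerange.rank_one_kronecker, show (1 : Matrix (Fin a) (Fin a) F) ⊗ₖ (g₂ - 1) =
      (1 : Matrix (Fin a) (Fin a) F) ⊗ₖ g₂ - 1 by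
        ext ⟨p, q⟩ ⟨p', q'⟩; simp [Matrix.one_apply]; by_cases h : p = p' <;> simp [h]]
  · obtain ⟨v, hv⟩ : ∃ v, g₁ *ᵥ v ≠ v := by
      by_contra hcon
      push Not at hcon
      exact hg (Matrix.toLin'.injective (LinearMap.ext fun v => by simp [hcon v]))
    have hi0 : 0 < i := PrimeOrd.ord_pos hrF
    have hli := krylov_li hrF h₁ hv i le_rfl
    refine Or.inr ⟨?_, rank_lower (v := v) (i - 1) ?_⟩
    · simpa using hli.fintype_card_le_finrank
    · have := krylov_li hrF h₁ hv (i - 1 + 1) (by omega)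
      exact this

/-- No Kronecker product has the rank of a smallest symplectic block. -/
theorem no_kron (hr : (r : F) ≠ 0) (hrF : ¬ r ∣ Fintype.card F) (ha : 2 ≤ a) (hae : Even a) (hb : 3 ≤ b) {c : ℕ}
    {g₁ : Matrix (Fin a) (Fin a) F} {g₂ : Matrix (Fin b) (Fin b) F} (h₁ : g₁ ^ r = 1) (h₂ : g₂ ^ r = 1)
    (hi : 2 ≤ orderOf (Fintype.card F : ZMod r))
    (hrank : (g₁ ⊗ₖ g₂ - 1).rank = c)
    (hc : c = orderOf (Fintype.card F : ZMod r) ∨ (c = 2 * orderOf (Fintype.card F : ZMod r) ∧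
      Odd (orderOf (Fintype.card F : ZMod r)) ∧
      ∃ P : F[X], (aeval (g₁ ⊗ₖ g₂) P).rank = orderOf (Fintype.card F : ZMod r))) : False := by
  set i := orderOf (Fintype.card F : ZMod r) with hi'
  rcases dichotomy hr hrF h₁ h₂ with ⟨hg, k, hk⟩ | ⟨hia, hbig⟩
  · rw [hrank, ← hi'] at hk
    rcases hc with hc | ⟨hc, hodd, P, hP⟩
    · rcases k with _ | k
      · rw [mul_zero, mul_zero] at hk; omega
      · have : 2 * (i * 1) ≤ a * (i * (k + 1)) := Nat.mul_le_mul ha (Nat.mul_le_mul le_rfl (by omega))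
        omega
    · subst hg
      rcases k with _ | k
      · rw [mul_zero, mul_zero] at hk; omega
      · have ha2 : a = 2 := by
          by_contra hne
          have : 3 * (i * 1) ≤ a * (i * (k + 1)) := Nat.mul_le_mul (by omega) (Nat.mul_le_mul le_rfl (by omega))
          omega
        subst ha2
        rw [aeval_one_kronecker, TensorDerange.rank_one_kronecker] at hP
        exact Nat.not_even_iff_odd.mpr hodd ⟨(aeval g₂ P).rank, by omega⟩
  · rw [hrank, ← hi'] at hbig
    obtain ⟨j, hj⟩ : ∃ j, i = j + 1 := ⟨i - 1, by omega⟩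
    rw [hj, Nat.add_sub_cancel] at hbig
    rcases hc with hc | ⟨hc, hodd, -⟩
    · nlinarith
    · obtain ⟨l, hl⟩ := hodd
      have hl1 : l = 1 := by
        by_contra hne
        have : 4 ≤ j := by omega
        nlinarith
      have hi3 : i = 3 := by omega
      have hb3 : b = 3 := by
        have : j = 2 := by omega
        subst this
        omega
      have ha4 : 4 ≤ a := by obtain ⟨s, hs⟩ := hae; omega
      rw [sub_one_swap] at hrank
      rcases dichotomy hr hrF h₂ h₁ with ⟨-, k, hk⟩ | ⟨-, hbig'⟩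
      · rw [hrank, ← hi', hc, hi3, hb3] at hk; omega
      · rw [hrank, ← hi', hc, hi3] at hbig'; omega

end Cfsg.Lib.Classical.TensorSymp
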