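import Mathlib
import Cfsg.Prelude.Def_GeometricClasses
import Cfsg.Agent.Classical.Misc.TensorSympObstruction
import Cfsg.Agent.Classical.Symp.UnitExtDerangementMain
import Cfsg.Agent.Known.SympSemisimple

/-! Elements of prime order of symplectic groups and tensor products of symplectic and orthogonal factors. -/

set_option autoImplicit false
set_option linter.unusedSimpArgs false
set_option linter.unusedSectionVars false
set_option linter.unusedVariables false
set_option linter.style.haveILetI false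
set_option linter.flexible false

namespace Cfsg.Lib.Classical.TensorSymp

open Matrix Submodule Polynomial Cfsg.Lib.Classical Cfsg.Lib.Classical.PairDerange
open scoped Kronecker

universe u

variable {F : Type u} [Field F] [Fintype F] {d a b : ℕ}

local notation "MD" => Matrix (Fin d ⊕ Fin d) (Fin d ⊕ Fin d) F
local notation "GD" => GL (Fin d ⊕ Fin d) F
local notation "MK" => Matrix (Fin a × Fin b) (Fin a × Fin b) F

/-- Conjugation followed by reindexing. -/
noncomputable def conjReindex (e : (Fin d ⊕ Fin d) ≃ Fin a × Fin b) (T : GD) : MD ≃ₐ[F] MK :=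
  { toFun := fun Y => (Matrix.reindexAlgEquiv F F e) (((T⁻¹ : GD) : MD) * Y * (T : MD))
    invFun := fun Y => (T : MD) * ((Matrix.reindexAlgEquiv F F e).symm Y) * ((T⁻¹ : GD) : MD)
    left_inv := fun Y => by simp [mul_assoc, ← Units.val_mul]
    right_inv := fun Y => by
      simp only [mul_assoc, ← Units.val_mul, inv_mul_cancel, Units.val_one, mul_one]
      rw [← mul_assoc, ← Units.val_mul, inv_mul_cancel, Units.val_one, one_mul, AlgEquiv.apply_symm_apply]
    map_mul' := fun Y Z => by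
      rw [← map_mul]
      congr 1
      simp only [mul_assoc]
      rw [← mul_assoc (T : MD) ((T⁻¹ : GD) : MD), ← Units.val_mul, mul_inv_cancel, Units.val_one, one_mul]
    map_add' := fun Y Z => by rw [mul_add, add_mul, map_add]
    commutes' := fun c => by
      rw [← Algebra.commutes c ((T⁻¹ : GD) : MD), mul_assoc, ← Units.val_mul, inv_mul_cancel, Units.val_one,
        mul_one, AlgEquiv.commutes] }

theorem rank_conjReindex (e : (Fin d ⊕ Fin d) ≃ Fin a × Fin b) (T : GD) (Y : MD) :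
    (conjReindex e T Y).rank = Y.rank := by
  show (Matrix.reindex e e (((T⁻¹ : GD) : MD) * Y * (T : MD))).rank = Y.rank
  rw [Matrix.rank_reindex, Matrix.rank_mul_eq_left_of_isUnit_det _ _ ((Matrix.isUnit_iff_isUnit_det _).mp T.isUnit),
    Matrix.rank_mul_eq_right_of_isUnit_det _ _ ((Matrix.isUnit_iff_isUnit_det _).mp (T⁻¹).isUnit)]

theorem conjReindex_eq (e : (Fin d ⊕ Fin d) ≃ Fin a × Fin b) (T y : GD) (k : GL (Fin a × Fin b) F)
    (h : T⁻¹ * y * T = Cfsg.Geo.glReindex e.symm k) : conjReindex e T (y : MD) = (k : MK) := by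
  show (Matrix.reindexAlgEquiv F F e) (((T⁻¹ : GD) : MD) * (y : MD) * (T : MD)) = _
  rw [← Units.val_mul, ← Units.val_mul, h]
  show (Matrix.reindexAlgEquiv F F e) ((Matrix.reindexAlgEquiv F F e.symm) (k : MK)) = _
  ext i j
  simp

/-- Coordinates of a conjugate inside the subgroup. -/
theorem extract (e : (Fin d ⊕ Fin d) ≃ Fin a × Fin b) (P : GD) {x g : GD}
    (h : g⁻¹ * x * g ∈ Cfsg.Geo.tensorProductSubgroup a b e P) :
    ∃ (g₁ : GL (Fin a) F) (g₂ : GL (Fin b) F) (ψ : MD ≃ₐ[F] MK), (∀ Y, (ψ Y).rank = Y.rank) ∧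
      ψ (x : MD) = (g₁ : Matrix (Fin a) (Fin a) F) ⊗ₖ (g₂ : Matrix (Fin b) (Fin b) F) := by
  obtain ⟨g', ⟨k, ⟨g₁, g₂, hk⟩, rfl⟩, he⟩ := h
  refine ⟨g₁, g₂, conjReindex e (g * P), rank_conjReindex e _, ?_⟩
  rw [conjReindex_eq e (g * P) x k ?_, ← hk]
  have h2 : P * Cfsg.Geo.glReindex e.symm k * P⁻¹ = g⁻¹ * x * g := he
  rw [show (g * P)⁻¹ * x * (g * P) = P⁻¹ * (g⁻¹ * x * g) * P by group, ← h2]
  group

/-- A small commutator of rank not divisible by `a`, or with such a product. -/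
theorem small_bad (e : (Fin d ⊕ Fin d) ≃ Fin a × Fin b) (P : GD) (ha : 1 ≤ a) (hb : 1 ≤ b) {x : GD}
    (hr : ((x : MD) - 1).rank < b) (c : F)
    (hd : ¬ a ∣ (((x : MD) - 1) * ((x : MD) - 1 - c • 1)).rank ∨ ¬ a ∣ ((x : MD) - 1).rank)
    (g : GD) : g⁻¹ * x * g ∉ Cfsg.Geo.tensorProductSubgroup a b e P := fun h => by
  obtain ⟨g₁, g₂, ψ, hψ, hψx⟩ := extract e P h
  have e1 : ψ ((x : MD) - 1) = (g₁ : Matrix (Fin a) (Fin a) F) ⊗ₖ (g₂ : Matrix (Fin b) (Fin b) F) - (1 : F) • (1 : MK) := by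
    rw [map_sub, map_one, hψx, one_smul]
  obtain ⟨B, hB⟩ := TensorDerange.small_kron hb ha ((Matrix.isUnit_iff_isUnit_det _).mp g₁.isUnit).ne_zero
    ((Matrix.isUnit_iff_isUnit_det _).mp g₂.isUnit).ne_zero (one_ne_zero (α := F)) (by rw [← e1, hψ]; exact hr)
  rw [← e1] at hB
  rcases hd with hd | hd
  · refine hd ⟨(B * (B - c • 1)).rank, ?_⟩
    rw [← hψ, map_mul, map_sub ψ ((x : MD) - 1) (c • 1), map_smul, map_one, hB, ← TensorDerange.rank_one_kronecker]
    congr 1
    rw [← Matrix.one_kronecker_one, ← Matrix.kronecker_smul, show (1 : Matrix (Fin a) (Fin a) F) ⊗ₖ B -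
      (1 : Matrix (Fin a) (Fin a) F) ⊗ₖ (c • (1 : Matrix (Fin b) (Fin b) F)) = (1 : Matrix (Fin a) (Fin a) F) ⊗ₖ (B - c • 1) by
        ext ⟨i, k⟩ ⟨i', k'⟩; simp [Matrix.one_apply]; by_cases h : i = i' <;> simp [h],
      ← Matrix.mul_kronecker_mul, one_mul]
  · exact hd ⟨B.rank, by rw [← hψ, hB, TensorDerange.rank_one_kronecker]⟩

/-- The smallest blocks are bad. -/
theorem block_bad (e : (Fin d ⊕ Fin d) ≃ Fin a × Fin b) (P : GD) (ha : 2 ≤ a) (hae : Even a) (hb : 3 ≤ b) {r : ℕ}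
    [Fact r.Prime] (hr : (r : F) ≠ 0) (hrF : ¬ r ∣ Fintype.card F)
    (hi : 2 ≤ orderOf (Fintype.card F : ZMod r)) {x : GD} (hx : (x : MD) ^ r = 1) {c : ℕ}
    (hrank : ((x : MD) - 1).rank = c)
    (hc : c = orderOf (Fintype.card F : ZMod r) ∨ (c = 2 * orderOf (Fintype.card F : ZMod r) ∧
      Odd (orderOf (Fintype.card F : ZMod r)) ∧
      ∃ f : F[X], (aeval (x : MD) f).rank = orderOf (Fintype.card F : ZMod r))) (g : GD) :
    g⁻¹ * x * g ∉ Cfsg.Geo.tensorProductSubgroup a b e P := fun h => by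
  classical
  have hrp : r.Prime := Fact.out
  obtain ⟨g₁, g₂, ψ, hψ, hψx⟩ := extract e P h
  have hk : ∀ j : ℕ, ((g₁ : Matrix (Fin a) (Fin a) F) ⊗ₖ (g₂ : Matrix (Fin b) (Fin b) F)) ^ j =
      ((g₁ : Matrix (Fin a) (Fin a) F) ^ j) ⊗ₖ ((g₂ : Matrix (Fin b) (Fin b) F) ^ j) := fun j => by
    induction j with
    | zero => simp
    | succ j ih => rw [pow_succ, ih, ← Matrix.mul_kronecker_mul, ← pow_succ, ← pow_succ]
  have hone : ((g₁ : Matrix (Fin a) (Fin a) F) ^ r) ⊗ₖ ((g₂ : Matrix (Fin b) (Fin b) F) ^ r) = 1 := by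
    rw [← hk, ← hψx, ← map_pow, hx, map_one]
  obtain ⟨t, ht⟩ := TensorDerange.factor_scalar (by omega : 1 ≤ b) hone
  have hg0 : (g₁ : Matrix (Fin a) (Fin a) F).det ≠ 0 := ((Matrix.isUnit_iff_isUnit_det _).mp g₁.isUnit).ne_zero
  haveI : Nonempty (Fin a) := Fin.pos_iff_nonempty.mp (by omega)
  have ht0 : t ≠ 0 := fun e0 => by
    have := congrArg Matrix.det ht
    rw [e0, zero_smul, Matrix.det_pow, Matrix.det_zero] at this
    exact pow_ne_zero r hg0 this
  have hnd : ¬ r ∣ Fintype.card F - 1 := fun hd => by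
    have := (PrimeOrd.dvd_pow_sub_one (F := F) (r := r) 1).mp (by rwa [pow_one])
    rw [Nat.dvd_one] at this
    omega
  obtain ⟨s, hs⟩ : ∃ s : F, s ^ r = t := by
    have hc' : (Nat.card Fˣ).Coprime r := by
      rw [Nat.card_units, Nat.card_eq_fintype_card]; exact (hrp.coprime_iff_not_dvd.mpr hnd).symm
    obtain ⟨s, hs⟩ := (powCoprime hc').surjective (Units.mk0 t ht0)
    exact ⟨s, by simpa using congrArg Units.val hs⟩
  have hs0 : s ≠ 0 := fun e0 => ht0 (by rw [← hs, e0, zero_pow hrp.ne_zero])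
  set h₁ : Matrix (Fin a) (Fin a) F := s⁻¹ • (g₁ : Matrix (Fin a) (Fin a) F) with hh₁
  set h₂ : Matrix (Fin b) (Fin b) F := s • (g₂ : Matrix (Fin b) (Fin b) F) with hh₂
  have hprod : h₁ ⊗ₖ h₂ = (g₁ : Matrix (Fin a) (Fin a) F) ⊗ₖ (g₂ : Matrix (Fin b) (Fin b) F) := by
    rw [hh₁, hh₂, Matrix.smul_kronecker, Matrix.kronecker_smul, smul_smul, inv_mul_cancel₀ hs0, one_smul]
  have e1 : h₁ ^ r = 1 := by rw [hh₁, _root_.smul_pow, ht, inv_pow, hs, smul_smul, inv_mul_cancel₀ ht0, one_smul]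
  have e2 : h₂ ^ r = 1 := by
    rw [hh₂, _root_.smul_pow, hs]
    rw [ht, Matrix.smul_kronecker, ← Matrix.kronecker_smul] at hone
    ext k k'
    have := congrFun (congrFun hone (⟨0, by omega⟩, k)) (⟨0, by omega⟩, k')
    simpa [Matrix.one_apply] using this
  have hX : h₁ ⊗ₖ h₂ = ψ (x : MD) := hprod.trans hψx.symm
  refine no_kron hr hrF ha hae hb e1 e2 hi (c := c) (by rw [hX, ← hrank, ← hψ ((x : MD) - 1), map_sub, map_one]) ?_
  rcases hc with hc | ⟨h1, h2, f, hf⟩
  · exact Or.inl hc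
  · refine Or.inr ⟨h1, h2, f, ?_⟩
    rw [hX, ← hf, ← hψ (aeval (x : MD) f), Polynomial.aeval_algHom_apply]

/-! ### Derangements -/

/-- The statement to refute. -/
def Fixed (r : ℕ) (e : (Fin d ⊕ Fin d) ≃ Fin a × Fin b) (P : GD) : Prop :=
  ∀ x ∈ Cfsg.spGL d F, (∃ z : F, ((x ^ r : GD) : MD) = z • (1 : MD)) → (∀ z : F, (x : MD) ≠ z • (1 : MD)) →
    ∃ g ∈ Cfsg.spGL d F, g⁻¹ * x * g ∈ Cfsg.Geo.tensorProductSubgroup a b e P

theorem refute {r : ℕ} (e : (Fin d ⊕ Fin d) ≃ Fin a × Fin b) (P : GD) (A : Matrix.symplecticGroup (Fin d) F) (z : F)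
    (hA : (A : MD) ^ r = z • 1) (hrk : 0 < ((A : MD) - 1).rank) (hrk' : ((A : MD) - 1).rank < 2 * d ∨
      ((A : MD) ^ r = 1 ∧ ∀ w : F, w ^ r = 1 → w = 1))
    (hbad : ∀ g : GD, g⁻¹ * SpExtDer.toGL d F A * g ∉ Cfsg.Geo.tensorProductSubgroup a b e P) :
    ¬ Fixed r e P := fun H => by
  have hcard : Fintype.card (Fin d ⊕ Fin d) = 2 * d := by simp [two_mul]
  obtain ⟨g, -, hg⟩ := H (SpExtDer.toGL d F A) (SpExtDer.toGL_mem A)
    ⟨z, by rw [Units.val_pow_eq_pow_val, SpExtDer.toGL_val]; exact hA⟩ (fun w hw => by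
      rw [SpExtDer.toGL_val] at hw
      have e1 : (A : MD) - 1 = (w - 1) • (1 : MD) := by rw [hw, sub_smul, one_smul]
      by_cases hw1 : w = 1
      · rw [e1, hw1, sub_self, zero_smul, Matrix.rank_zero] at hrk; omega
      · have : ((A : MD) - 1).rank = 2 * d := by
          rw [e1, Matrix.rank_of_isUnit _ ((Matrix.isUnit_iff_isUnit_det _).mpr
            (by rw [Matrix.det_smul, Matrix.det_one, mul_one]; exact (pow_ne_zero _ (sub_ne_zero.mpr hw1)).isUnit)), hcard]
        rcases hrk' with h | ⟨h1, h2⟩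
        · omega
        · rw [hw, _root_.smul_pow, one_pow] at h1
          obtain ⟨i⟩ : Nonempty (Fin d ⊕ Fin d) := ⟨Sum.inl ⟨0, by
            have := Matrix.rank_le_card_width ((A : MD) - 1); omega⟩⟩
          exact hw1 (h2 w (by simpa using congrFun (congrFun h1 i) i)))
  exact hbad g hg

theorem sincl_sandwich_rank {e₀ : ℕ} (h : e₀ ≤ d) (B : Matrix (Fin e₀ ⊕ Fin e₀) (Fin e₀ ⊕ Fin e₀) F) :
    (sincl F e₀ d * B * (sincl F e₀ d)ᵀ).rank = B.rank := by
  refine le_antisymm ((Matrix.rank_mul_le_left _ _).trans (Matrix.rank_mul_le_right _ _)) ?_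
  have e : B = (sincl F e₀ d)ᵀ * (sincl F e₀ d * B * (sincl F e₀ d)ᵀ) * sincl F e₀ d := by
    rw [show (sincl F e₀ d)ᵀ * (sincl F e₀ d * B * (sincl F e₀ d)ᵀ) * sincl F e₀ d =
      ((sincl F e₀ d)ᵀ * sincl F e₀ d) * B * ((sincl F e₀ d)ᵀ * sincl F e₀ d) by simp only [Matrix.mul_assoc],
      sincl_transpose_mul h, Matrix.one_mul, Matrix.mul_one]
  conv_lhs => rw [e]
  exact (Matrix.rank_mul_le_left _ _).trans (Matrix.rank_mul_le_right _ _)

theorem ext₁_sub_one (e₀ : ℕ) (M : Matrix (Fin e₀ ⊕ Fin e₀) (Fin e₀ ⊕ Fin e₀) F) :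
    ext₁ e₀ d M - 1 = sincl F e₀ d * (M - 1) * (sincl F e₀ d)ᵀ := by rw [ext₁, add_sub_cancel_left]

theorem ext₁_pow {e₀ : ℕ} (h : e₀ ≤ d) (M : Matrix (Fin e₀ ⊕ Fin e₀) (Fin e₀ ⊕ Fin e₀) F) (j : ℕ) :
    (ext₁ e₀ d M) ^ j = ext₁ e₀ d (M ^ j) := by
  induction j with
  | zero => simp [ext₁_one]
  | succ j ih => rw [pow_succ, pow_succ, ih, ext₁_mul h]

theorem aeval_ext₁ {e₀ : ℕ} (h : e₀ ≤ d) (M : Matrix (Fin e₀ ⊕ Fin e₀) (Fin e₀ ⊕ Fin e₀) F) (f : F[X]) :
    aeval (ext₁ e₀ d M) (f * (X - 1)) = sincl F e₀ d * (aeval M f * (M - 1)) * (sincl F e₀ d)ᵀ := by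
  set S := sincl F e₀ d with hS
  have hX : ext₁ e₀ d M * S = S * M := by
    rw [ext₁, ← hS, Matrix.add_mul, Matrix.one_mul, Matrix.mul_assoc _ Sᵀ S, hS, sincl_transpose_mul h, Matrix.mul_one,
      ← hS, Matrix.mul_sub, Matrix.mul_one]
    abel
  have hf : aeval (ext₁ e₀ d M) f * S = S * aeval M f := by
    induction f using Polynomial.induction_on with
    | C c => rw [aeval_C, aeval_C, Algebra.algebraMap_eq_smul_one, Algebra.algebraMap_eq_smul_one, Matrix.smul_mul,
        Matrix.mul_smul, Matrix.one_mul, Matrix.mul_one]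
    | add P Q hP hQ => rw [map_add, map_add, Matrix.add_mul, Matrix.mul_add, hP, hQ]
    | monomial n c hh =>
      rw [pow_succ, ← mul_assoc, map_mul (aeval (ext₁ e₀ d M)) (Polynomial.C c * X ^ n) X,
        map_mul (aeval M) (Polynomial.C c * X ^ n) X, aeval_X, aeval_X, Matrix.mul_assoc, hX, ← Matrix.mul_assoc, hh,
        Matrix.mul_assoc]
  rw [map_mul, map_sub, map_one, aeval_X, ext₁_sub_one, ← hS, ← Matrix.mul_assoc, ← Matrix.mul_assoc, hf]
  simp only [Matrix.mul_assoc]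

/-- A fixed point free irreducible element and its inverse are separated by a polynomial. -/
theorem exists_separator {i r : ℕ} [Fact r.Prime] (hr2 : r ≠ 2) (hrF : ¬ r ∣ Fintype.card F)
    (hi : i = orderOf (Fintype.card F : ZMod r)) (hodd : Odd i) (Y : Matrix (Fin i) (Fin i) F) (hY : Y ^ r = 1)
    (hfree : ∀ w, Y *ᵥ w = w → w = 0) :
    ∃ f : F[X], aeval Y f = 0 ∧ IsUnit (aeval (Y ^ (r - 1)) f).det := by
  classical
  have hrp : r.Prime := Fact.out
  haveI : Nonempty (Fin i) := ⟨⟨0, hodd.pos⟩⟩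
  have hY1 : Y ≠ 1 := fun e => by
    have := hfree (Pi.single ⟨0, hodd.pos⟩ 1) (by rw [e, Matrix.one_mulVec])
    simpa using congrFun this ⟨0, hodd.pos⟩
  -- nonzero elements of the generated algebra are invertible
  have hinj : ∀ Z : Matrix (Fin i) (Fin i) F, Y * Z = Z * Y → Z ≠ 0 → IsUnit Z.det := fun Z hZ hZ0 => by
    rw [← Matrix.isUnit_iff_isUnit_det, ← Matrix.mulVec_injective_iff_isUnit]
    intro u w huw
    have hker : u - w ∈ LinearMap.ker Z.mulVecLin := by
      rw [LinearMap.mem_ker, Matrix.mulVecLin_apply, Matrix.mulVec_sub, sub_eq_zero]; exact huw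
    set W := LinearMap.ker Z.mulVecLin with hW
    have hinv : ∀ x ∈ W, Y *ᵥ x ∈ W := fun x hx => by
      rw [hW, LinearMap.mem_ker, Matrix.mulVecLin_apply] at hx ⊢
      rw [Matrix.mulVec_mulVec, ← hZ, ← Matrix.mulVec_mulVec, hx, Matrix.mulVec_zero]
    have hlt : Module.finrank F W < i := by
      refine lt_of_lt_of_le (Submodule.finrank_lt ?_) (le_of_eq (Module.finrank_fin_fun F))
      intro htop
      exact hZ0 (Matrix.toLin'.injective (by
        rw [map_zero]
        exact LinearMap.ker_eq_top.mp htop))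
    have := PairDerange.trivial_small (F := F) (r := r) hrp
      (fun l hl h => Nat.le_of_dvd hl ((PrimeOrd.dvd_pow_sub_one l).mp h)) hrF Y hY W hinv (hi ▸ hlt)
    exact sub_eq_zero.mp (hfree _ (this _ hker))
  set K := Algebra.adjoin F ({Y} : Set (Matrix (Fin i) (Fin i) F)) with hK
  have hcomm : ∀ Z ∈ K, Y * Z = Z * Y := fun Z hZ => by
    induction hZ using Algebra.adjoin_induction with
    | mem z hz => rw [Set.mem_singleton_iff.mp hz]
    | algebraMap c => exact (Algebra.commutes c Y).symm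
    | add x y _ _ hx hy => rw [mul_add, add_mul, hx, hy]
    | mul x y _ _ hx hy => rw [← mul_assoc, hx, mul_assoc, hy, mul_assoc]
  haveI : IsMulCommutative K := Algebra.isMulCommutative_adjoin F (fun x hx y hy => by
    rw [Set.mem_singleton_iff.mp hx, Set.mem_singleton_iff.mp hy])
  letI : CommRing K := { (inferInstance : Ring K) with mul_comm := fun x y => IsMulCommutative.is_comm.comm x y }
  haveI : NoZeroDivisors K := ⟨fun {x y} hxy => by
    by_contra hcon
    push Not at hcon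
    have h1 := hinj x.1 (hcomm x.1 x.2) (fun e => hcon.1 (Subtype.ext e))
    refine hcon.2 (Subtype.ext ((Matrix.isUnit_iff_isUnit_det _).mpr h1 |>.mul_left_cancel ?_))
    show x.1 * y.1 = x.1 * 0
    rw [mul_zero]
    exact congrArg Subtype.val hxy⟩
  haveI : Nontrivial K := ⟨0, 1, fun e => zero_ne_one (congrArg Subtype.val e)⟩
  haveI : IsDomain K := NoZeroDivisors.to_isDomain K
  let f := minpoly F Y
  refine ⟨f, minpoly.aeval F Y, hinj _ ?_ fun h0 => ?_⟩
  · refine hcomm _ ?_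
    exact (Algebra.adjoin_le (S := K) (by rintro _ rfl; exact pow_mem (Algebra.self_mem_adjoin_singleton F Y) _))
      (Polynomial.aeval_mem_adjoin_singleton F (Y ^ (r - 1)))
  -- too many roots
  let y : K := ⟨Y, Algebra.self_mem_adjoin_singleton F Y⟩
  have hyr : y ^ r = 1 := Subtype.ext (by simpa [y] using hY)
  have hy1 : y ≠ 1 := fun e => hY1 (congrArg Subtype.val e)
  have hord : orderOf y = r := orderOf_eq_prime hyr hy1
  have hroot : ∀ z : K, aeval (z : Matrix (Fin i) (Fin i) F) f = 0 → aeval z f = 0 := fun z hz => Subtype.ext (by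
    show K.val (aeval z f) = 0
    rw [← Polynomial.aeval_algHom_apply]
    exact hz)
  have hr0 : aeval (y ^ (r - 1)) f = 0 := hroot _ (by simpa [y] using h0)
  have hrq : ∀ j : ℕ, aeval (y ^ Fintype.card F ^ j) f = 0 := fun j => by
    have h := congrArg (aeval y) (SpUniDer.expand_card_pow j f)
    rw [Polynomial.expand_aeval, map_pow, hroot y (minpoly.aeval F Y), zero_pow (pow_ne_zero _ Fintype.card_ne_zero)] at h
    exact h
  set S : Finset K := insert (y ^ (r - 1)) ((Finset.range i).image fun j => y ^ Fintype.card F ^ j) with hS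
  have hfin : IsIntegral F Y := IsIntegral.of_finite F Y
  have hf0 : (f.map (algebraMap F K)) ≠ 0 :=
    (Polynomial.map_ne_zero_iff (algebraMap F K).injective).mpr (minpoly.ne_zero hfin)
  have hsub : S.card ≤ f.natDegree := by
    rw [← Polynomial.natDegree_map_eq_of_injective (algebraMap F K).injective f]
    refine (Finset.card_le_card (t := (f.map (algebraMap F K)).roots.toFinset) fun z hz => ?_).trans
      ((Multiset.toFinset_card_le _).trans (Polynomial.card_roots' _))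
    rw [Multiset.mem_toFinset, Polynomial.mem_roots hf0, Polynomial.IsRoot.def, Polynomial.eval_map,
      ← Polynomial.aeval_def]
    rcases Finset.mem_insert.mp hz with rfl | hz
    · exact hr0
    · obtain ⟨j, -, rfl⟩ := Finset.mem_image.mp hz
      exact hrq j
  have hdeg : f.natDegree ≤ i := by
    have h1 := Matrix.minpoly_dvd_charpoly Y
    have h2 := Polynomial.natDegree_le_of_dvd h1 (Matrix.charpoly_monic Y).ne_zero
    rwa [Matrix.charpoly_natDegree_eq_dim, Fintype.card_fin] at h2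
  have hmod : ∀ u w : ℕ, y ^ u = y ^ w → (u : ZMod r) = w := fun u w h => by
    rw [ZMod.natCast_eq_natCast_iff', ← hord]
    refine pow_injOn_Iio_orderOf (x := y) (Nat.mod_lt u (hord ▸ hrp.pos)) (Nat.mod_lt w (hord ▸ hrp.pos)) ?_
    show y ^ (u % orderOf y) = y ^ (w % orderOf y)
    rw [pow_mod_orderOf, pow_mod_orderOf, h]
  have hinjq : Set.InjOn (fun j => y ^ Fintype.card F ^ j) ↑(Finset.range i) := fun j hj l hl h => by
    have h' := hmod _ _ h
    push_cast at h'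
    simp only [Finset.coe_range, Set.mem_Iio, hi] at hj hl
    exact pow_injOn_Iio_orderOf hj hl h'
  have hnot : y ^ (r - 1) ∉ (Finset.range i).image fun j => y ^ Fintype.card F ^ j := fun h => by
    obtain ⟨j, hj, hj'⟩ := Finset.mem_image.mp h
    have h' := hmod _ _ hj'
    push_cast [Nat.cast_sub hrp.one_le] at h'
    rw [ZMod.natCast_self, zero_sub] at h'
    have h2 : (Fintype.card F : ZMod r) ^ (2 * j) = 1 := by rw [mul_comm, pow_mul, h']; ring
    have h3 := orderOf_dvd_of_pow_eq_one h2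
    rw [← hi] at h3
    have h4 : i ∣ j := (Nat.Coprime.dvd_mul_left (Nat.coprime_two_right.mpr hodd)).mp h3
    have hj0 : j = 0 := Nat.eq_zero_of_dvd_of_lt h4 (Finset.mem_range.mp hj)
    rw [hj0, pow_zero] at h'
    have : ((2 : ℕ) : ZMod r) = 0 := by push_cast; linear_combination h'
    exact hr2 ((Nat.prime_dvd_prime_iff_eq hrp Nat.prime_two).mp ((ZMod.natCast_eq_zero_iff _ _).mp this))
  rw [hS, Finset.card_insert_of_notMem hnot, Finset.card_image_of_injOn hinjq, Finset.card_range] at hsub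
  omega

theorem rank_zero_block {i : ℕ} (D : Matrix (Fin i) (Fin i) F) (hD : IsUnit D.det) :
    (Matrix.fromBlocks 0 0 0 D : Matrix (Fin i ⊕ Fin i) (Fin i ⊕ Fin i) F).rank = i := by
  refine le_antisymm ?_ ?_
  · rw [show (Matrix.fromBlocks 0 0 0 D : Matrix (Fin i ⊕ Fin i) (Fin i ⊕ Fin i) F) =
      Matrix.fromRows (0 : Matrix (Fin i) (Fin i) F) D * Matrix.fromCols (0 : Matrix (Fin i) (Fin i) F) 1 by
        rw [Matrix.fromRows_mul_fromCols]; simp]
    exact (Matrix.rank_mul_le_left _ _).trans ((Matrix.rank_le_card_width _).trans (Fintype.card_fin i).le)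
  · have h := Matrix.rank_submatrix_le (Matrix.fromBlocks 0 0 0 D : Matrix (Fin i ⊕ Fin i) (Fin i ⊕ Fin i) F) Sum.inr Sum.inr
    rw [show (Matrix.fromBlocks 0 0 0 D : Matrix (Fin i ⊕ Fin i) (Fin i ⊕ Fin i) F).submatrix Sum.inr Sum.inr = D from rfl,
      Matrix.rank_of_isUnit _ ((Matrix.isUnit_iff_isUnit_det _).mpr hD), Fintype.card_fin] at h
    exact h

theorem aeval_fromBlocks {i : ℕ} (A B : Matrix (Fin i) (Fin i) F) (f : F[X]) :
    aeval (Matrix.fromBlocks A 0 0 B : Matrix (Fin i ⊕ Fin i) (Fin i ⊕ Fin i) F) f =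
      Matrix.fromBlocks (aeval A f) 0 0 (aeval B f) := by
  induction f using Polynomial.induction_on with
  | C c =>
    rw [aeval_C, aeval_C, aeval_C, Algebra.algebraMap_eq_smul_one, Algebra.algebraMap_eq_smul_one,
      ← Matrix.fromBlocks_one, Matrix.fromBlocks_smul, smul_zero]
  | add P Q hP hQ => rw [map_add, map_add, map_add, hP, hQ, Matrix.fromBlocks_add, add_zero]
  | monomial n c hh =>
    rw [pow_succ, ← mul_assoc, map_mul (aeval (Matrix.fromBlocks A 0 0 B : Matrix (Fin i ⊕ Fin i) (Fin i ⊕ Fin i) F))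
        (Polynomial.C c * X ^ n) X,
      map_mul (aeval A) (Polynomial.C c * X ^ n) X, map_mul (aeval B) (Polynomial.C c * X ^ n) X, hh, aeval_X, aeval_X,
      aeval_X, Matrix.fromBlocks_multiply]
    simp

theorem mem_blocks {i : ℕ} (A B : Matrix (Fin i) (Fin i) F) (h : A * Bᵀ = 1) :
    Matrix.fromBlocks A 0 0 B ∈ Matrix.symplecticGroup (Fin i) F := by
  rw [SymplecticGroup.mem_iff]
  simp [Matrix.J, Matrix.fromBlocks_transpose, Matrix.fromBlocks_multiply, h]
  rw [← Matrix.transpose_transpose B, ← Matrix.transpose_mul, h, Matrix.transpose_one]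

/-- Derangements of odd order prime to the characteristic with `r ∤ q - 1`. -/
theorem bad_block {p : ℕ} [Fact p.Prime] [CharP F p] (e : (Fin d ⊕ Fin d) ≃ Fin a × Fin b) (P : GD) (ha : 2 ≤ a)
    (hae : Even a) (hb : 3 ≤ b) {r : ℕ} [Fact r.Prime] (hr2 : r ≠ 2) (hrp : r ≠ p) (hnd : ¬ r ∣ Fintype.card F - 1)
    (hSp : r ∣ Nat.card (Matrix.symplecticGroup (Fin d) F)) : ¬ Fixed r e P := by
  classical
  have hrP : r.Prime := Fact.out
  have hrF : ¬ r ∣ Fintype.card F := by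
    obtain ⟨n, -, hn⟩ := FiniteField.card F p
    rw [hn]
    exact fun h => hrp ((Nat.prime_dvd_prime_iff_eq hrP Fact.out).mp (hrP.dvd_of_dvd_pow h))
  have hr : (r : F) ≠ 0 := fun h => hrp
    ((Nat.prime_dvd_prime_iff_eq Fact.out hrP).mp ((CharP.cast_eq_zero_iff F p r).mp h)).symm
  set i := orderOf (Fintype.card F : ZMod r) with hi
  have hi0 : 0 < i := PrimeOrd.ord_pos hrF
  have hi2 : 2 ≤ i := by
    by_contra hlt
    refine hnd ?_
    have := (PrimeOrd.dvd_pow_sub_one (F := F) (r := r) 1).mpr (by rw [← hi, show i = 1 by omega])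
    rwa [pow_one] at this
  obtain ⟨j, hj, hij⟩ : ∃ j, j ≤ d ∧ (0 < j ∧ i ∣ 2 * j) := by
    rw [Cfsg.Lib.Classical.card_symplecticGroup, Nat.card_eq_fintype_card] at hSp
    rcases hrP.dvd_mul.mp hSp with h | h
    · exact absurd (hrP.dvd_of_dvd_pow h) hrF
    · obtain ⟨k, hk, hk'⟩ := (hrP.prime.dvd_finset_prod_iff _).mp h
      exact ⟨k + 1, Finset.mem_range.mp hk, Nat.succ_pos k, (PrimeOrd.dvd_pow_sub_one _).mp hk'⟩
  have hroot : ∀ w : F, w ^ r = 1 → w = 1 := fun w hw => by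
    have hw0 : w ≠ 0 := fun e0 => by rw [e0, zero_pow hrP.ne_zero] at hw; exact zero_ne_one hw
    have h := (pow_gcd_eq_one (a := w) (m := r) (n := Fintype.card F - 1)).mpr ⟨hw, FiniteField.pow_card_sub_one_eq_one w hw0⟩
    rwa [(hrP.coprime_iff_not_dvd.mpr hnd).gcd_eq_one, pow_one] at h
  rcases Nat.even_or_odd i with ⟨e₀, he⟩ | hodd
  · have hed : e₀ ≤ d := by have := Nat.le_of_dvd (by omega) hij.2; omega
    obtain ⟨M, hM, hMr, hM1, hirr⟩ := PairDerange.exists_irreducible (F := F) hrP hrp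
      (e := e₀) (by rw [← hi, he, two_mul]) (by omega)
    let A : Matrix.symplecticGroup (Fin d) F := ⟨ext₁ e₀ d M, ext₁_mem hed hM⟩
    have hXr : (A : MD) ^ r = 1 := by
      show (ext₁ e₀ d M) ^ r = 1
      rw [ext₁_pow hed, hMr, ext₁_one]
    have hrank : ((A : MD) - 1).rank = i := by
      show (ext₁ e₀ d M - 1).rank = i
      rw [ext₁_sub_one, sincl_sandwich_rank hed, he]
      rw [Matrix.rank_of_isUnit _ ?_]
      · simp
      rw [← Matrix.mulVec_injective_iff_isUnit]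
      intro u w huw
      have hker : u - w ∈ LinearMap.ker (M - 1).mulVecLin := by
        rw [LinearMap.mem_ker, Matrix.mulVecLin_apply, Matrix.mulVec_sub, sub_eq_zero]; exact huw
      rcases hirr (LinearMap.ker (M - 1).mulVecLin) (fun x hx => by
        rw [LinearMap.mem_ker, Matrix.mulVecLin_apply] at hx ⊢
        rw [Matrix.mulVec_mulVec, show (M - 1) * M = M * (M - 1) by noncomm_ring, ← Matrix.mulVec_mulVec, hx,
          Matrix.mulVec_zero]) with h | h
      · rw [h, Submodule.mem_bot] at hker; exact sub_eq_zero.mp hker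
      · refine absurd (sub_eq_zero.mp (Matrix.toLin'.injective ?_)) hM1
        rw [map_zero]; exact LinearMap.ker_eq_top.mp h
    refine refute e P A 1 (by rw [one_smul]; exact hXr) (by omega) (Or.inr ⟨hXr, hroot⟩) fun g =>
      block_bad e P ha hae hb hr hrF (hi ▸ hi2) (by rw [SpExtDer.toGL_val]; exact hXr) (c := i)
        (by rw [SpExtDer.toGL_val]; exact hrank) (Or.inl hi) g
  · have hij' : i ∣ j := (Nat.Coprime.dvd_mul_left (Nat.coprime_two_right.mpr hodd)).mp hij.2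
    have hed : i ≤ d := (Nat.le_of_dvd hij.1 hij').trans hj
    obtain ⟨Y, hYd, hYr, -, hYf⟩ := PrimeOrd.exists_example (F := F) (n := i) hr hrF (hi ▸ hi2) le_rfl
    rw [← hi, Nat.mod_self, Nat.le_zero] at hYf
    have hfree : ∀ w, Y *ᵥ w = w → w = 0 := fun w hw =>
      (Submodule.mem_bot F).mp (finrank_eq_zero.mp hYf ▸ PrimeOrd.mem_fix.mpr (by simpa using hw))
    obtain ⟨f, hf0, hf1⟩ := exists_separator hr2 hrF hi hodd Y hYr hfree
    have hinv : Y * Y ^ (r - 1) = 1 := by rw [← pow_succ', Nat.sub_add_cancel hrP.one_le, hYr]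
    let B : Matrix (Fin i) (Fin i) F := (Y ^ (r - 1))ᵀ
    let M : Matrix (Fin i ⊕ Fin i) (Fin i ⊕ Fin i) F := Matrix.fromBlocks Y 0 0 B
    have hM : M ∈ Matrix.symplecticGroup (Fin i) F := mem_blocks _ _ (by rw [Matrix.transpose_transpose, hinv])
    have hMr : M ^ r = 1 := by
      have hp : ∀ k : ℕ, M ^ k = Matrix.fromBlocks (Y ^ k) 0 0 (B ^ k) := fun k => by
        induction k with
        | zero => simp [← Matrix.fromBlocks_one]
        | succ k ih => rw [pow_succ, ih]; simp [M, Matrix.fromBlocks_multiply, pow_succ]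
      rw [hp, hYr, ← Matrix.transpose_pow, ← pow_mul, mul_comm, pow_mul, hYr, one_pow, Matrix.transpose_one,
        Matrix.fromBlocks_one]
    have hY1 : IsUnit (Y - 1).det := by
      rw [← Matrix.isUnit_iff_isUnit_det, ← Matrix.mulVec_injective_iff_isUnit]
      intro u w huw
      refine sub_eq_zero.mp (hfree _ ?_)
      have h : (Y - 1) *ᵥ (u - w) = 0 := by rw [Matrix.mulVec_sub]; exact sub_eq_zero.mpr huw
      rwa [Matrix.sub_mulVec, Matrix.one_mulVec, sub_eq_zero] at h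
    have hB1 : IsUnit (B - 1).det := by
      have e1 : (B - 1) = -((Y ^ (r - 1)) * (Y - 1))ᵀ := by
        show (Y ^ (r - 1))ᵀ - 1 = _
        rw [Matrix.mul_sub, ← pow_succ, Nat.sub_add_cancel hrP.one_le, hYr, Matrix.mul_one, Matrix.transpose_sub,
          Matrix.transpose_one, neg_sub]
      rw [e1, Matrix.det_neg, Matrix.det_transpose, Matrix.det_mul]
      exact (((isUnit_one.neg).pow _).mul ((IsUnit.of_mul_eq_one_right _ (by rw [← Matrix.det_mul, hinv, Matrix.det_one])).mul hY1))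
    have hMsub : M - 1 = Matrix.fromBlocks (Y - 1) 0 0 (B - 1) := by
      rw [← Matrix.fromBlocks_one]
      ext s t
      rcases s with s | s <;> rcases t with t | t <;> simp [M, Matrix.one_apply]
    let A : Matrix.symplecticGroup (Fin d) F := ⟨ext₁ i d M, ext₁_mem hed hM⟩
    have hXr : (A : MD) ^ r = 1 := by
      show (ext₁ i d M) ^ r = 1
      rw [ext₁_pow hed, hMr, ext₁_one]
    have hrank : ((A : MD) - 1).rank = 2 * i := by
      show (ext₁ i d M - 1).rank = 2 * i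
      rw [ext₁_sub_one, sincl_sandwich_rank hed, hMsub, Matrix.rank_of_isUnit _ ?_]
      · simp [two_mul]
      rw [Matrix.isUnit_iff_isUnit_det, Matrix.det_fromBlocks_zero₂₁]
      exact hY1.mul hB1
    have hpoly : (aeval (A : MD) (f * (X - 1))).rank = i := by
      show (aeval (ext₁ i d M) (f * (X - 1))).rank = i
      rw [aeval_ext₁ hed, sincl_sandwich_rank hed, aeval_fromBlocks, hf0, hMsub, Matrix.fromBlocks_multiply]
      simp only [Matrix.zero_mul, Matrix.mul_zero, add_zero, zero_add]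
      refine rank_zero_block _ ?_
      rw [Matrix.det_mul]
      refine IsUnit.mul ?_ hB1
      have hT : ∀ g : F[X], aeval B g = (aeval (Y ^ (r - 1)) g)ᵀ := fun g => by
        induction g using Polynomial.induction_on with
        | C c => simp [Algebra.algebraMap_eq_smul_one]
        | add P' Q' hP' hQ' => simp [hP', hQ']
        | monomial n c _ => simp [B, Matrix.transpose_pow, Algebra.algebraMap_eq_smul_one]
      rw [hT, Matrix.det_transpose]
      exact hf1
    refine refute e P A 1 (by rw [one_smul]; exact hXr) (by omega) (Or.inr ⟨hXr, hroot⟩) fun g =>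
      block_bad e P ha hae hb hr hrF (hi ▸ hi2) (by rw [SpExtDer.toGL_val]; exact hXr) (c := 2 * i)
        (by rw [SpExtDer.toGL_val]; exact hrank)
        (Or.inr ⟨by rw [hi], hi ▸ hodd, f * (X - 1), by rw [SpExtDer.toGL_val, hpoly]⟩) g

/-- The two-dimensional examples. -/
theorem bad_plane {r : ℕ} (e : (Fin d ⊕ Fin d) ≃ Fin a × Fin b) (P : GD) (hd : 2 ≤ d) (ha : 2 ≤ a) (hb : 3 ≤ b)
    (M : Matrix (Fin 1 ⊕ Fin 1) (Fin 1 ⊕ Fin 1) F) (hM : M ∈ Matrix.symplecticGroup (Fin 1) F) (hMr : M ^ r = 1)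
    (hpos : 0 < (M - 1).rank) (c : F)
    (h : ¬ a ∣ ((M - 1) * (M - 1 - c • 1)).rank ∨ ¬ a ∣ (M - 1).rank) : ¬ Fixed r e P := by
  have h1 : (1 : ℕ) ≤ d := by omega
  let A : Matrix.symplecticGroup (Fin d) F := ⟨ext₁ 1 d M, ext₁_mem h1 hM⟩
  have hrank : ((A : MD) - 1).rank = (M - 1).rank := by
    show (ext₁ 1 d M - 1).rank = _
    rw [ext₁_sub_one, sincl_sandwich_rank h1]
  have hprod : ((A : MD) - 1) * ((A : MD) - 1 - c • 1) = sincl F 1 d * ((M - 1) * (M - 1 - c • 1)) * (sincl F 1 d)ᵀ := by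
    show (ext₁ 1 d M - 1) * (ext₁ 1 d M - 1 - c • 1) = _
    have hS := sincl_transpose_mul (F := F) h1
    rw [ext₁_sub_one]
    set S := sincl F 1 d
    set N := M - 1
    rw [Matrix.mul_sub, Matrix.mul_smul, Matrix.mul_one, show S * N * Sᵀ * (S * N * Sᵀ) = S * (N * ((Sᵀ * S) * N)) * Sᵀ by
      simp only [Matrix.mul_assoc], hS, Matrix.one_mul]
    simp only [Matrix.mul_sub, Matrix.mul_smul, Matrix.mul_one, Matrix.sub_mul, Matrix.smul_mul, Matrix.mul_assoc]
  have hle : (M - 1).rank ≤ 2 := (Matrix.rank_le_card_width _).trans (by simp)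
  have hXr : (A : MD) ^ r = 1 := by
    show (ext₁ 1 d M) ^ r = 1
    rw [ext₁_pow h1, hMr, ext₁_one]
  refine refute e P A 1 (by rw [one_smul]; exact hXr) (by omega) (Or.inl (by omega)) fun g =>
    small_bad e P (by omega) (by omega) (x := SpExtDer.toGL d F A) (by rw [SpExtDer.toGL_val]; omega) c ?_ g
  rw [SpExtDer.toGL_val, hrank, hprod, sincl_sandwich_rank h1]
  exact h

/-! ### Involutions -/

/-- A conjugate of a Kronecker product preserving both forms. -/
theorem model_mem (e : (Fin d ⊕ Fin d) ≃ Fin a × Fin b) (P : GD) (f₁ : (Fin a → F) → (Fin a → F) → F)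
    (f₂ : (Fin b → F) → (Fin b → F) → F)
    (hS : Cfsg.Geo.IsTensorFormStructure id (Cfsg.sympForm d F) f₁ f₂ e P) (g₁ : GL (Fin a) F) (g₂ : GL (Fin b) F)
    (h₁ : (g₁ : Matrix (Fin a) (Fin a) F)ᵀ * Cfsg.Geo.gramMatrix f₁ * (g₁ : Matrix (Fin a) (Fin a) F) = Cfsg.Geo.gramMatrix f₁)
    (h₂ : (g₂ : Matrix (Fin b) (Fin b) F)ᵀ * Cfsg.Geo.gramMatrix f₂ * (g₂ : Matrix (Fin b) (Fin b) F) = Cfsg.Geo.gramMatrix f₂) :
    ∃ A : Matrix.symplecticGroup (Fin d) F, SpExtDer.toGL d F A ∈ Cfsg.Geo.tensorProductSubgroup a b e P ∧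
      ∃ ψ : MD ≃ₐ[F] MK, (∀ Y, (ψ Y).rank = Y.rank) ∧
        ψ (A : MD) = (g₁ : Matrix (Fin a) (Fin a) F) ⊗ₖ (g₂ : Matrix (Fin b) (Fin b) F) := by
  set K : MK := (g₁ : Matrix (Fin a) (Fin a) F) ⊗ₖ (g₂ : Matrix (Fin b) (Fin b) F) with hK
  let k : GL (Fin a × Fin b) F := ⟨K, ((g₁⁻¹ : GL (Fin a) F) : Matrix (Fin a) (Fin a) F) ⊗ₖ ((g₂⁻¹ : GL (Fin b) F) : Matrix (Fin b) (Fin b) F),
    by rw [hK, ← Matrix.mul_kronecker_mul, ← Units.val_mul, ← Units.val_mul, mul_inv_cancel, mul_inv_cancel]; simp,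
    by rw [hK, ← Matrix.mul_kronecker_mul, ← Units.val_mul, ← Units.val_mul, inv_mul_cancel, inv_mul_cancel]; simp⟩
  set y : GD := P * Cfsg.Geo.glReindex e.symm k * P⁻¹ with hy
  have hmem : y ∈ Cfsg.Geo.tensorProductSubgroup a b e P :=
    ⟨Cfsg.Geo.glReindex e.symm k, ⟨k, ⟨g₁, g₂, rfl⟩, rfl⟩, rfl⟩
  set G : MK := Cfsg.Geo.gramMatrix f₁ ⊗ₖ Cfsg.Geo.gramMatrix f₂ with hG
  have hKG : Kᵀ * G * K = G := by
    rw [hK, hG, ← Matrix.kroneckerMap_transpose, ← Matrix.mul_kronecker_mul, ← Matrix.mul_kronecker_mul, h₁, h₂]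
  have hform : ∀ u w : Fin a × Fin b → F, Cfsg.Geo.formOfGram id G u w = u ⬝ᵥ G *ᵥ w := fun u w => by
    simp [Cfsg.Geo.formOfGram, dotProduct, Matrix.mulVec, Finset.mul_sum, mul_assoc]
  have hsp : (y : MD) ∈ Matrix.symplecticGroup (Fin d) F := by
    rw [mem_symplectic_iff_form]
    intro u w
    obtain ⟨c, hc, hcf⟩ := hS
    have hP : ∀ v : Fin d ⊕ Fin d → F, ∃ v' : Fin a × Fin b → F, v = (P : MD) *ᵥ (v' ∘ e) := fun v =>
      ⟨(((P⁻¹ : GD) : MD) *ᵥ v) ∘ e.symm, by
        rw [Function.comp_assoc, Equiv.symm_comp_self, Function.comp_id, Matrix.mulVec_mulVec, ← Units.val_mul,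
          mul_inv_cancel, Units.val_one, Matrix.one_mulVec]⟩
    have hy' : ∀ v' : Fin a × Fin b → F, (y : MD) *ᵥ ((P : MD) *ᵥ (v' ∘ e)) = (P : MD) *ᵥ ((K *ᵥ v') ∘ e) := fun v' => by
      rw [Matrix.mulVec_mulVec, ← Units.val_mul, hy, inv_mul_cancel_right, Units.val_mul, ← Matrix.mulVec_mulVec]
      congr 1
      show (K.submatrix e e) *ᵥ (v' ∘ e) = _
      rw [Matrix.submatrix_mulVec_equiv, Function.comp_assoc, Equiv.self_comp_symm, Function.comp_id]
    obtain ⟨u, rfl⟩ := hP u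
    obtain ⟨w, rfl⟩ := hP w
    rw [hy', hy', sympBilin_eq_sympForm, sympBilin_eq_sympForm, hcf, hcf, ← hG, hform, hform]
    congr 1
    rw [Matrix.mulVec_mulVec, ← Matrix.vecMul_transpose K, ← Matrix.dotProduct_mulVec, Matrix.mulVec_mulVec,
      ← Matrix.mul_assoc, hKG]
  have hto : SpExtDer.toGL d F ⟨(y : MD), hsp⟩ = y := Units.ext (SpExtDer.toGL_val _)
  refine ⟨⟨(y : MD), hsp⟩, hto.symm ▸ hmem, ?_⟩
  exact ⟨conjReindex e P, rank_conjReindex e P, conjReindex_eq e P y k (by rw [hy]; group)⟩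

theorem orth_involution (G : Matrix (Fin b) (Fin b) F) (hG : Gᵀ = G) (h2 : (2 : F) ≠ 0) (j : ℕ) (hj : j ≤ b) :
    ∃ g : GL (Fin b) F, (g : Matrix (Fin b) (Fin b) F)ᵀ * G * (g : Matrix (Fin b) (Fin b) F) = G ∧
      (g : Matrix (Fin b) (Fin b) F) ^ 2 = 1 ∧ ((g : Matrix (Fin b) (Fin b) F) - 1).rank = j := by
  classical
  haveI : Invertible (2 : F) := invertibleOfNonzero h2
  let B : LinearMap.BilinForm F (Fin b → F) := Matrix.toBilin' G
  have hB : ∀ u w, B u w = u ⬝ᵥ G *ᵥ w := fun u w => Matrix.toBilin'_apply' G u w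
  obtain ⟨v, hv⟩ := LinearMap.BilinForm.exists_orthogonal_basis (B := B) ⟨fun x y => by
    rw [hB, hB, RingHom.id_apply, Matrix.dotProduct_mulVec, ← Matrix.mulVec_transpose, hG, dotProduct_comm]⟩
  let w := v.reindex (finCongr (by rw [Module.finrank_fin_fun] : Module.finrank F (Fin b → F) = b))
  let Q : GL (Fin b) F := linToGL (Fin b) F w.equivFun.symm
  let s : Fin b → F := fun i => if (i : ℕ) < j then -1 else 1
  have hs : ∀ i, s i * s i = 1 := fun i => by by_cases h : (i : ℕ) < j <;> simp [s, h]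
  let S : GL (Fin b) F := ⟨Matrix.diagonal s, Matrix.diagonal s,
    by rw [Matrix.diagonal_mul_diagonal, ← Matrix.diagonal_one]; exact congrArg _ (funext hs),
    by rw [Matrix.diagonal_mul_diagonal, ← Matrix.diagonal_one]; exact congrArg _ (funext hs)⟩
  set g := Q * S * Q⁻¹ with hg
  have hQG : ∃ D : Fin b → F, (Q : Matrix (Fin b) (Fin b) F)ᵀ * G * (Q : Matrix (Fin b) (Fin b) F) = Matrix.diagonal D := by
    refine ⟨fun i => B (w i) (w i), ?_⟩
    ext i k
    have e1 : ∀ i, (Q : Matrix (Fin b) (Fin b) F) *ᵥ Pi.single i 1 = w i := fun i => by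
      rw [linToGL_mulVec]; simp [Module.Basis.equivFun_symm_apply, Pi.single_apply]
    have e2 : ((Q : Matrix (Fin b) (Fin b) F)ᵀ * G * (Q : Matrix (Fin b) (Fin b) F)) i k = B (w i) (w k) := by
      rw [hB, ← e1 i, ← e1 k, Matrix.mulVec_mulVec, ← Matrix.vecMul_transpose (Q : Matrix (Fin b) (Fin b) F),
        ← Matrix.dotProduct_mulVec, Matrix.mulVec_mulVec, ← Matrix.mul_assoc]
      simp [Matrix.mulVec, dotProduct, Pi.single_apply]
    rw [e2]
    by_cases h : i = k
    · subst h; simp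
    · rw [Matrix.diagonal_apply_ne _ h]
      show B (w i) (w k) = 0
      rw [Module.Basis.reindex_apply, Module.Basis.reindex_apply]
      exact hv fun e0 => h ((finCongr _).symm.injective e0)
  obtain ⟨D, hD⟩ := hQG
  have hQQ : (Q : Matrix (Fin b) (Fin b) F) * ((Q⁻¹ : GL (Fin b) F) : Matrix (Fin b) (Fin b) F) = 1 := by
    rw [← Units.val_mul, mul_inv_cancel, Units.val_one]
  refine ⟨g, ?_, ?_, ?_⟩
  · set R := ((Q⁻¹ : GL (Fin b) F) : Matrix (Fin b) (Fin b) F)
    set Qm := (Q : Matrix (Fin b) (Fin b) F)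
    rw [show (g : Matrix (Fin b) (Fin b) F) = Qm * Matrix.diagonal s * R from rfl, Matrix.transpose_mul, Matrix.transpose_mul,
      Matrix.diagonal_transpose]
    calc Rᵀ * (Matrix.diagonal s * Qmᵀ) * G * (Qm * Matrix.diagonal s * R)
        = Rᵀ * (Matrix.diagonal s * (Qmᵀ * G * Qm) * Matrix.diagonal s) * R := by simp only [Matrix.mul_assoc]
      _ = Rᵀ * (Qmᵀ * G * Qm) * R := by
          rw [hD, Matrix.diagonal_mul_diagonal, Matrix.diagonal_mul_diagonal]
          congr 2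
          exact congrArg _ (funext fun i => by linear_combination D i * hs i)
      _ = (Qm * R)ᵀ * G * (Qm * R) := by rw [Matrix.transpose_mul]; simp only [Matrix.mul_assoc]
      _ = G := by rw [hQQ, Matrix.transpose_one, Matrix.one_mul, Matrix.mul_one]
  · rw [← Units.val_pow_eq_pow_val, hg, pow_two, show Q * S * Q⁻¹ * (Q * S * Q⁻¹) = Q * (S * S) * Q⁻¹ by group,
      show S * S = 1 from Units.ext (by
        show Matrix.diagonal s * Matrix.diagonal s = 1
        rw [Matrix.diagonal_mul_diagonal, ← Matrix.diagonal_one]; exact congrArg _ (funext hs)), mul_one,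
      mul_inv_cancel, Units.val_one]
  · have e3 : (g : Matrix (Fin b) (Fin b) F) - 1 = (Q : Matrix (Fin b) (Fin b) F) * Matrix.diagonal (fun i => s i - 1) *
        ((Q⁻¹ : GL (Fin b) F) : Matrix (Fin b) (Fin b) F) := by
      rw [← Matrix.diagonal_sub, Matrix.diagonal_one, Matrix.mul_sub, Matrix.sub_mul, Matrix.mul_one, hQQ]
      rfl
    rw [e3, Matrix.rank_mul_eq_left_of_isUnit_det _ _ ((Matrix.isUnit_iff_isUnit_det _).mp (Q⁻¹).isUnit),
      Matrix.rank_mul_eq_right_of_isUnit_det _ _ ((Matrix.isUnit_iff_isUnit_det _).mp Q.isUnit), Matrix.rank_diagonal,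
      Fintype.card_subtype]
    have : (Finset.univ.filter fun i : Fin b => s i - 1 ≠ 0) = Finset.univ.filter fun i : Fin b => (i : ℕ) < j := by
      ext i
      by_cases h : (i : ℕ) < j
      · have : (-1 : F) - 1 ≠ 0 := fun e0 => h2 (by linear_combination -e0)
        simp [s, h, this]
      · simp [s, h]
    rw [this, Fin.card_filter_val_lt, min_eq_right hj]

end Cfsg.Lib.Classical.TensorSymp
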