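import Mathlib
import Cfsg.Agent.Classical.Misc.TensorSympElusive

/-! Which prime orders of symplectic groups fix a point on tensor decompositions `Sp_a ⊗ O_b`. -/

set_option autoImplicit false
set_option linter.unusedSimpArgs false
set_option linter.unusedSectionVars false
set_option linter.unusedVariables false
set_option linter.style.haveILetI false
set_option linter.flexible false

namespace Cfsg.Lib.Classical.TensorSymp

open Matrix Submodule Polynomial Cfsg.Lib.Classical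
open scoped Kronecker

universe u

variable {F : Type u} [Field F] [Fintype F] {d a b : ℕ}

local notation "MD" => Matrix (Fin d ⊕ Fin d) (Fin d ⊕ Fin d) F
local notation "GD" => GL (Fin d ⊕ Fin d) F
local notation "M1" => Matrix (Fin 1 ⊕ Fin 1) (Fin 1 ⊕ Fin 1) F
local notation "B1" => Matrix (Fin 1) (Fin 1) F

theorem bad_char {p : ℕ} [Fact p.Prime] [CharP F p] (e : (Fin d ⊕ Fin d) ≃ Fin a × Fin b) (P : GD) (hd : 2 ≤ d)
    (ha : 2 ≤ a) (hb : 3 ≤ b) : ¬ Fixed p e P := by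
  let M : M1 := Matrix.fromBlocks 1 0 1 1
  have hM : M ∈ Matrix.symplecticGroup (Fin 1) F := by
    rw [SymplecticGroup.mem_iff]
    simp [M, Matrix.J, Matrix.fromBlocks_transpose, Matrix.fromBlocks_multiply]
  have hpow : ∀ k : ℕ, M ^ k = Matrix.fromBlocks 1 0 ((k : F) • (1 : B1)) 1 := fun k => by
    induction k with
    | zero => simp [← Matrix.fromBlocks_one]
    | succ k ih =>
      rw [pow_succ, ih]
      simp [M, Matrix.fromBlocks_multiply, add_smul]
  have hMr : M ^ p = 1 := by rw [hpow, CharP.cast_eq_zero F p, zero_smul, Matrix.fromBlocks_one]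
  have hrank : (M - 1).rank = 1 := by
    have e1 : M - 1 = (Matrix.fromBlocks 0 0 0 (1 : B1) : M1) * (Matrix.fromBlocks 0 1 1 0 : M1) := by
      rw [Matrix.fromBlocks_multiply, ← Matrix.fromBlocks_one]
      ext s t
      rcases s with s | s <;> rcases t with t | t <;> simp [M, Matrix.one_apply]
    rw [e1, Matrix.rank_mul_eq_left_of_isUnit_det]
    · exact rank_zero_block _ (by rw [Matrix.det_one]; exact isUnit_one)
    · rw [← Matrix.isUnit_iff_isUnit_det]
      exact IsUnit.of_mul_eq_one (Matrix.fromBlocks 0 1 1 0 : M1) (by simp [Matrix.fromBlocks_multiply, Matrix.fromBlocks_one])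
  exact bad_plane e P hd ha hb M hM hMr (by omega) 0
    (Or.inr (by rw [hrank, Nat.dvd_one]; omega))

theorem bad_two (e : (Fin d ⊕ Fin d) ≃ Fin a × Fin b) (P : GD) (hd : 2 ≤ d) (ha : 3 ≤ a) (hb : 3 ≤ b)
    (h2 : (2 : F) ≠ 0) : ¬ Fixed 2 e P := by
  let M : M1 := Matrix.fromBlocks (-1) 0 0 (-1)
  have hM : M ∈ Matrix.symplecticGroup (Fin 1) F := mem_blocks _ _ (by simp)
  have hMr : M ^ 2 = 1 := by simp [M, pow_two, Matrix.fromBlocks_multiply, Matrix.fromBlocks_one]
  have hrank : (M - 1).rank = 2 := by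
    have e1 : M - 1 = (-2 : F) • (1 : M1) := by
      rw [← Matrix.fromBlocks_one]
      ext s t
      rcases s with s | s <;> rcases t with t | t <;> simp [M, Matrix.one_apply] <;> split_ifs <;> norm_num
    rw [e1, Matrix.rank_of_isUnit]
    · simp
    · rw [Matrix.isUnit_iff_isUnit_det, Matrix.det_smul, Matrix.det_one, mul_one]
      exact (pow_ne_zero _ (neg_ne_zero.mpr h2)).isUnit
  exact bad_plane e P hd (by omega) hb M hM hMr (by omega) 0
    (Or.inr (by rw [hrank]; exact fun h => by have := Nat.le_of_dvd two_pos h; omega))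

theorem bad_split {r : ℕ} [Fact r.Prime] (e : (Fin d ⊕ Fin d) ≃ Fin a × Fin b) (P : GD) (hd : 2 ≤ d)
    (ha : 2 ≤ a) (hb : 3 ≤ b) (hr2 : r ≠ 2) (hdvd : r ∣ Fintype.card F - 1) : ¬ Fixed r e P := by
  classical
  have hrp : r.Prime := Fact.out
  obtain ⟨w, hw⟩ := exists_prime_orderOf_dvd_card' (G := Fˣ) r (by rwa [Nat.card_units, Nat.card_eq_fintype_card])
  have hwr : (w : F) ^ r = 1 := by rw [← Units.val_pow_eq_pow_val, ← hw, pow_orderOf_eq_one, Units.val_one]
  have hw2 : (w : F) ≠ ((w⁻¹ : Fˣ) : F) := fun h => by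
    have h1 : w ^ 2 = 1 := Units.ext (by rw [pow_two, Units.val_mul]; nth_rw 2 [h]; rw [← Units.val_mul, mul_inv_cancel])
    have h3 := orderOf_dvd_of_pow_eq_one h1
    rw [hw] at h3
    exact hr2 ((Nat.prime_dvd_prime_iff_eq hrp Nat.prime_two).mp h3)
  have hw1 : (w : F) ≠ 1 := fun h => by
    rw [Units.val_eq_one] at h; rw [h, orderOf_one] at hw; exact hrp.ne_one hw.symm
  set u : F := ((w⁻¹ : Fˣ) : F) with hu
  have hwu : (w : F) * u = 1 := by rw [hu, ← Units.val_mul, mul_inv_cancel, Units.val_one]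
  have hu1 : u ≠ 1 := fun h => hw1 (by rw [h, mul_one] at hwu; exact hwu)
  let M : M1 := Matrix.fromBlocks ((w : F) • (1 : B1)) 0 0 (u • (1 : B1))
  have hM : M ∈ Matrix.symplecticGroup (Fin 1) F := mem_blocks _ _ (by simp [smul_smul, hwu, mul_comm u])
  have hpow : ∀ k : ℕ, M ^ k = Matrix.fromBlocks (((w : F) ^ k) • (1 : B1)) 0 0 ((u ^ k) • (1 : B1)) := fun k => by
    induction k with
    | zero => simp [← Matrix.fromBlocks_one]
    | succ k ih => rw [pow_succ, ih]; simp [M, Matrix.fromBlocks_multiply, smul_smul, pow_succ, mul_comm]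
  have hur : u ^ r = 1 := by
    have h : ((w : F) * u) ^ r = 1 := by rw [hwu, one_pow]
    rwa [mul_pow, hwr, one_mul] at h
  have hMr : M ^ r = 1 := by rw [hpow, hwr, hur, one_smul, Matrix.fromBlocks_one]
  have hsub : ∀ c : F, M - 1 - c • (1 : M1) =
      Matrix.fromBlocks (((w : F) - 1 - c) • (1 : B1)) 0 0 ((u - 1 - c) • (1 : B1)) := fun c => by
    rw [← Matrix.fromBlocks_one, Matrix.fromBlocks_smul]
    ext s t
    rcases s with s | s <;> rcases t with t | t <;> simp [M, Matrix.one_apply] <;> split_ifs <;> ring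
  have hsub0 : M - 1 = Matrix.fromBlocks (((w : F) - 1) • (1 : B1)) 0 0 ((u - 1) • (1 : B1)) := by
    simpa using hsub 0
  have hdet : ∀ c : F, c ≠ 0 → IsUnit (c • (1 : B1)).det := fun c hc => by
    rw [Matrix.det_smul, Matrix.det_one, mul_one]; exact (pow_ne_zero _ hc).isUnit
  have hpos : 0 < (M - 1).rank := by
    rw [hsub0, Matrix.rank_of_isUnit]
    · simp
    · rw [Matrix.isUnit_iff_isUnit_det, Matrix.det_fromBlocks_zero₂₁]
      exact (hdet _ (sub_ne_zero.mpr hw1)).mul (hdet _ (sub_ne_zero.mpr hu1))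
  refine bad_plane e P hd ha hb M hM hMr hpos ((w : F) - 1) (Or.inl ?_)
  have e1 : (M - 1) * (M - 1 - ((w : F) - 1) • (1 : M1)) =
      Matrix.fromBlocks 0 0 0 (((u - 1) * (u - 1 - ((w : F) - 1))) • (1 : B1)) := by
    rw [hsub, hsub0, Matrix.fromBlocks_multiply]
    simp [smul_smul, mul_comm]
  rw [e1, rank_zero_block _ (hdet _ (mul_ne_zero (sub_ne_zero.mpr hu1)
    (by rw [sub_sub_sub_cancel_right]; exact sub_ne_zero.mpr hw2.symm)))]
  rw [Nat.dvd_one]; omega

/-- A `2 × 2` alternating Gram matrix is multiplied by the determinant. -/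
theorem gram_two {f : (Fin 2 → F) → (Fin 2 → F) → F} (hf : Cfsg.Geo.IsSymplecticForm f) (g : Matrix (Fin 2) (Fin 2) F) :
    gᵀ * Cfsg.Geo.gramMatrix f * g = g.det • Cfsg.Geo.gramMatrix f := by
  have h : ∀ i j, Cfsg.Geo.gramMatrix f i j = - Cfsg.Geo.gramMatrix f j i := fun i j => hf.skew _ _
  have h0 : ∀ i, Cfsg.Geo.gramMatrix f i i = 0 := fun i => hf.alternating _
  ext i j
  fin_cases i <;> fin_cases j <;>
    simp [Matrix.mul_apply, Fin.sum_univ_two, Matrix.det_fin_two, h0, h 1 0] <;> ring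

theorem conj_into {p : ℕ} [Fact p.Prime] [CharP F p] {H : Subgroup GD} (hp : p ≠ 2) (A B : Matrix.symplecticGroup (Fin d) F)
    (hA : (A : MD) ^ 4 = 1) (hB : (B : MD) ^ 4 = 1) (hc : (A : MD).charpoly = (B : MD).charpoly)
    (hmem : SpExtDer.toGL d F B ∈ H) :
    ∃ g ∈ Cfsg.spGL d F, g⁻¹ * SpExtDer.toGL d F A * g ∈ H := by
  have hco : ∀ C : Matrix.symplecticGroup (Fin d) F, (C : MD) ^ 4 = 1 → (orderOf C).Coprime p := fun C hC => by
    refine Nat.Coprime.coprime_dvd_left (orderOf_dvd_of_pow_eq_one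
      (Subtype.ext (by rw [SubmonoidClass.coe_pow, hC]; rfl) : C ^ 4 = 1)) ?_
    rw [show (4 : ℕ) = 2 ^ 2 by norm_num]
    exact Nat.Coprime.pow_left 2 ((Nat.coprime_primes Nat.prime_two Fact.out).mpr hp.symm)
  obtain ⟨c, hcAB⟩ := isConj_iff.mp (Cfsg.Lib.SympSemisimple.isConj_of_charpoly (p := p) A B (hco A hA) (hco B hB) hc)
  refine ⟨(SpExtDer.toGL d F c)⁻¹, inv_mem (SpExtDer.toGL_mem c), ?_⟩
  rw [inv_inv, ← map_inv, ← map_mul, ← map_mul, hcAB]
  exact hmem

/-- The involutions fix a point when `a = 2`. -/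
theorem good_two {p : ℕ} [Fact p.Prime] [CharP F p] (hp : p ≠ 2) (hd : 0 < d) (e : (Fin d ⊕ Fin d) ≃ Fin 2 × Fin b) (P : GD)
    (f₁ : (Fin 2 → F) → (Fin 2 → F) → F) (f₂ : (Fin b → F) → (Fin b → F) → F)
    (hf₁ : Cfsg.Geo.IsSymplecticForm f₁) (hf₂ : Cfsg.Geo.IsSymmetricForm f₂)
    (hS : Cfsg.Geo.IsTensorFormStructure id (Cfsg.sympForm d F) f₁ f₂ e P) : Fixed 2 e P := by
  classical
  intro x hx ⟨z, hz⟩ _
  have h2 : (2 : F) ≠ 0 := Ring.two_ne_zero (by rw [ringChar.eq F p]; exact hp)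
  have hdb : d = b := by
    have h := Fintype.card_congr e
    simp only [Fintype.card_sum, Fintype.card_fin, Fintype.card_prod] at h
    omega
  let A : Matrix.symplecticGroup (Fin d) F := ⟨(x : MD), (SpExtDer.mem_spGL_iff _).mp hx⟩
  have hxA : SpExtDer.toGL d F A = x := Units.ext (SpExtDer.toGL_val A)
  rw [Units.val_pow_eq_pow_val] at hz
  have hA2 : (A : MD) ^ 2 = z • 1 := hz
  have hzz := SpDecomp.eq_one_scalar hd (M := A ^ 2) (by rw [SubmonoidClass.coe_pow]; exact hA2)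
  have hA4 : (A : MD) ^ 4 = 1 := by
    rw [show 4 = 2 * 2 by norm_num, pow_mul, hA2, _root_.smul_pow, one_pow, pow_two, hzz, one_smul]
  rw [← hxA]
  have hG₁ : ∀ g : GL (Fin 2) F, (g : Matrix (Fin 2) (Fin 2) F).det = 1 → (g : Matrix (Fin 2) (Fin 2) F)ᵀ *
      Cfsg.Geo.gramMatrix f₁ * (g : Matrix (Fin 2) (Fin 2) F) = Cfsg.Geo.gramMatrix f₁ := fun g hg => by
    rw [gram_two hf₁, hg, one_smul]
  rcases mul_self_eq_one_iff.mp hzz with rfl | rfl
  · rw [one_smul] at hA2
    obtain ⟨⟨t, ht⟩, hchar⟩ := SpUniDer.charpoly_one A h2 hA2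
    have hrn : ∀ C : Matrix.symplecticGroup (Fin d) F,
        ((C : MD) - 1).rank + Module.finrank F (PrimeOrd.fix (Matrix.toLin' (C : MD))) = 2 * d := fun C => by
      have h := (Matrix.toLin' (C : MD) - 1).finrank_range_add_finrank_ker
      rw [Module.finrank_fintype_fun_eq_card, Fintype.card_sum, Fintype.card_fin] at h
      rw [PrimeOrd.fix, Matrix.rank, ← Matrix.toLin'_apply', map_sub, Matrix.toLin'_one]
      rw [two_mul]; exact h
    have hA' := hrn A
    obtain ⟨g₂, hg₂, hg₂2, hj⟩ := orth_involution (Cfsg.Geo.gramMatrix f₂) (by ext i k; exact hf₂.symm _ _) h2 (d - t)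
      (by omega)
    obtain ⟨B, hB, ψ, hψ, hψB⟩ := model_mem e P f₁ f₂ hS 1 g₂ (hG₁ 1 (by simp)) hg₂
    have hB2 : (B : MD) ^ 2 = 1 := ψ.injective (by
      rw [map_pow, hψB, map_one, pow_two, ← Matrix.mul_kronecker_mul, ← pow_two (g₂ : Matrix (Fin b) (Fin b) F), hg₂2, Units.val_one, mul_one,
        Matrix.one_kronecker_one])
    have hBr : ((B : MD) - 1).rank = 2 * (d - t) := by
      rw [← hψ, map_sub, map_one, hψB, Units.val_one,
        show (1 : Matrix (Fin 2) (Fin 2) F) ⊗ₖ (g₂ : Matrix (Fin b) (Fin b) F) - 1 =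
          (1 : Matrix (Fin 2) (Fin 2) F) ⊗ₖ ((g₂ : Matrix (Fin b) (Fin b) F) - 1) by
            ext ⟨i, k⟩ ⟨i', k'⟩; simp [Matrix.one_apply]; by_cases h : i = i' <;> simp [h],
        TensorDerange.rank_one_kronecker, hj]
    refine conj_into (p := p) hp A B hA4 (by rw [show 4 = 2 * 2 by norm_num, pow_mul, hB2, one_pow]) ?_ hB
    rw [hchar, (SpUniDer.charpoly_one B h2 hB2).2]
    have hB' := hrn B
    rw [show Module.finrank F (PrimeOrd.fix (Matrix.toLin' (A : MD))) = Module.finrank F (PrimeOrd.fix (Matrix.toLin' (B : MD))) by omega]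
  · let J : GL (Fin 2) F := ⟨!![0, -1; 1, 0], !![0, 1; -1, 0],
      by ext i j; fin_cases i <;> fin_cases j <;> simp,
      by ext i j; fin_cases i <;> fin_cases j <;> simp⟩
    obtain ⟨B, hB, ψ, hψ, hψB⟩ := model_mem e P f₁ f₂ hS J 1 (hG₁ J (by simp [J, Matrix.det_fin_two])) (by simp)
    have hJJ : (J : Matrix (Fin 2) (Fin 2) F) * J = (-1 : F) • 1 := by
      ext i j; fin_cases i <;> fin_cases j <;> simp [J]
    have hB2 : (B : MD) ^ 2 = (-1 : F) • 1 := ψ.injective (by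
      rw [map_pow, hψB, map_smul, map_one, pow_two, ← Matrix.mul_kronecker_mul, hJJ, Units.val_one, mul_one,
        Matrix.smul_kronecker, Matrix.one_kronecker_one])
    refine conj_into (p := p) hp A B hA4
      (by rw [show 4 = 2 * 2 by norm_num, pow_mul, hB2, _root_.smul_pow, one_pow, neg_one_sq, one_smul]) ?_ hB
    rw [SpUniDer.charpoly_neg_one A h2 hA2, SpUniDer.charpoly_neg_one B h2 hB2]

/-- Every element of order `r` fixes a point precisely when `r = a = 2`. -/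
theorem tensorSympOrth_iff {p : ℕ} [Fact p.Prime] [CharP F p] (hodd : Odd (Fintype.card F)) (hd : 2 ≤ d) (ha : Even a)
    (ha2 : 2 ≤ a) (hb : 3 ≤ b) (e : (Fin d ⊕ Fin d) ≃ Fin a × Fin b) (P : GD)
    (f₁ : (Fin a → F) → (Fin a → F) → F) (f₂ : (Fin b → F) → (Fin b → F) → F)
    (hf₁ : Cfsg.Geo.IsSymplecticForm f₁) (hf₂ : Cfsg.Geo.IsSymmetricForm f₂)
    (hS : Cfsg.Geo.IsTensorFormStructure id (Cfsg.sympForm d F) f₁ f₂ e P) (r : ℕ) [Fact r.Prime]
    (hΩ : r ∣ (Cfsg.Geo.tensorProductSubgroup a b e P).relIndex (Cfsg.spGL d F)) :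
    Fixed r e P ↔ (r = 2 ∧ a = 2) := by
  obtain ⟨n, -, hn⟩ := FiniteField.card F p
  have hp : p ≠ 2 := fun h => by
    subst h
    rw [hn, Nat.odd_pow_iff n.ne_zero] at hodd
    exact absurd hodd (by decide)
  refine ⟨fun H => ?_, ?_⟩
  · by_cases hrp : r = p
    · subst hrp; exact absurd H (bad_char e P hd ha2 hb)
    by_cases hr2 : r = 2
    · subst hr2
      refine ⟨rfl, ?_⟩
      by_contra hne
      exact bad_two e P hd (by omega) hb (Ring.two_ne_zero (by rw [ringChar.eq F p]; exact hp)) H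
    by_cases hdvd : r ∣ Fintype.card F - 1
    · exact absurd H (bad_split e P hd ha2 hb hr2 hdvd)
    refine absurd H (bad_block (p := p) e P ha2 ha hb hr2 hrp hdvd ?_)
    rw [← SpExtDer.card_spGL]
    exact hΩ.trans (Subgroup.index_dvd_card _)
  · rintro ⟨rfl, rfl⟩
    exact good_two (p := p) hp (by omega) e P f₁ f₂ hf₁ hf₂ hS

end Cfsg.Lib.Classical.TensorSymp
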