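import Mathlib
import Cfsg.Prelude.Def_GeometricClasses

/-! `GL₂(2) ⊗ GL_m(2)` lies in the normaliser of an extension field. -/

set_option autoImplicit false
set_option linter.unusedSimpArgs false
set_option linter.style.haveILetI false

namespace Cfsg.Lib.Classical.TensorTwo

open Matrix Kronecker

universe u

variable {F : Type u} [Field F] [Fintype F] (hq : Fintype.card F = 2)
include hq

theorem zero_or_one (z : F) : z = 0 ∨ z = 1 := by
  classical
  by_contra hh
  push Not at hh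
  have := Finset.card_le_univ ({0, 1, z} : Finset F)
  rw [Finset.card_insert_of_notMem (by simp [hh.1.symm]), Finset.card_pair hh.2.symm, hq] at this
  omega

theorem two_zero : (1 : F) + 1 = 0 := by
  rcases zero_or_one hq ((1 : F) + 1) with h | h
  · exact h
  · exact absurd (add_left_cancel (h.trans (add_zero 1).symm)) one_ne_zero

omit hq in
theorem gl2_mem (hq : Fintype.card F = 2) (a : Matrix.GeneralLinearGroup (Fin 2) F) :
    (a : Matrix (Fin 2) (Fin 2) F) * !![0, 1; 1, 1] = !![0, 1; 1, 1] * (a : Matrix (Fin 2) (Fin 2) F) ∨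
    (a : Matrix (Fin 2) (Fin 2) F) * !![0, 1; 1, 1] = !![1, 1; 1, 0] * (a : Matrix (Fin 2) (Fin 2) F) := by
  have h2 := two_zero hq
  have hd : (a : Matrix (Fin 2) (Fin 2) F).det ≠ 0 := (Matrix.GeneralLinearGroup.det a).ne_zero
  rw [Matrix.det_fin_two] at hd
  rcases zero_or_one hq ((a : Matrix (Fin 2) (Fin 2) F) 0 0) with h00 | h00 <;>
    rcases zero_or_one hq ((a : Matrix (Fin 2) (Fin 2) F) 0 1) with h01 | h01 <;>
    rcases zero_or_one hq ((a : Matrix (Fin 2) (Fin 2) F) 1 0) with h10 | h10 <;>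
    rcases zero_or_one hq ((a : Matrix (Fin 2) (Fin 2) F) 1 1) with h11 | h11 <;>
    simp [← Matrix.ext_iff, Fin.forall_fin_two, Matrix.mul_apply, Matrix.vecMul, dotProduct, Fin.sum_univ_two, h00, h01, h10, h11, h2] at hd ⊢

theorem exists_K0 (n₂ : ℕ) (hn : 2 ≤ n₂) :
    ∃ K : Subgroup (Matrix.GeneralLinearGroup (Fin 2 × Fin n₂) F),
      Cfsg.Geo.kroneckerSubgroup 2 n₂ F < K ∧ K < ⊤ := by
  classical
  have h2 := two_zero hq
  let C : Matrix (Fin 2) (Fin 2) F := !![0, 1; 1, 1]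
  let D : Matrix (Fin 2) (Fin 2) F := !![1, 1; 1, 0]
  have hCD : C * D = 1 := by
    ext i j; fin_cases i <;> fin_cases j <;> simp [C, D, Matrix.mul_apply, Fin.sum_univ_two, h2]
  have hDC : D * C = 1 := by
    ext i j; fin_cases i <;> fin_cases j <;> simp [C, D, Matrix.mul_apply, Fin.sum_univ_two, h2]
  let J : Matrix.GeneralLinearGroup (Fin 2 × Fin n₂) F := ⟨C ⊗ₖ (1 : Matrix (Fin n₂) (Fin n₂) F),
    D ⊗ₖ (1 : Matrix (Fin n₂) (Fin n₂) F),
    by rw [← Matrix.mul_kronecker_mul, hCD, one_mul, Matrix.one_kronecker_one],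
    by rw [← Matrix.mul_kronecker_mul, hDC, one_mul, Matrix.one_kronecker_one]⟩
  let K : Subgroup (Matrix.GeneralLinearGroup (Fin 2 × Fin n₂) F) :=
    Subgroup.normalizer ({J, J⁻¹} : Set (Matrix.GeneralLinearGroup (Fin 2 × Fin n₂) F))
  have hmem : ∀ g, g ∈ K ↔ (g * J * g⁻¹ = J ∨ g * J * g⁻¹ = J⁻¹) := by
    intro g
    constructor
    · intro h
      exact ((Subgroup.mem_set_normalizer_iff.mp h J).mp (Set.mem_insert _ _))
    · intro h
      refine Subgroup.mem_normalizer_fintype ?_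
      rintro x (rfl | rfl)
      · exact h
      · have e : g * J⁻¹ * g⁻¹ = (g * J * g⁻¹)⁻¹ := by group
        rw [e]
        rcases h with h | h
        · exact Or.inr (by rw [h]; rfl)
        · exact Or.inl (by rw [h, inv_inv])
  have hJinv : ((J⁻¹ : Matrix.GeneralLinearGroup (Fin 2 × Fin n₂) F) : Matrix _ _ F) = D ⊗ₖ (1 : Matrix (Fin n₂) (Fin n₂) F) := rfl
  let i : Fin n₂ := ⟨0, by omega⟩
  let j : Fin n₂ := ⟨1, by omega⟩
  have hij : i ≠ j := fun h => by simp [i, j] at h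
  let g0 : Matrix (Fin 2 × Fin n₂) (Fin 2 × Fin n₂) F := 1 + C ⊗ₖ Matrix.single i j 1
  have hchar : ∀ z : Matrix (Fin 2 × Fin n₂) (Fin 2 × Fin n₂) F, z + z = 0 := fun z => by
    ext a b
    rw [Matrix.add_apply, ← mul_one (z a b), ← mul_add, h2, mul_zero]; rfl
  have hg0 : g0 * g0 = 1 := by
    have hE : Matrix.single i j (1 : F) * Matrix.single i j 1 = 0 :=
      Matrix.single_mul_single_of_ne _ _ _ _ hij.symm _
    simp only [g0, add_mul, mul_add, one_mul, mul_one, ← Matrix.mul_kronecker_mul, hE, Matrix.kronecker_zero,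
      add_zero, add_assoc, hchar]
  let t0 : Matrix (Fin 2 × Fin n₂) (Fin 2 × Fin n₂) F := 1 + Matrix.single (0, i) (0, j) 1
  have ht0 : t0 * t0 = 1 := by
    have hE : Matrix.single ((0 : Fin 2), i) ((0 : Fin 2), j) (1 : F) * Matrix.single (0, i) (0, j) 1 = 0 :=
      Matrix.single_mul_single_of_ne _ _ _ _ (fun h => hij.symm (congrArg Prod.snd h)) _
    simp only [t0, add_mul, mul_add, one_mul, mul_one, hE, add_zero, add_assoc, hchar]
  let g : Matrix.GeneralLinearGroup (Fin 2 × Fin n₂) F := ⟨g0, g0, hg0, hg0⟩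
  let t : Matrix.GeneralLinearGroup (Fin 2 × Fin n₂) F := ⟨t0, t0, ht0, ht0⟩
  refine ⟨K, SetLike.lt_iff_le_and_exists.mpr ⟨?_, g, ?_, ?_⟩, lt_top_iff_ne_top.mpr fun htop => ?_⟩
  · rintro x ⟨a, b, hx⟩
    rw [hmem]
    rcases gl2_mem hq a with h | h
    · left
      rw [mul_inv_eq_iff_eq_mul]
      refine Units.ext ?_
      rw [Units.val_mul, Units.val_mul, hx]
      show _ * (C ⊗ₖ 1) = (C ⊗ₖ 1) * _
      rw [← Matrix.mul_kronecker_mul, ← Matrix.mul_kronecker_mul, h, one_mul, mul_one]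
    · right
      rw [mul_inv_eq_iff_eq_mul]
      refine Units.ext ?_
      rw [Units.val_mul, Units.val_mul, hx, hJinv]
      show _ * (C ⊗ₖ 1) = (D ⊗ₖ 1) * _
      rw [← Matrix.mul_kronecker_mul, ← Matrix.mul_kronecker_mul, h, one_mul, mul_one]
  · rw [hmem]
    left
    rw [mul_inv_eq_iff_eq_mul]
    refine Units.ext ?_
    show g0 * (C ⊗ₖ 1) = (C ⊗ₖ 1) * g0
    simp only [g0, add_mul, mul_add, one_mul, mul_one, ← Matrix.mul_kronecker_mul]
  · rintro ⟨a, b, hab⟩
    have h1 := congrFun (congrFun hab (0, i)) (0, i)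
    have h3 := congrFun (congrFun hab (0, i)) (1, j)
    have h4 := congrFun (congrFun hab (0, i)) (1, i)
    simp [g, g0, C, Matrix.kronecker_apply, hij, hij.symm, Matrix.single, Matrix.one_apply] at h1 h3 h4
    rcases h4 with h | h
    · rw [h, zero_mul] at h3; exact one_ne_zero h3
    · rw [h, mul_zero] at h1; exact one_ne_zero h1
  · have htK : t ∈ K := htop ▸ Subgroup.mem_top t
    rcases (hmem t).mp htK with h | h
    · rw [mul_inv_eq_iff_eq_mul] at h
      have h' : t0 * (C ⊗ₖ 1) = (C ⊗ₖ 1) * t0 := congrArg Units.val h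
      have h1 := congrFun (congrFun h' (0, i)) (1, j)
      simp [t0, C, add_mul, mul_add, Matrix.kronecker_apply, hij, hij.symm, Matrix.one_apply, Matrix.mul_apply,
        Matrix.single, Fintype.sum_prod_type, Fin.sum_univ_two] at h1
    · rw [mul_inv_eq_iff_eq_mul] at h
      have h' : t0 * (C ⊗ₖ 1) = (D ⊗ₖ 1) * t0 := congrArg Units.val h
      have h1 := congrFun (congrFun h' (0, i)) (0, i)
      simp [t0, C, D, add_mul, mul_add, Matrix.kronecker_apply, hij, hij.symm, Matrix.one_apply, Matrix.mul_apply,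
        Matrix.single, Fintype.sum_prod_type, Fin.sum_univ_two] at h1

theorem exists_intermediate (n : ℕ) (hn : 13 ≤ n) (n₂ : ℕ) (e : Fin n ≃ Fin 2 × Fin n₂)
    (P : Matrix.GeneralLinearGroup (Fin n) F) :
    ∃ K : Subgroup (Matrix.GeneralLinearGroup (Fin n) F),
      Cfsg.Geo.tensorProductSubgroup 2 n₂ e P ⊓ Cfsg.Geo.specialLinear (Fin n) F < K ∧
        K < Cfsg.Geo.specialLinear (Fin n) F := by
  have hn₂ : 2 ≤ n₂ := by
    have := Fintype.card_congr e
    simp at this
    omega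
  have hSL : Cfsg.Geo.specialLinear (Fin n) F = ⊤ := eq_top_iff.mpr fun g _ => by
    rw [Cfsg.Geo.specialLinear, MonoidHom.mem_ker]
    rcases zero_or_one hq ((Matrix.GeneralLinearGroup.det g : Fˣ) : F) with h | h
    · exact absurd h (Units.ne_zero _)
    · exact Units.ext h
  obtain ⟨K, h1, h2⟩ := exists_K0 hq n₂ hn₂
  let ψ : Matrix.GeneralLinearGroup (Fin 2 × Fin n₂) F ≃* Matrix.GeneralLinearGroup (Fin n) F :=
    (Cfsg.Geo.glReindex e.symm).trans (MulAut.conj P)
  refine ⟨ψ.mapSubgroup K, ?_, ?_⟩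
  · rw [hSL, inf_top_eq]
    have := ψ.mapSubgroup.strictMono h1
    convert this using 1
    show _ = Subgroup.map _ _
    rw [Cfsg.Geo.tensorProductSubgroup, Subgroup.map_map]
    rfl
  · rw [hSL]
    exact (ψ.mapSubgroup.strictMono h2).trans_le le_top

end Cfsg.Lib.Classical.TensorTwo
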