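import Mathlib
import Cfsg.Prelude.Def_GeometricClasses
import Cfsg.Agent.Classical.Misc.TensorTwo
import Cfsg.Agent.Classical.Misc.TensorMonomial

/-! `Sp₂(2) ⊗ Sp_m(2)` is properly contained in the normaliser of a quadratic extension inside `Ω⁺`. -/

set_option autoImplicit false
set_option linter.unusedSimpArgs false
set_option linter.unusedSectionVars false
set_option linter.style.haveILetI false
set_option linter.flexible false

namespace Cfsg.Lib.Classical.TensorTwoOrth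

open Matrix Kronecker Cfsg.Lib.Classical
open scoped commutatorElement

universe u

variable {F : Type u} [Field F]

theorem form_eq {κ : Type} [Fintype κ] (G : Matrix κ κ F) (x y : κ → F) :
    Cfsg.Geo.formOfGram id G x y = x ⬝ᵥ (G *ᵥ y) := by
  simp only [Cfsg.Geo.formOfGram, dotProduct, Matrix.mulVec, id, Finset.mul_sum, mul_assoc]

theorem form_mul {κ : Type} [Fintype κ] (G A : Matrix κ κ F) (x y : κ → F) :
    Cfsg.Geo.formOfGram id G (A *ᵥ x) (A *ᵥ y) = Cfsg.Geo.formOfGram id (Aᵀ * G * A) x y := by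
  rw [form_eq, form_eq, ← Matrix.mulVec_mulVec, ← Matrix.mulVec_mulVec, Matrix.dotProduct_mulVec,
    Matrix.dotProduct_mulVec x Aᵀ, Matrix.vecMul_transpose, ← Matrix.dotProduct_mulVec]

variable [CharP F 2] {n₂ : ℕ}

theorem add_self {κ μ : Type*} (z : Matrix κ μ F) : z + z = 0 := by
  ext i j; exact CharTwo.add_self_eq_zero _

theorem sub_eq {κ μ : Type*} (y z : Matrix κ μ F) : y - z = y + z := by
  ext i j; exact CharTwo.sub_eq_add _ _

/-- `a` on the image of an idempotent, the identity on its kernel. -/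
def mk (a : Matrix (Fin 2) (Fin 2) F) (π : Matrix (Fin n₂) (Fin n₂) F) :
    Matrix (Fin 2 × Fin n₂) (Fin 2 × Fin n₂) F :=
  a ⊗ₖ π + 1 ⊗ₖ (1 - π)

theorem mk_mul {π : Matrix (Fin n₂) (Fin n₂) F} (hπ : π * π = π) (a b : Matrix (Fin 2) (Fin 2) F) :
    mk a π * mk b π = mk (a * b) π := by
  simp only [mk, add_mul, mul_add, ← Matrix.mul_kronecker_mul, mul_sub, sub_mul, one_mul, mul_one, hπ, sub_self,
    Matrix.kronecker_zero, add_zero, zero_add, sub_zero]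

theorem mk_one (π : Matrix (Fin n₂) (Fin n₂) F) : mk (1 : Matrix (Fin 2) (Fin 2) F) π = 1 := by
  rw [mk, ← Matrix.kronecker_add, add_sub_cancel, Matrix.one_kronecker_one]

theorem conj_mk {B : Matrix (Fin n₂) (Fin n₂) F} (hB : B * B = 1) (a : Matrix (Fin 2) (Fin 2) F)
    (π : Matrix (Fin n₂) (Fin n₂) F) :
    ((1 : Matrix (Fin 2) (Fin 2) F) ⊗ₖ B) * mk a π * (1 ⊗ₖ B) = mk a (B * π * B) := by
  simp only [mk, add_mul, mul_add, ← Matrix.mul_kronecker_mul, mul_one, one_mul, mul_sub, sub_mul, hB]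

/-- The isometries of a tensor product of forms given by an idempotent. -/
theorem mk_gram {a G₁ : Matrix (Fin 2) (Fin 2) F} (ha : aᵀ * G₁ * a = G₁) {π G₂ : Matrix (Fin n₂) (Fin n₂) F}
    (hπ : π * π = π) (hsa : πᵀ * G₂ = G₂ * π) : (mk a π)ᵀ * (G₁ ⊗ₖ G₂) * mk a π = G₁ ⊗ₖ G₂ := by
  have h1 : (1 - π)ᵀ * G₂ = G₂ * (1 - π) := by
    rw [Matrix.transpose_sub, Matrix.transpose_one, sub_mul, one_mul, hsa, mul_sub, mul_one]
  simp only [mk, Matrix.transpose_add, ← Matrix.kroneckerMap_transpose, add_mul, mul_add, ← Matrix.mul_kronecker_mul,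
    Matrix.transpose_one, one_mul, mul_one, ha, hsa, h1, mul_assoc, mul_sub, sub_mul, hπ, sub_self, mul_zero,
    Matrix.kronecker_zero, add_zero, zero_add, sub_zero]
  rw [← Matrix.kronecker_add, add_sub_cancel]

theorem kron_eq_zero {a : Matrix (Fin 2) (Fin 2) F} {β : Matrix (Fin n₂) (Fin n₂) F} (i j : Fin 2) (h : a i j ≠ 0)
    (e : a ⊗ₖ β = 0) : β = 0 := by
  ext k l
  have := congrFun (congrFun e (i, k)) (j, l)
  simpa [Matrix.kroneckerMap_apply, h] using this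

section Proj

variable (G : Matrix (Fin n₂) (Fin n₂) F) (u v : Fin n₂ → F)

/-- The projection onto a hyperbolic pair along its orthogonal. -/
def proj : Matrix (Fin n₂) (Fin n₂) F := Matrix.vecMulVec u (G *ᵥ v) + Matrix.vecMulVec v (G *ᵥ u)

variable {G u v}

theorem proj_mulVec (y : Fin n₂ → F) :
    proj G u v *ᵥ y = ((G *ᵥ v) ⬝ᵥ y) • u + ((G *ᵥ u) ⬝ᵥ y) • v := by
  simp [proj, Matrix.add_mulVec, Matrix.vecMulVec_mulVec]

theorem dot_swap (hG : Gᵀ = G) (a b : Fin n₂ → F) : (G *ᵥ a) ⬝ᵥ b = a ⬝ᵥ (G *ᵥ b) := by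
  rw [Matrix.dotProduct_mulVec, ← Matrix.vecMul_transpose, hG]

theorem proj_facts (hG : Gᵀ = G) (halt : ∀ y, y ⬝ᵥ (G *ᵥ y) = 0) (huv : u ⬝ᵥ (G *ᵥ v) = 1) :
    proj G u v * proj G u v = proj G u v ∧ (proj G u v)ᵀ * G = G * proj G u v ∧ proj G u v *ᵥ u = u ∧
      proj G u v *ᵥ v = v := by
  have huu : (G *ᵥ u) ⬝ᵥ u = 0 := by rw [dot_swap hG, halt]
  have hvv : (G *ᵥ v) ⬝ᵥ v = 0 := by rw [dot_swap hG, halt]
  have hvu : (G *ᵥ v) ⬝ᵥ u = 1 := by rw [dotProduct_comm, huv]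
  have huv' : (G *ᵥ u) ⬝ᵥ v = 1 := by rw [dot_swap hG, huv]
  have hu : proj G u v *ᵥ u = u := by rw [proj_mulVec, hvu, huu, one_smul, zero_smul, add_zero]
  have hv : proj G u v *ᵥ v = v := by rw [proj_mulVec, hvv, huv', zero_smul, one_smul, zero_add]
  refine ⟨?_, ?_, hu, hv⟩
  · nth_rw 2 [proj]
    rw [mul_add, Matrix.mul_vecMulVec, Matrix.mul_vecMulVec, hu, hv]
    rfl
  · rw [proj, Matrix.transpose_add, Matrix.transpose_vecMulVec, Matrix.transpose_vecMulVec, add_mul, mul_add,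
      Matrix.mul_vecMulVec, Matrix.mul_vecMulVec, Matrix.vecMulVec_mul, Matrix.vecMulVec_mul]
    conv_lhs => rw [← hG]
    rw [Matrix.vecMul_transpose, Matrix.vecMul_transpose, hG]
    abel

theorem transv_facts (hG : Gᵀ = G) (halt : ∀ y, y ⬝ᵥ (G *ᵥ y) = 0) (w : Fin n₂ → F) :
    (1 + Matrix.vecMulVec w (G *ᵥ w)) * (1 + Matrix.vecMulVec w (G *ᵥ w)) = 1 ∧
      (1 + Matrix.vecMulVec w (G *ᵥ w))ᵀ * G * (1 + Matrix.vecMulVec w (G *ᵥ w)) = G := by
  set N := Matrix.vecMulVec w (G *ᵥ w) with hN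
  have hN2 : N * N = 0 := by
    rw [hN, Matrix.mul_vecMulVec, Matrix.vecMulVec_mulVec, dot_swap hG, halt]
    simp
  have h1 : Nᵀ * G = Matrix.vecMulVec (G *ᵥ w) (G *ᵥ w) := by
    rw [hN, Matrix.transpose_vecMulVec, Matrix.vecMulVec_mul, ← Matrix.mulVec_transpose, hG]
  have h2 : G * N = Matrix.vecMulVec (G *ᵥ w) (G *ᵥ w) := by rw [hN, Matrix.mul_vecMulVec]
  refine ⟨?_, ?_⟩
  · rw [add_mul, mul_add, mul_add, one_mul, one_mul, mul_one, hN2, add_zero, add_assoc,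
      add_self, add_zero]
  · rw [Matrix.transpose_add, Matrix.transpose_one, add_mul, one_mul, h1, ← h2, add_mul, mul_add, mul_add, mul_one,
      mul_one, mul_assoc G N N, hN2, mul_zero, add_zero, add_assoc, add_self, add_zero]

end Proj

variable {ι : Type} [Fintype ι] [DecidableEq ι] (e : ι ≃ Fin 2 × Fin n₂) (P : GL ι F)

/-- Transport to the original coordinates. -/
def toI : GL (Fin 2 × Fin n₂) F ≃* GL ι F := (Cfsg.Geo.glReindex e.symm).trans (MulAut.conj P)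

theorem toI_mulVec (k : GL (Fin 2 × Fin n₂) F) (x : Fin 2 × Fin n₂ → F) :
    ((toI e P k : GL ι F) : Matrix ι ι F) *ᵥ ((P : Matrix ι ι F) *ᵥ (x ∘ e)) =
      (P : Matrix ι ι F) *ᵥ (((k : Matrix (Fin 2 × Fin n₂) (Fin 2 × Fin n₂) F) *ᵥ x) ∘ e) := by
  show ((P * Cfsg.Geo.glReindex e.symm k * P⁻¹ : GL ι F) : Matrix ι ι F) *ᵥ _ = _
  rw [Matrix.mulVec_mulVec, ← Units.val_mul, inv_mul_cancel_right, Units.val_mul, ← Matrix.mulVec_mulVec]
  congr 1
  funext i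
  show (((k : Matrix (Fin 2 × Fin n₂) (Fin 2 × Fin n₂) F)).submatrix e e *ᵥ (x ∘ e)) i = _
  simp only [Matrix.mulVec, dotProduct, Matrix.submatrix_apply, Function.comp_apply]
  exact Equiv.sum_comp e (fun p => (k : Matrix (Fin 2 × Fin n₂) (Fin 2 × Fin n₂) F) (e i) p * x p)

/-- A linear map preserving the polar form and the values on pure tensors is an isometry. -/
theorem mem_isometry {Q : (ι → F) → F} (hQ : Cfsg.Geo.IsNondegenerateQuadraticForm Q) (G₁ : Matrix (Fin 2) (Fin 2) F)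
    (G₂ : Matrix (Fin n₂) (Fin n₂) F) {c : F}
    (hT : ∀ x y : Fin 2 × Fin n₂ → F, QuadraticMap.polar Q ((P : Matrix ι ι F) *ᵥ (x ∘ e))
      ((P : Matrix ι ι F) *ᵥ (y ∘ e)) = c * Cfsg.Geo.formOfGram id (G₁ ⊗ₖ G₂) x y)
    (k : GL (Fin 2 × Fin n₂) F)
    (hk : (k : Matrix (Fin 2 × Fin n₂) (Fin 2 × Fin n₂) F)ᵀ * (G₁ ⊗ₖ G₂) * (k : Matrix (Fin 2 × Fin n₂) (Fin 2 × Fin n₂) F) = G₁ ⊗ₖ G₂)
    (hpure : ∀ (w : Fin 2 → F) (y : Fin n₂ → F),
      Q ((P : Matrix ι ι F) *ᵥ (((k : Matrix (Fin 2 × Fin n₂) (Fin 2 × Fin n₂) F) *ᵥ TensorMono.tens w y) ∘ e)) =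
        Q ((P : Matrix ι ι F) *ᵥ (TensorMono.tens w y ∘ e))) :
    toI e P k ∈ Cfsg.isometryGroup F Q := by
  classical
  set K := (k : Matrix (Fin 2 × Fin n₂) (Fin 2 × Fin n₂) F)
  have key : ∀ x : Fin 2 × Fin n₂ → F,
      Q ((P : Matrix ι ι F) *ᵥ ((K *ᵥ x) ∘ e)) = Q ((P : Matrix ι ι F) *ᵥ (x ∘ e)) := by
    intro x
    rw [pi_eq_sum_univ' x]
    induction (Finset.univ : Finset (Fin 2 × Fin n₂)) using Finset.induction_on with
    | empty => simp
    | insert o s ho ih =>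
      rw [Finset.sum_insert ho, Matrix.mulVec_add]
      set z := ∑ p ∈ s, x p • (Pi.single p (1 : F) : Fin 2 × Fin n₂ → F) with hz
      have hsplit : ∀ a b : Fin 2 × Fin n₂ → F, Q ((P : Matrix ι ι F) *ᵥ ((a + b) ∘ e)) =
          Q ((P : Matrix ι ι F) *ᵥ (a ∘ e)) + Q ((P : Matrix ι ι F) *ᵥ (b ∘ e)) +
            c * Cfsg.Geo.formOfGram id (G₁ ⊗ₖ G₂) a b := fun a b => by
        rw [← hT, show (a + b) ∘ e = a ∘ e + b ∘ e from rfl, Matrix.mulVec_add, QuadraticMap.polar]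
        ring
      rw [hsplit, hsplit, ih, form_mul, hk]
      have e1 : x o • (Pi.single o (1 : F) : Fin 2 × Fin n₂ → F) =
          TensorMono.tens (Pi.single o.1 (x o)) (Pi.single o.2 1) := by
        funext p
        obtain ⟨p1, p2⟩ := p
        obtain ⟨o1, o2⟩ := o
        simp only [Pi.smul_apply, Pi.single_apply, TensorMono.tens, Prod.mk.injEq, smul_eq_mul]
        split_ifs <;> simp_all
      rw [e1, hpure]
  intro u v
  show Q _ = Q _
  obtain ⟨x, rfl⟩ : ∃ x, u = (P : Matrix ι ι F) *ᵥ (x ∘ e) := ⟨(((P⁻¹ : GL ι F) : Matrix ι ι F) *ᵥ u) ∘ e.symm, by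
    have h : ((((P⁻¹ : GL ι F) : Matrix ι ι F) *ᵥ u) ∘ e.symm) ∘ e = ((P⁻¹ : GL ι F) : Matrix ι ι F) *ᵥ u := by
      funext i; simp
    rw [h, Matrix.mulVec_mulVec, ← Units.val_mul, mul_inv_cancel, Units.val_one, Matrix.one_mulVec]⟩
  show Q (((toI e P k : GL ι F) : Matrix ι ι F) *ᵥ _) = _
  rw [toI_mulVec, key]

theorem mul_comm_mem_omega {Q : (ι → F) → F} {a b : GL ι F} (ha : a ∈ Cfsg.isometryGroup F Q)
    (hb : b ∈ Cfsg.isometryGroup F Q) : a * b * a⁻¹ * b⁻¹ ∈ Cfsg.Geo.omegaGL Q :=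
  ⟨⁅(⟨a, ha⟩ : Cfsg.isometryGroup F Q), ⟨b, hb⟩⁆, Subgroup.commutator_mem_commutator trivial trivial, rfl⟩

set_option maxHeartbeats 1600000 in
theorem not_maximal [Fintype F] (hq : Fintype.card F = 2) {Q : (ι → F) → F}
    (hQ : Cfsg.Geo.IsNondegenerateQuadraticForm Q) (hn₂ : 2 < n₂)
    (f₁ : (Fin 2 → F) → (Fin 2 → F) → F) (f₂ : (Fin n₂ → F) → (Fin n₂ → F) → F)
    (hf₁ : Cfsg.Geo.IsSymplecticForm f₁) (hf₂ : Cfsg.Geo.IsSymplecticForm f₂)
    (hT : Cfsg.Geo.IsTensorFormStructure id (QuadraticMap.polar Q) f₁ f₂ e P)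
    (hpure : ∀ (x₁ : Fin 2 → F) (x₂ : Fin n₂ → F),
      Q ((P : Matrix ι ι F) *ᵥ ((fun a : Fin 2 × Fin n₂ => x₁ a.1 * x₂ a.2) ∘ e)) = 0) :
    ∃ K : Subgroup (GL ι F), Cfsg.Geo.tensorProductSubgroup 2 n₂ e P ⊓ Cfsg.Geo.omegaGL Q < K ∧
      K < Cfsg.Geo.omegaGL Q := by
  classical
  obtain ⟨c, hc, hT⟩ := hT
  set G₁ := Cfsg.Geo.gramMatrix f₁ with hG₁
  set G := Cfsg.Geo.gramMatrix f₂ with hGdef
  have hf₂eq : ∀ a b, f₂ a b = a ⬝ᵥ (G *ᵥ b) := fun a b => by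
    rw [← form_eq]
    exact (TensorMono.formOfGram_gram (RingHom.id F) f₂ hf₂.bilinear.add_left hf₂.bilinear.smul_left
      hf₂.bilinear.add_right hf₂.bilinear.smul_right a b).symm
  have hf₁eq : ∀ a b, Cfsg.Geo.formOfGram id G₁ a b = f₁ a b := fun a b =>
    TensorMono.formOfGram_gram (RingHom.id F) f₁ hf₁.bilinear.add_left hf₁.bilinear.smul_left
      hf₁.bilinear.add_right hf₁.bilinear.smul_right a b
  have hG : Gᵀ = G := by
    ext a b
    show f₂ _ _ = f₂ _ _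
    rw [hf₂.skew, CharTwo.neg_eq]
  have halt : ∀ y, y ⬝ᵥ (G *ᵥ y) = 0 := fun y => by rw [← hf₂eq]; exact hf₂.alternating y
  -- the vectors
  set u : Fin n₂ → F := Pi.single ⟨0, by omega⟩ 1 with hu
  obtain ⟨v, huv⟩ : ∃ v, u ⬝ᵥ (G *ᵥ v) = 1 := by
    obtain ⟨-, v, hv⟩ := hf₂.nondegenerate u (fun h => by simpa [hu] using congrFun h ⟨0, by omega⟩)
    exact ⟨v, by rw [← hf₂eq]; exact (TensorTwo.zero_or_one hq _).resolve_left hv⟩
  obtain ⟨x, hx0, hxu, hxv⟩ : ∃ x, x ≠ 0 ∧ (G *ᵥ u) ⬝ᵥ x = 0 ∧ (G *ᵥ v) ⬝ᵥ x = 0 := by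
    let L : (Fin n₂ → F) →ₗ[F] (Fin 2 → F) := Matrix.mulVecLin (Matrix.of ![G *ᵥ u, G *ᵥ v])
    have hker : LinearMap.ker L ≠ ⊥ := LinearMap.ker_ne_bot_of_finrank_lt (by simp; omega)
    obtain ⟨x, hx, hx0⟩ := Submodule.exists_mem_ne_zero_of_ne_bot hker
    refine ⟨x, hx0, ?_, ?_⟩
    · exact congrFun hx 0
    · exact congrFun hx 1
  obtain ⟨hπ, hsa, hπu, hπv⟩ := proj_facts hG halt huv
  set π := proj G u v
  set w := u + x with hw
  obtain ⟨hB, hBG⟩ := transv_facts hG halt w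
  set B := 1 + Matrix.vecMulVec w (G *ᵥ w) with hBdef
  have hwu : (G *ᵥ w) ⬝ᵥ u = 0 := by
    rw [dot_swap hG, hw, add_dotProduct, halt, zero_add, dotProduct_comm, hxu]
  have hwv : (G *ᵥ w) ⬝ᵥ v = 1 := by
    rw [dot_swap hG, hw, add_dotProduct, huv, dotProduct_comm x, hxv, add_zero]
  have hBu : B *ᵥ u = u := by simp [hBdef, Matrix.add_mulVec, Matrix.vecMulVec_mulVec, hwu]
  have hBv : B *ᵥ v = v + w := by simp [hBdef, Matrix.add_mulVec, Matrix.vecMulVec_mulVec, hwv]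
  set ρ := B * π * B with hρ
  have hρu : ρ *ᵥ u = u := by rw [hρ, ← Matrix.mulVec_mulVec, ← Matrix.mulVec_mulVec, hBu, hπu, hBu]
  have hρπ : ρ ≠ π := fun h => by
    have h1 : ρ *ᵥ (v + w) = v + w := by
      rw [← hBv, hρ, Matrix.mulVec_mulVec, mul_assoc, hB, mul_one, ← Matrix.mulVec_mulVec, hπv]
    have hπx : π *ᵥ x = 0 := by simp [π, proj_mulVec, hxu, hxv]
    rw [h, hw, Matrix.mulVec_add, Matrix.mulVec_add, hπu, hπv, hπx, add_zero, ← add_assoc] at h1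
    exact hx0 (left_eq_add.mp h1)
  -- two by two matrices
  let C : Matrix (Fin 2) (Fin 2) F := !![0, 1; 1, 1]
  let D : Matrix (Fin 2) (Fin 2) F := !![1, 1; 1, 0]
  let s : Matrix (Fin 2) (Fin 2) F := !![0, 1; 1, 0]
  let t : Matrix (Fin 2) (Fin 2) F := !![1, 1; 0, 1]
  have h11 : (1 : F) + 1 = 0 := CharTwo.add_self_eq_zero 1
  have hss : s * s = 1 := by ext i j; fin_cases i <;> fin_cases j <;> simp [s, Matrix.mul_apply, Fin.sum_univ_two]
  have htt : t * t = 1 := by ext i j; fin_cases i <;> fin_cases j <;> simp [t, Matrix.mul_apply, Fin.sum_univ_two, h11]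
  have hts : t * s * t * s = C := by
    ext i j; fin_cases i <;> fin_cases j <;> simp [C, s, t, Matrix.mul_apply, Fin.sum_univ_two, h11]
  have hCD : C * D = 1 := by ext i j; fin_cases i <;> fin_cases j <;> simp [C, D, Matrix.mul_apply, Fin.sum_univ_two, h11]
  have hDC : D * C = 1 := by ext i j; fin_cases i <;> fin_cases j <;> simp [C, D, Matrix.mul_apply, Fin.sum_univ_two, h11]
  have hg00 : G₁ 0 0 = 0 := hf₁.alternating _
  have hg11 : G₁ 1 1 = 0 := hf₁.alternating _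
  have hg10 : G₁ 1 0 = G₁ 0 1 := by show f₁ _ _ = f₁ _ _; rw [hf₁.skew, CharTwo.neg_eq]
  have hsG : sᵀ * G₁ * s = G₁ := by
    ext i j; fin_cases i <;> fin_cases j <;> simp [s, Matrix.mul_apply, Fin.sum_univ_two, hg00, hg11, hg10]
  have htG : tᵀ * G₁ * t = G₁ := by
    ext i j; fin_cases i <;> fin_cases j <;>
      simp [t, Matrix.mul_apply, Fin.sum_univ_two, hg00, hg11, hg10, CharTwo.add_self_eq_zero]
  -- the isometries
  let es : GL (Fin 2 × Fin n₂) F := ⟨mk s π, mk s π, by rw [mk_mul hπ, hss, mk_one], by rw [mk_mul hπ, hss, mk_one]⟩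
  let et : GL (Fin 2 × Fin n₂) F := ⟨mk t π, mk t π, by rw [mk_mul hπ, htt, mk_one], by rw [mk_mul hπ, htt, mk_one]⟩
  let eb : GL (Fin 2 × Fin n₂) F := ⟨(1 : Matrix (Fin 2) (Fin 2) F) ⊗ₖ B, (1 : Matrix (Fin 2) (Fin 2) F) ⊗ₖ B,
    by rw [← Matrix.mul_kronecker_mul, hB, mul_one, Matrix.one_kronecker_one],
    by rw [← Matrix.mul_kronecker_mul, hB, mul_one, Matrix.one_kronecker_one]⟩
  have hpure' : ∀ (x₁ : Fin 2 → F) (x₂ : Fin n₂ → F),
      Q ((P : Matrix ι ι F) *ᵥ (TensorMono.tens x₁ x₂ ∘ e)) = 0 := hpure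
  have hmk : ∀ a : Matrix (Fin 2) (Fin 2) F, aᵀ * G₁ * a = G₁ → ∀ k : GL (Fin 2 × Fin n₂) F,
      (k : Matrix (Fin 2 × Fin n₂) (Fin 2 × Fin n₂) F) = mk a π → toI e P k ∈ Cfsg.isometryGroup F Q := by
    intro a ha k hk
    refine mem_isometry e P hQ G₁ G hT k (by rw [hk]; exact mk_gram ha hπ hsa) fun y z => ?_
    have hp : QuadraticMap.polar Q ((P : Matrix ι ι F) *ᵥ (TensorMono.tens (a *ᵥ y) (π *ᵥ z) ∘ e))
        ((P : Matrix ι ι F) *ᵥ (TensorMono.tens y ((1 - π) *ᵥ z) ∘ e)) = 0 := by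
      rw [hT]
      have := TensorMono.formOfGram_tens (RingHom.id F) G₁ G (a *ᵥ y) y (π *ᵥ z) ((1 - π) *ᵥ z)
      refine mul_eq_zero_of_right _ (this.trans (mul_eq_zero_of_right _ ?_))
      show Cfsg.Geo.formOfGram id G (π *ᵥ z) ((1 - π) *ᵥ z) = 0
      rw [form_eq, Matrix.mulVec_mulVec, Matrix.dotProduct_mulVec, ← Matrix.vecMul_transpose, Matrix.vecMul_vecMul,
        ← mul_assoc, hsa, mul_assoc, mul_sub, mul_one, hπ, sub_self, mul_zero]
      simp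
    rw [QuadraticMap.polar, hpure', hpure', sub_zero, sub_zero] at hp
    rw [hk, mk, Matrix.add_mulVec, TensorMono.kron_tens, TensorMono.kron_tens, Matrix.one_mulVec, hpure',
      show (TensorMono.tens (a *ᵥ y) (π *ᵥ z) + TensorMono.tens y ((1 - π) *ᵥ z)) ∘ e =
        TensorMono.tens (a *ᵥ y) (π *ᵥ z) ∘ e + TensorMono.tens y ((1 - π) *ᵥ z) ∘ e from rfl, Matrix.mulVec_add, hp]
  have hsI := hmk s hsG es rfl
  have htI := hmk t htG et rfl
  have hbI : toI e P eb ∈ Cfsg.isometryGroup F Q := by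
    refine mem_isometry e P hQ G₁ G hT eb ?_ fun y z => ?_
    · show ((1 : Matrix (Fin 2) (Fin 2) F) ⊗ₖ B)ᵀ * (G₁ ⊗ₖ G) * (1 ⊗ₖ B) = _
      rw [← Matrix.kroneckerMap_transpose, ← Matrix.mul_kronecker_mul, ← Matrix.mul_kronecker_mul,
        Matrix.transpose_one, one_mul, mul_one, hBG]
    · show Q ((P : Matrix ι ι F) *ᵥ ((((1 : Matrix (Fin 2) (Fin 2) F) ⊗ₖ B) *ᵥ TensorMono.tens y z) ∘ e)) = _
      rw [TensorMono.kron_tens, hpure', hpure']
  -- the intermediate subgroup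
  let J : GL (Fin 2 × Fin n₂) F := ⟨C ⊗ₖ (1 : Matrix (Fin n₂) (Fin n₂) F), D ⊗ₖ (1 : Matrix (Fin n₂) (Fin n₂) F),
    by rw [← Matrix.mul_kronecker_mul, hCD, one_mul, Matrix.one_kronecker_one],
    by rw [← Matrix.mul_kronecker_mul, hDC, one_mul, Matrix.one_kronecker_one]⟩
  let K₀ : Subgroup (GL (Fin 2 × Fin n₂) F) := Subgroup.normalizer ({J, J⁻¹} : Set (GL (Fin 2 × Fin n₂) F))
  have hmem : ∀ g, g ∈ K₀ ↔ (g * J * g⁻¹ = J ∨ g * J * g⁻¹ = J⁻¹) := by
    intro g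
    constructor
    · intro h
      exact ((Subgroup.mem_set_normalizer_iff.mp h J).mp (Set.mem_insert _ _))
    · intro h
      refine Subgroup.mem_normalizer_fintype ?_
      rintro z (rfl | rfl)
      · exact h
      · have e' : g * J⁻¹ * g⁻¹ = (g * J * g⁻¹)⁻¹ := by group
        rw [e']
        rcases h with h | h
        · exact Or.inr (by rw [h]; rfl)
        · exact Or.inl (by rw [h, inv_inv])
  refine ⟨K₀.map (toI e P).toMonoidHom ⊓ Cfsg.Geo.omegaGL Q, SetLike.lt_iff_le_and_exists.mpr ⟨?_, ?_⟩,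
    SetLike.lt_iff_le_and_exists.mpr ⟨inf_le_right, ?_⟩⟩
  · rintro g ⟨⟨g', ⟨k, ⟨a, b, hk⟩, rfl⟩, rfl⟩, hΩ⟩
    refine ⟨⟨k, ?_, rfl⟩, hΩ⟩
    rw [SetLike.mem_coe, hmem]
    rcases TensorTwo.gl2_mem hq a with h | h
    · left
      rw [mul_inv_eq_iff_eq_mul]
      refine Units.ext ?_
      rw [Units.val_mul, Units.val_mul, hk]
      show _ * (C ⊗ₖ 1) = (C ⊗ₖ 1) * _
      rw [← Matrix.mul_kronecker_mul, ← Matrix.mul_kronecker_mul, h, one_mul, mul_one]
    · right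
      rw [mul_inv_eq_iff_eq_mul]
      refine Units.ext ?_
      rw [Units.val_mul, Units.val_mul, hk]
      show _ * (C ⊗ₖ 1) = (D ⊗ₖ 1) * _
      rw [← Matrix.mul_kronecker_mul, ← Matrix.mul_kronecker_mul, h, one_mul, mul_one]
  · have hg : ((et * es * et⁻¹ * es⁻¹ : GL (Fin 2 × Fin n₂) F) : Matrix (Fin 2 × Fin n₂) (Fin 2 × Fin n₂) F) = mk C π := by
      show mk t π * mk s π * mk t π * mk s π = _
      rw [mk_mul hπ, mk_mul hπ, mk_mul hπ, hts]
    set g := et * es * et⁻¹ * es⁻¹ with hgdef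
    refine ⟨toI e P g, ⟨⟨g, ?_, rfl⟩, ?_⟩, ?_⟩
    · rw [SetLike.mem_coe, hmem]
      left
      rw [mul_inv_eq_iff_eq_mul]
      refine Units.ext ?_
      show (g : Matrix (Fin 2 × Fin n₂) (Fin 2 × Fin n₂) F) * (C ⊗ₖ 1) = (C ⊗ₖ 1) * (g : Matrix _ _ F)
      rw [hg]
      simp only [mk, add_mul, mul_add, ← Matrix.mul_kronecker_mul, one_mul, mul_one]
    · rw [hgdef, map_mul, map_mul, map_mul, map_inv, map_inv]
      exact mul_comm_mem_omega htI hsI
    · rintro ⟨⟨g', ⟨k, ⟨a, b, hk⟩, rfl⟩, heq⟩, -⟩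
      have hkg : k = g := (toI e P).injective heq
      rw [hkg, hg] at hk
      have e0 : (1 - π) = (a : Matrix (Fin 2) (Fin 2) F) 0 0 • (b : Matrix (Fin n₂) (Fin n₂) F) := by
        ext i j
        have := congrFun (congrFun hk (0, i)) (0, j)
        simpa [mk, C, Matrix.kroneckerMap_apply] using this
      have e1 : π = (a : Matrix (Fin 2) (Fin 2) F) 0 1 • (b : Matrix (Fin n₂) (Fin n₂) F) := by
        ext i j
        have := congrFun (congrFun hk (0, i)) (1, j)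
        simpa [mk, C, Matrix.kroneckerMap_apply] using this
      have hu1 : (1 - π) *ᵥ u = 0 := by rw [Matrix.sub_mulVec, Matrix.one_mulVec, hπu, sub_self]
      have hx1 : π *ᵥ x = 0 := by simp [π, proj_mulVec, hxu, hxv]
      rcases TensorTwo.zero_or_one hq ((a : Matrix (Fin 2) (Fin 2) F) 0 1) with h | h
      · rw [h, zero_smul] at e1
        rw [e1, Matrix.zero_mulVec] at hπu
        simpa [hu] using (congrFun hπu ⟨0, by omega⟩).symm
      rw [h, one_smul] at e1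
      rcases TensorTwo.zero_or_one hq ((a : Matrix (Fin 2) (Fin 2) F) 0 0) with h' | h'
      · rw [h', zero_smul] at e0
        have := congrArg (fun A => A *ᵥ x) (sub_eq_zero.mp e0)
        simp only [Matrix.one_mulVec, hx1] at this
        exact hx0 this
      · rw [h', one_smul, ← e1] at e0
        rw [e0, hπu] at hu1
        simpa [hu] using congrFun hu1 ⟨0, by omega⟩
  · set z := es * eb * es⁻¹ * eb⁻¹ with hzdef
    have hz : ((z : GL (Fin 2 × Fin n₂) F) : Matrix (Fin 2 × Fin n₂) (Fin 2 × Fin n₂) F) =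
        (1 : Matrix (Fin 2) (Fin 2) F) ⊗ₖ (π * ρ + (1 - π) * (1 - ρ)) + s ⊗ₖ (π * (1 - ρ) + (1 - π) * ρ) := by
      show mk s π * ((1 : Matrix (Fin 2) (Fin 2) F) ⊗ₖ B) * mk s π * (1 ⊗ₖ B) = _
      rw [mul_assoc (mk s π), mul_assoc (mk s π), conj_mk hB, ← hρ]
      simp only [mk, add_mul, mul_add, ← Matrix.mul_kronecker_mul, hss, mul_one, one_mul, Matrix.kronecker_add]
      abel
    refine ⟨toI e P z, by rw [hzdef, map_mul, map_mul, map_mul, map_inv, map_inv]; exact mul_comm_mem_omega hsI hbI,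
      ?_⟩
    rintro ⟨⟨k, hk, heq⟩, -⟩
    have hkz : k = z := (toI e P).injective heq
    rw [hkz, SetLike.mem_coe, hmem] at hk
    set α := π * ρ + (1 - π) * (1 - ρ) with hα
    set β := π * (1 - ρ) + (1 - π) * ρ with hβ
    rcases hk with hk | hk <;> rw [mul_inv_eq_iff_eq_mul] at hk
    · have hk' : (z : Matrix (Fin 2 × Fin n₂) (Fin 2 × Fin n₂) F) * (C ⊗ₖ 1) = (C ⊗ₖ 1) * (z : Matrix _ _ F) :=
        congrArg Units.val hk
      rw [hz] at hk'
      simp only [add_mul, mul_add, ← Matrix.mul_kronecker_mul, one_mul, mul_one, add_right_inj] at hk'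
      have hb0 : β = 0 := kron_eq_zero (a := s * C + C * s) 0 1
        (by simp [s, C, Matrix.mul_apply, Fin.sum_univ_two])
        (by rw [Matrix.add_kronecker, hk', add_self])
      apply hρπ
      have : π + ρ = 0 := by
        rw [← hb0, hβ, mul_sub, sub_mul, one_mul, mul_one, sub_eq π, add_assoc, sub_eq ρ, ← add_assoc (π * ρ), add_comm (π * ρ) ρ, add_assoc ρ, add_self, add_zero]
      rw [← sub_eq, sub_eq_zero] at this; exact this.symm
    · have hk' : (z : Matrix (Fin 2 × Fin n₂) (Fin 2 × Fin n₂) F) * (C ⊗ₖ 1) = (D ⊗ₖ 1) * (z : Matrix _ _ F) :=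
        congrArg Units.val hk
      rw [hz] at hk'
      have hsC : s * C = D * s := by
        ext i j; fin_cases i <;> fin_cases j <;> simp [s, C, D, Matrix.mul_apply, Fin.sum_univ_two]
      simp only [add_mul, mul_add, ← Matrix.mul_kronecker_mul, one_mul, mul_one, hsC, add_left_inj] at hk'
      have ha0 : α = 0 := kron_eq_zero (a := C + D) 0 0 (by simp [C, D])
        (by rw [Matrix.add_kronecker, hk', add_self])
      have := congrArg (fun A => A *ᵥ u) ha0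
      simp only [hα, Matrix.add_mulVec, ← Matrix.mulVec_mulVec, Matrix.sub_mulVec, Matrix.one_mulVec, hρu, hπu,
        sub_self, Matrix.mulVec_zero, Matrix.zero_mulVec, add_zero] at this
      simpa [hu] using congrFun this ⟨0, by omega⟩

end Cfsg.Lib.Classical.TensorTwoOrth
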