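import Mathlib

/-! `PGL₂` is sharply triply transitive on the projective line. -/

set_option autoImplicit false
set_option linter.unusedSimpArgs false
set_option linter.style.haveILetI false

namespace Cfsg.Lib.Classical.ThreeTransitive

open Matrix
open scoped LinearAlgebra.Projectivization MatrixGroups

universe u

variable {F : Type u} [Field F]

theorem exists_frame (x : Fin 3 ↪ ℙ F (Fin 2 → F)) :
    ∃ g : GL (Fin 2) F,
      (∃ h : (g : Matrix (Fin 2) (Fin 2) F) *ᵥ ![1, 0] ≠ 0, Projectivization.mk F _ h = x 0) ∧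
      (∃ h : (g : Matrix (Fin 2) (Fin 2) F) *ᵥ ![0, 1] ≠ 0, Projectivization.mk F _ h = x 1) ∧
      (∃ h : (g : Matrix (Fin 2) (Fin 2) F) *ᵥ ![1, 1] ≠ 0, Projectivization.mk F _ h = x 2) := by
  set u := (x 0).rep
  set v := (x 1).rep
  set w := (x 2).rep
  have hne : ∀ i j : Fin 3, i ≠ j → ∀ a : F, a • (x i).rep ≠ (x j).rep := by
    intro i j hij a ha
    refine hij (x.injective ?_)
    rw [← (x i).mk_rep, ← (x j).mk_rep]
    exact ((Projectivization.mk_eq_mk_iff' F _ _ (x j).rep_nonzero (x i).rep_nonzero).mpr ⟨a, ha⟩).symm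
  have hli : LinearIndependent F ![u, v] :=
    (LinearIndependent.pair_iff' (x 0).rep_nonzero).mpr (hne 0 1 (by decide))
  let b := basisOfLinearIndependentOfCardEqFinrank hli (by simp)
  have hb : ⇑b = ![u, v] := coe_basisOfLinearIndependentOfCardEqFinrank hli (by simp)
  set p := b.repr w 0
  set r := b.repr w 1
  have hw : w = p • u + r • v := by
    conv_lhs => rw [← b.sum_repr w]
    rw [Fin.sum_univ_two, hb]
    simp [p, r]
  have hp : p ≠ 0 := fun h => hne 1 2 (by decide) r (by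
    show r • v = w
    rw [hw, h, zero_smul, zero_add])
  have hr : r ≠ 0 := fun h => hne 0 2 (by decide) p (by
    show p • u = w
    rw [hw, h, zero_smul, add_zero])
  let M : Matrix (Fin 2) (Fin 2) F := !![p * u 0, r * v 0; p * u 1, r * v 1]
  have hcol : ∀ a c : F, M *ᵥ ![a, c] = (a * p) • u + (c * r) • v := fun a c => by
    ext i
    fin_cases i <;> simp [M, Matrix.mulVec, dotProduct, Fin.sum_univ_two] <;> ring
  have hdet : M.det ≠ 0 := by
    intro h0
    obtain ⟨z, hz, hMz⟩ := Matrix.exists_mulVec_eq_zero_iff.mpr h0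
    rw [show z = ![z 0, z 1] by ext i; fin_cases i <;> rfl, hcol] at hMz
    obtain ⟨h1, h2⟩ := LinearIndependent.pair_iff.mp hli _ _ hMz
    refine hz ?_
    ext i
    fin_cases i
    · exact (mul_eq_zero.mp h1).resolve_right hp
    · exact (mul_eq_zero.mp h2).resolve_right hr
  refine ⟨GeneralLinearGroup.mkOfDetNeZero M hdet, ?_⟩
  have key : ∀ a c : F, ∀ i : Fin 3, ∀ t : F, t ≠ 0 → M *ᵥ ![a, c] = t • (x i).rep →
      ∃ h : ((GeneralLinearGroup.mkOfDetNeZero M hdet : GL (Fin 2) F) : Matrix (Fin 2) (Fin 2) F) *ᵥ ![a, c] ≠ 0,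
        Projectivization.mk F _ h = x i := by
    intro a c i t ht hac
    refine ⟨by rw [show ((GeneralLinearGroup.mkOfDetNeZero M hdet : GL (Fin 2) F) : Matrix (Fin 2) (Fin 2) F) = M
      from rfl, hac]; exact smul_ne_zero ht (x i).rep_nonzero, ?_⟩
    conv_rhs => rw [← (x i).mk_rep]
    exact (Projectivization.mk_eq_mk_iff' F _ _ _ (x i).rep_nonzero).mpr ⟨t, hac.symm⟩
  refine ⟨key 1 0 0 p hp ?_, key 0 1 1 r hr ?_, key 1 1 2 1 one_ne_zero ?_⟩
  · rw [hcol]; simp [u]
  · rw [hcol]; simp [v]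
  · rw [hcol, one_smul, one_mul, one_mul]; exact hw.symm

/-- The standard frame. -/
noncomputable def std (F : Type u) [Field F] : Fin 3 ↪ ℙ F (Fin 2 → F) where
  toFun := ![Projectivization.mk F ![1, 0] (fun h => by simpa using congrFun h 0),
    Projectivization.mk F ![0, 1] (fun h => by simpa using congrFun h 1),
    Projectivization.mk F ![1, 1] (fun h => by simpa using congrFun h 0)]
  inj' := by
    intro i j h
    fin_cases i <;> fin_cases j <;> first
      | rfl
      | (exfalso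
         obtain ⟨a, ha⟩ := (Projectivization.mk_eq_mk_iff' F _ _ _ _).mp h
         have h0 := congrFun ha 0
         have h1 := congrFun ha 1
         simp at h0 h1
         try simp [h0] at h1
         try simp [h1] at h0)

theorem gl_smul_std (x : Fin 3 ↪ ℙ F (Fin 2 → F)) : ∃ g : GL (Fin 2) F, ∀ i, g • std F i = x i := by
  obtain ⟨g, ⟨_, h0⟩, ⟨_, h1⟩, ⟨_, h2⟩⟩ := exists_frame x
  refine ⟨g, fun i => ?_⟩
  fin_cases i
  · exact h0
  · exact h1
  · exact h2

theorem gl_transitive (x y : Fin 3 ↪ ℙ F (Fin 2 → F)) : ∃ g : GL (Fin 2) F, ∀ i, g • x i = y i := by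
  obtain ⟨g, hg⟩ := gl_smul_std x
  obtain ⟨k, hk⟩ := gl_smul_std y
  exact ⟨k * g⁻¹, fun i => by rw [← hg i, mul_smul, inv_smul_smul, hk]⟩

theorem pgl_sharp : MulAction.IsMultiplyPretransitive (Matrix.ProjGenLinGroup (Fin 2) F) (ℙ F (Fin 2 → F)) 3 ∧
    ∀ (g : Matrix.ProjGenLinGroup (Fin 2) F) (a b c : ℙ F (Fin 2 → F)), a ≠ b → a ≠ c → b ≠ c →
      g • a = a → g • b = b → g • c = c → g = 1 := by
  have hmk : ∀ (g : GL (Fin 2) F) (x : ℙ F (Fin 2 → F)),
      (Matrix.ProjGenLinGroup.mk g : Matrix.ProjGenLinGroup (Fin 2) F) • x = g • x := fun g x => rfl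
  refine ⟨MulAction.isMultiplyPretransitive_iff.mpr fun x y => ?_, ?_⟩
  · obtain ⟨g, hg⟩ := gl_transitive x y
    exact ⟨Matrix.ProjGenLinGroup.mk g, Function.Embedding.ext fun i => by
      show (Matrix.ProjGenLinGroup.mk g : Matrix.ProjGenLinGroup (Fin 2) F) • x i = y i
      rw [hmk, hg]⟩
  · intro g a b c hab hac hbc
    obtain ⟨h, rfl⟩ := Matrix.ProjGenLinGroup.mk_surjective g
    let x : Fin 3 ↪ ℙ F (Fin 2 → F) := ⟨![a, b, c], by
      intro i j h; fin_cases i <;> fin_cases j <;> first | rfl | (simp at h; simp_all)⟩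
    obtain ⟨k, hk⟩ := gl_smul_std x
    intro ha hb hc
    rw [hmk] at ha hb hc
    set s := k⁻¹ * h * k with hs
    have hfix : ∀ i, s • std F i = std F i := fun i => by
      rw [hs, mul_smul, mul_smul, hk, inv_smul_eq_iff, hk]
      fin_cases i
      · exact ha
      · exact hb
      · exact hc
    obtain ⟨p, hp⟩ := (Projectivization.mk_eq_mk_iff' F _ _ _ _).mp (hfix 0)
    obtain ⟨r, hr⟩ := (Projectivization.mk_eq_mk_iff' F _ _ _ _).mp (hfix 1)
    obtain ⟨t, ht⟩ := (Projectivization.mk_eq_mk_iff' F _ _ _ _).mp (hfix 2)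
    have e0 : ∀ i, (s : Matrix (Fin 2) (Fin 2) F) i 0 = p * ![1, 0] i := fun i => by
      have := congrFun hp i
      fin_cases i <;> simpa [Units.smul_def, Matrix.smul_eq_mulVec, Matrix.mulVec, dotProduct, Fin.sum_univ_two] using this.symm
    have e1 : ∀ i, (s : Matrix (Fin 2) (Fin 2) F) i 1 = r * ![0, 1] i := fun i => by
      have := congrFun hr i
      fin_cases i <;> simpa [Units.smul_def, Matrix.smul_eq_mulVec, Matrix.mulVec, dotProduct, Fin.sum_univ_two] using this.symm
    have e2 : ∀ i, (s : Matrix (Fin 2) (Fin 2) F) i 0 + (s : Matrix (Fin 2) (Fin 2) F) i 1 = t := fun i => by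
      have := congrFun ht i
      fin_cases i <;> simpa [Units.smul_def, Matrix.smul_eq_mulVec, Matrix.mulVec, dotProduct, Fin.sum_univ_two] using this.symm
    have hpt : p = t := by simpa [e0, e1] using e2 0
    have hrt : r = t := by simpa [e0, e1] using e2 1
    have hscal : s ∈ Subgroup.center (GL (Fin 2) F) := by
      rw [Subgroup.mem_center_iff]
      intro z
      refine Units.ext ?_
      have hS : (s : Matrix (Fin 2) (Fin 2) F) = t • 1 := by
        ext i j
        fin_cases i <;> fin_cases j <;> simp [e0, e1, hpt, hrt]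
      show (z : Matrix (Fin 2) (Fin 2) F) * (s : Matrix (Fin 2) (Fin 2) F) = (s : Matrix (Fin 2) (Fin 2) F) * (z : Matrix (Fin 2) (Fin 2) F)
      rw [hS, Matrix.mul_smul, Matrix.smul_mul, Matrix.one_mul, Matrix.mul_one]
    have hh : h = k * s * k⁻¹ := by rw [hs]; group
    have hcen : h ∈ Subgroup.center (GL (Fin 2) F) := by
      rw [hh, Subgroup.mem_center_iff.mp hscal k, mul_inv_cancel_right]
      exact hscal
    exact (QuotientGroup.eq_one_iff h).mpr hcen

theorem sl_three_iff [Fintype F] :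
    MulAction.IsMultiplyPretransitive (SpecialLinearGroup (Fin 2) F) (ℙ F (Fin 2 → F)) 3 ↔ ringChar F = 2 := by
  constructor
  · intro h
    by_contra hne
    obtain ⟨d, hd⟩ := FiniteField.exists_nonsquare hne
    have hd0 : d ≠ 0 := fun h0 => hd ⟨0, by rw [h0, mul_zero]⟩
    let y : Fin 3 ↪ ℙ F (Fin 2 → F) := ⟨fun i =>
      (GeneralLinearGroup.mkOfDetNeZero !![1, 0; 0, d] (by simpa [Matrix.det_fin_two] using hd0) : GL (Fin 2) F) • std F i,
      fun i j hij => (std F).injective (MulAction.injective _ hij)⟩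
    obtain ⟨g, hg⟩ := MulAction.isMultiplyPretransitive_iff.mp h (std F) y
    have hy : ∀ i, g • std F i =
        (GeneralLinearGroup.mkOfDetNeZero !![1, 0; 0, d] (by simpa [Matrix.det_fin_two] using hd0) : GL (Fin 2) F) • std F i :=
      fun i => congrArg (fun f : Fin 3 ↪ ℙ F (Fin 2 → F) => f i) hg
    obtain ⟨p, hp⟩ := (Projectivization.mk_eq_mk_iff' F _ _ _ _).mp (hy 0)
    obtain ⟨r, hr⟩ := (Projectivization.mk_eq_mk_iff' F _ _ _ _).mp (hy 1)
    obtain ⟨t, ht⟩ := (Projectivization.mk_eq_mk_iff' F _ _ _ _).mp (hy 2)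
    have p0 := congrFun hp 0
    have p1 := congrFun hp 1
    have r0 := congrFun hr 0
    have r1 := congrFun hr 1
    have t0 := congrFun ht 0
    have t1 := congrFun ht 1
    simp [Units.smul_def, Matrix.smul_eq_mulVec, Matrix.SpecialLinearGroup.smul_def, Matrix.mulVec, dotProduct,
      Fin.sum_univ_two] at p0 p1 r0 r1 t0 t1
    have hdet := g.2
    rw [Matrix.det_fin_two] at hdet
    rw [← p1] at t1
    rw [← r0] at t0
    simp at t0 t1
    rw [← p1, ← r0, zero_mul, sub_zero, ← t0, ← t1] at hdet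
    have ht0 : t ≠ 0 := fun h0 => by simp [h0] at hdet
    refine hd ⟨t⁻¹, ?_⟩
    field_simp
    linear_combination hdet
  · intro h2
    refine MulAction.isMultiplyPretransitive_iff.mpr fun x y => ?_
    obtain ⟨g, hg⟩ := gl_transitive x y
    obtain ⟨c, hc⟩ := FiniteField.isSquare_of_char_two h2 ((g : Matrix (Fin 2) (Fin 2) F).det)⁻¹
    have hd : (g : Matrix (Fin 2) (Fin 2) F).det ≠ 0 := (GeneralLinearGroup.det g).ne_zero
    have hc0 : c ≠ 0 := fun h0 => inv_ne_zero hd (by rw [hc, h0, mul_zero])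
    let s : SpecialLinearGroup (Fin 2) F := ⟨c • (g : Matrix (Fin 2) (Fin 2) F), by
      rw [Matrix.det_smul, Fintype.card_fin, pow_two, ← hc, inv_mul_cancel₀ hd]⟩
    refine ⟨s, Function.Embedding.ext fun i => ?_⟩
    show s • x i = y i
    rw [← hg i]
    induction x i using Projectivization.ind with
    | h v hv =>
      refine (Projectivization.mk_eq_mk_iff' F _ _ _ _).mpr ⟨c, ?_⟩
      ext k
      show c * ((g : Matrix (Fin 2) (Fin 2) F) *ᵥ v) k = ((c • (g : Matrix (Fin 2) (Fin 2) F)) *ᵥ v) k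
      rw [Matrix.smul_mulVec]
      rfl

end Cfsg.Lib.Classical.ThreeTransitive
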