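import Mathlib
import Cfsg.Prelude.Def_GeometricClasses
import Cfsg.Agent.Classical.Misc.UnipotentSplit

/-! Elements of order `p` and imprimitive decompositions. -/

set_option autoImplicit false
set_option linter.unusedSimpArgs false
set_option linter.unusedSectionVars false
set_option linter.unusedVariables false
set_option linter.style.haveILetI false
set_option linter.flexible false

namespace Cfsg.Lib.Classical.Jordan

open Submodule

universe u

variable {F : Type u} [Field F] [Fintype F] {p : ℕ} [Fact p.Prime] [CharP F p] {n : ℕ}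

/-- The necessary condition. -/
theorem imprimitive_necessary (a t : ℕ) (hn : 0 < n) (ha : 1 ≤ a) (hat : n = a * t) (ht : 2 ≤ t)
    (h : ∀ x : Matrix.SpecialLinearGroup (Fin n) F,
      (∃ z : F, ((x ^ p : Matrix.SpecialLinearGroup (Fin n) F) : Matrix (Fin n) (Fin n) F) = z • (1 : Matrix (Fin n) (Fin n) F)) →
      (∀ z : F, (x : Matrix (Fin n) (Fin n) F) ≠ z • (1 : Matrix (Fin n) (Fin n) F)) →
      ∃ D : Fin t → Submodule F (Fin n → F), Cfsg.Geo.IsMDecomposition a D ∧
        ∃ σ : Equiv.Perm (Fin t), ∀ j, (D j).map (Matrix.toLin' (x : Matrix (Fin n) (Fin n) F)) = D (σ j))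
    (μ : Multiset ℕ) (hμ : ∀ b ∈ μ, 0 < b ∧ b ≤ p) (hsum : μ.sum = n) (hcount : μ.count p < a) :
    ∃ ν : Multiset ℕ, ν ≤ μ ∧ ν.sum = a := by
  classical
  have hp : p.Prime := Fact.out
  haveI : Nonempty (Fin n) := ⟨⟨0, hn⟩⟩
  haveI : CharP (Matrix (Fin n) (Fin n) F) p :=
    charP_of_injective_algebraMap (algebraMap F (Matrix (Fin n) (Fin n) F)).injective p
  obtain ⟨N, hNp, hNr⟩ := exists_matrix (F := F) μ (fun b hb => (hμ b hb).2) hsum
  by_cases hN0 : N = 0
  · have hμ' : μ = Multiset.replicate n 1 := by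
      refine eq_of_rk (fun b hb => (hμ b hb).1) (fun b hb => by rw [Multiset.eq_of_mem_replicate hb]; exact one_pos) fun j => ?_
      rw [← hNr j]
      rcases Nat.eq_zero_or_pos j with rfl | hj
      · rw [pow_zero, Module.End.one_eq_id, Submodule.map_id, finrank_top, Module.finrank_fintype_fun_eq_card,
          Fintype.card_fin]
        simp [rk]
      · rw [hN0, map_zero, zero_pow hj.ne', Submodule.map_zero, finrank_bot]
        simp [rk, show 1 - j = 0 by omega]
    exact ⟨Multiset.replicate a 1, hμ' ▸ (Multiset.replicate_le_replicate 1).mpr (hat ▸ Nat.le_mul_of_pos_right a (by omega)), by simp⟩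
  set X : Matrix (Fin n) (Fin n) F := N + 1 with hX
  have hXp : X ^ p = 1 := by
    rw [hX, add_pow_char_of_commute _ (Commute.one_right N), one_pow]
    have : N ^ p = 0 := by
      apply Matrix.toLin'.injective
      rw [map_zero, ← hNp]
      exact map_pow (Matrix.toLinAlgEquiv' (R := F) (n := Fin n)) N p
    rw [this, zero_add]
  have hd : X.det = 1 := by
    have h : X.det ^ p = 1 ^ p := by rw [← Matrix.det_pow, hXp, Matrix.det_one, one_pow]
    exact frobenius_inj F p h
  obtain ⟨D, hD, σ, hσ⟩ := h ⟨X, hd⟩ ⟨1, (Matrix.SpecialLinearGroup.coe_pow _ p).trans (by rw [one_smul]; exact hXp)⟩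
    (fun c hcX => hN0 (by
      change X = c • 1 at hcX
      have hc1 : c ^ p = 1 ^ p := by
        have := hXp
        rw [hcX, smul_pow, one_pow] at this
        have := congrFun (congrFun this ⟨0, hn⟩) ⟨0, hn⟩
        simpa using this
      rw [frobenius_inj F p hc1, one_smul, hX] at hcX
      exact add_eq_right.mp hcX))
  change ∀ j, (D j).map (Matrix.toLin' X) = D (σ j) at hσ
  set x : Module.End F (Fin n → F) := Matrix.toLin' X with hx
  have hNx : Matrix.toLin' N = x - 1 := by
    rw [hx, hX, map_add, Matrix.toLin'_one]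
    exact (add_sub_cancel_right _ _).symm
  have hxpow : ∀ (k : ℕ) (j : Fin t) (v : Fin n → F), v ∈ D j → (x ^ k) v ∈ D ((σ ^ k) j) := by
    intro k
    induction k with
    | zero => intro j v hv; simpa using hv
    | succ k ih =>
      intro j v hv
      rw [pow_succ' x, Module.End.mul_apply, pow_succ' σ, Equiv.Perm.mul_apply, ← hσ]
      exact ⟨_, ih j v hv, rfl⟩
  by_cases hfix : ∀ j, σ j = j
  · let j₀ : Fin t := ⟨0, by omega⟩
    let U := D j₀
    let W := ⨆ (i) (_ : i ≠ j₀), D i
    have hinv : ∀ j, NInv (Matrix.toLin' N) (D j) := fun j w hw => by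
      rw [hNx, LinearMap.sub_apply, Module.End.one_apply]
      exact sub_mem (by simpa [hfix j] using hxpow 1 j w hw) hw
    have hW : NInv (Matrix.toLin' N) W := fun w hw => by
      have h1 : W.map (Matrix.toLin' N) ≤ W := by
        simp only [W, Submodule.map_iSup]
        refine iSup₂_le fun i hi => ?_
        refine le_trans ?_ (le_iSup₂ (f := fun i (_ : i ≠ j₀) => D i) i hi)
        rintro _ ⟨u, hu, rfl⟩
        exact hinv i u hu
      exact h1 ⟨w, hw, rfl⟩
    have hc : IsCompl U W := by
      refine IsCompl.of_eq (disjoint_iff.mp (hD.indep j₀)) (top_le_iff.mp ?_)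
      rw [← hD.iSup_eq_top]
      refine iSup_le fun i => ?_
      by_cases hi : i = j₀
      · subst hi; exact le_sup_left
      · exact le_sup_of_le_right (le_iSup₂ (f := fun i (_ : i ≠ j₀) => D i) i hi)
    obtain ⟨ν, hν, hνs⟩ := split_type hNp (fun b hb => (hμ b hb).1) hNr (hinv j₀) hW hc
    exact ⟨ν, hν, hνs.trans (hD.finrank_eq j₀)⟩
  · exfalso
    obtain ⟨j₀, hj₀⟩ := not_forall.mp hfix
    have hne : ∀ j, D j ≠ ⊥ := fun j e => by
      have := hD.finrank_eq j
      rw [e, finrank_bot] at this
      omega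
    have hinjD : Function.Injective D := fun i j e => by
      by_contra hij
      have := (hD.indep i).mono_right (le_iSup₂ (f := fun l (_ : l ≠ i) => D l) j (Ne.symm hij))
      rw [e, disjoint_self] at this
      exact hne j this
    have hxp : x ^ p = 1 := by
      rw [hx, ← Matrix.toLin'_pow, hXp, Matrix.toLin'_one]
      rfl
    have hσp : σ ^ p = 1 := Equiv.ext fun j => hinjD (by
      apply le_antisymm
      · intro v hv
        obtain ⟨u, hu, rfl⟩ : v ∈ (D j).map (x ^ p) := by
          have : (D j).map (x ^ p) = D ((σ ^ p) j) := by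
            clear hfix hj₀
            suffices ∀ k : ℕ, (D j).map (x ^ k) = D ((σ ^ k) j) from this p
            intro k
            induction k with
            | zero => simp [Module.End.one_eq_id]
            | succ k ih => rw [pow_succ', Module.End.mul_eq_comp, Submodule.map_comp, ih, hσ, pow_succ', Equiv.Perm.mul_apply]
          exact this ▸ hv
        rw [hxp]
        exact hu
      · intro v hv
        have := hxpow p j v hv
        rwa [hxp] at this)
    have hk : ∀ k, 0 < k → k < p → (σ ^ k) j₀ ≠ j₀ := fun k hk0 hkp e => by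
      have h1 : Function.minimalPeriod σ j₀ ∣ k := Function.IsPeriodicPt.minimalPeriod_dvd (by
        show (⇑σ)^[k] j₀ = j₀
        rw [← Equiv.Perm.coe_pow]; exact e)
      have h2 : Function.minimalPeriod σ j₀ ∣ p := Function.IsPeriodicPt.minimalPeriod_dvd (by
        show (⇑σ)^[p] j₀ = j₀
        rw [← Equiv.Perm.coe_pow, hσp]; rfl)
      rcases hp.eq_one_or_self_of_dvd _ h2 with h | h
      · exact hj₀ (Function.minimalPeriod_eq_one_iff_isFixedPt.mp h)
      · exact absurd (Nat.le_of_dvd hk0 (h ▸ h1)) (by omega)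
    let f : D j₀ →ₗ[F] (Fin n → F) := (Matrix.toLin' N ^ (p - 1)).comp (D j₀).subtype
    have hf : Function.Injective f := by
      rw [injective_iff_map_eq_zero]
      rintro ⟨v, hv⟩ hv0
      change (Matrix.toLin' N ^ (p - 1)) v = 0 at hv0
      rw [hNx, sub_eq_add_neg, (Commute.one_right x).neg_right.add_pow, LinearMap.sum_apply,
        show p - 1 + 1 = p by have := hp.one_lt; omega] at hv0
      obtain ⟨q, hq⟩ : ∃ q, p = q + 1 := ⟨p - 1, by have := hp.one_lt; omega⟩
      rw [hq, Finset.sum_range_succ'] at hv0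
      have hcalc : ∀ k m c : ℕ, (x ^ k * (-1 : Module.End F (Fin n → F)) ^ m * (c : Module.End F (Fin n → F))) v =
          ((-1 : F) ^ m * (c : F)) • (x ^ k) v := fun k m c => by
        have e1 : (-1 : Module.End F (Fin n → F)) ^ m * (c : Module.End F (Fin n → F)) =
            algebraMap F (Module.End F (Fin n → F)) ((-1 : F) ^ m * (c : F)) := by simp
        rw [mul_assoc, e1, Module.End.mul_apply, Module.algebraMap_end_apply, map_smul]
      simp only [hcalc] at hv0
      simp only [pow_zero, Module.End.one_apply, Nat.choose_zero_right, Nat.cast_one, mul_one, Nat.sub_zero] at hv0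
      have hmem : ((-1 : F) ^ (q + 1 - 1)) • v ∈ ⨆ (i) (_ : i ≠ j₀), D i := by
        rw [add_comm] at hv0
        rw [eq_neg_of_add_eq_zero_left hv0]
        refine neg_mem (Submodule.sum_mem _ fun k hk' => smul_mem _ _ ?_)
        rw [Finset.mem_range] at hk'
        exact le_iSup₂ (f := fun i (_ : i ≠ j₀) => D i) _ (hk (k + 1) (by omega) (by omega)) (hxpow _ _ _ hv)
      have := disjoint_def.mp (hD.indep j₀) _ (smul_mem _ _ hv) hmem
      exact Subtype.ext ((smul_eq_zero.mp this).resolve_left (pow_ne_zero _ (neg_ne_zero.mpr one_ne_zero)))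
    have h1 : a ≤ rk μ (p - 1) := by
      rw [← hNr (p - 1), ← hD.finrank_eq j₀, ← LinearMap.finrank_range_of_inj hf]
      refine finrank_mono ?_
      rintro _ ⟨v, rfl⟩
      exact ⟨v.1, trivial, rfl⟩
    have h2 := count_of_rk μ (p - 1)
    have h0 : ∀ j, p ≤ j → rk μ j = 0 := fun j hj => by
      rw [rk, Multiset.sum_eq_zero_iff]
      intro b hb
      obtain ⟨c, hc, rfl⟩ := Multiset.mem_map.mp hb
      have := (hμ c hc).2
      omega
    rw [show p - 1 + 1 = p by have := hp.one_lt; omega, h0 p le_rfl, h0 (p - 1 + 2) (by omega)] at h2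
    omega

end Cfsg.Lib.Classical.Jordan
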