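import Mathlib
import Cfsg.Prelude.Def_GeometricClasses
import Cfsg.Agent.Classical.Misc.InvolutionSubfield
import Cfsg.Agent.Classical.Misc.JordanBasis

/-! Elements of order three in characteristic three and subfield subgroups. -/

set_option autoImplicit false
set_option linter.unusedSimpArgs false
set_option linter.unusedSectionVars false
set_option linter.unusedVariables false
set_option linter.style.haveILetI false
set_option linter.flexible false

namespace Cfsg.Lib.Classical.UnipSubfield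

open Submodule

universe u

variable {F : Type u} [Field F] [Fintype F] {n : ℕ}

local notation "V" => (Fin n → F)
local notation "M" => Matrix (Fin n) (Fin n) F

/-- Conjugating into the subfield group. -/
theorem conj_entries {F₀ : Subfield F} (x : Matrix.SpecialLinearGroup (Fin n) F) (hn : 0 < n) {b : F} (hb : b ≠ 0)
    (R : M) (hR : ∀ i j, R i j ∈ F₀) (w : Module.Basis (Fin n) F V)
    (hw : ∀ j, (x : M).mulVec (w j) = ∑ i, (b • R) i j • w i)
    (hD : ∀ δ : F, δ ≠ 0 → ∃ (D : M) (c : F), c ∈ F₀ ∧ c ≠ 0 ∧ D.det * c = δ ∧ D * R = R * D) :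
    ∃ P : Matrix.SpecialLinearGroup (Fin n) F, P⁻¹ * x * P ∈ InvolSubfield.H F₀ n := by
  classical
  set B : M := Matrix.of fun i j => w j i with hB
  have hdet : B.det ≠ 0 := by
    rw [show B = (Pi.basisFun F (Fin n)).toMatrix w by ext i j; simp [B, Module.Basis.toMatrix_apply]]
    exact ((Matrix.isUnit_iff_isUnit_det _).mp
      (IsUnit.of_mul_eq_one _ ((Pi.basisFun F (Fin n)).toMatrix_mul_toMatrix_flip w))).ne_zero
  have hxB : (x : M) * B = B * (b • R) := by
    ext i j
    have := congrFun (hw j) i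
    simp only [Finset.sum_apply, Pi.smul_apply, smul_eq_mul] at this
    rw [Matrix.mul_apply, Matrix.mul_apply]
    exact this.trans (Finset.sum_congr rfl fun l _ => mul_comm _ _)
  obtain ⟨D, c, hc, hc0, hdc, hDR⟩ := hD B.det⁻¹ (inv_ne_zero hdet)
  let i₀ : Fin n := ⟨0, hn⟩
  let d : Fin n → F := Function.update (fun _ => 1) i₀ c
  have hdd : (Matrix.diagonal d).det = c := by
    rw [Matrix.det_diagonal, Finset.prod_update_of_mem (Finset.mem_univ _)]
    simp
  have hd0 : ∀ i, d i ≠ 0 := fun i => by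
    simp only [d, Function.update_apply]
    split_ifs
    exacts [hc0, one_ne_zero]
  have hdF : ∀ i, d i ∈ F₀ := fun i => by
    simp only [d, Function.update_apply]
    split_ifs
    exacts [hc, F₀.one_mem]
  have hP : (B * D * Matrix.diagonal d).det = 1 := by
    rw [Matrix.det_mul, Matrix.det_mul, hdd, mul_assoc, hdc, mul_inv_cancel₀ hdet]
  let P : Matrix.SpecialLinearGroup (Fin n) F := ⟨B * D * Matrix.diagonal d, hP⟩
  let R' : M := Matrix.of fun i j => (d i)⁻¹ * R i j * d j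
  have hR' : R * Matrix.diagonal d = Matrix.diagonal d * R' := by
    ext i j
    rw [Matrix.mul_diagonal, Matrix.diagonal_mul]
    simp only [R', Matrix.of_apply]
    field_simp [hd0 i]
  have h : (x : M) * (P : M) = (P : M) * (b • R') := by
    show (x : M) * (B * D * Matrix.diagonal d) = B * D * Matrix.diagonal d * (b • R')
    rw [← Matrix.mul_assoc, ← Matrix.mul_assoc, hxB, mul_smul_comm, smul_mul_assoc, smul_mul_assoc, mul_smul_comm]
    congr 1
    simp only [Matrix.mul_assoc]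
    rw [← hR', ← Matrix.mul_assoc R D, ← hDR, Matrix.mul_assoc]
  refine ⟨P, InvolSubfield.mem_of_entries hb (R := R') (fun i j => ?_) ?_⟩
  · exact F₀.mul_mem (F₀.mul_mem (F₀.inv_mem (hdF i)) (hR i j)) (hdF j)
  · rw [Matrix.SpecialLinearGroup.coe_mul, Matrix.SpecialLinearGroup.coe_mul, Matrix.mul_assoc, h,
      ← Matrix.mul_assoc, ← Matrix.SpecialLinearGroup.coe_mul, inv_mul_cancel, Matrix.SpecialLinearGroup.coe_one,
      Matrix.one_mul]

theorem ringChar_three [CharP F 3] : ringChar F ≠ 2 := by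
  rw [ringChar.eq F 3]
  norm_num

/-- A nonsquare of the subfield stays a nonsquare in an odd extension. -/
theorem exists_nonsquare_mem [CharP F 3] {F₀ : Subfield F} {k q₀ : ℕ} (hk : Odd k) (hF₀ : Nat.card F₀ = q₀)
    (hqk : Fintype.card F = q₀ ^ k) : ∃ g ∈ F₀, g ≠ 0 ∧ ¬ IsSquare g := by
  haveI : Finite F₀ := Finite.of_injective _ Subtype.val_injective
  haveI := Fintype.ofFinite F₀
  haveI : CharP F₀ 3 :=
    (RingHom.charP_iff (F₀.subtype : F₀ →+* F) Subtype.val_injective 3).mpr inferInstance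
  have h2 : ringChar F₀ ≠ 2 := ringChar_three
  obtain ⟨g, hg⟩ := FiniteField.exists_nonsquare h2
  have hg0 : g ≠ 0 := fun e => hg (e ▸ IsSquare.zero)
  have hg0' : (g : F) ≠ 0 := fun e => hg0 (Subtype.ext e)
  refine ⟨g, g.2, hg0', fun hs => ?_⟩
  have h1 := (FiniteField.pow_dichotomy h2 hg0).resolve_left fun h => hg ((FiniteField.isSquare_iff h2 hg0).mpr h)
  rw [FiniteField.isSquare_iff ringChar_three hg0'] at hs
  rw [← Nat.card_eq_fintype_card, hF₀] at h1
  have hodd : Odd q₀ := by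
    have := FiniteField.odd_card_of_char_ne_two h2
    rw [← Nat.card_eq_fintype_card, hF₀] at this
    exact Nat.odd_iff.mpr this
  obtain ⟨a, ha⟩ := hodd
  have hS : Fintype.card F / 2 = (q₀ / 2) * ∑ j ∈ Finset.range k, q₀ ^ j := by
    have h3 : (∑ j ∈ Finset.range k, q₀ ^ j) * (q₀ - 1) + 1 = q₀ ^ k := by
      have h1 : 1 ≤ q₀ := by omega
      have h2 : 1 ≤ q₀ ^ k := Nat.one_le_pow _ _ h1
      zify [h1, h2]
      rw [geom_sum_mul]
      ring
    rw [hqk, ← h3, show q₀ / 2 = a by omega, show q₀ - 1 = 2 * a by omega,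
      show (∑ j ∈ Finset.range k, q₀ ^ j) * (2 * a) + 1 = 2 * (a * ∑ j ∈ Finset.range k, q₀ ^ j) + 1 by ring]
    omega
  have hSodd : Odd (∑ j ∈ Finset.range k, q₀ ^ j) := by
    rw [Nat.odd_iff, InvolSubfield.geom_odd ⟨a, ha⟩]
    exact Nat.odd_iff.mp hk
  have h1' : (g : F) ^ (q₀ / 2) = -1 := by
    have := congrArg Subtype.val h1
    simpa using this
  rw [hS, pow_mul, h1', hSodd.neg_one_pow] at hs
  exact (Ring.neg_one_ne_one_of_char_ne_two ringChar_three) hs

/-- The good direction. -/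
theorem good [CharP F 3] {F₀ : Subfield F} {k q₀ : ℕ} (hk : k.Prime) (hF₀ : Nat.card F₀ = q₀)
    (hqk : Fintype.card F = q₀ ^ k) (hn : 0 < n) (hcond : Odd n ∨ 2 < k) (x : Matrix.SpecialLinearGroup (Fin n) F)
    (hx : ∃ z : F, ((x ^ 3 : Matrix.SpecialLinearGroup (Fin n) F) : M) = z • (1 : M)) :
    ∃ P : Matrix.SpecialLinearGroup (Fin n) F, P⁻¹ * x * P ∈ InvolSubfield.H F₀ n := by
  classical
  haveI : Fact (Nat.Prime 3) := ⟨Nat.prime_three⟩
  obtain ⟨z, hz, hT, -⟩ := PrimeOrd.data Nat.prime_three hn x hx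
  obtain ⟨b, rfl⟩ := surjective_frobenius F 3 z
  rw [frobenius_def] at hz hT
  have hb : b ≠ 0 := fun e => hz (by rw [e]; norm_num)
  obtain ⟨hy, -⟩ := PrimeOrd.normalise hz rfl three_ne_zero hT
  set y : Module.End F V := b⁻¹ • Matrix.toLin' (x : M) with hyd
  set N := y - 1 with hNd
  haveI : Nontrivial (Module.End F V) := by
    haveI : Nonempty (Fin n) := ⟨⟨0, hn⟩⟩
    infer_instance
  haveI : CharP (Module.End F V) 3 :=
    charP_of_injective_algebraMap (FaithfulSMul.algebraMap_injective F (Module.End F V)) 3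
  have hN : N ^ 3 = 0 := by
    rw [hNd, sub_pow_char_of_commute 3 (Commute.one_right y), hy, one_pow, sub_self]
  obtain ⟨l, a, w₀, ha, hNw⟩ := Jordan.exists_jordan hN
  have hcard : Fintype.card (Σ i, Fin (a i)) = n := by
    rw [← Module.finrank_eq_card_basis w₀, Module.finrank_fintype_fun_eq_card, Fintype.card_fin]
  let e : (Σ i, Fin (a i)) ≃ Fin n := Fintype.equivFinOfCardEq hcard
  let w := w₀.reindex e
  let R : M := LinearMap.toMatrix w w N
  have hRent : ∀ i j, R i j ≠ 0 → R i j = 1 ∧ (e.symm i).1 = (e.symm j).1 := fun i j hij => by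
    obtain ⟨⟨c, d⟩, rfl⟩ := e.surjective j
    obtain ⟨⟨c', d'⟩, rfl⟩ := e.surjective i
    simp only [R, w, LinearMap.toMatrix_apply, Module.Basis.repr_reindex_apply, Module.Basis.reindex_apply,
      Equiv.symm_apply_apply, hNw] at hij ⊢
    split_ifs at hij ⊢ with h
    · rw [Module.Basis.repr_self, Finsupp.single_apply] at hij ⊢
      split_ifs at hij ⊢ with h2
      · exact ⟨rfl, (congrArg Sigma.fst h2).symm⟩
      · exact absurd rfl hij
    · simp at hij
  have hR : ∀ i j, (R + 1) i j ∈ F₀ := fun i j => by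
    rw [Matrix.add_apply]
    refine F₀.add_mem ?_ ?_
    · by_cases h : R i j = 0
      · rw [h]; exact F₀.zero_mem
      · rw [(hRent i j h).1]; exact F₀.one_mem
    · rw [Matrix.one_apply]
      split_ifs
      exacts [F₀.one_mem, F₀.zero_mem]
  have hwx : ∀ j, (x : M).mulVec (w j) = ∑ i, (b • (R + 1)) i j • w i := fun j => by
    have hN' : N (w j) = ∑ i, R i j • w i := (by
      conv_lhs => rw [← w.sum_repr (N (w j))]
      simp [R, LinearMap.toMatrix_apply])
    have hxy : (x : M).mulVec (w j) = b • (N (w j) + w j) := by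
      simp [hNd, hyd, smul_smul, mul_inv_cancel₀ hb]
    rw [hxy, hN', smul_add, Finset.smul_sum]
    simp [Matrix.one_apply, mul_add, add_smul, smul_smul, Finset.sum_add_distrib]
  refine conj_entries x hn hb (R + 1) hR w hwx fun δ hδ => ?_
  let D : (Fin l → F) → M := fun s => Matrix.diagonal fun i => s (e.symm i).1
  have hDc : ∀ s, D s * (R + 1) = (R + 1) * D s := fun s => by
    rw [mul_add, add_mul, mul_one, one_mul]
    congr 1
    ext i j
    rw [Matrix.diagonal_mul, Matrix.mul_diagonal]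
    by_cases h : R i j = 0
    · simp [h]
    · rw [(hRent i j h).2, mul_comm]
  have hDd : ∀ s, (D s).det = ∏ i, s i ^ a i := fun s => by
    rw [Matrix.det_diagonal, ← e.prod_comp, Fintype.prod_sigma]
    simp
  have hupd : ∀ i t, (D (Function.update (fun _ => 1) i t)).det = t ^ a i := fun i t => by
    rw [hDd, Finset.prod_eq_single i (fun j _ hj => by rw [Function.update_of_ne hj, one_pow]) (by simp),
      Function.update_self]
  by_cases h1 : ∃ i, a i = 1
  · obtain ⟨i, hi⟩ := h1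
    exact ⟨_, 1, F₀.one_mem, one_ne_zero, by rw [hupd i δ, hi, pow_one, mul_one], hDc _⟩
  by_cases h3 : ∃ i, a i = 3
  · obtain ⟨i, hi⟩ := h3
    obtain ⟨t, ht⟩ := surjective_frobenius F 3 δ
    rw [frobenius_def] at ht
    exact ⟨_, 1, F₀.one_mem, one_ne_zero, by rw [hupd i t, hi, ht, mul_one], hDc _⟩
  have hall : ∀ i, a i = 2 := fun i => by
    have := ha i
    have h1' : a i ≠ 1 := fun h => h1 ⟨i, h⟩
    have h3' : a i ≠ 3 := fun h => h3 ⟨i, h⟩
    omega
  have hn2 : n = 2 * l := by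
    rw [← hcard, Fintype.card_sigma]
    simp [hall, mul_comm]
  have hk2 : 2 < k := hcond.resolve_left fun h => by
    obtain ⟨j, hj⟩ := h
    omega
  have hl : 0 < l := by omega
  obtain ⟨g, hgF, hg0, hgs⟩ := exists_nonsquare_mem (hk.odd_of_ne_two (by omega)) hF₀ hqk
  have hgood : ∀ c ∈ F₀, c ≠ 0 → IsSquare (δ / c) →
      ∃ (D : M) (c : F), c ∈ F₀ ∧ c ≠ 0 ∧ D.det * c = δ ∧ D * (R + 1) = (R + 1) * D := by
    rintro c hc hc0 ⟨t, ht⟩
    exact ⟨_, c, hc, hc0, by rw [hupd ⟨0, hl⟩ t, hall, sq, ← ht, div_mul_cancel₀ δ hc0], hDc _⟩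
  by_cases hs : IsSquare δ
  · exact hgood 1 F₀.one_mem one_ne_zero (by rwa [div_one])
  · refine hgood g hgF hg0 ?_
    have h2 := ringChar_three (F := F)
    rw [FiniteField.isSquare_iff h2 (div_ne_zero hδ hg0), div_pow]
    rw [FiniteField.isSquare_iff h2 hδ] at hs
    rw [FiniteField.isSquare_iff h2 hg0] at hgs
    rw [(FiniteField.pow_dichotomy h2 hδ).resolve_left hs, (FiniteField.pow_dichotomy h2 hg0).resolve_left hgs]
    simp

/-- The bad element. -/
theorem bad [CharP F 3] {F₀ : Subfield F} {q₀ m : ℕ} (hm : 1 ≤ m) (hF₀ : Nat.card F₀ = q₀)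
    (hqk : Fintype.card F = q₀ ^ 2) :
    ∃ x : Matrix.SpecialLinearGroup (Fin (2 * m)) F,
      (∃ z : F, ((x ^ 3 : Matrix.SpecialLinearGroup (Fin (2 * m)) F) : Matrix (Fin (2 * m)) (Fin (2 * m)) F) =
        z • (1 : Matrix (Fin (2 * m)) (Fin (2 * m)) F)) ∧
      (∀ z : F, (x : Matrix (Fin (2 * m)) (Fin (2 * m)) F) ≠ z • (1 : Matrix (Fin (2 * m)) (Fin (2 * m)) F)) ∧
      ∀ P : Matrix.SpecialLinearGroup (Fin (2 * m)) F, P⁻¹ * x * P ∉ InvolSubfield.H F₀ (2 * m) := by
  classical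
  haveI : Fact (Nat.Prime 3) := ⟨Nat.prime_three⟩
  haveI : Finite F₀ := Finite.of_injective _ Subtype.val_injective
  haveI := Fintype.ofFinite F₀
  haveI : CharP F₀ 3 := (RingHom.charP_iff (F₀.subtype : F₀ →+* F) Subtype.val_injective 3).mpr inferInstance
  have h2 := ringChar_three (F := F)
  obtain ⟨g, hg⟩ := FiniteField.exists_nonsquare h2
  have hg0 : g ≠ 0 := fun e => hg (e ▸ IsSquare.zero)
  let e : Fin m ⊕ Fin m ≃ Fin (2 * m) := finSumFinEquiv.trans (finCongr (two_mul m).symm)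
  let i₀ : Fin m := ⟨0, hm⟩
  let G : Matrix (Fin m) (Fin m) F := Matrix.diagonal (Function.update (fun _ => 1) i₀ g)
  have hGd : G.det = g := by
    rw [Matrix.det_diagonal, Finset.prod_update_of_mem (Finset.mem_univ _)]
    simp
  let J : Matrix (Fin m ⊕ Fin m) (Fin m ⊕ Fin m) F := Matrix.fromBlocks 0 1 0 0
  let T : Matrix (Fin m ⊕ Fin m) (Fin m ⊕ Fin m) F := Matrix.fromBlocks G 0 0 1
  let Nb : Matrix (Fin m ⊕ Fin m) (Fin m ⊕ Fin m) F := Matrix.fromBlocks 0 G 0 0
  have hTJ : T * J = Nb * T := by simp [T, J, Nb, Matrix.fromBlocks_multiply]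
  have hTd : T.det = g := by simp [T, hGd]
  have hNb2 : Nb * Nb = 0 := by simp [Nb, Matrix.fromBlocks_multiply]
  let φ := Matrix.reindexAlgEquiv F F e
  let N : Matrix (Fin (2 * m)) (Fin (2 * m)) F := φ Nb
  have hN2 : N * N = 0 := by rw [show N = φ Nb from rfl, ← map_mul, hNb2, map_zero]
  have hdet : (1 + N).det = 1 := by
    rw [show N = φ Nb from rfl, ← map_one φ, ← map_add, Matrix.det_reindexAlgEquiv]
    simp [Nb, ← Matrix.fromBlocks_one, Matrix.fromBlocks_add]
  haveI : Nonempty (Fin (2 * m)) := ⟨⟨0, by omega⟩⟩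
  let x : Matrix.SpecialLinearGroup (Fin (2 * m)) F := ⟨1 + N, hdet⟩
  have hx3 : (x : Matrix (Fin (2 * m)) (Fin (2 * m)) F) ^ 3 = 1 := by
    show (1 + N) ^ 3 = 1
    rw [add_pow_char_of_commute 3 (Commute.one_left N), one_pow, pow_succ, sq, hN2, zero_mul, add_zero]
  refine ⟨x, ⟨1, by rw [Matrix.SpecialLinearGroup.coe_pow, hx3, one_smul]⟩, fun z hz => ?_, fun P hP => ?_⟩
  · have := congrFun (congrFun hz (e (Sum.inl i₀))) (e (Sum.inr i₀))
    simp [x, N, φ, Nb, G, Matrix.one_apply] at this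
    exact hg0 this
  obtain ⟨Q, hQ⟩ : ∃ Q : Matrix (Fin (2 * m)) (Fin (2 * m)) F,
      Q = ((P⁻¹ : Matrix.SpecialLinearGroup (Fin (2 * m)) F) : Matrix (Fin (2 * m)) (Fin (2 * m)) F) := ⟨_, rfl⟩
  have hPQ : (P : Matrix (Fin (2 * m)) (Fin (2 * m)) F) * Q = 1 := by
    rw [hQ, ← Matrix.SpecialLinearGroup.coe_mul, mul_inv_cancel, Matrix.SpecialLinearGroup.coe_one]
  have hQP : Q * (P : Matrix (Fin (2 * m)) (Fin (2 * m)) F) = 1 := by
    rw [hQ, ← Matrix.SpecialLinearGroup.coe_mul, inv_mul_cancel, Matrix.SpecialLinearGroup.coe_one]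
  set X : Matrix (Fin (2 * m)) (Fin (2 * m)) F := Q * (1 + N) * (P : Matrix (Fin (2 * m)) (Fin (2 * m)) F) with hXd
  have hX : ((P⁻¹ * x * P : Matrix.SpecialLinearGroup (Fin (2 * m)) F) : Matrix (Fin (2 * m)) (Fin (2 * m)) F) = X := by
    rw [Matrix.SpecialLinearGroup.coe_mul, Matrix.SpecialLinearGroup.coe_mul, ← hQ]
  obtain ⟨a, ha, hga⟩ := (InvolSubfield.mem_H _).mp hP
  rw [hX] at hga
  have hcol : ∀ j, ∃ r : Fin (2 * m) → F, (∀ i, r i ∈ F₀) ∧ X.mulVec (Pi.single j 1) = a • r := fun j =>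
    hga _ fun i => by
      rw [Pi.single_apply]; split_ifs
      exacts [F₀.one_mem, F₀.zero_mem]
  choose r hr hXr using hcol
  let R : Matrix (Fin (2 * m)) (Fin (2 * m)) F₀ := Matrix.of fun i j => ⟨r j i, hr j i⟩
  let ι : F₀ →+* F := F₀.subtype
  have hXR : X = a • R.map ι := Matrix.ext_of_mulVec_single fun j => by
    rw [hXr, Matrix.smul_mulVec, Matrix.mulVec_single_one]
    rfl
  have hX3 : X ^ 3 = 1 := by
    rw [← hX, ← Matrix.SpecialLinearGroup.coe_pow, show (P⁻¹ * x * P) ^ 3 = P⁻¹ * x ^ 3 * P by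
      simp only [pow_succ, pow_zero, one_mul]; group]
    rw [show x ^ 3 = 1 from Subtype.ext (by rw [Matrix.SpecialLinearGroup.coe_pow]; exact hx3), mul_one,
      inv_mul_cancel, Matrix.SpecialLinearGroup.coe_one]
  let i1 : Fin (2 * m) := ⟨0, by omega⟩
  have ha3 : a ^ 3 * ι ((R ^ 3) i1 i1) = 1 := by
    have h5 := congrFun (congrFun hX3 i1) i1
    rw [hXR, smul_pow, Matrix.smul_apply, Matrix.one_apply_eq, ← RingHom.mapMatrix_apply, ← map_pow] at h5
    exact h5
  obtain ⟨t, ht⟩ := surjective_frobenius F₀ 3 ((R ^ 3) i1 i1)⁻¹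
  rw [frobenius_def] at ht
  have hat : a = ι t := frobenius_inj F 3 (by
    rw [frobenius_def, frobenius_def, ← map_pow, ht, map_inv₀]
    exact eq_inv_of_mul_eq_one_left ha3)
  let N₀ : Matrix (Fin (2 * m)) (Fin (2 * m)) F₀ := t • R - 1
  have hN' : N₀.map ι = Q * N * (P : Matrix (Fin (2 * m)) (Fin (2 * m)) F) := by
    have e1 : X - 1 = Q * N * (P : Matrix (Fin (2 * m)) (Fin (2 * m)) F) := by
      rw [hXd, mul_add, add_mul, mul_one, hQP, add_sub_cancel_left]
    rw [← e1, hXR, hat]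
    ext i j
    simp [N₀, Matrix.one_apply]
  have hN₀2 : N₀ * N₀ = 0 := Matrix.map_injective ι.injective (by
    show (N₀ * N₀).map ι = (0 : Matrix (Fin (2 * m)) (Fin (2 * m)) F₀).map ι
    rw [Matrix.map_mul, hN', Matrix.map_zero _ (map_zero ι)]
    calc Q * N * (P : Matrix (Fin (2 * m)) (Fin (2 * m)) F) * (Q * N * (P : Matrix (Fin (2 * m)) (Fin (2 * m)) F))
        = Q * N * ((P : Matrix (Fin (2 * m)) (Fin (2 * m)) F) * Q) * N * (P : Matrix (Fin (2 * m)) (Fin (2 * m)) F) := by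
          simp only [mul_assoc]
      _ = 0 := by rw [hPQ, mul_one, mul_assoc Q N N, hN2, mul_zero, zero_mul])
  have hN₀0 : N₀ ≠ 0 := fun h => by
    have h6 : Q * N * (P : Matrix (Fin (2 * m)) (Fin (2 * m)) F) = 0 := by rw [← hN', h]; simp
    have h7 : N = 0 := by
      calc N = ((P : Matrix (Fin (2 * m)) (Fin (2 * m)) F) * Q) * N * ((P : Matrix (Fin (2 * m)) (Fin (2 * m)) F) * Q) := by
            rw [hPQ, one_mul, mul_one]
        _ = (P : Matrix (Fin (2 * m)) (Fin (2 * m)) F) * (Q * N * (P : Matrix (Fin (2 * m)) (Fin (2 * m)) F)) * Q := by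
            simp only [mul_assoc]
        _ = 0 := by rw [h6, mul_zero, zero_mul]
    have := congrFun (congrFun h7 (e (Sum.inl i₀))) (e (Sum.inr i₀))
    simp [N, φ, Nb, G] at this
    exact hg0 this
  obtain ⟨l, s, b₀, hl, hls, hb1, hb2, hb3⟩ := InvolForm.nilpotent_data (Matrix.toLin' N₀)
    (by rw [sq, Module.End.mul_eq_comp, ← Matrix.toLin'_mul, hN₀2, map_zero])
    (fun h => hN₀0 (Matrix.toLin'.injective (by rw [h, map_zero])))
  let col : (Fin l ⊕ Fin l) ⊕ Fin s → (Fin (2 * m) → F) := fun c i => ι (b₀ c i)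
  have hcolN : ∀ c, (N₀.map ι).mulVec (col c) = fun i => ι (Matrix.toLin' N₀ (b₀ c) i) := fun c => by
    funext i
    rw [Matrix.toLin'_apply]
    exact (RingHom.map_mulVec ι N₀ (b₀ c) i).symm
  have hcol1 : ∀ i, (N₀.map ι).mulVec (col (Sum.inl (Sum.inl i))) = col (Sum.inl (Sum.inr i)) := fun i => by
    rw [hcolN, hb1]
  have hcol2 : ∀ i, (N₀.map ι).mulVec (col (Sum.inl (Sum.inr i))) = 0 := fun i => by
    rw [hcolN, hb2]; funext j; simp
  have hcol3 : ∀ i, (N₀.map ι).mulVec (col (Sum.inr i)) = 0 := fun i => by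
    rw [hcolN, hb3]; funext j; simp
  let eb : (Fin l ⊕ Fin l) ⊕ Fin s ≃ Fin (2 * m) := Fintype.equivFinOfCardEq (by
    simp only [Fintype.card_sum, Fintype.card_fin]; omega)
  have hBdet : (Matrix.of fun i c => b₀ (eb.symm c) i : Matrix (Fin (2 * m)) (Fin (2 * m)) F₀).det ≠ 0 := by
    rw [show (Matrix.of fun i c => b₀ (eb.symm c) i : Matrix (Fin (2 * m)) (Fin (2 * m)) F₀) =
      (Pi.basisFun F₀ (Fin (2 * m))).toMatrix (b₀.reindex eb) by ext i j; simp [Module.Basis.toMatrix_apply]]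
    exact ((Matrix.isUnit_iff_isUnit_det _).mp
      (IsUnit.of_mul_eq_one _ ((Pi.basisFun F₀ (Fin (2 * m))).toMatrix_mul_toMatrix_flip (b₀.reindex eb)))).ne_zero
  have hcolli : LinearIndependent F fun c => col (eb.symm c) := by
    have h8 : ((Matrix.of fun i c => b₀ (eb.symm c) i : Matrix (Fin (2 * m)) (Fin (2 * m)) F₀).map ι).det ≠ 0 := by
      rw [← RingHom.mapMatrix_apply, ← RingHom.map_det]
      exact fun h => hBdet (ι.injective (by rw [h, map_zero]))
    exact Matrix.linearIndependent_cols_of_det_ne_zero h8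
  -- no summand in the kernel
  obtain rfl : s = 0 := by
    by_contra hs
    let c₀ : (Fin l ⊕ Fin l) ⊕ Fin s := Sum.inr ⟨0, Nat.pos_of_ne_zero hs⟩
    have hker : N.mulVec ((P : Matrix (Fin (2 * m)) (Fin (2 * m)) F).mulVec (col c₀)) = 0 := by
      have h5 := congrArg (P : Matrix (Fin (2 * m)) (Fin (2 * m)) F).mulVec (hcol3 ⟨0, Nat.pos_of_ne_zero hs⟩)
      rw [hN', Matrix.mulVec_zero, Matrix.mulVec_mulVec, ← mul_assoc, ← mul_assoc, hPQ, one_mul,
        ← Matrix.mulVec_mulVec] at h5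
      exact h5
    set v := (P : Matrix (Fin (2 * m)) (Fin (2 * m)) F).mulVec (col c₀) with hv
    obtain ⟨u, hu⟩ : ∃ u, N.mulVec u = v := by
      have h9 : ∀ w, N.mulVec w = (Nb.mulVec (w ∘ e)) ∘ e.symm := fun w => by
        show (Nb.submatrix e.symm e.symm).mulVec w = _
        rw [Matrix.submatrix_mulVec_equiv]
        rfl
      have hv2 : ∀ i, v (e (Sum.inr i)) = 0 := fun i => by
        have := congrFun hker (e (Sum.inl i))
        rw [h9] at this
        simp [Nb, G, Matrix.fromBlocks_mulVec, Matrix.mulVec_diagonal] at this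
        rcases this with h | h
        · exfalso
          rw [Function.update_apply] at h
          split_ifs at h
          · exact hg0 h
          · exact one_ne_zero h
        · exact h
      refine ⟨(Sum.elim (fun _ => (0 : F)) fun i => (Function.update (fun _ => (1 : F)) i₀ g i)⁻¹ * v (e (Sum.inl i))) ∘ e.symm,
        funext fun k => ?_⟩
      obtain ⟨k, rfl⟩ := e.surjective k
      rw [h9]
      rcases k with k | k
      · simp [Nb, G, Matrix.fromBlocks_mulVec, Matrix.mulVec_diagonal, Function.comp_def]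
        rw [← mul_assoc, mul_inv_cancel₀ (by rw [Function.update_apply]; split_ifs; exacts [hg0, one_ne_zero]), one_mul]
      · simp [Nb, Matrix.fromBlocks_mulVec, Function.comp_def, hv2 k]
    have hrange : col c₀ = (N₀.map ι).mulVec (Q.mulVec u) := by
      rw [hN', Matrix.mulVec_mulVec, mul_assoc, mul_assoc, hPQ, mul_one, ← Matrix.mulVec_mulVec, hu, hv,
        Matrix.mulVec_mulVec, hQP, Matrix.one_mulVec]
    have hspan : Submodule.span F (Set.range fun c => col (eb.symm c)) = ⊤ :=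
      hcolli.span_eq_top_of_card_eq_finrank' (by simp)
    have hu' : Q.mulVec u ∈ Submodule.span F (Set.range fun c => col (eb.symm c)) := hspan ▸ Submodule.mem_top
    have h6 := Submodule.apply_mem_span_image_of_mem_span (Matrix.toLin' (N₀.map ι)) hu'
    rw [Matrix.toLin'_apply, ← hrange] at h6
    refine (hcolli.notMem_span_image (s := Set.range fun i : Fin l => eb (Sum.inl (Sum.inr i))) (x := eb c₀)
      (by simp [c₀])) ?_
    rw [Equiv.symm_apply_apply]
    refine (Submodule.span_le.mpr ?_) h6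
    rintro _ ⟨_, ⟨c, rfl⟩, rfl⟩
    obtain ⟨c, rfl⟩ := eb.surjective c
    simp only [Equiv.symm_apply_apply, Matrix.toLin'_apply]
    rcases c with (c | c) | c
    · rw [hcol1]
      exact Submodule.subset_span ⟨eb (Sum.inl (Sum.inr c)), ⟨c, rfl⟩, by simp⟩
    · rw [hcol2]; exact Submodule.zero_mem _
    · rw [hcol3]; exact Submodule.zero_mem _
  obtain rfl : l = m := by omega
  let σ : Fin l ⊕ Fin l → (Fin l ⊕ Fin l) ⊕ Fin 0 := fun c => Sum.inl c.swap
  let B₀ : Matrix (Fin l ⊕ Fin l) (Fin l ⊕ Fin l) F₀ := Matrix.of fun i c => b₀ (σ c) (e i)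
  let B : Matrix (Fin l ⊕ Fin l) (Fin l ⊕ Fin l) F := B₀.map ι
  have hNsq : ∀ c, ((N₀.map ι).submatrix e e).mulVec (fun i => B i c) = fun i => (N₀.map ι).mulVec (col (σ c)) (e i) := fun c => by
    rw [show (N₀.map ι).submatrix e e = (N₀.map ι).submatrix e (e.symm).symm from rfl, Matrix.submatrix_mulVec_equiv]
    funext i
    simp [B, B₀, col, Function.comp_def]
  have hBJ : (N₀.map ι).submatrix e e * B = B * J := by
    ext i c
    have h5 := congrFun (hNsq c) i
    rw [Matrix.mul_apply]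
    refine h5.trans ?_
    rcases c with c | c
    · simp only [σ, Sum.swap_inl]
      rw [hcol2, Matrix.mul_apply]
      simp [J, Fintype.sum_sum_type]
    · simp only [σ, Sum.swap_inr]
      rw [hcol1, Matrix.mul_apply]
      simp [J, Fintype.sum_sum_type, B, B₀, col, σ, Matrix.one_apply]
  have hB0 : B₀.det ≠ 0 := by
    have hli : LinearIndependent F₀ fun c => b₀ (σ c) :=
      b₀.linearIndependent.comp σ fun a b h => by
        have h' : a.swap = b.swap := by simpa [σ] using h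
        simpa using congrArg Sum.swap h'
    have hli' : LinearIndependent F₀ fun c => (fun i => b₀ (σ c) (e i)) :=
      hli.map' (LinearEquiv.funCongrLeft F₀ F₀ e).toLinearMap (LinearEquiv.ker _)
    have h6 : IsUnit B₀ := Matrix.linearIndependent_cols_iff_isUnit.mp hli'
    exact ((Matrix.isUnit_iff_isUnit_det _).mp h6).ne_zero
  have hBd : B.det = ι B₀.det := by
    rw [RingHom.map_det, RingHom.mapMatrix_apply]
  let Ps : Matrix (Fin l ⊕ Fin l) (Fin l ⊕ Fin l) F := (P : Matrix (Fin (2 * l)) (Fin (2 * l)) F).submatrix e e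
  have hPs : Nb * Ps = Ps * (N₀.map ι).submatrix e e := by
    rw [show Ps = (P : Matrix (Fin (2 * l)) (Fin (2 * l)) F).submatrix e e from rfl,
      Matrix.submatrix_mul_equiv, hN', ← mul_assoc, ← mul_assoc, hPQ, one_mul, ← Matrix.submatrix_mul_equiv N _ e e e]
    congr 1
    ext i j
    simp [N, φ]
  have hPsd : Ps.det = 1 := by rw [Matrix.det_submatrix_equiv_self]; exact P.2
  have hTu : IsUnit T.det := by rw [hTd]; exact hg0.isUnit
  set C := T⁻¹ * (Ps * B) with hC
  have hTC : T * C = Ps * B := by rw [hC, ← mul_assoc, Matrix.mul_nonsing_inv T hTu, one_mul]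
  have hCJ : C * J = J * C := by
    have h7 : T * (C * J) = T * (J * C) := by
      rw [← mul_assoc, hTC, ← mul_assoc T J C, hTJ, mul_assoc, ← hBJ, mul_assoc Nb T C, hTC, ← mul_assoc, ← mul_assoc,
        hPs]
    have := congrArg (T⁻¹ * ·) h7
    simpa [← mul_assoc, Matrix.nonsing_inv_mul T hTu] using this
  rw [← Matrix.fromBlocks_toBlocks C] at hCJ
  simp only [J, Matrix.fromBlocks_multiply, mul_zero, zero_mul, add_zero, zero_add, mul_one, one_mul,
    Matrix.fromBlocks_inj] at hCJ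
  obtain ⟨h21, h11, -, -⟩ := hCJ
  have hCd : C.det = C.toBlocks₁₁.det * C.toBlocks₁₁.det := by
    conv_lhs => rw [← Matrix.fromBlocks_toBlocks C]
    rw [← h21, Matrix.det_fromBlocks_zero₂₁, ← h11]
  have h8 : g * (C.toBlocks₁₁.det * C.toBlocks₁₁.det) = B.det := by
    rw [← hCd, ← hTd, ← Matrix.det_mul, hTC, Matrix.det_mul, hPsd, one_mul]
  have hB0' : ι B₀.det ≠ 0 := fun h => hB0 (ι.injective (by rw [h, map_zero]))
  obtain ⟨u, hu⟩ := InvolSubfield.isSquare_of_mem hF₀ hqk h2 (B₀.det).2 hB0'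
  rw [hBd] at h8
  have hd0 : C.toBlocks₁₁.det ≠ 0 := fun h => hB0' (by rw [← h8, h]; simp)
  refine hg ⟨u / C.toBlocks₁₁.det, ?_⟩
  field_simp
  linear_combination h8.trans hu

/-- The criterion. -/
theorem main [CharP F 3] (hn : 2 ≤ n) (F₀ : Subfield F) (k q₀ : ℕ) (hk : k.Prime) (hF₀ : Nat.card F₀ = q₀)
    (hqk : Fintype.card F = q₀ ^ k) :
    (∀ x : Matrix.SpecialLinearGroup (Fin n) F,
      (∃ z : F, ((x ^ 3 : Matrix.SpecialLinearGroup (Fin n) F) : M) = z • (1 : M)) →
      (∀ z : F, (x : M) ≠ z • (1 : M)) →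
      ∃ P : Matrix.SpecialLinearGroup (Fin n) F, P⁻¹ * x * P ∈ InvolSubfield.H F₀ n) ↔
    (Odd n ∨ (Even n ∧ 2 < k)) := by
  constructor
  · intro h
    rcases Nat.even_or_odd n with he | ho
    · refine Or.inr ⟨he, ?_⟩
      by_contra hk2
      obtain rfl : k = 2 := by have := hk.two_le; omega
      obtain ⟨m, rfl⟩ := he.two_dvd
      obtain ⟨x, hx, hns, hb⟩ := bad (m := m) (by omega) hF₀ hqk
      obtain ⟨P, hP⟩ := h x hx hns
      exact hb P hP
    · exact Or.inl ho
  · intro hc x hx _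
    exact good hk hF₀ hqk (by omega) (hc.imp_right And.right) x hx

end Cfsg.Lib.Classical.UnipSubfield
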