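import Mathlib
import Cfsg.Prelude.Def_GeometricClasses
import Cfsg.Agent.Classical.Unitary.Card
import Cfsg.Agent.Classical.Misc.OrthSimilitudeDerangement
import Cfsg.Agent.Classical.Misc.InvolutionForms

/-! Elements of prime order of `SL_n(q)`, `q = q₀²`, and similitudes of a Hermitian form. -/

set_option autoImplicit false
set_option linter.unusedSimpArgs false
set_option linter.unusedSectionVars false
set_option linter.unusedVariables false
set_option linter.style.haveILetI false
set_option linter.flexible false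

namespace Cfsg.Lib.Classical.UnitSim

open Submodule PrimeOrd

universe u

variable {F : Type u} [Field F] [Fintype F] {n : ℕ}

local notation "V" => (Fin n → F)
local notation "M" => Matrix (Fin n) (Fin n) F

/-! ### Hermitian spaces from forms and from bases -/

theorem exists_herm (q₀ : ℕ) (hF : Fintype.card F = q₀ ^ 2) (f : V → V → F) (hf : Cfsg.Geo.IsUnitaryFormPow q₀ f) :
    ∃ U : HermSpace F V, U.h = f ∧ (∀ x, U.σ x = x ^ q₀) ∧ Nat.card (fixedField U.σ) = q₀ := by
  obtain ⟨σ, hσ, hpow, hcard⟩ := exists_conj_pow hF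
  refine ⟨⟨σ, f, hσ, hf.add_left, hf.smul_left, fun x y => (hf.herm x y).trans (hpow _).symm, fun v hv => ?_⟩,
    rfl, hpow, hcard⟩
  by_contra h
  obtain ⟨⟨x, hx⟩, -⟩ := hf.nondegenerate v h
  exact hx (hv x)

/-- The form with a permutation matrix as Gram matrix. -/
noncomputable def permHerm (σ : F →+* F) (hσ : IsConj σ) {κ : Type} [Fintype κ] [DecidableEq κ]
    (w : Module.Basis κ F V) (π : κ → κ) (hπ : ∀ i, π (π i) = i) : HermSpace F V where
  σ := σ
  h x y := ∑ i, w.repr x i * σ (w.repr y (π i))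
  conj := hσ
  add_left x y z := by simp [add_mul, Finset.sum_add_distrib]
  smul_left c x z := by simp [Finset.mul_sum, mul_assoc]
  symm x y := by
    let e : κ ≃ κ := ⟨π, π, hπ, hπ⟩
    rw [map_sum, ← e.sum_comp]
    refine Finset.sum_congr rfl fun i _ => ?_
    show w.repr x (π i) * σ (w.repr y (π (π i))) = σ (w.repr y i * σ (w.repr x (π i)))
    rw [hπ, map_mul, hσ.invol, mul_comm]
  nondeg v hv := by
    refine w.repr.injective (Finsupp.ext fun i => ?_)
    rw [map_zero]
    have h := hv (w (π i))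
    simp [Finsupp.single_apply, hπ] at h
    simpa using h

theorem permHerm_basis (σ : F →+* F) (hσ : IsConj σ) {κ : Type} [Fintype κ] [DecidableEq κ]
    (w : Module.Basis κ F V) (π : κ → κ) (hπ : ∀ i, π (π i) = i) (i j : κ) :
    (permHerm σ hσ w π hπ).h (w i) (w j) = if j = π i then 1 else 0 := by
  show ∑ k, w.repr (w i) k * σ (w.repr (w j) (π k)) = _
  rw [Finset.sum_eq_single i]
  · rw [Module.Basis.repr_self, Module.Basis.repr_self, Finsupp.single_eq_same, one_mul, Finsupp.single_apply]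
    split_ifs <;> simp
  · intro k _ hk
    simp [Finsupp.single_apply, Ne.symm hk]
  · simp

/-- Similitudes on a basis. -/
theorem sim_of_basis (U : HermSpace F V) {κ : Type} [Fintype κ] (w : Module.Basis κ F V) (X : M) {μ : F}
    (h : ∀ i j, U.h (X.mulVec (w i)) (X.mulVec (w j)) = μ * U.h (w i) (w j)) :
    ∀ u v, U.h (X.mulVec u) (X.mulVec v) = μ * U.h u v := by
  intro u v
  rw [← w.sum_repr u, ← w.sum_repr v]
  simp only [Matrix.mulVec_sum, Matrix.mulVec_smul, HermSpace.sum_left, HermSpace.sum_right, HermSpace.smul_left,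
    HermSpace.smul_right, h, Finset.mul_sum]
  exact Finset.sum_congr rfl fun a _ => Finset.sum_congr rfl fun b _ => by ring

theorem exists_value (U : HermSpace F V) (hn : 0 < n) : ∃ u v, U.h u v ≠ 0 := by
  by_contra h
  push Not at h
  have h0 := U.nondeg (fun _ : Fin n => (1 : F)) fun x => h x _
  exact one_ne_zero (congrFun h0 ⟨0, hn⟩)

theorem sim_fixed (U : HermSpace F V) (hn : 0 < n) (X : M) {μ : F}
    (hX : ∀ u v, U.h (X.mulVec u) (X.mulVec v) = μ * U.h u v) : U.σ μ = μ := by
  obtain ⟨u, v, huv⟩ := exists_value U hn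
  have h := hX v u
  rw [U.symm, hX, map_mul, ← U.symm] at h
  exact mul_right_cancel₀ (fun e => huv (by rw [U.symm, e, map_zero])) h

theorem sim_pow (U : HermSpace F V) (X : M) {μ : F} (hX : ∀ u v, U.h (X.mulVec u) (X.mulVec v) = μ * U.h u v) :
    ∀ (j : ℕ) (u v : V), U.h ((X ^ j).mulVec u) ((X ^ j).mulVec v) = μ ^ j * U.h u v := by
  intro j
  induction j with
  | zero => intro u v; simp
  | succ j ih => intro u v; rw [pow_succ, ← Matrix.mulVec_mulVec, ← Matrix.mulVec_mulVec, ih, hX, ← mul_assoc, pow_succ]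

theorem mult_pow (U : HermSpace F V) (hn : 0 < n) (X : M) {μ : F} {r : ℕ}
    (hX : ∀ u v, U.h (X.mulVec u) (X.mulVec v) = μ * U.h u v) (hXr : X ^ r = 1) : μ ^ r = 1 := by
  obtain ⟨u, v, huv⟩ := exists_value U hn
  have h := sim_pow U X hX r u v
  rw [hXr, Matrix.one_mulVec, Matrix.one_mulVec] at h
  exact mul_right_cancel₀ huv (by rw [one_mul, ← h])

/-- A conjugate among the similitudes gives an invariant form. -/
theorem transfer (U : HermSpace F V) (hn : 0 < n) (x s : GL (Fin n) F)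
    (h : s⁻¹ * x * s ∈ Cfsg.Geo.similarityGroup U.h) :
    ∃ (U' : HermSpace F V) (μ : F), U'.σ = U.σ ∧ μ ≠ 0 ∧
      ∀ u v, U'.h ((x : M).mulVec u) ((x : M).mulVec v) = μ * U'.h u v := by
  obtain ⟨c, hc⟩ := h
  let S : M := ((s⁻¹ : GL (Fin n) F) : M)
  have hS : ∀ y, S.mulVec ((s : M).mulVec y) = y := fun y => by
    rw [Matrix.mulVec_mulVec, ← Units.val_mul, inv_mul_cancel, Units.val_one, Matrix.one_mulVec]
  have hS' : ∀ y, (s : M).mulVec (S.mulVec y) = y := fun y => by
    rw [Matrix.mulVec_mulVec, ← Units.val_mul, mul_inv_cancel, Units.val_one, Matrix.one_mulVec]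
  refine ⟨{ σ := U.σ
            h := fun u v => U.h (S.mulVec u) (S.mulVec v)
            conj := U.conj
            add_left := fun a b c => by rw [Matrix.mulVec_add, U.add_left]
            smul_left := fun a b c => by rw [Matrix.mulVec_smul, U.smul_left]
            symm := fun a b => U.symm _ _
            nondeg := fun v hv => by
              have h0 : S.mulVec v = 0 := U.nondeg _ fun y => by
                have := hv ((s : M).mulVec y)
                rwa [hS] at this
              rw [← hS' v, h0, Matrix.mulVec_zero] }, c, rfl, c.ne_zero, fun u v => ?_⟩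
  show U.h (S.mulVec _) (S.mulVec _) = _ * U.h (S.mulVec u) (S.mulVec v)
  have e : ∀ y, ((s⁻¹ * x * s : GL (Fin n) F) : M).mulVec (S.mulVec y) = S.mulVec ((x : M).mulVec y) := fun y => by
    rw [Units.val_mul, Units.val_mul, ← Matrix.mulVec_mulVec, hS', Matrix.mulVec_mulVec]
  rw [← e, ← e]
  exact hc _ _

/-- Conjugation into the similitudes. -/
theorem into (U U₁ : HermSpace F V) (hσ : U₁.σ = U.σ) (x : GL (Fin n) F) {μ : F} (hμ : μ ≠ 0)
    (hsim : ∀ u v, U₁.h ((x : M).mulVec u) ((x : M).mulVec v) = μ * U₁.h u v)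
    (hD : ∀ δ : F, δ ≠ 0 → ∃ D : M, D.det = δ ∧ D * (x : M) = (x : M) * D) :
    ∃ s ∈ Cfsg.Geo.specialLinear (Fin n) F, s⁻¹ * x * s ∈ Cfsg.Geo.similarityGroup U.h := by
  classical
  obtain ⟨g, hg⟩ := U₁.exists_isometry U hσ.symm rfl
  let G : M := LinearMap.toMatrix' g.toLinearMap
  have hG : G.det ≠ 0 := by
    rw [show G.det = LinearMap.det g.toLinearMap from LinearMap.det_toMatrix' _]
    exact (LinearEquiv.isUnit_det' g).ne_zero
  obtain ⟨D, hDd, hDx⟩ := hD G.det⁻¹ (inv_ne_zero hG)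
  have hd : (G * D).det = 1 := by rw [Matrix.det_mul, hDd, mul_inv_cancel₀ hG]
  let P : GL (Fin n) F := Matrix.SpecialLinearGroup.toGL ⟨G * D, hd⟩
  have hPv : (P : M) = G * D := rfl
  refine ⟨P⁻¹, inv_mem (QuadSim.det_mem_SL.mpr hd), Units.mk0 μ hμ, fun u v => ?_⟩
  have hGv : ∀ w, G.mulVec w = g w := fun w => LinearMap.toMatrix'_mulVec _ w
  have hv : ∀ y : V, y = g (D.mulVec (((P⁻¹ : GL (Fin n) F) : M).mulVec y)) := fun y => by
    rw [← hGv, Matrix.mulVec_mulVec, Matrix.mulVec_mulVec, ← hPv, ← Units.val_mul, mul_inv_cancel, Units.val_one,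
      Matrix.one_mulVec]
  conv_rhs => rw [hv u, hv v, hg]
  rw [inv_inv, Units.val_mul, Units.val_mul, hPv, Units.val_mk0, Matrix.mul_assoc G D, hDx, ← Matrix.mulVec_mulVec,
    ← Matrix.mulVec_mulVec, ← Matrix.mulVec_mulVec, ← Matrix.mulVec_mulVec, ← Matrix.mulVec_mulVec,
    ← Matrix.mulVec_mulVec, hGv, hGv, hg, hsim]

/-- Diagonal elements with two distinguished multiplicities. -/
theorem diag_bad (U : HermSpace F V) (hn : 0 < n) {r : ℕ} (hr : r.Prime) (hr2 : r ≠ 2)
    (hfix : ∀ a : F, a ^ r = 1 → U.σ a = a)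
    (b A B C : F) (hb : b ≠ 0) (hA : A ^ r = 1) (hB : B ^ r = 1) (hC : C ^ r = 1) {k₁ k₂ k₃ : ℕ}
    (hsum : k₁ + k₂ + k₃ = n) (h1 : 0 < k₁) (h2 : 0 < k₂) (h12 : k₁ ≠ k₂) (h13 : k₁ ≠ k₃) (h23 : k₂ ≠ k₃)
    (hAB : A ≠ B) (hC' : k₃ = 0 ∨ (C ≠ A ∧ C ≠ B)) (hdet : b ^ n * (A ^ k₁ * B ^ k₂ * C ^ k₃) = 1) :
    ∃ x ∈ Cfsg.Geo.specialLinear (Fin n) F, (∃ z : F, ((x ^ r : GL (Fin n) F) : M) = z • (1 : M)) ∧
      (∀ a : F, (x : M) ≠ a • (1 : M)) ∧ ∀ s : GL (Fin n) F, s⁻¹ * x * s ∉ Cfsg.Geo.similarityGroup U.h := by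
  classical
  let e : (Fin k₁ ⊕ Fin k₂) ⊕ Fin k₃ ≃ Fin n := Fintype.equivFinOfCardEq (by simp [hsum])
  let d' : (Fin k₁ ⊕ Fin k₂) ⊕ Fin k₃ → F := Sum.elim (Sum.elim (fun _ => A) fun _ => B) fun _ => C
  let d : Fin n → F := d' ∘ e.symm
  have hd : ∀ i, d i ^ r = 1 := fun i => by
    show d' (e.symm i) ^ r = 1
    rcases e.symm i with (j | j) | j <;> simp [d', hA, hB, hC]
  have hcard : ∀ l : F, Fintype.card {i // d i = l} = Fintype.card {j // d' j = l} := fun l =>
    Fintype.card_congr (e.symm.subtypeEquiv fun i => Iff.rfl)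
  have hsplit : ∀ l : F, Fintype.card {j // d' j = l} =
      (if A = l then k₁ else 0) + (if B = l then k₂ else 0) + (if C = l then k₃ else 0) := fun l => by
    rw [Fintype.card_subtype, Finset.card_filter, Fintype.sum_sum_type, Fintype.sum_sum_type]
    have hb : ∀ (m : ℕ) (a : F), (∑ _i : Fin m, if a = l then (1 : ℕ) else 0) = if a = l then m else 0 :=
      fun m a => by by_cases ha : a = l <;> simp [ha]
    show (∑ _i : Fin k₁, if A = l then (1 : ℕ) else 0) + (∑ _i : Fin k₂, if B = l then (1 : ℕ) else 0) +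
      (∑ _i : Fin k₃, if C = l then (1 : ℕ) else 0) = _
    rw [hb, hb, hb]
  have hNA : Fintype.card {i // d i = A} = k₁ := by
    rw [hcard, hsplit, if_pos rfl, if_neg hAB.symm]
    rcases hC' with h | ⟨h, -⟩
    · simp [h]
    · simp [h]
  have hNB : Fintype.card {i // d i = B} = k₂ := by
    rw [hcard, hsplit, if_pos rfl, if_neg hAB]
    rcases hC' with h | ⟨-, h⟩
    · simp [h]
    · simp [h]
  have hdr : d ^ r = fun _ => 1 := funext hd
  have hX : (b • Matrix.diagonal d : M) ^ r = (b ^ r) • 1 := by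
    rw [_root_.smul_pow, Matrix.diagonal_pow, hdr, Matrix.diagonal_one]
  have hns : ∀ a : F, (b • Matrix.diagonal d : M) ≠ a • 1 := fun a ha => by
    have hi : ∀ i, b * d i = a := fun i => by simpa using congrFun (congrFun ha i) i
    refine hAB (mul_left_cancel₀ hb ?_)
    have hiA := hi (e (Sum.inl (Sum.inl ⟨0, h1⟩)))
    have hiB := hi (e (Sum.inl (Sum.inr ⟨0, h2⟩)))
    simp [d, d'] at hiA hiB
    rw [hiA, hiB]
  obtain ⟨x, hxS, hxv, hxz, hxn⟩ := QuadSim.mk (b • Matrix.diagonal d) (by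
    rw [Matrix.det_smul, Fintype.card_fin, Matrix.det_diagonal, ← hdet]
    congr 1
    rw [← e.prod_comp, Fintype.prod_sum_type, Fintype.prod_sum_type]
    simp [d, d']) hX hns
  refine ⟨x, hxS, hxz, hxn, fun s hs => ?_⟩
  obtain ⟨P, μ, hPσ, hμ, hPx⟩ := transfer U hn x s hs
  rw [hxv] at hPx
  have hbσ : P.σ b ≠ 0 := (map_ne_zero P.σ).mpr hb
  have hPy : ∀ u v, P.h ((Matrix.diagonal d).mulVec u) ((Matrix.diagonal d).mulVec v) = μ / (b * P.σ b) * P.h u v :=
    fun u v => by
      have := hPx u v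
      rw [Matrix.smul_mulVec, Matrix.smul_mulVec, P.smul_left, P.smul_right] at this
      field_simp
      linear_combination this
  set ν := μ / (b * P.σ b)
  have hν : ν ^ r = 1 := mult_pow P hn _ hPy (by rw [Matrix.diagonal_pow, hdr, Matrix.diagonal_one])
  have hν0 : ν ≠ 0 := fun h => by rw [h, zero_pow hr.ne_zero] at hν; exact zero_ne_one hν
  have hνσ : P.σ ν = ν := sim_fixed P hn _ hPy
  let G : M := Matrix.of fun i j => P.h (Pi.single i 1) (Pi.single j 1)
  have hG : G.det ≠ 0 := fun h0 => by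
    obtain ⟨u, hu0, hu⟩ := Matrix.exists_vecMul_eq_zero_iff.mpr h0
    refine hu0 (P.nondeg u fun y => P.eq_zero_symm ?_)
    rw [pi_eq_sum_univ' u, pi_eq_sum_univ' y, P.sum_right]
    refine Finset.sum_eq_zero fun j _ => ?_
    rw [P.smul_right, P.sum_left]
    simp only [P.smul_left]
    refine mul_eq_zero_of_right _ ?_
    simpa [Matrix.vecMul, dotProduct, G] using congrFun hu j
  have hrel : ∀ i j, G i j ≠ 0 → d i * (P.σ ∘ d) j = ν := fun i j hij => by
    have h := hPy (Pi.single i 1) (Pi.single j 1)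
    rw [Matrix.diagonal_mulVec_single, Matrix.diagonal_mulVec_single, mul_one, mul_one,
      show Pi.single i (d i) = d i • (Pi.single i 1 : V) by rw [← Pi.single_smul', smul_eq_mul, mul_one],
      show Pi.single j (d j) = d j • (Pi.single j 1 : V) by rw [← Pi.single_smul', smul_eq_mul, mul_one],
      P.smul_left, P.smul_right, ← mul_assoc] at h
    exact mul_right_cancel₀ hij h
  have hle : ∀ l : F, l ≠ 0 → Fintype.card {i // d i = l} ≤ Fintype.card {i // d i = ν / P.σ l} := fun l hl =>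
    (QuadSim.card_partner G hG d (P.σ ∘ d) hl hrel).trans (le_of_eq (Fintype.card_congr
      (Equiv.subtypeEquivRight fun i => by
        show P.σ (d i) = ν / l ↔ d i = ν / P.σ l
        constructor
        · intro h
          rw [← P.conj.invol (d i), h, map_div₀, hνσ]
        · intro h
          rw [h, map_div₀, hνσ, P.conj.invol])))
  have key : ∀ l : F, l ≠ 0 → Fintype.card {i // d i = l} = Fintype.card {i // d i = ν / P.σ l} := fun l hl =>
    le_antisymm (hle l hl) (by
      have := hle (ν / P.σ l) (div_ne_zero hν0 ((map_ne_zero P.σ).mpr hl))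
      rwa [map_div₀, hνσ, P.conj.invol, div_div_cancel₀ hν0] at this)
  have hfixed : ∀ l : F, l ^ r = 1 → ∀ k, 0 < k → Fintype.card {i // d i = l} = k →
      (∀ l', Fintype.card {i // d i = l'} = k → l' = l) → l * l = ν := by
    intro l hl k hk hlk huniq
    have hl0 : l ≠ 0 := fun h => by rw [h, zero_pow hr.ne_zero] at hl; exact zero_ne_one hl
    have := huniq (ν / P.σ l) ((key l hl0).symm.trans hlk)
    rw [hPσ, hfix l hl, div_eq_iff hl0] at this
    exact this.symm
  have huA : ∀ l', Fintype.card {i // d i = l'} = k₁ → l' = A := fun l' hl' => by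
    by_contra hne
    rw [hcard, hsplit, if_neg (Ne.symm hne)] at hl'
    split_ifs at hl' with hB' hC'' <;> subst_vars <;> rcases hC' with h | ⟨h, h'⟩ <;>
      first | omega | exact absurd rfl h' | (simp_all)
  have huB : ∀ l', Fintype.card {i // d i = l'} = k₂ → l' = B := fun l' hl' => by
    by_contra hne
    rw [hcard, hsplit, if_neg (Ne.symm hne)] at hl'
    split_ifs at hl' with hA' hC'' <;> subst_vars <;> rcases hC' with h | ⟨h, h'⟩ <;>
      first | omega | exact absurd rfl h | (simp_all)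
  have hsq : A * A = B * B := (hfixed A hA k₁ h1 hNA huA).trans (hfixed B hB k₂ h2 hNB huB).symm
  refine hAB ?_
  obtain ⟨j, hj⟩ := hr.odd_of_ne_two hr2
  have hpow : A ^ (2 * j) = B ^ (2 * j) := by rw [pow_mul, pow_mul, _root_.sq, _root_.sq, hsq]
  rw [hj, pow_succ, hpow] at hA
  rw [hj, pow_succ] at hB
  exact mul_left_cancel₀ (fun h => by rw [h, zero_mul] at hB; exact zero_ne_one hB) (hA.trans hB.symm)

/-! ### Large orders -/

theorem neg_ne_pow {r : ℕ} [Fact r.Prime] (hr2 : r ≠ 2) {v : ZMod r} {m j : ℕ} (hm : v ^ m = -1) : v ≠ (v ^ 2) ^ j := by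
  intro h
  have h1 : v ^ m = (v ^ m) ^ (2 * j) := by
    conv_lhs => rw [h]
    rw [← pow_mul, ← pow_mul, ← pow_mul]
    congr 1
    ring
  rw [hm, (even_two_mul j).neg_one_pow] at h1
  haveI : Fact (2 < r) := ⟨by have := (Fact.out : r.Prime).two_le; omega⟩
  exact ZMod.neg_one_ne_one h1

theorem herm_aeval (U : HermSpace F V) (T S : Module.End F V) (h : ∀ u v, U.h (T u) v = U.h u (S v))
    (P : Polynomial F) : ∀ u v, U.h (Polynomial.aeval T P u) v = U.h u (Polynomial.aeval S (P.map U.σ) v) := by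
  have hk : ∀ k : ℕ, ∀ u v, U.h ((T ^ k) u) v = U.h u ((S ^ k) v) := by
    intro k
    induction k with
    | zero => intro u v; simp
    | succ k ih => intro u v; rw [pow_succ, pow_succ', Module.End.mul_apply, Module.End.mul_apply, ih, h]
  induction P using Polynomial.induction_on' with
  | add a b ha hb =>
    intro u v
    rw [Polynomial.map_add, map_add, map_add, LinearMap.add_apply, LinearMap.add_apply, U.add_left, U.add_right, ha, hb]
  | monomial k c =>
    intro u v
    rw [Polynomial.map_monomial, Polynomial.aeval_monomial, Polynomial.aeval_monomial, Module.End.mul_apply,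
      Module.End.mul_apply, Module.algebraMap_end_apply, Module.algebraMap_end_apply, U.smul_left, U.smul_right,
      U.conj.invol, hk]

theorem res_aeval (T : Module.End F V) {W : Submodule F V} (hW : Inv T W) (P : Polynomial F) :
    ∀ w : W, ((Polynomial.aeval (res T hW) P w : W) : V) = Polynomial.aeval T P (w : V) := by
  induction P using Polynomial.induction_on' with
  | add a b ha hb =>
    intro w
    rw [map_add, map_add, LinearMap.add_apply, LinearMap.add_apply, Submodule.coe_add, ha, hb]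
  | monomial k c =>
    intro w
    rw [Polynomial.aeval_monomial, Polynomial.aeval_monomial, Module.End.mul_apply, Module.End.mul_apply,
      Module.algebraMap_end_apply, Module.algebraMap_end_apply, Submodule.coe_smul, res_pow]

/-- An irreducible block has no conjugate among the similitudes. -/
theorem block_not_herm (U : HermSpace F V) {q₀ : ℕ} (hF : Fintype.card F = q₀ ^ 2) (hpow : ∀ x, U.σ x = x ^ q₀)
    {r : ℕ} [Fact r.Prime] (hr2 : r ≠ 2) (hr : (r : F) ≠ 0) (hrF : ¬ r ∣ Fintype.card F) {m : ℕ}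
    (hm : (-(q₀ : ZMod r)) ^ m = -1) {c : ℕ} (hc : c = orderOf (Fintype.card F : ZMod r)) (hc2 : 2 ≤ c) (hcn : c ≤ n)
    (X : M) (hXr : X ^ r = 1) (hfix : Module.finrank F (fix (Matrix.toLin' X)) = n - c)
    (hX : ∀ u v, U.h (X.mulVec u) (X.mulVec v) = U.h u v) : False := by
  classical
  have hrp : r.Prime := Fact.out
  set T : Module.End F V := Matrix.toLin' X with hTd
  have hT : T ^ r = 1 := by rw [hTd, toLin'_pow_eq, hXr, Matrix.toLin'_one]; rfl
  have hmd : Module.finrank F (mov T) = c := by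
    have h := finrank_add_eq_of_isCompl (isCompl_fix_mov hr hT)
    rw [Module.finrank_fintype_fun_eq_card, Fintype.card_fin] at h
    omega
  haveI : Nontrivial (mov T) := Module.nontrivial_of_finrank_pos (R := F) (by omega)
  set y := res T (inv_mov T) with hyd
  have hy : y ^ r = 1 := by
    have := res_scalar (c := (1 : F)) (inv_mov T) (r := r) (by rw [hT, one_smul])
    rwa [one_smul] at this
  have hint : IsIntegral F y := Algebra.IsIntegral.isIntegral y
  set g := minpoly F y with hgd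
  have hgm : g.Monic := minpoly.monic hint
  have hdeg : g.natDegree ≤ c := by
    have h := Polynomial.natDegree_le_of_dvd (LinearMap.minpoly_dvd_charpoly y) (LinearMap.charpoly_monic y).ne_zero
    rw [LinearMap.charpoly_natDegree, hmd] at h
    exact h
  have hg0 : 0 < g.natDegree := minpoly.natDegree_pos hint
  have hgr : g ∣ Polynomial.X ^ r - 1 := minpoly.dvd F y (by simp [hy])
  have hg1 : g.eval 1 ≠ 0 := fun h1 => by
    obtain ⟨g', hg'⟩ := Polynomial.dvd_iff_isRoot.mpr h1
    have hg'0 : g' ≠ 0 := fun e => hgm.ne_zero (by rw [hg', e, mul_zero])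
    have hz : Polynomial.aeval y g' = 0 := LinearMap.ext fun w => by
      have h0 := LinearMap.congr_fun (minpoly.aeval F y) w
      rw [← hgd, hg', map_mul, Module.End.mul_apply] at h0
      simp only [map_sub, Polynomial.aeval_X, Polynomial.aeval_one, Polynomial.C_1, LinearMap.sub_apply,
        Module.End.one_apply, LinearMap.zero_apply, sub_eq_zero] at h0
      refine Subtype.ext (Submodule.disjoint_def.mp (isCompl_fix_mov hr hT).disjoint _ (mem_fix.mpr ?_)
        (Polynomial.aeval y g' w).2)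
      exact congrArg Subtype.val h0
    have h := Polynomial.natDegree_le_of_dvd (minpoly.dvd F y hz) hg'0
    have hd := congrArg Polynomial.natDegree hg'
    rw [Polynomial.natDegree_mul (Polynomial.X_sub_C_ne_zero 1) hg'0, Polynomial.natDegree_X_sub_C] at hd
    rw [← hgd] at h
    omega
  -- the adjoint
  set S := T ^ (r - 1)
  have hTS : ∀ v, T (S v) = v := fun v => by
    rw [← Module.End.mul_apply, ← pow_succ', Nat.sub_add_cancel hrp.pos, hT]; rfl
  have hadj : ∀ u v, U.h (T u) v = U.h u (S v) := fun u v => by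
    conv_lhs => rw [← hTS v]
    exact hX u (S v)
  have hP0 : ∀ v, Polynomial.aeval T ((Polynomial.X - 1) * g) v = 0 := fun v => by
    rw [mul_comm, map_mul, Module.End.mul_apply]
    have hm' : (Polynomial.aeval T (Polynomial.X - 1 : Polynomial F)) v ∈ mov T := ⟨v, by simp⟩
    rw [← res_aeval T (inv_mov T) g ⟨_, hm'⟩]
    exact congrArg Subtype.val (LinearMap.congr_fun (minpoly.aeval F y) _)
  set P : Polynomial F := (Polynomial.X - 1) * g with hPd
  have hQ : ∀ v, Polynomial.aeval T ((P.map U.σ).comp (Polynomial.X ^ (r - 1))) v = 0 := fun v => by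
    rw [Polynomial.aeval_comp, map_pow, Polynomial.aeval_X]
    exact U.nondeg _ fun u => by rw [← herm_aeval U T S hadj, hP0, U.zero_left]
  have hgQ : g ∣ (P.map U.σ).comp (Polynomial.X ^ (r - 1)) := minpoly.dvd F y (LinearMap.ext fun w => Subtype.ext (by
    rw [res_aeval, hQ]; rfl))
  -- the roots
  let K := AlgebraicClosure F
  obtain ⟨a, ha⟩ := IsAlgClosed.exists_aeval_eq_zero K g
    (Polynomial.natDegree_pos_iff_degree_pos.mp hg0).ne'
  have har : a ^ r = 1 := by
    have := Polynomial.aeval_eq_zero_of_dvd_aeval_eq_zero hgr ha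
    simpa [sub_eq_zero] using this
  have ha1 : a ≠ 1 := fun e => by
    rw [e, ← map_one (algebraMap F K), Polynomial.aeval_algebraMap_apply_eq_algebraMap_eval, map_eq_zero] at ha
    exact hg1 ha
  have haord : orderOf a = r := orderOf_eq_prime har ha1
  set q := Fintype.card F with hq
  have hroots : ∀ j, Polynomial.aeval (a ^ q ^ j) g = 0 := by
    intro j
    induction j with
    | zero => simpa using ha
    | succ j ih =>
      rw [pow_succ, pow_mul, ← Polynomial.expand_aeval, hq, FiniteField.expand_card, map_pow, ← hq, ih,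
        zero_pow (Fintype.card_ne_zero)]
  let O : Finset K := (Finset.range c).image fun j => a ^ q ^ j
  have hO : O.card = c := by
    rw [Finset.card_image_of_injOn, Finset.card_range]
    intro i hi j hj hij
    simp only [Finset.coe_range, Set.mem_Iio] at hi hj
    have h : q ^ i ≡ q ^ j [MOD r] := by
      simp only at hij
      have := (orderOf_pos_iff.mp (haord ▸ hrp.pos)).pow_eq_pow_iff_modEq.mp hij
      rwa [haord] at this
    rw [← ZMod.natCast_eq_natCast_iff] at h
    push_cast at h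
    rw [hc] at hi hj
    exact pow_injOn_Iio_orderOf hi hj h
  have hOall : ∀ b : K, Polynomial.aeval b g = 0 → b ∈ O := by
    intro b hb
    by_contra hbO
    have hne : g.map (algebraMap F K) ≠ 0 := Polynomial.map_ne_zero hgm.ne_zero
    have hsub : insert b O ⊆ (g.aroots K).toFinset := by
      intro x hx
      rw [Multiset.mem_toFinset, Polynomial.mem_aroots]
      refine ⟨hgm.ne_zero, ?_⟩
      rcases Finset.mem_insert.mp hx with rfl | hx
      · exact hb
      · obtain ⟨j, -, rfl⟩ := Finset.mem_image.mp hx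
        exact hroots j
    have h1 := (Finset.card_le_card hsub).trans ((Multiset.toFinset_card_le _).trans (Polynomial.card_roots' _))
    rw [Finset.card_insert_of_notMem hbO, hO, Polynomial.natDegree_map] at h1
    omega
  -- the twist
  have hb0 : Polynomial.aeval (a ^ (r - 1)) (P.map U.σ) = 0 := by
    have := Polynomial.aeval_eq_zero_of_dvd_aeval_eq_zero hgQ ha
    rwa [Polynomial.aeval_comp, map_pow, Polynomial.aeval_X] at this
  obtain ⟨p, hp⟩ := CharP.exists F
  obtain ⟨N, hpp, hN⟩ := FiniteField.card F p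
  haveI := Fact.mk hpp
  obtain ⟨k, -, hk⟩ := (Nat.dvd_prime_pow hpp).mp (show q₀ ∣ p ^ (N : ℕ) from ⟨q₀, by rw [← _root_.sq, ← hF]; exact hN.symm⟩)
  haveI : CharP K p := charP_of_injective_algebraMap (algebraMap F K).injective p
  haveI : ExpChar K p := ExpChar.prime hpp
  have hφ : ∀ x : K, iterateFrobenius K p k x = x ^ q₀ := fun x => by rw [iterateFrobenius_def, hk]
  have htw : Polynomial.aeval ((a ^ (r - 1)) ^ q₀) P = 0 := by
    have h := congrArg (iterateFrobenius K p k) hb0
    have hcomp : (iterateFrobenius K p k).comp ((algebraMap F K).comp U.σ) = algebraMap F K :=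
      RingHom.ext fun x => by
        rw [RingHom.comp_apply, RingHom.comp_apply, hφ, ← map_pow, hpow, ← pow_mul, ← _root_.sq, ← hF, hq,
          FiniteField.pow_card]
    rw [map_zero, Polynomial.aeval_def, Polynomial.eval₂_map, Polynomial.hom_eval₂, hcomp, hφ] at h
    rw [Polynomial.aeval_def]
    exact h
  rw [hPd, map_mul, mul_eq_zero, map_sub, Polynomial.aeval_X, map_one, sub_eq_zero, ← pow_mul] at htw
  rcases htw with h | h
  · rw [← orderOf_dvd_iff_pow_eq_one, haord, hrp.dvd_mul] at h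
    rcases h with h | h
    · have := Nat.le_of_dvd (Nat.sub_pos_of_lt hrp.one_lt) h
      have := hrp.pos
      omega
    · exact hrF (by rw [hF]; exact dvd_pow h two_ne_zero)
  · obtain ⟨j, -, hj⟩ := Finset.mem_image.mp (hOall _ h)
    have h2 : q ^ j ≡ (r - 1) * q₀ [MOD r] := by
      have := (orderOf_pos_iff.mp (haord ▸ hrp.pos)).pow_eq_pow_iff_modEq.mp hj
      rwa [haord] at this
    rw [← ZMod.natCast_eq_natCast_iff] at h2
    rw [Nat.cast_mul, Nat.cast_sub hrp.one_le, ZMod.natCast_self, Nat.cast_one, zero_sub, neg_one_mul] at h2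
    push_cast at h2
    refine neg_ne_pow hr2 hm (j := j) ?_
    rw [neg_sq, show (q : ZMod r) = (q₀ : ZMod r) ^ 2 by rw [hF]; push_cast; rfl] at *
    exact h2.symm

/-- Large orders: the good primes. -/
theorem big_bad (U : HermSpace F V) {q₀ : ℕ} (hF : Fintype.card F = q₀ ^ 2) (hpow : ∀ x, U.σ x = x ^ q₀)
    {r : ℕ} [Fact r.Prime] (hr2 : r ≠ 2) (hr : (r : F) ≠ 0) (hrF : ¬ r ∣ Fintype.card F)
    (hnd : ¬ r ∣ Fintype.card F - 1) {m : ℕ} (hm : (-(q₀ : ZMod r)) ^ m = -1) (hmn : m ≤ n) :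
    ∃ x ∈ Cfsg.Geo.specialLinear (Fin n) F, (∃ z : F, ((x ^ r : GL (Fin n) F) : M) = z • (1 : M)) ∧
      (∀ a : F, (x : M) ≠ a • (1 : M)) ∧ ∀ s : GL (Fin n) F, s⁻¹ * x * s ∉ Cfsg.Geo.similarityGroup U.h := by
  classical
  have hrp : r.Prime := Fact.out
  set c := orderOf (Fintype.card F : ZMod r) with hc
  have hc2 : 2 ≤ c := by
    have := ord_pos (F := F) hrF
    by_contra h
    refine hnd ?_
    rw [← pow_one (Fintype.card F), dvd_pow_sub_one, ← hc, Nat.dvd_one]
    omega
  have hcm : c ∣ m := by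
    rw [orderOf_dvd_iff_pow_eq_one, hF, Nat.cast_pow, ← neg_sq, pow_right_comm, hm, neg_one_sq]
  have hm0 : 0 < m := Nat.pos_of_ne_zero fun e => by
    haveI : Fact (2 < r) := ⟨by have := hrp.two_le; omega⟩
    rw [e, pow_zero] at hm
    exact ZMod.neg_one_ne_one hm.symm
  have hcn : c ≤ n := (Nat.le_of_dvd hm0 hcm).trans hmn
  obtain ⟨X, hXr, hns, hfix⟩ := SimDerange.exists_block (n := n) hr hrF hc hc2 hcn
  obtain ⟨x, hxS, hxv, hxz, hxn⟩ := QuadSim.mk (X : M) X.2 (r := r) (z := 1) (by rw [hXr, one_smul]) hns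
  refine ⟨x, hxS, hxz, hxn, fun s hs => ?_⟩
  obtain ⟨P, μ, hPσ, hμ, hPx⟩ := transfer U (by omega) x s hs
  rw [hxv] at hPx
  obtain rfl : μ = 1 := root_one hrp hnd (mult_pow P (by omega) _ hPx hXr)
  exact block_not_herm P hF (by rw [hPσ]; exact hpow) hr2 hr hrF hm hc hc2 hcn _ hXr hfix fun u v => by
    rw [hPx, one_mul]

/-- The divisors of the index. -/
theorem index_div (U : HermSpace F V) {q₀ : ℕ} (hF : Fintype.card F = q₀ ^ 2) (hq : U.q = q₀) (hn : 3 ≤ n) {r : ℕ}
    [Fact r.Prime] (hrF : ¬ r ∣ Fintype.card F)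
    (hΩ : r ∣ (Cfsg.Geo.similarityGroup U.h).relIndex (Cfsg.Geo.specialLinear (Fin n) F)) :
    ∃ m, 2 ≤ m ∧ m ≤ n ∧ (-(q₀ : ZMod r)) ^ m = -1 := by
  classical
  have hrp : r.Prime := Fact.out
  set H := Cfsg.Geo.similarityGroup U.h
  set S := Cfsg.Geo.specialLinear (Fin n) F
  let δ : U.Isom →* Fˣ := LinearEquiv.det.comp U.Isom.subtype
  have hdet : ∀ g : δ.ker, (LinearMap.toMatrix' (g.1.1 : V ≃ₗ[F] V).toLinearMap).det = 1 := fun g => by
    rw [LinearMap.det_toMatrix', ← LinearEquiv.coe_det]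
    exact congrArg Units.val (MonoidHom.mem_ker.mp g.2)
  let tg : δ.ker → GL (Fin n) F := fun g => Matrix.SpecialLinearGroup.toGL ⟨_, hdet g⟩
  let ψ : δ.ker → H.subgroupOf S := fun g => ⟨⟨tg g, QuadSim.det_mem_SL.mpr (hdet g)⟩, 1, fun u v => by
    show U.h ((LinearMap.toMatrix' (g.1.1 : V ≃ₗ[F] V).toLinearMap).mulVec u)
      ((LinearMap.toMatrix' (g.1.1 : V ≃ₗ[F] V).toLinearMap).mulVec v) = _
    rw [LinearMap.toMatrix'_mulVec, LinearMap.toMatrix'_mulVec, Units.val_one, one_mul]
    exact g.1.2 u v⟩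
  let φ : δ.ker →* H.subgroupOf S := MonoidHom.mk' ψ fun g g' => Subtype.ext (Subtype.ext (Units.ext (by
    show LinearMap.toMatrix' ((g.1.1 : V ≃ₗ[F] V).toLinearMap ∘ₗ (g'.1.1 : V ≃ₗ[F] V).toLinearMap) = _
    rw [LinearMap.toMatrix'_comp]
    rfl)))
  have hinj : Function.Injective φ := fun g g' e => Subtype.ext (HermSpace.isom_ext U fun v => by
    have := congrArg (fun z : H.subgroupOf S => ((z.1 : GL (Fin n) F) : M).mulVec v) e
    have h' : (LinearMap.toMatrix' (g.1.1 : V ≃ₗ[F] V).toLinearMap).mulVec v =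
        (LinearMap.toMatrix' (g'.1.1 : V ≃ₗ[F] V).toLinearMap).mulVec v := this
    simpa [LinearMap.toMatrix'_mulVec] using h')
  have hker : Nat.card δ.ker ∣ Nat.card (H.subgroupOf S) := Subgroup.card_dvd_of_injective φ hinj
  have hrange : Nat.card δ.range ∣ q₀ + 1 := by
    rw [← hq, show U.q + 1 = Nat.card (normUnits U.σ).ker from U.conj.card_norm_ker.symm]
    refine Subgroup.card_dvd_of_le ?_
    rintro _ ⟨g, rfl⟩
    rw [MonoidHom.mem_ker]
    apply Units.ext
    rw [coe_normUnits, Units.val_one]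
    obtain ⟨b, hb⟩ := U.exists_orthonormal
    set A := LinearMap.toMatrix b b (g.1 : V ≃ₗ[F] V).toLinearMap with hA
    have h1 : A.transpose * U.σ.mapMatrix A = 1 := by
      ext i j
      have h := U.map_form g (b i) (b j)
      rw [U.h_eq_sum b hb, hb] at h
      simp only [Matrix.mul_apply, Matrix.transpose_apply, RingHom.mapMatrix_apply, Matrix.map_apply, hA,
        LinearMap.toMatrix_apply, Matrix.one_apply]
      exact h
    have h2 := congrArg Matrix.det h1
    rw [Matrix.det_mul, Matrix.det_transpose, ← RingHom.map_det, Matrix.det_one, hA, LinearMap.det_toMatrix,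
      ← LinearEquiv.coe_det] at h2
    exact h2
  have hO : Nat.card U.Isom ∣ (q₀ + 1) * Nat.card (H.subgroupOf S) := by
    rw [← δ.ker.card_mul_index, Subgroup.index_ker, mul_comm (q₀ + 1)]
    exact mul_dvd_mul hker hrange
  set Q := Fintype.card F with hQ
  have hmain : r * Nat.card U.Isom * (Q - 1) ∣ (q₀ + 1) * ∏ i : Fin n, (Q ^ n - Q ^ (i : ℕ)) := by
    rw [← card_SL_mul_eq_prod (F := F) (n := n) (by omega), mul_comm (Q - 1) (Nat.card _), ← mul_assoc]
    refine mul_dvd_mul_right ?_ _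
    have hS : Nat.card S = Nat.card (Matrix.SpecialLinearGroup (Fin n) F) := by
      refine (Nat.card_eq_of_bijective (fun g : Matrix.SpecialLinearGroup (Fin n) F =>
        (⟨Matrix.SpecialLinearGroup.toGL g, QuadSim.det_mem_SL.mpr g.2⟩ : S)) ⟨fun g g' h => ?_, fun g => ?_⟩).symm
      · exact Subtype.ext (congrArg (fun z : S => ((z : GL (Fin n) F) : M)) h)
      · exact ⟨⟨((g : GL (Fin n) F) : M), QuadSim.det_mem_SL.mp g.2⟩, Subtype.ext (Units.ext rfl)⟩
    rw [← hS, ← (H.subgroupOf S).card_mul_index, ← mul_assoc, mul_comm r]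
    exact mul_dvd_mul hO hΩ
  have hprod : ∏ i : Fin n, (Q ^ n - Q ^ (i : ℕ)) =
      (∏ i ∈ Finset.range n, Q ^ i) * ∏ i ∈ Finset.range n, (Q ^ (i + 1) - 1) := by
    rw [Fin.prod_univ_eq_prod_range (fun i => Q ^ n - Q ^ i) n,
      ← Finset.prod_range_reflect (fun i => Q ^ (i + 1) - 1) n, ← Finset.prod_mul_distrib]
    refine Finset.prod_congr rfl fun i hi => ?_
    rw [Finset.mem_range] at hi
    rw [Nat.mul_sub_one, ← pow_add]
    congr 2
    omega
  let f : ℕ → ℕ := fun i => if Even i then q₀ ^ (i + 1) + 1 else q₀ ^ (i + 1) - 1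
  let g : ℕ → ℕ := fun i => if Even i then q₀ ^ (i + 1) - 1 else q₀ ^ (i + 1) + 1
  have hfg : ∀ i, Q ^ (i + 1) - 1 = f i * g i := fun i => by
    rw [hF, ← pow_mul, ← OrthCard.sq_pow_sub_one]
    by_cases hi : Even i
    · simp [f, g, hi]
    · simp [f, g, hi, mul_comm]
  rw [hprod, Finset.prod_congr rfl (fun i _ => hfg i), Finset.prod_mul_distrib, U.card_isom, hq,
    Module.finrank_fintype_fun_eq_card, Fintype.card_fin] at hmain
  have hQ1 : Q - 1 = f 0 * g 0 := by have := hfg 0; simpa using this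
  have hq2 : 2 ≤ q₀ := hq ▸ U.two_le_q
  have hf0 : ∀ i, 0 < f i := fun i => by
    simp only [f]
    split_ifs
    · omega
    · exact Nat.sub_pos_of_lt (Nat.one_lt_pow (by omega) (by omega))
  have hg0 : 0 < g 0 := by simp [g]; omega
  obtain ⟨n', rfl⟩ : ∃ k, n = k + 1 := ⟨n - 1, by omega⟩
  set P₀ := ∏ i ∈ Finset.range (n' + 1), Q ^ i
  have h : (f 0 * (∏ i ∈ Finset.range (n' + 1), f i)) * (r * q₀ ^ ((n' + 1) * (n' + 1 - 1) / 2) * g 0) ∣
      (f 0 * (∏ i ∈ Finset.range (n' + 1), f i)) * (P₀ * ∏ i ∈ Finset.range (n' + 1), g i) := by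
    rw [hQ1, cardGUFormula] at hmain
    convert hmain using 1
    · show _ = r * (_ * ∏ i ∈ Finset.range (n' + 1), f i) * _
      ring
    · show _ = (q₀ + 1) * _
      rw [show q₀ + 1 = f 0 by simp [f]]
      ring
  have h' := Nat.dvd_of_mul_dvd_mul_left (Nat.mul_pos (hf0 0) (Finset.prod_pos fun i _ => hf0 i)) h
  rw [Finset.prod_range_succ' (fun i => g i), ← mul_assoc P₀] at h'
  have h'' : r * g 0 ∣ P₀ * (∏ i ∈ Finset.range n', g (i + 1)) * g 0 :=
    (mul_dvd_mul_right (dvd_mul_right r _) (g 0)).trans h'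
  rcases hrp.dvd_mul.mp (Nat.dvd_of_mul_dvd_mul_right hg0 h'') with h5 | h5
  · obtain ⟨i, -, hi⟩ := (Prime.dvd_finsetProd_iff hrp.prime _).mp h5
    exact absurd (hrp.dvd_of_dvd_pow hi) hrF
  · obtain ⟨i, hi, hd⟩ := (Prime.dvd_finsetProd_iff hrp.prime _).mp h5
    rw [Finset.mem_range] at hi
    refine ⟨i + 1 + 1, by omega, by omega, ?_⟩
    rw [← ZMod.natCast_eq_zero_iff] at hd
    simp only [g] at hd
    rw [neg_pow]
    split_ifs at hd with he
    · rw [Nat.cast_sub (Nat.one_le_pow _ _ (by omega)), sub_eq_zero] at hd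
      push_cast at hd
      rw [hd, mul_one, (he.add_one).neg_one_pow]
    · push_cast at hd
      rw [(Nat.even_add_one.mpr he).neg_one_pow, one_mul]
      linear_combination hd

/-! ### Involutions -/

/-- Centralising elements for a map preserving the blocks of a diagonal map. -/
theorem block_centre {κ : Type} [Fintype κ] [DecidableEq κ] (X : M) (w : Module.Basis κ F V) (d : κ → F)
    (h : ∀ i, Matrix.toLin' X (w i) ∈ span F (w '' {j | d j = d i})) :
    ∃ D : M, D.det = ∏ i, d i ∧ D * X = X * D := by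
  classical
  let f : V →ₗ[F] V := w.constr F fun i => d i • w i
  have hf : ∀ i, f (w i) = d i • w i := fun i => w.constr_basis F _ i
  have hsp : ∀ (c : F) (v : V), v ∈ span F (w '' {j | d j = c}) → f v = c • v := by
    intro c v hv
    induction hv using Submodule.span_induction with
    | mem v hv =>
      obtain ⟨j, hj, rfl⟩ := hv
      rw [hf, show d j = c from hj]
    | zero => simp
    | add a b _ _ ha hb => rw [map_add, ha, hb, smul_add]
    | smul a b _ hb => rw [map_smul, hb, smul_comm]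
  refine ⟨LinearMap.toMatrix' f, ?_, Matrix.toLin'.injective (w.ext fun i => ?_)⟩
  · rw [LinearMap.det_toMatrix', ← LinearMap.det_toMatrix w]
    rw [show LinearMap.toMatrix w w f = Matrix.diagonal d by
      ext a b
      rw [LinearMap.toMatrix_apply, hf, map_smul, w.repr_self, Finsupp.smul_apply, Matrix.diagonal_apply,
        Finsupp.single_apply]
      by_cases hab : b = a
      · subst hab; simp
      · simp [hab, Ne.symm hab], Matrix.det_diagonal]
  · rw [Matrix.toLin'_mul, Matrix.toLin'_mul, LinearMap.comp_apply, LinearMap.comp_apply, Matrix.toLin'_toMatrix',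
      hsp _ _ (h i), hf, map_smul]

/-- Projective involutions with a square scalar. -/
theorem good_square (U : HermSpace F V) (hn : 0 < n) (x : GL (Fin n) F) {b : F} (hb : b ≠ 0)
    (hz : (x : M) ^ 2 = b ^ 2 • (1 : M)) (hns : ∀ z : F, (x : M) ≠ z • (1 : M)) :
    ∃ s ∈ Cfsg.Geo.specialLinear (Fin n) F, s⁻¹ * x * s ∈ Cfsg.Geo.similarityGroup U.h := by
  classical
  set T : Module.End F V := Matrix.toLin' (x : M) with hTd
  have hT : T ^ 2 = b ^ 2 • (1 : Module.End F V) := by rw [hTd, toLin'_pow_eq, hz, map_smul, Matrix.toLin'_one]; rfl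
  set y : Module.End F V := b⁻¹ • T with hyd
  obtain ⟨hy, -⟩ := normalise (pow_ne_zero 2 hb) rfl two_ne_zero hT
  rw [← hyd] at hy
  have hxy : ∀ v, (x : M).mulVec v = b • y v := fun v => by
    rw [hyd, LinearMap.smul_apply, smul_smul, mul_inv_cancel₀ hb, one_smul, hTd, Matrix.toLin'_apply]
  have hμ : b * U.σ b ≠ 0 := mul_ne_zero hb ((map_ne_zero U.σ).mpr hb)
  by_cases h2 : (2 : F) = 0
  · haveI : CharP F 2 := (CharP.charP_iff_prime_eq_zero Nat.prime_two).mpr (by exact_mod_cast h2)
    set N := y - 1 with hNd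
    have hN : N ^ 2 = 0 := by
      have e : (2 : F) • y = 0 := by rw [h2, zero_smul]
      have e1 : (2 : F) • (1 : Module.End F V) = 0 := by rw [h2, zero_smul]
      rw [hNd, _root_.sq, sub_mul, mul_sub, mul_one, one_mul, ← _root_.sq, hy]
      linear_combination (norm := module) e1 - e
    have hN0 : N ≠ 0 := fun h => hns b (Matrix.toLin'.injective (LinearMap.ext fun v => by
      rw [Matrix.toLin'_apply, hxy, sub_eq_zero.mp h]; simp))
    obtain ⟨l, k, w, hl, hlk, hw1, hw2, hw3⟩ := InvolForm.nilpotent_data N hN hN0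
    have hyN : ∀ v, y v = v + N v := fun v => by rw [hNd]; simp
    let π : (Fin l ⊕ Fin l) ⊕ Fin k → (Fin l ⊕ Fin l) ⊕ Fin k := Sum.map Sum.swap id
    have hπ : ∀ i, π (π i) = i := by rintro ((i | i) | i) <;> rfl
    refine into U (permHerm U.σ U.conj w π hπ) rfl x hμ (sim_of_basis _ w _ fun i j => ?_) fun δ _ => ?_
    · have h22 : (1 : F) + 1 = 0 := by rw [one_add_one_eq_two, h2]
      rw [hxy, hxy, hyN, hyN, HermSpace.smul_left, HermSpace.smul_right, ← mul_assoc]
      congr 1
      rcases i with (i | i) | i <;> rcases j with (j | j) | j <;>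
        simp [hw1, hw2, hw3, HermSpace.add_left, HermSpace.add_right, HermSpace.zero_left, HermSpace.zero_right,
          permHerm_basis, π] <;>
        split_ifs <;> simp [h22]
    · obtain ⟨s, hs⟩ : ∃ s : F, s * s = δ := by
        obtain ⟨s, hs⟩ := FiniteField.isSquare_of_char_two (ringChar.eq F 2) δ
        exact ⟨s, hs.symm⟩
      let d : (Fin l ⊕ Fin l) ⊕ Fin k → F :=
        Sum.elim (Sum.elim (Function.update 1 ⟨0, hl⟩ s) (Function.update 1 ⟨0, hl⟩ s)) 1
      obtain ⟨D, hD, hDx⟩ := block_centre (x : M) w d fun i => by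
        rw [Matrix.toLin'_apply, hxy, hyN]
        refine smul_mem _ _ (add_mem (subset_span (Set.mem_image_of_mem w (show i ∈ {j | d j = d i} from rfl))) ?_)
        rcases i with (i | i) | i
        · rw [hw1]; exact subset_span (Set.mem_image_of_mem w (show d (Sum.inl (Sum.inr i)) = d (Sum.inl (Sum.inl i)) from rfl))
        · rw [hw2]; exact zero_mem _
        · rw [hw3]; exact zero_mem _
      refine ⟨D, ?_, hDx⟩
      rw [hD, Fintype.prod_sum_type, Fintype.prod_sum_type]
      simp [d, Finset.prod_update_of_mem, hs]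
  · obtain ⟨w, ε, hε, hw⟩ := InvolForm.eigen_basis h2 y hy
    have hxw : ∀ i, (x : M).mulVec (w i) = (b * ε i) • w i := fun i => by rw [hxy, hw, smul_smul]
    refine into U (permHerm U.σ U.conj w id fun _ => rfl) rfl x hμ (sim_of_basis _ w _ fun i j => ?_)
      fun δ _ => QuadSim.diag_centre (x : M) w _ hxw hn δ
    rw [hxw, hxw, HermSpace.smul_left, HermSpace.smul_right, permHerm_basis]
    split_ifs with hij
    · rw [show j = i from hij]
      show b * ε i * (U.σ (b * ε i) * 1) = _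
      rcases hε i with e | e <;> rw [e] <;> simp [map_mul]
    · simp

/-- Projective involutions. -/
theorem good_two (U : HermSpace F V) {q₀ : ℕ} (hF : Fintype.card F = q₀ ^ 2) (hn : 0 < n) {p : ℕ} [Fact p.Prime]
    [CharP F p] (hv : p = 2 ∨ padicValNat 2 n ≤ padicValNat 2 (Fintype.card F - 1)) (x : GL (Fin n) F)
    (hxS : x ∈ Cfsg.Geo.specialLinear (Fin n) F) {z : F} (hz : ((x ^ 2 : GL (Fin n) F) : M) = z • (1 : M))
    (hns : ∀ z : F, (x : M) ≠ z • (1 : M)) :
    ∃ s ∈ Cfsg.Geo.specialLinear (Fin n) F, s⁻¹ * x * s ∈ Cfsg.Geo.similarityGroup U.h := by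
  classical
  rw [Units.val_pow_eq_pow_val] at hz
  have hdet := QuadSim.det_mem_SL.mp hxS
  have hz0 : z ≠ 0 := fun e => by
    have := congrArg Matrix.det hz
    haveI _hne : Nonempty (Fin n) := ⟨⟨0, hn⟩⟩
    rw [Matrix.det_pow, hdet, one_pow, e, zero_smul, Matrix.det_zero] at this
    exact one_ne_zero this
  obtain ⟨b, rfl⟩ : ∃ b : F, b ^ 2 = z := by
    rcases eq_or_ne p 2 with rfl | hp
    · obtain ⟨b, hb⟩ := FiniteField.isSquare_of_char_two (ringChar.eq F 2) z
      exact ⟨b, by rw [_root_.sq, ← hb]⟩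
    · have hv' := hv.resolve_left hp
      have hodd : Fintype.card F % 2 = 1 := FiniteField.odd_card_of_char_ne_two (by rw [ringChar.eq F p]; exact hp)
      have h4 : Fintype.card F % 4 = 1 := by
        rw [hF, _root_.sq] at hodd ⊢
        obtain ⟨t, ht⟩ : Odd q₀ := (Nat.odd_mul.mp (Nat.odd_iff.mpr hodd)).1
        rw [ht, show (2 * t + 1) * (2 * t + 1) = 4 * (t * t + t) + 1 by ring]
        omega
      exact root_of_small (r := 2) (n := n) (by have := Fintype.one_lt_card (α := F); omega) hv' (fun _ _ => h4) hn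
        (x := Matrix.toLin' (x : M)) (by rw [LinearMap.det_toLin', hdet]) hz0
        (by rw [toLin'_pow_eq, hz, map_smul, Matrix.toLin'_one]; rfl)
  exact good_square U hn x (fun e => hz0 (by rw [e, zero_pow two_ne_zero])) hz hns

/-- The bad projective involution. -/
theorem bad_two (U : HermSpace F V) {q₀ : ℕ} (hF : Fintype.card F = q₀ ^ 2) (hpow : ∀ x, U.σ x = x ^ q₀)
    (hn : 0 < n) {p : ℕ} [Fact p.Prime] [CharP F p] (hp : p ≠ 2)
    (hv : padicValNat 2 (Fintype.card F - 1) < padicValNat 2 n) :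
    ∃ x ∈ Cfsg.Geo.specialLinear (Fin n) F, (∃ z : F, ((x ^ 2 : GL (Fin n) F) : M) = z • (1 : M)) ∧
      (∀ a : F, (x : M) ≠ a • (1 : M)) ∧ ∀ s : GL (Fin n) F, s⁻¹ * x * s ∉ Cfsg.Geo.similarityGroup U.h := by
  classical
  set q := Fintype.card F with hq
  have hring : ringChar F ≠ 2 := by rw [ringChar.eq F p]; exact hp
  have hodd : q % 2 = 1 := FiniteField.odd_card_of_char_ne_two hring
  obtain ⟨t, ht⟩ : Odd q₀ := by
    rw [hF, _root_.sq] at hodd
    exact (Nat.odd_mul.mp (Nat.odd_iff.mpr hodd)).1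
  have hq1 : 1 < q := Fintype.one_lt_card
  obtain ⟨o, ho⟩ : 2 ^ padicValNat 2 (q - 1) ∣ q - 1 := pow_padicValNat_dvd
  set a := padicValNat 2 (q - 1) with ha
  have hoo : Odd o := by
    rw [← Nat.not_even_iff_odd, even_iff_two_dvd]
    rintro ⟨o', rfl⟩
    have := (padicValNat_dvd_iff_le (p := 2) (by omega : q - 1 ≠ 0)).mp (show 2 ^ (a + 1) ∣ q - 1 from
      ⟨o', by rw [ho, pow_succ]; ring⟩)
    omega
  obtain ⟨g, hg0, hgord, -⟩ := exists_gen (F := F)
  rw [← hq] at hgord
  have hca : (g ^ o) ^ 2 ^ a = 1 := by rw [← pow_mul, mul_comm, ← ho, ← hgord, pow_orderOf_eq_one]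
  have hm1 : IsSquare (-1 : F) := FiniteField.isSquare_neg_one_iff.mpr (by
    rw [← hq, hF, ht, show (2 * t + 1) ^ 2 = 4 * (t * t + t) + 1 by ring]; omega)
  have hcns : ∀ b : F, b ^ 2 ≠ -(g ^ o) := by
    intro b hb
    obtain ⟨i, hi⟩ := hm1
    have hb' : (i * b) ^ 2 = g ^ o := by rw [mul_pow, hb, _root_.sq, ← hi]; ring
    have hsq : IsSquare (g ^ o) := ⟨i * b, by rw [← hb', _root_.sq]⟩
    rw [FiniteField.isSquare_iff hring (pow_ne_zero _ hg0), ← pow_mul, ← orderOf_dvd_iff_pow_eq_one, hgord,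
      ← hq] at hsq
    have e : q - 1 = 2 * (q / 2) := by omega
    rw [e, mul_comm o] at hsq
    have h2o : 2 ∣ o := Nat.dvd_of_mul_dvd_mul_left (show 0 < q / 2 by omega) (by rwa [mul_comm (q / 2) 2])
    exact (Nat.not_even_iff_odd.mpr hoo) (even_iff_two_dvd.mpr h2o)
  have h2n : 2 ^ (a + 1) ∣ n := (padicValNat_dvd_iff_le (p := 2) hn.ne').mpr (by omega)
  obtain ⟨k, hk⟩ := h2n
  obtain ⟨X, hXd, hX2, hXn⟩ := exists_example_nonpower (n := n) Nat.prime_two hcns ⟨2 ^ a * k, by rw [hk, pow_succ]; ring⟩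
    hn (by
      rw [show ((-1 : F)) ^ (2 + 1) * -(g ^ o) = g ^ o by ring,
        show n / 2 = 2 ^ a * k by rw [hk, pow_succ, mul_comm (2 ^ a) 2, mul_assoc]; simp,
        pow_mul, hca, one_pow])
  obtain ⟨x, hxS, hxv, hxz, hxn⟩ := QuadSim.mk X hXd hX2 hXn
  refine ⟨x, hxS, hxz, hxn, fun s hs => ?_⟩
  obtain ⟨P, μ, hPσ, hμ, hPx⟩ := transfer U hn x s hs
  rw [hxv] at hPx
  set c := -(g ^ o) with hcd
  have hc0 : c ≠ 0 := neg_ne_zero.mpr (pow_ne_zero _ hg0)
  obtain ⟨u, v, huv⟩ := exists_value P hn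
  have h2 := sim_pow P X hPx 2 u v
  rw [hX2, Matrix.smul_mulVec, Matrix.smul_mulVec, Matrix.one_mulVec, Matrix.one_mulVec, P.smul_left, P.smul_right,
    ← mul_assoc, hPσ, hpow] at h2
  have h3 := mul_right_cancel₀ huv h2
  have hμσ := sim_fixed P hn X hPx
  rw [hPσ, hpow, ht, pow_succ] at hμσ
  have hμ1 : μ ^ (2 * t) = 1 := mul_right_cancel₀ hμ (by rw [one_mul]; exact hμσ)
  have hsq : IsSquare c := by
    rw [FiniteField.isSquare_iff hring hc0, ← hq, show q / 2 = (q₀ + 1) * t by
      rw [hF, ht, show (2 * t + 1) ^ 2 = 2 * ((2 * t + 1 + 1) * t) + 1 by ring]; omega,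
      pow_mul, show c ^ (q₀ + 1) = μ ^ 2 by rw [pow_succ', h3], ← pow_mul, hμ1]
  obtain ⟨b, hb⟩ := hsq
  exact hcns b (by rw [_root_.sq, ← hb])

/-- The small exceptions. -/
theorem good_small (U : HermSpace F V) {r : ℕ} [Fact r.Prime] (hn35 : r = 3 ∨ r = 5) (hnr : n = r)
    (hv : padicValNat r (Fintype.card F - 1) = 1) (hrF : ¬ r ∣ Fintype.card F) (hrc : (r : F) ≠ 0)
    (hfix : ∀ a : F, a ^ r = 1 → U.σ a = a) (x : GL (Fin n) F)
    (hxS : x ∈ Cfsg.Geo.specialLinear (Fin n) F) (hz : ∃ z : F, ((x ^ r : GL (Fin n) F) : M) = z • (1 : M)) :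
    ∃ s ∈ Cfsg.Geo.specialLinear (Fin n) F, s⁻¹ * x * s ∈ Cfsg.Geo.similarityGroup U.h := by
  classical
  subst hnr
  have hr : n.Prime := Fact.out
  haveI : NeZero n := ⟨hr.ne_zero⟩
  have hdvd : n ∣ Fintype.card F - 1 := dvd_of_one_le_padicValNat hv.ge
  have hdetx := QuadSim.det_mem_SL.mp hxS
  obtain ⟨z, hz⟩ := hz
  rw [Units.val_pow_eq_pow_val] at hz
  set T : Module.End F V := Matrix.toLin' (x : M) with hTdef
  have hTz : T ^ n = z • (1 : Module.End F V) := by rw [hTdef, toLin'_pow_eq, hz, map_smul, Matrix.toLin'_one]; rfl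
  have hzn : z ^ n = 1 := by
    have := congrArg Matrix.det hz
    rwa [Matrix.det_pow, hdetx, one_pow, Matrix.det_smul, Matrix.det_one, mul_one, Fintype.card_fin, eq_comm] at this
  have hT : T ^ n = 1 := by
    by_cases hnp : ∃ b : F, b ^ n = z
    · obtain ⟨b, rfl⟩ := hnp
      rw [← pow_mul] at hzn
      have hb0 : b ≠ 0 := fun e => by rw [e, zero_pow (mul_ne_zero hr.ne_zero hr.ne_zero)] at hzn; exact zero_ne_one hzn
      have h := (pow_gcd_eq_one (a := b)).mpr ⟨hzn, FiniteField.pow_card_sub_one_eq_one b hb0⟩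
      have hg : (n * n).gcd (Fintype.card F - 1) = n := by
        obtain ⟨t, ht⟩ := hdvd
        rw [ht, Nat.gcd_mul_left, (hr.coprime_iff_not_dvd.mpr fun hnt => ?_).gcd_eq_one, mul_one]
        have h0 : Fintype.card F - 1 ≠ 0 := (Nat.sub_pos_of_lt Fintype.one_lt_card).ne'
        have := (padicValNat_dvd_iff_le h0).mp (show n ^ 2 ∣ Fintype.card F - 1 by
          rw [ht, _root_.sq]; exact mul_dvd_mul_left n hnt)
        omega
      rw [hg] at h
      rw [hTz, h, one_smul]
    · push Not at hnp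
      have h := det_of_nonpower (s := 1) hr hTz hnp (by simp)
      rw [hTdef, LinearMap.det_toLin', hdetx, pow_one, (hr.odd_of_ne_two (by omega)).add_odd odd_one |>.neg_one_pow,
        one_mul] at h
      exact absurd (by rw [one_pow, h]) (hnp 1)
  have hc1 : orderOf (Fintype.card F : ZMod n) = 1 := by
    rw [← Nat.dvd_one, ← dvd_pow_sub_one, pow_one]; exact hdvd
  obtain ⟨v, hv', hvi⟩ := OddImprim.split_power hrc hrF hT 1 n ⊤ (fun _ _ => mem_top) (by simp)
    (by rw [hc1]; simp)
  let fw : Fin n → V := fun i => v (i, 0)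
  have hfw : ⊤ ≤ span F (Set.range fw) := hv'.trans (span_mono (by
    rintro _ ⟨⟨i, j⟩, rfl⟩
    exact ⟨i, by simp [fw, Subsingleton.elim j 0]⟩))
  let w := basisOfTopLeSpanOfCardEqFinrank fw hfw (by simp)
  have hw : ⇑w = fw := coe_basisOfTopLeSpanOfCardEqFinrank _ _ _
  have heig : ∀ i, ∃ ν : F, T (w i) = ν • w i := fun i => by
    have h := hvi (i, 0)
    rw [show (Set.range fun l : Fin 1 => v (i, l)) = {fw i} by
      ext y; simp [fw, Fin.exists_fin_one, eq_comm]] at h
    obtain ⟨ν, hν⟩ := mem_span_singleton.mp h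
    exact ⟨ν, by rw [hw]; exact hν.symm⟩
  choose ν hν using heig
  have hνn : ∀ i, ν i ^ n = 1 := fun i => by
    have hj : ∀ j : ℕ, (T ^ j) (w i) = ν i ^ j • w i := fun j => by
      induction j with
      | zero => simp
      | succ j ih => rw [pow_succ', Module.End.mul_apply, ih, map_smul, hν, smul_smul, pow_succ]
    have := hj n
    rw [hT, Module.End.one_apply] at this
    exact (smul_left_injective F (w.ne_zero i) ((one_smul F (w i)).trans this)).symm
  obtain ⟨ζ, hζ⟩ := exists_prime_orderOf_dvd_card (G := Fˣ) n (by rw [Fintype.card_units]; exact hdvd)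
  have hprim : IsPrimitiveRoot (ζ : F) n := by
    rw [← hζ, ← orderOf_units]; exact IsPrimitiveRoot.orderOf _
  let χ : ZMod n → F := fun a => (ζ : F) ^ a.val
  have hχn : ∀ j : ℕ, χ (j : ZMod n) = (ζ : F) ^ j := fun j => by
    simp only [χ, ZMod.val_natCast]
    conv_rhs => rw [← Nat.mod_add_div j n, pow_add, pow_mul, hprim.pow_eq_one, one_pow, mul_one]
  have hχ : ∀ a b, χ (a + b) = χ a * χ b := fun a b => by
    rw [← ZMod.natCast_zmod_val a, ← ZMod.natCast_zmod_val b, ← Nat.cast_add, hχn, hχn, hχn, pow_add]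
  have hex : ∀ i, ∃ a : ZMod n, χ a = ν i := fun i => by
    obtain ⟨j, -, hj⟩ := hprim.eq_pow_of_pow_eq_one (hνn i)
    exact ⟨j, by rw [hχn, hj]⟩
  choose ex hex using hex
  have hsum : ∑ i, ex i = 0 := by
    have hd : LinearMap.det T = ∏ i, ν i := by
      rw [← LinearMap.det_toMatrix w, show LinearMap.toMatrix w w T = Matrix.diagonal ν by
        ext a b
        rw [LinearMap.toMatrix_apply, hν, map_smul, Module.Basis.repr_self, Finsupp.smul_apply, Finsupp.single_apply,
          Matrix.diagonal_apply]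
        by_cases hab : b = a
        · subst hab; simp
        · simp [hab, Ne.symm hab], Matrix.det_diagonal]
    rw [hTdef, LinearMap.det_toLin', hdetx] at hd
    have hs : ∀ s : Finset (Fin n), χ (∑ i ∈ s, ex i) = ∏ i ∈ s, ν i := by
      intro s
      induction s using Finset.induction_on with
      | empty => simp [χ]
      | insert a s ha ih => rw [Finset.sum_insert ha, Finset.prod_insert ha, hχ, ih, hex]
    have h := (hs Finset.univ).trans hd.symm
    rw [show χ (∑ i, ex i) = (ζ : F) ^ (∑ i, ex i).val from rfl, hprim.pow_eq_one_iff_dvd] at h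
    rw [← ZMod.val_eq_zero]
    exact Nat.eq_zero_of_dvd_of_lt h (ZMod.val_lt _)
  -- pairing of the eigenvalues
  obtain ⟨k, τ, s₀, hτ1, hτ2⟩ : ∃ (k : ℕ) (τ : (Fin k ⊕ Fin k) ⊕ Unit ≃ Fin n) (s₀ : ZMod n),
      (∀ j, ex (τ (Sum.inl (Sum.inl j))) + ex (τ (Sum.inl (Sum.inr j))) = s₀) ∧
        ex (τ (Sum.inr ())) + ex (τ (Sum.inr ())) = s₀ := by
    rcases hn35 with rfl | rfl
    · rw [Fin.sum_univ_three] at hsum
      refine ⟨1, Equiv.ofBijective _ QuadSim.tau_bij, ex 0 + ex 0, fun j => ?_, rfl⟩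
      show ex 1 + ex 2 = ex 0 + ex 0
      linear_combination hsum - QuadSim.zmod3_sum (ex 0)
    · rw [Fin.sum_univ_five] at hsum
      obtain ⟨p, -, hp, hp0, hp1⟩ := QuadSim.five_pair (ex 1 - ex 0) (ex 2 - ex 0) (ex 3 - ex 0)
      have h5 : (5 : ZMod 5) = 0 := QuadSim.zmod5_five
      have hval : ∀ i, (![0, ex 1 - ex 0, ex 2 - ex 0, ex 3 - ex 0,
          -(ex 1 - ex 0 + (ex 2 - ex 0) + (ex 3 - ex 0))] : Fin 5 → ZMod 5) i = ex i - ex 0 := fun i => by
        fin_cases i <;> simp
        linear_combination -hsum + ex 0 * h5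
      simp only [hval] at hp0 hp1
      refine ⟨2, (Equiv.ofBijective _ QuadSim.idx_bij).trans (Equiv.ofBijective p (Finite.injective_iff_bijective.mp hp)),
        ex (p 4) + ex (p 4), fun j => ?_, rfl⟩
      fin_cases j
      · show ex (p 0) + ex (p 2) = _
        linear_combination hp0
      · show ex (p 1) + ex (p 3) = _
        linear_combination hp1
  let sw : (Fin k ⊕ Fin k) ⊕ Unit → (Fin k ⊕ Fin k) ⊕ Unit := Sum.map Sum.swap id
  have hsw : ∀ i, sw (sw i) = i := by rintro ((i | i) | i) <;> rfl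
  have hpair : ∀ i, ex (τ i) + ex (τ (sw i)) = s₀ := by
    rintro ((i | i) | i)
    · exact hτ1 i
    · exact (add_comm _ _).trans (hτ1 i)
    · exact hτ2
  have hμ : χ s₀ ≠ 0 := pow_ne_zero _ (Units.ne_zero ζ)
  have hxw : ∀ i, (x : M).mulVec (w i) = ν i • w i := fun i => by rw [← Matrix.toLin'_apply, ← hTdef, hν]
  refine into U (permHerm U.σ U.conj (w.reindex τ.symm) sw hsw) rfl x hμ (sim_of_basis _ (w.reindex τ.symm) _ fun i j => ?_)
    fun δ _ => QuadSim.diag_centre (x : M) w _ hxw (by omega) δ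
  have hxi : ∀ i, (x : M).mulVec ((w.reindex τ.symm) i) = χ (ex (τ i)) • (w.reindex τ.symm) i := fun i => by
    simp [hxw, hex]
  rw [hxi, hxi, HermSpace.smul_left, HermSpace.smul_right, permHerm_basis]
  show χ (ex (τ i)) * (U.σ (χ (ex (τ j))) * _) = _
  split_ifs with h
  · rw [h, hfix (χ (ex (τ (sw i)))) (by rw [hex]; exact hνn _), mul_one, mul_one, ← hχ, hpair]
  · simp

theorem main {p : ℕ} [Fact p.Prime] [CharP F p] (q₀ : ℕ) (hF : Fintype.card F = q₀ ^ 2) (hn : 3 ≤ n) (f : V → V → F)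
    (hf : Cfsg.Geo.IsUnitaryFormPow q₀ f) (r : ℕ) [Fact r.Prime] (hrp' : r = 2 ∨ r ≠ p) (hgap : ¬ (n = 6 ∧ r = 3))
    (hΩ : r ∣ (Cfsg.Geo.similarityGroup f).relIndex (Cfsg.Geo.specialLinear (Fin n) F)) :
    (∀ x ∈ Cfsg.Geo.specialLinear (Fin n) F, (∃ z : F, ((x ^ r : GL (Fin n) F) : M) = z • (1 : M)) →
      (∀ z : F, (x : M) ≠ z • (1 : M)) →
      ∃ g ∈ Cfsg.Geo.specialLinear (Fin n) F, g⁻¹ * x * g ∈ Cfsg.Geo.similarityGroup f) ↔
    ((r = 2 ∧ (p = 2 ∨ padicValNat 2 n ≤ padicValNat 2 (Fintype.card F - 1))) ∨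
      ((r = 3 ∨ r = 5) ∧ n = r ∧ padicValNat r (q₀ - 1) = 1)) := by
  classical
  obtain ⟨U, rfl, hpow, hcard⟩ := exists_herm q₀ hF f hf
  have hq : U.q = q₀ := hcard
  have hq2 : 2 ≤ q₀ := hq ▸ U.two_le_q
  have hr : r.Prime := Fact.out
  -- facts for an odd prime not equal to the characteristic
  have odd_facts : r ≠ 2 → r ∣ q₀ - 1 → r ∣ Fintype.card F - 1 ∧
      padicValNat r (Fintype.card F - 1) = padicValNat r (q₀ - 1) ∧ ∀ a : F, a ^ r = 1 → U.σ a = a := by
    intro hr2 hd
    have hfac : Fintype.card F - 1 = (q₀ + 1) * (q₀ - 1) := by rw [hF, ← Nat.sq_sub_sq, one_pow]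
    refine ⟨hfac ▸ dvd_mul_of_dvd_right hd _, ?_, fun a ha => ?_⟩
    · have h1 : ¬ r ∣ q₀ + 1 := fun h => by
        have h2 := Nat.dvd_sub h hd
        rw [show q₀ + 1 - (q₀ - 1) = 2 by omega] at h2
        exact hr2 ((Nat.prime_dvd_prime_iff_eq hr Nat.prime_two).mp h2)
      rw [hfac, padicValNat.mul (by omega) (by omega), padicValNat.eq_zero_of_not_dvd h1, zero_add]
    · obtain ⟨t, ht⟩ := hd
      rw [hpow, show q₀ = r * t + 1 by omega, pow_succ, pow_mul, ha, one_pow, one_mul]
  constructor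
  · intro hall
    by_contra hcond
    push Not at hcond
    obtain ⟨htwo, hsmall⟩ := hcond
    have finish : (∃ x ∈ Cfsg.Geo.specialLinear (Fin n) F, (∃ z : F, ((x ^ r : GL (Fin n) F) : M) = z • (1 : M)) ∧
        (∀ a : F, (x : M) ≠ a • (1 : M)) ∧ ∀ s : GL (Fin n) F, s⁻¹ * x * s ∉ Cfsg.Geo.similarityGroup U.h) →
        False := fun ⟨x, hxS, hxz, hxn, hx⟩ => by
      obtain ⟨g, -, hg⟩ := hall x hxS hxz hxn
      exact hx g hg
    rcases eq_or_ne r 2 with rfl | hr2
    · obtain ⟨hp, hv⟩ := htwo rfl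
      exact finish (bad_two U hF hpow (by omega) hp hv)
    have hrp : r ≠ p := hrp'.resolve_left hr2
    have hrc : (r : F) ≠ 0 := cast_ne_zero hr hrp
    have hrF := not_dvd_card (F := F) hr hrp
    obtain ⟨m, hm2, hmn, hm⟩ := index_div U hF hq hn hrF hΩ
    by_cases hd : r ∣ Fintype.card F - 1
    · haveI : Fact (2 < r) := ⟨by have := hr.two_le; omega⟩
      have hd0 : r ∣ q₀ - 1 := by
        have hu : (-(q₀ : ZMod r)) ^ 2 = 1 := by
          rw [← ZMod.natCast_eq_zero_iff, Nat.cast_sub Fintype.card_pos, sub_eq_zero, hF] at hd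
          push_cast at hd
          rw [neg_sq, hd]
        rw [← ZMod.natCast_eq_zero_iff, Nat.cast_sub (by omega), Nat.cast_one, sub_eq_zero]
        rcases Nat.even_or_odd' m with ⟨j, rfl | rfl⟩
        · rw [pow_mul, hu, one_pow] at hm
          exact absurd hm.symm ZMod.neg_one_ne_one
        · rw [pow_succ, pow_mul, hu, one_pow, one_mul] at hm
          exact neg_inj.mp hm
      obtain ⟨-, hvq, hfix⟩ := odd_facts hr2 hd0
      obtain ⟨ζ, hζ⟩ := exists_prime_orderOf_dvd_card (G := Fˣ) r (by rw [Fintype.card_units]; exact hd)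
      have hprim : IsPrimitiveRoot (ζ : F) r := by rw [← hζ, ← orderOf_units]; exact IsPrimitiveRoot.orderOf _
      have hz0 : ∀ j : ℕ, ((ζ : F) ^ j) ^ r = 1 := fun j => by rw [← pow_mul, mul_comm, pow_mul, hprim.pow_eq_one, one_pow]
      have hinj : ∀ i j, i < r → j < r → (ζ : F) ^ i = (ζ : F) ^ j → i = j := fun i j hi hj => hprim.pow_inj hi hj
      by_cases hrn : r ∣ n
      · rcases eq_or_ne n r with hnr | hnr
        · subst hnr
          rcases Nat.lt_or_ge n 7 with h7 | h7
          · have h35 : n = 3 ∨ n = 5 := by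
              interval_cases n
              · exact .inl rfl
              · exact absurd hr (by norm_num)
              · exact .inr rfl
              · exact absurd hr (by norm_num)
            have hv := hsmall h35 rfl
            rw [← hvq] at hv
            have hv1 : 1 ≤ padicValNat n (Fintype.card F - 1) :=
              one_le_padicValNat_of_dvd (Nat.sub_pos_of_lt Fintype.one_lt_card).ne' hd
            obtain ⟨t, ht⟩ : n ^ 2 ∣ Fintype.card F - 1 :=
              (padicValNat_dvd_iff_le (Nat.sub_pos_of_lt Fintype.one_lt_card).ne').mpr (by omega)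
            obtain ⟨b, hb⟩ := power_of_pow_eq_one hr hd (c := ((ζ : F) ^ 1)⁻¹) (by simp) (by
              rw [ht, _root_.sq, mul_assoc, Nat.mul_div_cancel_left _ hr.pos, pow_mul, inv_pow, hz0, inv_one, one_pow])
            refine finish (diag_bad U (by omega) hr hr2 hfix b ((ζ : F) ^ 1) ((ζ : F) ^ 0) 1 (fun e => ?_) (hz0 _) (hz0 _)
              (one_pow _) (k₁ := 1) (k₂ := n - 1) (k₃ := 0) (by omega) one_pos (by omega) (by omega) (by omega) (by omega)
              (fun h => absurd (hinj 1 0 hr.one_lt hr.pos h) one_ne_zero) (.inl rfl) ?_)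
            · rw [e, zero_pow hr.ne_zero] at hb
              simp at hb
              exact ζ.ne_zero hb.symm
            · rw [hb]; simp
          · refine finish (diag_bad U (by omega) hr hr2 hfix 1 ((ζ : F) ^ (n - 2)) ((ζ : F) ^ 1) ((ζ : F) ^ 0) one_ne_zero
              (hz0 _) (hz0 _) (hz0 _) (k₁ := 1) (k₂ := 2) (k₃ := n - 3) (by omega) one_pos two_pos (by omega) (by omega)
              (by omega) (fun h => by have := hinj _ _ (by omega) hr.one_lt h; omega)
              (.inr ⟨fun h => by have := hinj _ _ hr.pos (by omega) h; omega,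
                fun h => absurd (hinj 0 1 hr.pos hr.one_lt h) zero_ne_one⟩) ?_)
            rw [one_pow, one_mul, ← pow_mul, ← pow_mul, ← pow_mul, ← pow_add, ← pow_add,
              show (n - 2) * 1 + 1 * 2 + 0 * (n - 3) = n by omega, hprim.pow_eq_one]
        · obtain ⟨t, rfl⟩ := hrn
          have ht2 : 2 ≤ t := by
            rcases t with _ | _ | t
            · omega
            · exact absurd (mul_one r) hnr
            · omega
          have hr3 : 3 ≤ r := by have := hr.two_le; omega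
          rcases eq_or_ne r 3 with rfl | hr3'
          · refine finish (diag_bad U (by omega) hr hr2 hfix 1 ((ζ : F) ^ 0) ((ζ : F) ^ 1) 1 one_ne_zero (hz0 _) (hz0 _)
              (one_pow _) (k₁ := 3) (k₂ := 3 * t - 3) (k₃ := 0) (by omega) (by omega) (by omega) (by omega) (by omega)
              (by omega) (fun h => absurd (hinj 0 1 (by omega) (by omega) h) zero_ne_one) (.inl rfl) ?_)
            rw [one_pow, one_mul, ← pow_mul, ← pow_mul, one_pow, mul_one, ← pow_add,
              show 0 * 3 + 1 * (3 * t - 3) = 3 * (t - 1) by omega, pow_mul, hprim.pow_eq_one, one_pow]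
          · have hr5 : 5 ≤ r := by
              by_contra h
              have : r = 4 := by omega
              subst this
              norm_num at hr
            have h10 : 10 ≤ r * t := Nat.mul_le_mul hr5 ht2
            refine finish (diag_bad U (by omega) hr hr2 hfix 1 ((ζ : F) ^ (r - 2)) ((ζ : F) ^ 1) ((ζ : F) ^ 0) one_ne_zero
              (hz0 _) (hz0 _) (hz0 _) (k₁ := 1) (k₂ := 2) (k₃ := r * t - 3) (by omega) one_pos two_pos (by omega) (by omega)
              (by omega) (fun h => by have := hinj _ _ (by omega) hr.one_lt h; omega)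
              (.inr ⟨fun h => by have := hinj _ _ hr.pos (by omega) h; omega,
                fun h => absurd (hinj 0 1 hr.pos hr.one_lt h) zero_ne_one⟩) ?_)
            rw [one_pow, one_mul, ← pow_mul, ← pow_mul, ← pow_mul, ← pow_add, ← pow_add,
              show (r - 2) * 1 + 1 * 2 + 0 * (r * t - 3) = r by omega, hprim.pow_eq_one]
      · refine finish (diag_bad U (by omega) hr hr2 hfix 1 ((ζ : F) ^ (n - 1)) ((ζ : F) ^ (r - 1)) 1 one_ne_zero (hz0 _)
          (hz0 _) (one_pow _) (k₁ := 1) (k₂ := n - 1) (k₃ := 0) (by omega) one_pos (by omega) (by omega) (by omega)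
          (by omega) (fun h => hrn ?_) (.inl rfl) ?_)
        · refine hprim.dvd_of_pow_eq_one n ?_
          calc (ζ : F) ^ n = (ζ : F) ^ (n - 1) * (ζ : F) ^ 1 := by rw [← pow_add]; congr 1; omega
            _ = (ζ : F) ^ (r - 1) * (ζ : F) ^ 1 := by rw [h]
            _ = 1 := by rw [← pow_add, Nat.sub_add_cancel hr.pos, hprim.pow_eq_one]
        · rw [one_pow, one_mul, ← pow_mul, ← pow_mul, one_pow, mul_one, ← pow_add,
            show (n - 1) * 1 + (r - 1) * (n - 1) = r * (n - 1) by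
              conv_rhs => rw [← Nat.sub_add_cancel hr.pos]
              ring,
            pow_mul, hprim.pow_eq_one, one_pow]
    · exact finish (big_bad U hF hpow hr2 hrc hrF hd hm hmn)
  · rintro (⟨rfl, hv⟩ | ⟨h35, hnr, hv⟩) x hxS hz hns
    · obtain ⟨z, hz⟩ := hz
      exact good_two U hF (by omega) hv x hxS hz hns
    · have hr2 : r ≠ 2 := by omega
      have hrp : r ≠ p := hrp'.resolve_left hr2
      obtain ⟨-, hvq, hfix⟩ := odd_facts hr2 (dvd_of_one_le_padicValNat hv.ge)
      exact good_small U h35 hnr (hvq.trans hv) (not_dvd_card hr hrp) (cast_ne_zero hr hrp) hfix x hxS hz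

end Cfsg.Lib.Classical.UnitSim
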