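import Mathlib
import Cfsg.Agent.Classical.Unitary.Matrix
import Cfsg.Agent.Classical.Misc.SingerOrder
import Cfsg.Agent.Classical.Misc.UnitaryCommutingUnipotent

/-! Singer-type elements of `PSU(2m,q)`. -/

set_option autoImplicit false
set_option linter.unusedSectionVars false

namespace Cfsg.Lib.UnitarySingerOrder

open Matrix Polynomial
open Cfsg.Lib.Classical (powConj powConj_apply powConj_isConj stdHerm stdHerm_h suEquiv suEquiv_coe unitToGL_mulVec HermSpace)

universe u

variable {F : Type u} [Field F] [Fintype F] {q : ℕ}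

local notation "Kc" => AlgebraicClosure F

theorem q_two_le (hF : Fintype.card F = q ^ 2) : 2 ≤ q := by
  have h := Fintype.one_lt_card (α := F)
  rw [hF] at h
  by_contra hc
  interval_cases q <;> simp at h

/-- the centre of `SU` consists of scalars -/
theorem mem_center_iff (hF : Fintype.card F = q ^ 2) {n : ℕ} (hn : 2 ≤ n) (x : Cfsg.SU n F q) :
    x ∈ Subgroup.center (Cfsg.SU n F q) ↔
      ∃ a : F, a * a ^ q = 1 ∧ ((x : Matrix.SpecialLinearGroup (Fin n) F) : Matrix (Fin n) (Fin n) F) = a • 1 := by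
  obtain ⟨g, rfl⟩ := (suEquiv n hF).surjective x
  have h1 : suEquiv n hF g ∈ Subgroup.center (Cfsg.SU n F q) ↔ g ∈ Subgroup.center (stdHerm n hF).SIsom := by
    simp only [Subgroup.mem_center_iff]
    constructor
    · intro h k
      apply (suEquiv n hF).injective
      rw [map_mul, map_mul]
      exact h _
    · intro h k
      obtain ⟨k, rfl⟩ := (suEquiv n hF).surjective k
      rw [← map_mul, ← map_mul, h k]
  have hd : 2 ≤ Module.finrank F (Fin n → F) := by rw [Module.finrank_fin_fun]; exact hn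
  constructor
  · intro hx
    obtain ⟨a, ha, -, hga⟩ := ((stdHerm n hF).mem_center_SIsom_iff hd).1 (h1.1 hx)
    refine ⟨a, ?_, ?_⟩
    · rw [← powConj_apply hF]; exact ha
    · rw [suEquiv_coe]
      refine Matrix.ext_of_mulVec_single fun j => ?_
      rw [unitToGL_mulVec, hga, Matrix.smul_mulVec, Matrix.one_mulVec]
  · rintro ⟨a, -, hx⟩
    rw [Subgroup.mem_center_iff]
    intro k
    apply Subtype.ext
    apply Subtype.ext
    rw [Subgroup.coe_mul, Subgroup.coe_mul, Matrix.SpecialLinearGroup.coe_mul, Matrix.SpecialLinearGroup.coe_mul, hx,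
      Matrix.mul_smul, Matrix.smul_mul, mul_one, one_mul]

/-- order bound for elements of order divisible by a primitive prime of `(-q)^n - 1` -/
theorem scalar_pow {p n r T d : ℕ} [Fact p.Prime] [CharP F p] (hF : Fintype.card F = q ^ 2) (hn : 2 ≤ n) (hr : r.Prime)
    (hrp : r ≠ p) (hprim : ∀ a, 0 < a → a < n → (-(q : ZMod r)) ^ a ≠ 1) (hr1 : ¬ r ∣ q + 1)
    (hT : (T : ℤ) = -∑ i ∈ Finset.range n, (-(q : ℤ)) ^ i) (hd : d ∣ q + 1) (hdT : d ∣ T)
    (X : Cfsg.SU n F q) (g : Cfsg.PSU n F q) (hg : (X : Cfsg.PSU n F q) = g) (hrg : r ∣ orderOf g) :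
    orderOf g ∣ T / d := by
  classical
  haveI := Fact.mk hr
  haveI : Nonempty (Fin n) := ⟨⟨0, by omega⟩⟩
  haveI : CharP Kc p := charP_of_injective_algebraMap (algebraMap F Kc).injective p
  obtain ⟨jq, hjq0, hjq⟩ := Cfsg.Lib.UnitaryCommUnipotent.exists_q_eq_pow (p := p) hF
  have hp : p.Prime := Fact.out
  let φ : Cfsg.SU n F q →* Matrix (Fin n) (Fin n) Kc :=
    ((algebraMap F Kc).mapMatrix (m := Fin n)).toMonoidHom.comp ((Cfsg.slToMat n F).comp (Cfsg.SU n F q).subtype)
  have hφ : Function.Injective φ := fun x y h =>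
    Subtype.ext (Subtype.ext (Matrix.map_injective (algebraMap F Kc).injective h))
  have hcen : ∀ (Y : Cfsg.SU n F q) (c : Kc), φ Y = c • 1 → Y ∈ Subgroup.center (Cfsg.SU n F q) := by
    intro Y c hY
    rw [Subgroup.mem_center_iff]
    intro Z
    apply hφ
    rw [map_mul, map_mul, hY, Matrix.mul_smul, Matrix.smul_mul, mul_one, one_mul]
  let σ : Kc →+* Kc := iterateFrobenius Kc p jq
  have hσ : ∀ x, σ x = x ^ q := fun x => by rw [hjq]; exact iterateFrobenius_def p jq x
  obtain ⟨A, hA⟩ : ∃ A, A = φ X := ⟨_, rfl⟩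
  have hU : (A.map σ)ᵀ * A = 1 := by
    have h1 := (Cfsg.Lib.UnitaryConj.mem_SU hF X.1).1 X.2
    have h2 := congrArg ((algebraMap F Kc).mapMatrix (m := Fin n)) h1
    rw [map_mul, map_one] at h2
    rw [hA, ← h2]
    congr 1
    apply Matrix.ext
    intro a b
    change σ (algebraMap F _ _) = algebraMap F _ (Cfsg.Lib.Classical.powConj hF _)
    rw [powConj_apply, map_pow, hσ]
    rfl
  have hcard : A.charpoly.roots.card = n := by
    rw [IsAlgClosed.card_roots_eq_natDegree, Matrix.charpoly_natDegree_eq_dim, Fintype.card_fin]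
  have hne : A.charpoly ≠ 0 := A.charpoly_monic.ne_zero
  obtain ⟨e, he⟩ : ∃ e, e = orderOf g / r := ⟨_, rfl⟩
  have her : e * r = orderOf g := by rw [he, Nat.div_mul_cancel hrg]
  have hg1 : 0 < orderOf g := orderOf_pos g
  have hXo : X ^ orderOf g ∈ Subgroup.center (Cfsg.SU n F q) := by
    rw [← QuotientGroup.eq_one_iff, QuotientGroup.mk_pow, hg, pow_orderOf_eq_one]
  obtain ⟨z, hz1, hz⟩ := (mem_center_iff hF hn _).1 hXo
  have hzA : A ^ orderOf g = (algebraMap F Kc z) • (1 : Matrix (Fin n) (Fin n) Kc) := by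
    rw [hA, ← map_pow]
    change (algebraMap F Kc).mapMatrix
      (((X ^ orderOf g : Cfsg.SU n F q) : Matrix.SpecialLinearGroup (Fin n) F) : Matrix (Fin n) (Fin n) F) = _
    rw [hz, Matrix.smul_one_eq_diagonal, RingHom.mapMatrix_apply, Matrix.diagonal_map (map_zero _),
      Matrix.smul_one_eq_diagonal]
  have hroot : ∀ x ∈ A.charpoly.roots, x ^ orderOf g = algebraMap F Kc z :=
    Cfsg.Lib.PrimeGraphChar.roots_pow A (orderOf g) _ hzA
  have hzq : (algebraMap F Kc z) ^ (q + 1) = 1 := by rw [← map_pow, pow_succ', hz1, map_one]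
  have hz0 : algebraMap F Kc z ≠ 0 := fun h0 => by
    rw [h0, zero_pow (Nat.succ_ne_zero q)] at hzq
    exact zero_ne_one hzq
  have hl0 : ∀ x ∈ A.charpoly.roots, x ≠ 0 := fun x hx h0 => by
    have := hroot x hx
    rw [h0, zero_pow hg1.ne'] at this
    exact hz0 this.symm
  obtain ⟨l, hl, hlq⟩ : ∃ l ∈ A.charpoly.roots, (l ^ e) ^ (q + 1) ≠ 1 := by
    by_contra hno
    push Not at hno
    have heq : ∀ x ∈ A.charpoly.roots, ∀ y ∈ A.charpoly.roots, x ^ e = y ^ e := by
      intro x hx y hy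
      have hy0 : y ^ e ≠ 0 := pow_ne_zero _ (hl0 y hy)
      have h1 : (x ^ e / y ^ e) ^ r = 1 := by
        rw [div_pow, ← pow_mul, ← pow_mul, her, hroot x hx, hroot y hy, div_self hz0]
      have h2 : (x ^ e / y ^ e) ^ (q + 1) = 1 := by rw [div_pow, hno x hx, hno y hy, div_one]
      have h3 := pow_gcd_eq_one.2 ⟨h1, h2⟩
      rw [(hr.coprime_iff_not_dvd.2 hr1).gcd_eq_one, pow_one, div_eq_one_iff_eq hy0] at h3
      exact h3
    obtain ⟨y, hy⟩ : ∃ y, y ∈ A.charpoly.roots :=
      Multiset.card_pos_iff_exists_mem.1 (hcard.symm ▸ Fin.pos (Classical.arbitrary (Fin n)))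
    have h2 : A.charpoly ∣ (Polynomial.X ^ e - C (y ^ e) : Kc[X]) ^ n := by
      conv_lhs => rw [(IsAlgClosed.splits A.charpoly).eq_prod_roots_of_monic A.charpoly_monic]
      refine (Multiset.prod_dvd_prod_of_dvd _ (fun _ => (Polynomial.X ^ e - C (y ^ e) : Kc[X])) fun x hx => ?_).trans ?_
      · rw [dvd_iff_isRoot, IsRoot, eval_sub, eval_pow, eval_X, eval_C, heq x hx y hy, sub_self]
      · rw [Multiset.map_const', Multiset.prod_replicate, hcard]
    obtain ⟨c, hc⟩ := h2
    have h3 := congrArg (Polynomial.aeval A) hc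
    rw [map_pow, map_sub, map_pow, aeval_X, aeval_C, map_mul, Matrix.aeval_self_charpoly, zero_mul,
      Algebra.algebraMap_eq_smul_one] at h3
    haveI : CharP (Matrix (Fin n) (Fin n) Kc) p := inferInstance
    have h5 := pow_eq_zero_of_le ((Nat.lt_pow_self hp.one_lt).le : n ≤ p ^ n) h3
    rw [sub_pow_char_pow_of_commute p n ((Commute.one_right _).smul_right _), _root_.smul_pow, one_pow, sub_eq_zero,
      ← pow_mul, hA, ← map_pow] at h5
    have h6 := hcen _ _ h5
    rw [← QuotientGroup.eq_one_iff, QuotientGroup.mk_pow, hg] at h6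
    have h7 := orderOf_dvd_of_pow_eq_one h6
    rw [← her] at h7
    have he0 : 0 < e := Nat.pos_of_mul_pos_right (her.symm ▸ hg1)
    exact hrp ((Nat.prime_dvd_prime_iff_eq hr hp).1 (hr.dvd_of_dvd_pow (Nat.dvd_of_mul_dvd_mul_left he0 h7)))
  have hη : ((l ^ e) ^ (q + 1)) ^ r = 1 := by
    rw [← pow_mul, mul_comm, pow_mul, ← pow_mul l, her, hroot l hl, hzq]
  have hord := orderOf_eq_prime hη hlq
  have hl00 := hl0 l hl
  -- the orbit
  have hmem : ∀ i : ℕ, l ^ ((-(q : ℤ)) ^ i) ∈ A.charpoly.roots := by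
    intro i
    induction i with
    | zero => rwa [pow_zero, zpow_one]
    | succ i ih =>
      rw [Polynomial.mem_roots hne] at ih ⊢
      have h := Cfsg.Lib.UnitaryCommUnipotent.isRoot_conj_inv σ A hU _ (zpow_ne_zero _ hl00) ih
      rw [hσ, ← zpow_natCast, ← _root_.zpow_mul, ← _root_.zpow_neg, ← mul_neg, ← pow_succ] at h
      exact h
  have hinj : ∀ i, i < n → ∀ j, j < n → l ^ ((-(q : ℤ)) ^ i) = l ^ ((-(q : ℤ)) ^ j) → i = j := by
    have hkey : ∀ i j, i ≤ j → j < n → l ^ ((-(q : ℤ)) ^ i) = l ^ ((-(q : ℤ)) ^ j) → i = j := by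
      intro i j hij hj h
      have h1 : ((l ^ e) ^ (q + 1)) ^ ((-(q : ℤ)) ^ i - (-(q : ℤ)) ^ j) = 1 := by
        rw [← pow_mul, ← zpow_natCast, ← _root_.zpow_mul, mul_comm, _root_.zpow_mul, zpow_sub₀ hl00, h,
          div_self (zpow_ne_zero _ hl00), _root_.one_zpow]
      have h2 : (Units.mk0 _ (pow_ne_zero (q + 1) (pow_ne_zero e hl00))) ^ ((-(q : ℤ)) ^ i - (-(q : ℤ)) ^ j) = 1 :=
        Units.ext (by rw [Units.val_zpow_eq_zpow_val, Units.val_mk0, Units.val_one]; exact h1)
      clear h1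
      have h1 := h2
      rw [← orderOf_dvd_iff_zpow_eq_one, ← orderOf_units, Units.val_mk0, hord, ← ZMod.intCast_zmod_eq_zero_iff_dvd, Int.cast_sub, Int.cast_pow,
        Int.cast_pow, Int.cast_neg, Int.cast_natCast, sub_eq_zero] at h1
      by_contra hne'
      obtain ⟨a, rfl⟩ := Nat.exists_eq_add_of_le hij
      refine hprim a (by omega) (by omega) ?_
      have hq0 : (-(q : ZMod r)) ≠ 0 := by
        rw [neg_ne_zero, Ne, ZMod.natCast_eq_zero_iff, hjq]
        exact fun hd => hrp ((Nat.prime_dvd_prime_iff_eq hr hp).1 (hr.dvd_of_dvd_pow hd))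
      apply mul_left_cancel₀ (pow_ne_zero i hq0)
      rw [← pow_add, ← h1, mul_one]
    intro i hi j hj h
    rcases le_total i j with hij | hij
    · exact hkey i j hij hj h
    · exact (hkey j i hij hi h.symm).symm
  obtain ⟨S, hS⟩ : ∃ S : Finset Kc, S = (Finset.range n).image fun i : ℕ => l ^ ((-(q : ℤ)) ^ i) := ⟨_, rfl⟩
  have hinjS : Set.InjOn (fun i : ℕ => l ^ ((-(q : ℤ)) ^ i)) (Finset.range n : Set ℕ) := fun i hi j hj =>
    hinj i (Finset.mem_range.1 hi) j (Finset.mem_range.1 hj)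
  have hSc : S.card = n := by rw [hS, Finset.card_image_of_injOn hinjS, Finset.card_range]
  have hSle : S.val ≤ A.charpoly.roots := (Multiset.le_iff_subset S.nodup).2 fun w hw => by
    have hw' : w ∈ S := Finset.mem_val.mp hw
    rw [hS] at hw'
    obtain ⟨i, -, rfl⟩ := Finset.mem_image.1 hw'
    exact hmem i
  have hroots : A.charpoly.roots = S.val :=
    (Multiset.eq_of_le_of_card_le hSle (by rw [hcard, Finset.card_val, hSc])).symm
  have hlT : l ^ T = 1 := by
    have h1 := Matrix.det_eq_prod_roots_charpoly A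
    rw [hroots, Finset.prod_val, hS, Finset.prod_image hinjS] at h1
    simp only [id_eq] at h1
    have h2 : A.det = 1 := by
      rw [hA]
      change ((algebraMap F Kc).mapMatrix ((X : Matrix.SpecialLinearGroup (Fin n) F) : Matrix (Fin n) (Fin n) F)).det = 1
      rw [← RingHom.map_det, X.1.2, map_one]
    have hp' : ∀ s : Finset ℕ, ∏ i ∈ s, l ^ ((-(q : ℤ)) ^ i) = l ^ (∑ i ∈ s, (-(q : ℤ)) ^ i) := by
      intro s
      induction s using Finset.induction_on with
      | empty => simp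
      | insert a s ha ih => rw [Finset.prod_insert ha, Finset.sum_insert ha, ih, zpow_add₀ hl00]
    rw [h2, hp', show ∑ i ∈ Finset.range n, (-(q : ℤ)) ^ i = -(T : ℤ) by rw [hT, neg_neg], _root_.zpow_neg, zpow_natCast,
      eq_comm, inv_eq_one] at h1
    exact h1
  obtain ⟨j, hj⟩ : ∃ j, j = T / d := ⟨_, rfl⟩
  have hjq' : (l ^ j) ^ (q + 1) = 1 := by
    rw [← pow_mul]
    obtain ⟨c, hc⟩ := hd
    rw [hc, ← mul_assoc, hj, Nat.div_mul_cancel hdT, pow_mul, hlT, one_pow]
  have hfix : ∀ x ∈ A.charpoly.roots, x ^ j = l ^ j := by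
    intro x hx
    rw [hroots, hS] at hx
    obtain ⟨i, -, rfl⟩ := Finset.mem_image.1 (Finset.mem_val.mp hx)
    rw [← zpow_natCast, ← _root_.zpow_mul, mul_comm, _root_.zpow_mul, zpow_natCast]
    have hone : (l ^ j) ^ (-(q : ℤ)) = l ^ j := by
      rw [_root_.zpow_neg, zpow_natCast]
      apply inv_eq_of_mul_eq_one_right
      rw [← pow_succ, hjq']
    clear hx hmem hinj hinjS
    induction i with
    | zero => rw [pow_zero, zpow_one]
    | succ i ih => rw [pow_succ, _root_.zpow_mul, ih, hone]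
  have hdvd : A.charpoly ∣ (Polynomial.X ^ j - C (l ^ j) : Kc[X]) := by
    conv_lhs => rw [(IsAlgClosed.splits A.charpoly).eq_prod_roots_of_monic A.charpoly_monic]
    rw [hroots, ← Finset.prod_eq_multiset_prod]
    refine Finset.prod_dvd_of_coprime (fun x _ y _ hxy => isCoprime_X_sub_C_of_isUnit_sub
      (sub_ne_zero.2 hxy).isUnit) fun x hx => ?_
    rw [dvd_iff_isRoot, IsRoot, eval_sub, eval_pow, eval_X, eval_C,
      hfix x (by rw [hroots]; exact Finset.mem_val.mpr hx), sub_self]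
  obtain ⟨c, hc⟩ := hdvd
  have h3 := congrArg (Polynomial.aeval A) hc
  rw [map_sub, map_pow, aeval_X, aeval_C, map_mul, Matrix.aeval_self_charpoly, zero_mul,
    Algebra.algebraMap_eq_smul_one, sub_eq_zero, hA, ← map_pow] at h3
  have h6 := hcen _ _ h3
  rw [← QuotientGroup.eq_one_iff, QuotientGroup.mk_pow, hg] at h6
  rw [← hj]
  exact orderOf_dvd_of_pow_eq_one h6

/-- the hyperbolic space `F^m ⊕ F^m` -/
noncomputable def hypSpace (hF : Fintype.card F = q ^ 2) (m : ℕ) : HermSpace F ((Fin m → F) × (Fin m → F)) where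
  σ := powConj hF
  h u v := ∑ i, (u.1 i * powConj hF (v.2 i) + u.2 i * powConj hF (v.1 i))
  conj := powConj_isConj hF
  add_left x y z := by
    simp only [Prod.fst_add, Prod.snd_add, Pi.add_apply, ← Finset.sum_add_distrib]
    exact Finset.sum_congr rfl fun i _ => by ring
  smul_left c x z := by
    simp only [Prod.smul_fst, Prod.smul_snd, Pi.smul_apply, smul_eq_mul, Finset.mul_sum]
    exact Finset.sum_congr rfl fun i _ => by ring
  symm x y := by
    rw [map_sum]
    exact Finset.sum_congr rfl fun i _ => by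
      rw [map_add, map_mul, map_mul, (powConj_isConj hF).invol, (powConj_isConj hF).invol]; ring
  nondeg v hv := by
    classical
    refine Prod.ext (funext fun i => ?_) (funext fun i => ?_)
    · have h := hv (0, Pi.single i 1)
      simp only [Pi.zero_apply, zero_mul, zero_add] at h
      rw [Finset.sum_eq_single i (fun j _ hj => by simp [hj]) (by simp)] at h
      simpa using h
    · have h := hv (Pi.single i 1, 0)
      simp only [Pi.zero_apply, zero_mul, add_zero] at h
      rw [Finset.sum_eq_single i (fun j _ hj => by simp [hj]) (by simp)] at h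
      simpa using h

/-- the hyperbolic Singer element -/
theorem exists_singer {p m T d : ℕ} [Fact p.Prime] [CharP F p] (hF : Fintype.card F = q ^ 2) (hm : 1 ≤ m)
    (hT : T * (q + 1) = q ^ (2 * m) - 1) (hdT : d ∣ T) (hd : Nat.gcd T (q + 1) = d) :
    ∃ g : Cfsg.PSU (2 * m) F q, orderOf g = T / d := by
  classical
  haveI : NeZero m := ⟨by omega⟩
  have hq2 := q_two_le hF
  let K := FiniteField.Extension F p m
  have hcK : Nat.card K = q ^ (2 * m) := by
    rw [FiniteField.natCard_extension, Nat.card_eq_fintype_card, hF, ← pow_mul]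
  haveI : Finite K := Nat.finite_of_card_ne_zero (by rw [hcK]; exact pow_ne_zero _ (by omega))
  haveI := Fintype.ofFinite K
  obtain ⟨w, hw⟩ := IsCyclic.exists_ofOrder_eq_natCard (α := Kˣ)
  rw [Nat.card_units, hcK] at hw
  obtain ⟨l, hl⟩ : ∃ l : Kˣ, orderOf l = T := ⟨w ^ (orderOf w / T),
    orderOf_pow_orderOf_div (orderOf_pos w).ne' (by rw [hw, ← hT]; exact dvd_mul_right _ _)⟩
  have hT0 : 0 < T := hl ▸ orderOf_pos l
  let b : Module.Basis (Fin m) F K := (Module.finBasis F K).reindex (finCongr (FiniteField.finrank_extension F p m))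
  obtain ⟨L, hL⟩ : ∃ L : K →ₐ[F] Matrix (Fin m) (Fin m) F, L = Algebra.leftMulMatrix b := ⟨_, rfl⟩
  have hLinj : Function.Injective L := hL ▸ Algebra.leftMulMatrix_injective b
  -- the partner matrix
  obtain ⟨M, hM⟩ : ∃ M : K → Matrix (Fin m) (Fin m) F, ∀ x, M x = ((L x⁻¹).map (powConj hF))ᵀ :=
    ⟨fun x => ((L x⁻¹).map (powConj hF))ᵀ, fun _ => rfl⟩
  let V := (Fin m → F) × (Fin m → F)
  let act : K → Module.End F V := fun x => (Matrix.toLin' (L x)).prodMap (Matrix.toLin' (M x))
  have hact' : ∀ x (v : V), act x v = (L x *ᵥ v.1, M x *ᵥ v.2) := fun x v =>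
    Prod.ext (Matrix.toLin'_apply (L x) v.1) (Matrix.toLin'_apply (M x) v.2)
  have hAB : ∀ x : K, x ≠ 0 → (L x)ᵀ * (M x).map (powConj hF) = 1 := by
    intro x hx
    have h1 : (((L x⁻¹).map (powConj hF))ᵀ).map (powConj hF) = (L x⁻¹)ᵀ := by
      ext i j
      simp [(powConj_isConj hF).invol]
    rw [hM, h1, ← Matrix.transpose_mul, ← map_mul, inv_mul_cancel₀ hx, map_one, Matrix.transpose_one]
  have hform : ∀ x : K, x ≠ 0 → ∀ u v, (hypSpace hF m).h (act x u) (act x v) = (hypSpace hF m).h u v := by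
    intro x hx u v
    have key : ∀ a c : Fin m → F, (L x *ᵥ a) ⬝ᵥ (powConj hF ∘ (M x *ᵥ c)) = a ⬝ᵥ (powConj hF ∘ c) := by
      intro a c
      have h1 : powConj hF ∘ (M x *ᵥ c) = (M x).map (powConj hF) *ᵥ (powConj hF ∘ c) := by
        funext i; simp [mulVec, dotProduct, map_sum]
      rw [h1, dotProduct_comm, dotProduct_mulVec, ← mulVec_transpose, mulVec_mulVec, hAB x hx, one_mulVec,
        dotProduct_comm]
    have key2 : ∀ a c : Fin m → F, (M x *ᵥ a) ⬝ᵥ (powConj hF ∘ (L x *ᵥ c)) = a ⬝ᵥ (powConj hF ∘ c) := by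
      intro a c
      have h := congrArg (powConj hF) (key c a)
      simp only [dotProduct, map_sum, map_mul, Function.comp_apply, (powConj_isConj hF).invol] at h
      simp only [dotProduct, Function.comp_apply]
      simpa [mul_comm] using h
    simp only [hypSpace, act, LinearMap.prodMap_apply, Matrix.toLin'_apply, Finset.sum_add_distrib]
    exact congrArg₂ (· + ·) (key u.1 v.2) (key2 u.2 v.1)
  have hσ : (stdHerm (2 * m) hF).σ = (hypSpace hF m).σ := rfl
  obtain ⟨e, he⟩ := (hypSpace hF m).exists_isometry (stdHerm (2 * m) hF) hσ (by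
    rw [Module.finrank_prod, Module.finrank_fin_fun, Module.finrank_fin_fun, two_mul])
  obtain ⟨A, hA⟩ : ∃ A : K → Matrix (Fin (2 * m)) (Fin (2 * m)) F,
      ∀ x, A x = LinearMap.toMatrix' (e.toLinearMap ∘ₗ act x ∘ₗ e.symm.toLinearMap) :=
    ⟨fun x => LinearMap.toMatrix' (e.toLinearMap ∘ₗ act x ∘ₗ e.symm.toLinearMap), fun _ => rfl⟩
  have hAv : ∀ x v, A x *ᵥ v = e (act x (e.symm v)) := fun x v => by
    rw [hA, LinearMap.toMatrix'_mulVec]; rfl
  have hdet : ∀ x : K, x ≠ 0 → x ^ T = 1 → (A x).det = 1 := by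
    intro x hx hxT
    rw [hA, LinearMap.det_toMatrix', LinearMap.det_conj, LinearMap.det_prodMap, LinearMap.det_toLin',
      LinearMap.det_toLin', hM, Matrix.det_transpose]
    change (L x).det * ((powConj hF).mapMatrix (L x⁻¹)).det = 1
    have hinvN : Algebra.norm F x⁻¹ = (Algebra.norm F x)⁻¹ :=
      eq_inv_of_mul_eq_one_left (by rw [← map_mul, inv_mul_cancel₀ hx, map_one])
    rw [← RingHom.map_det, powConj_apply, hL, ← Algebra.norm_eq_matrix_det b, ← Algebra.norm_eq_matrix_det b,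
      hinvN]
    have hN0 : Algebra.norm F x ≠ 0 := Algebra.norm_ne_zero_iff.2 hx
    rw [inv_pow, ← div_eq_mul_inv, div_eq_one_iff_eq (pow_ne_zero _ hN0)]
    obtain ⟨S, hS⟩ : ∃ S, S = (q ^ (2 * m) - 1) / (q ^ 2 - 1) := ⟨_, rfl⟩
    have hS' : S * (q ^ 2 - 1) = q ^ (2 * m) - 1 := by
      rw [hS, Nat.div_mul_cancel]; rw [pow_mul]; exact Nat.sub_one_dvd_pow_sub_one _ m
    have hTS : T = S * (q - 1) := by
      apply Nat.eq_of_mul_eq_mul_right (Nat.succ_pos q)
      rw [hT, ← hS', mul_assoc, show (q - 1) * (q + 1) = q ^ 2 - 1 by rw [mul_comm, ← Nat.sq_sub_sq, one_pow]]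
    have hNx : algebraMap F K (Algebra.norm F x) = x ^ S := by
      rw [FiniteField.algebraMap_norm_eq_pow, hcK, Nat.card_eq_fintype_card, hF, hS]
    apply (algebraMap F K).injective
    rw [map_pow, hNx]
    conv_rhs => rw [show q = (q - 1) + 1 by omega]
    rw [pow_succ, ← pow_mul, ← hTS, hxT, one_mul]
  have hlK : (l : K) ^ T = 1 := by rw [← Units.val_pow_eq_pow_val, ← hl, pow_orderOf_eq_one, Units.val_one]
  obtain ⟨Y, hY⟩ : ∃ Y : Cfsg.SU (2 * m) F q,
      ((Y : Matrix.SpecialLinearGroup (Fin (2 * m)) F) : Matrix (Fin (2 * m)) (Fin (2 * m)) F) = A l := by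
    refine ⟨⟨⟨A l, hdet _ l.ne_zero hlK⟩, fun u v => ?_⟩, rfl⟩
    change Cfsg.hermForm (2 * m) F q (A l *ᵥ u) (A l *ᵥ v) = _
    rw [← stdHerm_h hF, ← stdHerm_h hF, hAv, hAv, he, hform _ l.ne_zero, ← he, e.apply_symm_apply,
      e.apply_symm_apply]
  have hAmul : ∀ x y : K, A (x * y) = A x * A y := fun x y => by
    refine Matrix.ext_of_mulVec_single fun j => ?_
    rw [← mulVec_mulVec, hAv, hAv, hAv, e.symm_apply_apply]
    congr 1
    simp only [hact']
    refine Prod.ext ?_ ?_ <;> dsimp only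
    · rw [mulVec_mulVec, map_mul]
    · rw [mulVec_mulVec, hM, hM, hM, mul_inv, map_mul, ← Matrix.transpose_mul,
        ← Matrix.map_mul, ((Commute.all x⁻¹ y⁻¹).map L).eq]
  have hYpow : ∀ j : ℕ, (((Y ^ j : Cfsg.SU (2 * m) F q) : Matrix.SpecialLinearGroup (Fin (2 * m)) F) :
      Matrix (Fin (2 * m)) (Fin (2 * m)) F) = A ((l : K) ^ j) := by
    intro j
    induction j with
    | zero =>
      rw [pow_zero, pow_zero, OneMemClass.coe_one, Matrix.SpecialLinearGroup.coe_one]
      refine Matrix.ext_of_mulVec_single fun i => ?_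
      rw [hAv, one_mulVec]
      have h1 : act 1 = 1 := by
        refine LinearMap.ext fun v => ?_
        simp only [hact', hM, inv_one, map_one,
          Matrix.map_one _ (map_zero (powConj hF)) (map_one (powConj hF)), Matrix.transpose_one, one_mulVec,
          Module.End.one_apply, Prod.mk.eta]
      rw [h1, Module.End.one_apply, e.apply_symm_apply]
    | succ j ih => rw [pow_succ, pow_succ, hAmul, ← ih, ← hY]; rfl
  refine ⟨(Y : Cfsg.PSU (2 * m) F q), ?_⟩
  have key : ∀ j : ℕ, (Y : Cfsg.PSU (2 * m) F q) ^ j = 1 ↔ T ∣ j * (q + 1) := by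
    intro j
    rw [← QuotientGroup.mk_pow, QuotientGroup.eq_one_iff, mem_center_iff hF (by omega), hYpow, ← hl,
      orderOf_dvd_iff_pow_eq_one, pow_mul]
    constructor
    · rintro ⟨c, hc1, hc⟩
      have h1 : (l : K) ^ j = algebraMap F K c := by
        apply hLinj
        rw [AlgHom.commutes, Algebra.algebraMap_eq_smul_one]
        refine Matrix.ext_of_mulVec_single fun i => ?_
        have h := hAv ((l : K) ^ j) (e (Pi.single i 1, 0))
        rw [hc, e.symm_apply_apply, Matrix.smul_mulVec, one_mulVec, ← map_smul] at h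
        have h' := congrArg Prod.fst (e.injective h)
        simp only [hact', Prod.smul_fst] at h'
        rw [Matrix.smul_mulVec, one_mulVec, h']
      apply Units.ext
      rw [Units.val_pow_eq_pow_val, Units.val_pow_eq_pow_val, h1, ← map_pow, pow_succ', hc1, map_one, Units.val_one]
    · intro h
      have hxq : ((l : K) ^ j) ^ (q + 1) = 1 := by
        rw [← Units.val_pow_eq_pow_val, ← Units.val_pow_eq_pow_val, h, Units.val_one]
      obtain ⟨x, hx⟩ : ∃ x, x = (l : K) ^ j := ⟨_, rfl⟩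
      rw [← hx] at hxq ⊢
      have h1 : x ^ Fintype.card F = x := by
        rw [hF, show q ^ 2 = (q + 1) * (q - 1) + 1 by
          obtain ⟨c, rfl⟩ : ∃ c, q = c + 1 := ⟨q - 1, by omega⟩
          rw [Nat.add_sub_cancel]; ring, pow_succ, pow_mul, hxq, one_pow, one_mul]
      have h0 : x ∈ ((Polynomial.X ^ Fintype.card F - Polynomial.X : F[X]).map (algebraMap F K)).roots := by
        rw [Polynomial.mem_roots_map (FiniteField.X_pow_card_sub_X_ne_zero F Fintype.one_lt_card), eval₂_sub,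
          eval₂_pow, eval₂_X, h1, sub_self]
      have h2 := FiniteField.roots_X_pow_card_sub_X F
      have hsp : (Polynomial.X ^ Fintype.card F - Polynomial.X : F[X]).Splits := by
        rw [Polynomial.splits_iff_card_roots, h2, FiniteField.X_pow_card_sub_X_natDegree_eq F Fintype.one_lt_card,
          Finset.card_val, Finset.card_univ]
      rw [hsp.roots_map, h2, Multiset.mem_map] at h0
      obtain ⟨c, -, hc⟩ := h0
      have hcc : c * c ^ q = 1 := by
        apply (algebraMap F K).injective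
        rw [← pow_succ', map_pow, hc, hxq, map_one]
      refine ⟨c, hcc, ?_⟩
      refine Matrix.ext_of_mulVec_single fun i => ?_
      rw [hAv, Matrix.smul_mulVec, one_mulVec]
      have hxc : L x = c • 1 := by rw [← hc, AlgHom.commutes, Algebra.algebraMap_eq_smul_one]
      have hxc' : L x⁻¹ = c⁻¹ • 1 := by
        rw [← hc, ← map_inv₀, AlgHom.commutes, Algebra.algebraMap_eq_smul_one]
      have hMx : M x = c • 1 := by
        rw [hM, hxc', Matrix.smul_one_eq_diagonal, Matrix.diagonal_map (map_zero _), Matrix.diagonal_transpose,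
          Matrix.smul_one_eq_diagonal]
        funext a b
        simp only [powConj_apply, inv_pow]
        rw [inv_eq_of_mul_eq_one_left hcc]
      have hact : ∀ v, act x v = c • v := fun v => by
        rw [hact', hxc, hMx]
        rw [Matrix.smul_mulVec, Matrix.smul_mulVec, one_mulVec, one_mulVec]
        exact Prod.ext rfl rfl
      rw [hact, map_smul, e.apply_symm_apply]
  refine Nat.dvd_antisymm (orderOf_dvd_of_pow_eq_one ((key _).2 ?_)) ?_
  · obtain ⟨c, hc⟩ := hd ▸ Nat.gcd_dvd_right T (q + 1)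
    rw [hc, ← mul_assoc, Nat.div_mul_cancel hdT]
    exact dvd_mul_right _ _
  · have h1 := (key _).1 (pow_orderOf_eq_one (Y : Cfsg.PSU (2 * m) F q))
    have hd0 : 0 < d := Nat.pos_of_dvd_of_pos hdT hT0
    obtain ⟨a, ha⟩ := hdT
    obtain ⟨c, hc⟩ := hd ▸ Nat.gcd_dvd_right T (q + 1)
    have hco : a.Coprime c := by
      rw [Nat.Coprime]
      have h2 := hd
      rw [ha, hc, Nat.gcd_mul_left] at h2
      exact (mul_right_eq_self₀.1 h2).resolve_right hd0.ne'
    rw [ha, hc, mul_left_comm] at h1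
    rw [ha, Nat.mul_div_cancel_left _ hd0]
    exact hco.dvd_of_dvd_mul_right (Nat.dvd_of_mul_dvd_mul_left hd0 h1)

end Cfsg.Lib.UnitarySingerOrder
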